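import Cfsg.Agent.MinSimple.DBlkDefs
import Cfsg.Agent.MinSimple.PushUp
import Cfsg.Agent.ZN.FinalBridge
import Cfsg.Agent.ZN.CaseTwo
import Cfsg.Agent.OddOrderLocal.RankBasics
set_option linter.all false

/-!
# Unique maximal 2-local subgroup: consequences of a noncommuting pair `V`, `V ^ t`

* `killing`: in a solvable group `J` no `z ≠ 1` lies in `[N, N]`, `N = ⟨z ^ J⟩`.
* `ap`: a block `L` and a conjugate `L ^ t` with `[V, V ^ t] ≠ 1` normalise no common nontrivial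
  2-subgroup.
* `o2_eq`, `card_rl_le_two`: `O₂(L) = V` and `|C_{Ω₁Z(B)}(L)| ≤ 2`.
-/

set_option autoImplicit false

namespace Cfsg.Agent.MinSimple.CaseOneAP

open Subgroup Cfsg Cfsg.Agent.ZN

universe u

variable {G : Type u} [Group G]

theorem killing {J N : Subgroup G} (hJ : Group.IsSolvable J) {z : G} (hzJ : z ∈ J)
    (hN : N = closure {x | ∃ g ∈ J, x = g * z * g⁻¹}) (hz : z ∈ ⁅N, N⁆) : z = 1 := by
  have hNJ : N ≤ J := by
    rw [hN, closure_le]
    rintro _ ⟨g, hg, rfl⟩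
    exact J.mul_mem (J.mul_mem hg hzJ) (J.inv_mem hg)
  have hnorm : ∀ g ∈ J, ∀ x ∈ N, g * x * g⁻¹ ∈ N := by
    intro g hg
    have h : N ≤ N.comap (MulAut.conj g).toMonoidHom := by
      conv_lhs => rw [hN]
      rw [closure_le]
      rintro _ ⟨y, hy, rfl⟩
      change g * (y * z * y⁻¹) * g⁻¹ ∈ N
      rw [hN]
      exact subset_closure ⟨g * y, J.mul_mem hg hy, by group⟩
    exact fun x hx => h hx
  have hle : N ≤ ⁅N, N⁆ := by
    conv_lhs => rw [hN]
    rw [closure_le]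
    rintro _ ⟨g, hg, rfl⟩
    exact FinalBridge.commutator_conj (hnorm g hg) (hnorm g hg) hz
  by_contra hz1
  have hs : Group.IsSolvable N :=
    Group.isSolvable_of_isSolvable_injective (inclusion_injective hNJ)
  have hnt : Nontrivial N := by
    refine ⟨⟨z, ?_⟩, 1, fun h => hz1 (congrArg Subtype.val h)⟩
    rw [hN]
    exact subset_closure ⟨1, J.one_mem, by group⟩
  have h1 : (⊤ : Subgroup N) ≠ ⊥ := by
    intro h
    obtain ⟨x, y, hxy⟩ := hnt
    apply hxy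
    have hx : x ∈ (⊥ : Subgroup N) := h ▸ mem_top x
    have hy : y ∈ (⊥ : Subgroup N) := h ▸ mem_top y
    rw [mem_bot.1 hx, mem_bot.1 hy]
  have h2 : ⁅(⊤ : Subgroup N), (⊤ : Subgroup N)⁆ < ⊤ := Group.IsSolvable.commutator_lt_of_ne_bot h1
  apply h2.ne
  rw [eq_top_iff]
  intro x _
  have h3 : (⁅(⊤ : Subgroup N), (⊤ : Subgroup N)⁆).map N.subtype = ⁅N, N⁆ := by
    rw [map_commutator, ← MonoidHom.range_eq_map, N.range_subtype]
  have h4 : (x : G) ∈ (⁅(⊤ : Subgroup N), (⊤ : Subgroup N)⁆).map N.subtype := by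
    rw [h3]
    exact hle x.2
  obtain ⟨y, hy, hyx⟩ := h4
  rwa [Subtype.ext hyx] at hy

/-! ### Facts on a block -/

theorem mul_mem_of_relIndex {H K : Subgroup G} (h : H.relIndex K = 2) {a b : G} (ha : a ∈ K)
    (hb : b ∈ K) (ha' : a ∉ H) (hb' : b ∉ H) : a * b ∈ H := by
  obtain ⟨c, hc, h1⟩ := relIndex_eq_two_iff_exists_notMem_and.1 h
  obtain ⟨h1, h2⟩ := h1
  have h3 : ∀ x ∈ K, x ∉ H → x * c ∈ H := fun x hx hxr => (h2 x hx).resolve_right hxr
  have h4 := mul_mem (h3 a ha ha') (inv_mem (h3 b⁻¹ (inv_mem hb)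
    (fun hh => hb' (by simpa using inv_mem hh))))
  have h5 : a * c * (b⁻¹ * c)⁻¹ = a * b := by group
  rwa [h5] at h4

theorem comm_of_sq {A : Subgroup G} (hA : ∀ a ∈ A, a * a = 1) {a b : G} (ha : a ∈ A)
    (hb : b ∈ A) : a * b = b * a := by
  have h1 := hA _ (A.mul_mem ha hb)
  have h2 := hA a ha
  have h3 := hA b hb
  have h4 : a * b = (a * b)⁻¹ := eq_inv_of_mul_eq_one_left h1
  rw [mul_inv_rev, inv_eq_of_mul_eq_one_left h2, inv_eq_of_mul_eq_one_left h3] at h4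
  exact h4

section Blk

variable {B L : Subgroup G} {k : ℕ}

theorem vl_le (h : IsDBlk B L k) : vl B L ≤ zl B L := by rw [← h.sup_eq]; exact le_sup_right

theorem rl_le (B L : Subgroup G) : rl B L ≤ zc B := inf_le_left

theorem exists_mul (h : IsDBlk B L k) {v : G} (hv : v ∈ zl B L) :
    ∃ r ∈ rl B L, ∃ w ∈ vl B L, r * w = v := by
  rw [← h.sup_eq] at hv
  refine Cfsg.Agent.OddOrderLocal.RankBasics.exists_mul_of_mem_sup ?_ hv
  exact Cfsg.Agent.OddOrderLocal.RankBasics.le_normalizer_of_commute fun a ha b hb =>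
    h.zl_comm a (FinalBridge.zc_le_zl B L (rl_le B L ha)) b (vl_le h hb)

theorem zl_le_o2 (h : IsDBlk B L k) : zl B L ≤ o2 L := by
  have h1 : zl B L ≤ L := FinalBridge.zl_le h.le
  have h2 : IsPGroup 2 (zl B L) := by
    intro x
    exact ⟨1, Subtype.ext (by simpa using h.zl_sq x x.2)⟩
  exact FinalBridge.le_o2 h1 h2 (FinalBridge.le_normalizer_zl B L)

theorem vl_sq (h : IsDBlk B L k) {w : G} (hw : w ∈ vl B L) : w * w = 1 := by
  have := h.zl_sq w (vl_le h hw)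
  rwa [pow_two] at this

theorem vl_conj {g w : G} (hg : g ∈ L) (hw : w ∈ vl B L) :
    g * w * g⁻¹ ∈ vl B L :=
  FinalBridge.vl_conj (fun _ ha => FinalBridge.zl_conj_of_mem hg ha) (le_normalizer hg) hw

/-- A subgroup containing two distinct nontrivial elements of `vl B L` contains `vl B L`. -/
theorem vl_le_of_mem [Finite G] (h : IsDBlk B L k) {K : Subgroup G} {a b : G} (ha : a ∈ vl B L)
    (hb : b ∈ vl B L) (haK : a ∈ K) (hbK : b ∈ K) (ha1 : a ≠ 1) (hb1 : b ≠ 1) (hab : a ≠ b) :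
    vl B L ≤ K := by
  by_contra hc
  have h1 : Nat.card ↥(K ⊓ vl B L) ∣ 4 := by
    rw [← h.card_vl]
    exact card_dvd_of_le inf_le_right
  have h2 : Nat.card ↥(K ⊓ vl B L) < 4 := by
    rw [← h.card_vl]
    refine lt_of_le_of_ne (card_le_of_le inf_le_right) fun h3 => hc ?_
    have := eq_of_le_of_card_ge (inf_le_right : K ⊓ vl B L ≤ vl B L) h3.ge
    rw [← this]
    exact inf_le_left
  have h3 : Nat.card ↥(K ⊓ vl B L) ≤ 2 := by
    have h4 : 0 < Nat.card ↥(K ⊓ vl B L) := Nat.card_pos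
    generalize Nat.card ↥(K ⊓ vl B L) = n at h1 h2 h4
    interval_cases n
    · norm_num
    · norm_num
    · omega
  exact hab (FinalBridge.eq_of_card_le_two h3 ⟨haK, ha⟩ ⟨hbK, hb⟩ ha1 hb1)

end Blk

/-! ### The situation -/

/-- The situation after the pushing up theorem. -/
structure Sit (A T B L : Subgroup G) (k : ℕ) (z t : G) : Prop where
  blk : IsDBlk B L k
  data : PushUp.Data A T L B (o2 L) (zl B L) (zc B) z
  zvl : z ∈ vl B L
  tA : t ∈ A
  nc : ∃ v ∈ zl B L, ∃ u ∈ zl B L, v * (t * u * t⁻¹) ≠ (t * u * t⁻¹) * v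
  tz : t * z * t⁻¹ = z

namespace Sit

variable {A T B L : Subgroup G} {k : ℕ} {z t : G}

theorem zl_leB (h : Sit A T B L k z t) {v : G} (hv : v ∈ zl B L) : v ∈ B :=
  h.blk.o2_le (zl_le_o2 h.blk hv)

theorem conjB (h : Sit A T B L k z t) {b : G} (hb : b ∈ B) : t * b * t⁻¹ ∈ B :=
  h.data.AnB t h.tA b hb

theorem conjB' (h : Sit A T B L k z t) {b : G} (hb : b ∈ B) : t⁻¹ * b * t ∈ B := by
  have := h.data.AnB t⁻¹ (A.inv_mem h.tA) b hb
  rwa [inv_inv] at this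

theorem z1 (h : Sit A T B L k z t) : z ≠ 1 := h.data.z1

/-- The noncommuting pair can be taken in `vl B L`. -/
theorem nc_vl (h : Sit A T B L k z t) :
    ∃ v ∈ vl B L, ∃ u ∈ vl B L, v * (t * u * t⁻¹) ≠ (t * u * t⁻¹) * v := by
  obtain ⟨v, hv, u, hu, hne⟩ := h.nc
  obtain ⟨r, hr, w, hw, rfl⟩ := exists_mul h.blk hv
  obtain ⟨r', hr', w', hw', rfl⟩ := exists_mul h.blk hu
  refine ⟨w, hw, w', hw', fun heq => hne ?_⟩
  have hr1 : r ∈ zc B := rl_le B L hr
  have hr2 : t * r' * t⁻¹ ∈ zc B := h.data.AnZ t h.tA r' (rl_le B L hr')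
  have e1 : ∀ b ∈ B, b * r = r * b := fun b hb => h.data.BcZ b hb r hr1
  have e2 : ∀ b ∈ B, b * (t * r' * t⁻¹) = (t * r' * t⁻¹) * b := fun b hb => h.data.BcZ b hb _ hr2
  have hwB : w ∈ B := h.zl_leB (vl_le h.blk hw)
  have hwB' : t * w' * t⁻¹ ∈ B := h.conjB (h.zl_leB (vl_le h.blk hw'))
  set x := t * r' * t⁻¹ with hx
  set y := t * w' * t⁻¹ with hy
  have e3 : t * (r' * w') * t⁻¹ = x * y := by rw [hx, hy]; group
  rw [e3]
  have hxB : x ∈ B := FinalBridge.zc_le B hr2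
  calc r * w * (x * y) = r * (w * x) * y := by group
    _ = r * (x * w) * y := by rw [e2 w hwB]
    _ = (r * x) * (w * y) := by group
    _ = (x * r) * (y * w) := by rw [e1 x hxB, heq]
    _ = x * (r * y) * w := by group
    _ = x * (y * r) * w := by rw [e1 y hwB']
    _ = x * y * (r * w) := by group

/-- A subgroup containing `⟨z ^ L⟩` contains `vl B L`. -/
theorem vl_le_of_conj [Finite G] (h : Sit A T B L k z t) {K : Subgroup G}
    (hK : ∀ l ∈ L, l * z * l⁻¹ ∈ K) : vl B L ≤ K := by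
  obtain ⟨y, hy, -, -, -, hf, -⟩ := h.blk.dih
  have hzK : z ∈ K := by simpa using hK 1 L.one_mem
  refine vl_le_of_mem h.blk h.zvl (vl_conj hy h.zvl) hzK (hK y hy) h.z1 ?_ ?_
  · intro h1
    apply h.z1
    have : z = y⁻¹ * (y * z * y⁻¹) * y := by group
    rw [this, h1]; group
  · intro h1
    exact h.z1 (hf z h.zvl h1.symm)

/-- The amalgam property: `L` and `L ^ t` do not normalise a common nontrivial 2-subgroup. -/
theorem ap [Finite G] (h : Sit A T B L k z t)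
    (hL : ∀ N : Subgroup G, IsTwoLocal N → Group.IsSolvable N) {R : Subgroup G}
    (hR : IsPGroup 2 R) (h1 : ∀ l ∈ L, ∀ r ∈ R, l * r * l⁻¹ ∈ R)
    (h2 : ∀ l ∈ L, ∀ r ∈ R, (t * l * t⁻¹) * r * (t * l * t⁻¹)⁻¹ ∈ R) : R = ⊥ := by
  by_contra hR1
  have hs := hL _ ⟨R, hR, hR1, rfl⟩
  have hLJ : L ≤ normalizer (R : Set G) := le_normalizer_iff.2 h1
  have hLJ' : ∀ l ∈ L, t * l * t⁻¹ ∈ normalizer (R : Set G) := by
    have : L.map (MulAut.conj t).toMonoidHom ≤ normalizer (R : Set G) := by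
      rw [le_normalizer_iff]
      rintro _ ⟨l, hl, rfl⟩ r hr
      exact h2 l hl r hr
    exact fun l hl => this ⟨l, hl, rfl⟩
  have hzL : z ∈ L := h.blk.le (h.zl_leB (vl_le h.blk h.zvl))
  set N : Subgroup G := closure {x | ∃ g ∈ normalizer (R : Set G), x = g * z * g⁻¹} with hN
  have hvN : vl B L ≤ N :=
    h.vl_le_of_conj fun l hl => by rw [hN]; exact subset_closure ⟨l, hLJ hl, rfl⟩
  have hvN' : vl B L ≤ N.comap (MulAut.conj t).toMonoidHom := by
    refine h.vl_le_of_conj fun l hl => ?_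
    change t * (l * z * l⁻¹) * t⁻¹ ∈ N
    have e : t * (l * z * l⁻¹) * t⁻¹ = (t * l * t⁻¹) * (t * z * t⁻¹) * (t * l * t⁻¹)⁻¹ := by group
    rw [e, h.tz, hN]
    exact subset_closure ⟨_, hLJ' l hl, rfl⟩
  obtain ⟨v, hv, u, hu, hne⟩ := h.nc_vl
  have hz := h.data.comm v (vl_le h.blk hv) (t * u * t⁻¹) (h.conjB (h.zl_leB (vl_le h.blk hu))) hne
  refine h.z1 (killing hs (hLJ hzL) hN ?_)
  rw [← hz]
  exact commutator_mem_commutator (hvN hv) (hvN' hu)

theorem z_memZ (h : Sit A T B L k z t) : z ∈ zc B := h.data.zZ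

/-- Elements of `Q` have square one. -/
theorem sq_eq_one [Finite G] (h : Sit A T B L k z t)
    (hL : ∀ N : Subgroup G, IsTwoLocal N → Group.IsSolvable N) {q : G} (hq : q ∈ o2 L) :
    q * q = 1 := by
  obtain ⟨v, hv, u, hu, hne⟩ := h.nc
  have hvQ : v ∈ o2 L := zl_le_o2 h.blk hv
  have huQ : u ∈ o2 L := zl_le_o2 h.blk hu
  have hvv : v * v = 1 := h.data.Vsq v hv
  have huu : u * u = 1 := h.data.Vsq u hu
  -- `v ∉ Q ^ t`, `u ^ t ∉ Q`
  have hv' : t⁻¹ * v * t ∉ o2 L := by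
    intro hh
    apply hne
    have h1 := h.data.VcQ _ hh u hu
    calc v * (t * u * t⁻¹) = t * ((t⁻¹ * v * t) * u) * t⁻¹ := by group
      _ = t * (u * (t⁻¹ * v * t)) * t⁻¹ := by rw [h1]
      _ = t * u * t⁻¹ * v := by group
  have hu' : t * u * t⁻¹ ∉ o2 L := fun hh => hne (h.data.VcQ _ hh v hv).symm
  set R : Subgroup G := closure {x | ∃ q ∈ o2 L, x = q * q} with hR
  have hRQ : R ≤ o2 L := by
    rw [hR, closure_le]
    rintro _ ⟨q, hq, rfl⟩
    exact mul_mem hq hq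
  -- squares of `Q` are squares of `Q ^ t`
  have h1 : ∀ q ∈ o2 L, ∃ p ∈ o2 L, q * q = t * (p * p) * t⁻¹ := by
    intro q hq
    by_cases hqt : t⁻¹ * q * t ∈ o2 L
    · exact ⟨_, hqt, by group⟩
    · have h2 : (t⁻¹ * q * t) * (t⁻¹ * v * t) ∈ o2 L :=
        mul_mem_of_relIndex h.blk.o2_index (h.conjB' (h.blk.o2_le hq)) (h.conjB' (h.blk.o2_le hvQ))
          hqt hv'
      refine ⟨_, h2, ?_⟩
      have h3 := h.data.VcQ q hq v hv
      calc q * q = q * (v * v) * q := by rw [hvv, mul_one]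
        _ = (q * v) * (v * q) := by group
        _ = (q * v) * (q * v) := by rw [h3]
        _ = _ := by group
  have h2 : ∀ q ∈ o2 L, ∃ p ∈ o2 L, t * (q * q) * t⁻¹ = p * p := by
    intro q hq
    by_cases hqt : t * q * t⁻¹ ∈ o2 L
    · exact ⟨_, hqt, by group⟩
    · have h2 : (t * q * t⁻¹) * (t * u * t⁻¹) ∈ o2 L :=
        mul_mem_of_relIndex h.blk.o2_index (h.conjB (h.blk.o2_le hq)) (h.conjB (h.blk.o2_le huQ))
          hqt hu'
      refine ⟨_, h2, ?_⟩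
      have h3 := h.data.VcQ q hq u hu
      calc t * (q * q) * t⁻¹ = t * (q * (u * u) * q) * t⁻¹ := by rw [huu, mul_one]
        _ = t * ((q * u) * (u * q)) * t⁻¹ := by group
        _ = t * ((q * u) * (q * u)) * t⁻¹ := by rw [h3]
        _ = _ := by group
  have hLR : ∀ l ∈ L, ∀ r ∈ R, l * r * l⁻¹ ∈ R := by
    intro l hl
    have : R ≤ R.comap (MulAut.conj l).toMonoidHom := by
      conv_lhs => rw [hR]
      rw [closure_le]
      rintro _ ⟨q, hq, rfl⟩
      change l * (q * q) * l⁻¹ ∈ R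
      rw [hR]
      exact subset_closure ⟨l * q * l⁻¹, h.data.LnQ l hl q hq, by group⟩
    exact fun r hr => this hr
  -- `R ≤ R ^ t` and `R ^ t ≤ R`
  have htR : ∀ r ∈ R, t * r * t⁻¹ ∈ R := by
    have : R ≤ R.comap (MulAut.conj t).toMonoidHom := by
      conv_lhs => rw [hR]
      rw [closure_le]
      rintro _ ⟨q, hq, rfl⟩
      change t * (q * q) * t⁻¹ ∈ R
      obtain ⟨p, hp, hqp⟩ := h2 q hq
      rw [hqp, hR]
      exact subset_closure ⟨p, hp, rfl⟩
    exact fun r hr => this hr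
  have htR' : ∀ r ∈ R, t⁻¹ * r * t ∈ R := by
    have : R ≤ R.comap (MulAut.conj t⁻¹).toMonoidHom := by
      conv_lhs => rw [hR]
      rw [closure_le]
      rintro _ ⟨q, hq, rfl⟩
      change t⁻¹ * (q * q) * t⁻¹⁻¹ ∈ R
      obtain ⟨p, hp, hqp⟩ := h1 q hq
      rw [hqp, hR]
      exact subset_closure ⟨p, hp, by group⟩
    intro r hr
    have := this hr
    change t⁻¹ * r * t⁻¹⁻¹ ∈ R at this
    rwa [inv_inv] at this
  have hbot : R = ⊥ := by
    refine h.ap hL (h.blk.two.to_le (hRQ.trans h.blk.o2_le)) hLR fun l hl r hr => ?_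
    have e : (t * l * t⁻¹) * r * (t * l * t⁻¹)⁻¹ = t * (l * (t⁻¹ * r * t) * l⁻¹) * t⁻¹ := by group
    rw [e]
    exact htR _ (hLR l hl _ (htR' r hr))
  have : q * q ∈ R := by rw [hR]; exact subset_closure ⟨q, hq, rfl⟩
  rwa [hbot, mem_bot] at this

/-- `O₂(L) = V`. -/
theorem o2_eq [Finite G] (h : Sit A T B L k z t)
    (hL : ∀ N : Subgroup G, IsTwoLocal N → Group.IsSolvable N) : o2 L = zl B L := by
  apply le_antisymm _ (zl_le_o2 h.blk)
  obtain ⟨v, hv, u, hu, hne⟩ := h.nc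
  have hvQ : v ∈ o2 L := zl_le_o2 h.blk hv
  have huQ : u ∈ o2 L := zl_le_o2 h.blk hu
  have hsq : ∀ q ∈ o2 L, q * q = 1 := fun q hq => h.sq_eq_one hL hq
  have hv' : t⁻¹ * v * t ∉ o2 L := by
    intro hh
    apply hne
    have h1 := h.data.VcQ _ hh u hu
    calc v * (t * u * t⁻¹) = t * ((t⁻¹ * v * t) * u) * t⁻¹ := by group
      _ = t * (u * (t⁻¹ * v * t)) * t⁻¹ := by rw [h1]
      _ = t * u * t⁻¹ * v := by group
  have hu' : t * u * t⁻¹ ∉ o2 L := fun hh => hne (h.data.VcQ _ hh v hv).symm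
  have hcomm : ∀ q ∈ o2 L, t⁻¹ * q * t ∈ o2 L → q ∈ zc B := by
    intro q hq hqt
    refine FinalBridge.mem_zc.2 ⟨h.blk.o2_le hq, by rw [pow_two]; exact hsq q hq, fun b hb => ?_⟩
    have hqu : q * (t * u * t⁻¹) = (t * u * t⁻¹) * q := by
      have h1 := h.data.VcQ _ hqt u hu
      calc q * (t * u * t⁻¹) = t * ((t⁻¹ * q * t) * u) * t⁻¹ := by group
        _ = t * (u * (t⁻¹ * q * t)) * t⁻¹ := by rw [h1]
        _ = t * u * t⁻¹ * q := by group
    by_cases hbQ : b ∈ o2 L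
    · exact comm_of_sq hsq hbQ hq
    · have h1 : b * (t * u * t⁻¹) ∈ o2 L :=
        mul_mem_of_relIndex h.blk.o2_index hb (h.conjB (h.blk.o2_le huQ)) hbQ hu'
      have h2 : b * (t * u * t⁻¹) * q = q * (b * (t * u * t⁻¹)) := comm_of_sq hsq h1 hq
      have h3 : b * q * (t * u * t⁻¹) = q * b * (t * u * t⁻¹) := by
        calc b * q * (t * u * t⁻¹) = b * (q * (t * u * t⁻¹)) := by group
          _ = b * ((t * u * t⁻¹) * q) := by rw [hqu]
          _ = b * (t * u * t⁻¹) * q := by group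
          _ = q * (b * (t * u * t⁻¹)) := h2
          _ = q * b * (t * u * t⁻¹) := by group
      exact mul_right_cancel h3
  intro q hq
  by_cases hqt : t⁻¹ * q * t ∈ o2 L
  · exact FinalBridge.zc_le_zl B L (hcomm q hq hqt)
  · have h2 : (t⁻¹ * q * t) * (t⁻¹ * v * t) ∈ o2 L :=
      mul_mem_of_relIndex h.blk.o2_index (h.conjB' (h.blk.o2_le hq)) (h.conjB' (h.blk.o2_le hvQ))
        hqt hv'
    have h3 : t⁻¹ * (q * v) * t ∈ o2 L := by
      have e : t⁻¹ * (q * v) * t = (t⁻¹ * q * t) * (t⁻¹ * v * t) := by group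
      rwa [e]
    have h4 := FinalBridge.zc_le_zl B L (hcomm _ (mul_mem hq hvQ) h3)
    have h5 := mul_mem h4 (inv_mem hv)
    rwa [mul_inv_cancel_right] at h5

/-- `C_Z(L) ∩ C_Z(L ^ t) = 1`. -/
theorem rl_inf [Finite G] (h : Sit A T B L k z t)
    (hL : ∀ N : Subgroup G, IsTwoLocal N → Group.IsSolvable N) {x : G} (hx : x ∈ rl B L)
    (hxt : t⁻¹ * x * t ∈ rl B L) : x = 1 := by
  have hc1 : ∀ l ∈ L, l * x = x * l := fun l hl => mem_centralizer_iff.1 hx.2 l hl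
  have hc2 : ∀ l ∈ L, (t * l * t⁻¹) * x = x * (t * l * t⁻¹) := by
    intro l hl
    have h1 := mem_centralizer_iff.1 hxt.2 l hl
    calc (t * l * t⁻¹) * x = t * (l * (t⁻¹ * x * t)) * t⁻¹ := by group
      _ = t * ((t⁻¹ * x * t) * l) * t⁻¹ := by rw [h1]
      _ = x * (t * l * t⁻¹) := by group
  have hz : ∀ g : G, g * x = x * g → ∀ r ∈ zpowers x, g * r * g⁻¹ ∈ zpowers x := by
    intro g hg r hr
    obtain ⟨n, rfl⟩ := mem_zpowers_iff.1 hr
    have h1 : g * x ^ n = x ^ n * g := ((show Commute g x from hg).zpow_right n).eq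
    rw [h1, mul_inv_cancel_right]
    exact hr
  have hbot : zpowers x = ⊥ := by
    refine h.ap hL ?_ (fun l hl => hz l (hc1 l hl)) (fun l hl => hz _ (hc2 l hl))
    exact h.blk.two.to_le (zpowers_le.2 (FinalBridge.zc_le B hx.1))
  exact zpowers_eq_bot.1 hbot

/-- `|C_Z(L)| ≤ 2`. -/
theorem rl_unique [Finite G] (h : Sit A T B L k z t)
    (hL : ∀ N : Subgroup G, IsTwoLocal N → Group.IsSolvable N) {x y : G} (hx : x ∈ rl B L)
    (hy : y ∈ rl B L) (hx1 : x ≠ 1) (hy1 : y ≠ 1) : x = y := by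
  have hZ' : ∀ x ∈ zc B, t⁻¹ * x * t ∈ zc B := by
    intro x hx
    have := h.data.AnZ t⁻¹ (A.inv_mem h.tA) x hx
    rwa [inv_inv] at this
  have h1 : (t⁻¹ * x * t) * (t⁻¹ * y * t) ∈ rl B L :=
    mul_mem_of_relIndex h.blk.rl_index (hZ' x hx.1) (hZ' y hy.1)
      (fun hh => hx1 (h.rl_inf hL hx hh)) (fun hh => hy1 (h.rl_inf hL hy hh))
  have h2 : t⁻¹ * (x * y) * t ∈ rl B L := by
    have e : t⁻¹ * (x * y) * t = (t⁻¹ * x * t) * (t⁻¹ * y * t) := by group
    rwa [e]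
  have h3 := h.rl_inf hL (mul_mem hx hy) h2
  have h4 : y * y = 1 := by
    have := (FinalBridge.mem_zc.1 hy.1).2.1
    rwa [pow_two] at this
  calc x = x * (y * y) := by rw [h4, mul_one]
    _ = (x * y) * y := by group
    _ = y := by rw [h3, one_mul]

end Sit

end Cfsg.Agent.MinSimple.CaseOneAP
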