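import Cfsg.Agent.MinSimple.CosetFam
import Cfsg.Agent.MinSimple.DBlkDefs
import Cfsg.Agent.MinSimple.VModule
import Cfsg.Agent.ZN.Facts
import Cfsg.Agent.ZN.Four
import Cfsg.Agent.ZN.Block
import Cfsg.Agent.ZN.BlkFam
import Cfsg.Agent.PLocal.OffenderStep
import Cfsg.Agent.ZN.FFData
import Cfsg.Agent.MinSimple.CaseOneEnd
import Cfsg.Agent.MinSimple.Basic
import Cfsg.Agent.ZN.ChoiceSit
import Cfsg.Agent.FastGrp
import Cfsg.Agent.Prune
set_option linter.all false

section
prune_inst 0x7ffdfefbbff8ffdfffff7fffffffdffffdfefffffffffffbfffdfbffffff6b6fffe7fbafffecdafffff7e29e34f87b53fdffcb3fef6bdd7ffffd5ff45fffff9fffffbfad71d7bc3e1ffe6ffffbfb7fffffffffffffffffffffffffffffffffffffffffffffff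

-- part: MinSimple/DBlkApi
section
prune_inst 0x5002000000000000000000000000000000000000000000000048000080000001000000000000000020000020004c00000000000000000000000000000000000000000000000000000000000000000000000000000000000000000000000000000
set_option linter.all false
open scoped Cfsg.Agent.FastGrp

-- part: MinSimple/SamePoint
section
/-!
# Two blocks over the same `B` with the same point

`PB B L Q Z D`: the properties of a block used here (`Q = O₂(L) = C_B(Z)` of index 2 in `B`,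
`[Z, B] = D` of order 2).

If `P false`, `P true` are two such groups over `B = P false ∩ P true`, with the same `D` and with no
common normal subgroup in `B`, then `Z false` and `Z true` do not commute (critical pair argument).
-/

set_option autoImplicit false

namespace Cfsg.Agent.MinSimple.SamePoint

open Subgroup MulAction Pointwise Cfsg Cfsg.Agent.ZN Cfsg.Agent.MinSimple
open Cfsg.Agent.MinSimple.VModule (mem_normalizer_of_map_le)
open Cfsg.Agent.MinSimple.CosetGraph Cfsg.Agent.MinSimple.CosetFam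
open scoped commutatorElement

variable {G : Type*} [Group G]

/-- The properties of a block used in the critical pair argument. -/
structure PB (B L Q Z D : Subgroup G) : Prop where
  le : B ≤ L
  Q_le : Q ≤ B
  Qn : L ≤ normalizer (Q : Set G)
  Zn : L ≤ normalizer (Z : Set G)
  ZQ : Z ≤ Q
  cent : B ⊓ centralizer (Z : Set G) = Q
  idx : Q.relIndex B = 2
  comm : ⁅Z, B⁆ = D
  card : Nat.card D = 2
  gen : ∀ u ∈ B, u ∉ Q → ∃ l ∈ L, ∀ H : Subgroup G, u ∈ H → (∀ b ∈ B, l * b * l⁻¹ ∈ H) → L ≤ H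
  moved : ¬ L ≤ normalizer (D : Set G)

section Graph

variable [Finite G] {P Q Z : Bool → Subgroup G} {B D : Subgroup G}

theorem eq_of_le_of_card {K D : Subgroup G} (hD : Nat.card D = 2) (h : K ≤ D) (hK : K ≠ ⊥) :
    K = D := by
  refine eq_of_le_of_card_ge h ?_
  rw [hD]
  have h1 : Nat.card K ≠ 1 := fun h1 => hK (Subgroup.card_eq_one.mp h1)
  have h2 : 0 < Nat.card K := Nat.card_pos
  omega

/-- The critical pair argument. -/
theorem not_commute (h : ∀ i, PB B (P i) (Q i) (Z i) D) (hB : P false ⊓ P true = B)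
    (core : ∀ N : Subgroup G, N ≤ B → P false ≤ normalizer (N : Set G) →
      P true ≤ normalizer (N : Set G) → N = ⊥) : ⁅Z false, Z true⁆ ≠ ⊥ := by
  intro hZZ
  have hBi : ∀ i, P i ⊓ P (!i) = B := by
    intro i
    cases i
    · exact hB
    · rw [inf_comm]; exact hB
  have hZc : ∀ i, Z i ≤ centralizer (Z (!i) : Set G) := by
    intro i
    cases i
    · exact commutator_eq_bot_iff_le_centralizer.mp hZZ
    · exact commutator_eq_bot_iff_le_centralizer.mp (by rw [commutator_comm]; exact hZZ)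
  set Γ := coset P with hΓ
  have hfaith : Γ.Faithful := coset_faithful P fun N h1 h2 h3 h4 =>
    core N (by rw [← hB]; exact le_inf h1 h2) h3 h4
  have hZn : ∀ i, P i ≤ normalizer (Z i : Set G) := fun i => (h i).Zn
  have hQn : ∀ i, P i ≤ normalizer (Q i : Set G) := fun i => (h i).Qn
  set Zf := fam P Z with hZf
  set Qf := fam P Q with hQf
  have hZe : Eqv Zf := fam_eqv P hZn
  have hQe : Eqv Qf := fam_eqv P hQn
  have hse' : Eqv (fun v : CV P => stabilizer G v) := Eqv.stabilizer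
  have hse : ∀ (g : G) (v : CV P), stabilizer G (g • v) = MulAut.conj g • stabilizer G v :=
    fun g v => hse' g v
  have hZ1 : ∀ i, Zf (mk P i 1) = Z i := fam_mk_one P hZn
  have hQ1 : ∀ i, Qf (mk P i 1) = Q i := fam_mk_one P hQn
  -- the edge groups
  set E : CV P → CV P → Subgroup G := fun v w => stabilizer G v ⊓ stabilizer G w with hE
  have hEs : ∀ (g : G) (v w : CV P), E (g • v) (g • w) = MulAut.conj g • E v w := by
    intro g v w
    change stabilizer G (g • v) ⊓ stabilizer G (g • w) = _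
    rw [hse g v, hse g w, ← smul_inf]
  have hE1 : ∀ i, E (mk P i 1) (mk P (!i) 1) = B := by
    intro i
    change stabilizer G _ ⊓ stabilizer G _ = _
    rw [mk_one_stab, mk_one_stab, hBi]
  have hEc : ∀ v w, E v w = E w v := fun v w => inf_comm _ _
  -- the points
  set z : CV P → CV P → Subgroup G := fun v w => ⁅Zf v, E v w⁆ with hz
  have hzs : ∀ (g : G) (v w : CV P), z (g • v) (g • w) = MulAut.conj g • z v w := by
    intro g v w
    change ⁅Zf (g • v), E (g • v) (g • w)⁆ = _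
    rw [hZe g v, hEs]
    exact (Subgroup.map_commutator (Zf v) (E v w) (MulAut.conj g).toMonoidHom).symm
  have hz1 : ∀ i, z (mk P i 1) (mk P (!i) 1) = D := by
    intro i
    change ⁅Zf _, E _ _⁆ = _
    rw [hZ1, hE1, (h i).comm]
  have hcard : ∀ {v w : CV P}, Γ.A v w → Nat.card (z v w) = 2 := by
    intro v w hvw
    refine forall_edge P (p := fun v w => Nat.card (z v w) = 2) ?_ ?_ hvw
    · intro g v w h1
      rw [hzs]
      have := Nat.card_congr (Subgroup.equivSMul (MulAut.conj g) (z v w)).symm.toEquiv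
      rw [this, h1]
    · intro i
      rw [hz1]; exact (h i).card
  have hzz : ∀ {v w : CV P}, Γ.A v w → z v w = z w v := by
    intro v w hvw
    refine forall_edge P (p := fun v w => z v w = z w v) ?_ ?_ hvw
    · intro g v w h1
      rw [hzs, hzs, h1]
    · intro i
      rw [hz1]
      have := hz1 (!i)
      rw [Bool.not_not] at this
      exact this.symm
  have hZQ : ∀ v, Zf v ≤ Qf v := by
    refine forall_vertex P (p := fun v => Zf v ≤ Qf v) ?_ ?_
    · intro g v h1
      exact (hZe.le_iff hQe).mpr h1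
    · intro i
      rw [hZ1, hQ1]; exact (h i).ZQ
  have hQE : ∀ {v w : CV P}, Γ.A v w → Qf v ≤ E v w := by
    intro v w hvw
    refine forall_edge P (p := fun v w => Qf v ≤ E v w) ?_ ?_ hvw
    · intro g v w h1
      rw [hEs, hQe, pointwise_smul_le_pointwise_smul_iff]
      exact h1
    · intro i
      rw [hQ1, hE1]; exact (h i).Q_le
  have hQs : ∀ v, Qf v ≤ stabilizer G v := by
    refine forall_vertex P (p := fun v => Qf v ≤ stabilizer G v) ?_ ?_
    · intro g v h1
      exact (hQe.le_iff hse').mpr h1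
    · intro i
      rw [hQ1, mk_one_stab]
      exact (h i).Q_le.trans (h i).le
  have hadj : ∀ v w, Γ.A v w → Zf v ≤ Qf w := by
    intro v w hvw
    refine forall_edge P (p := fun v w => Zf v ≤ Qf w) ?_ ?_ hvw
    · intro g v w h1
      exact (hZe.le_iff hQe).mpr h1
    · intro i
      rw [hZ1, hQ1, ← (h (!i)).cent]
      exact le_inf ((h i).ZQ.trans (h i).Q_le) (hZc i)
  have hcent : ∀ {v w : CV P}, Γ.A v w → E v w ⊓ centralizer (Zf v : Set G) ≤ Qf v := by
    intro v w hvw
    refine forall_edge P (p := fun v w => E v w ⊓ centralizer (Zf v : Set G) ≤ Qf v) ?_ ?_ hvw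
    · intro g v w h1
      rw [hEs, hZe, centralizer_conj, ← smul_inf, hQe, pointwise_smul_le_pointwise_smul_iff]
      exact h1
    · intro i
      rw [hE1, hZ1, hQ1, (h i).cent]
  have hQc : ∀ v, Qf v ≤ centralizer (Zf v : Set G) := by
    refine forall_vertex P (p := fun v => Qf v ≤ centralizer (Zf v : Set G)) ?_ ?_
    · intro g v h1
      exact (hQe.le_iff hZe.centralizer).mpr h1
    · intro i
      rw [hQ1, hZ1, ← (h i).cent]
      exact inf_le_right
  have hgen : ∀ {v w : CV P}, Γ.A v w → ∀ u ∈ E v w, u ∉ Qf v →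
      ∃ w', Γ.A v w' ∧ ∀ H : Subgroup G, u ∈ H → E v w' ≤ H → stabilizer G v ≤ H := by
    intro v w hvw
    refine forall_edge P (p := fun v w => ∀ u ∈ E v w, u ∉ Qf v →
      ∃ w', Γ.A v w' ∧ ∀ H : Subgroup G, u ∈ H → E v w' ≤ H → stabilizer G v ≤ H) ?_ ?_ hvw
    · intro g v w h1 u hu huQ
      rw [hEs, mem_conj_smul] at hu
      rw [hQe, mem_conj_smul] at huQ
      obtain ⟨w', hw', h2⟩ := h1 _ hu huQ
      refine ⟨g • w', Γ.smul g hw', fun H huH hEH => ?_⟩
      rw [hEs, pointwise_smul_subset_iff, ← map_inv] at hEH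
      have h3 := h2 (MulAut.conj g⁻¹ • H) (by
        rw [mem_conj_smul, inv_inv]
        have : g * (g⁻¹ * u * g) * g⁻¹ = u := by group
        rwa [this]) hEH
      rw [hse g v, pointwise_smul_subset_iff, ← map_inv]
      exact h3
    · intro i u hu huQ
      rw [hE1] at hu
      rw [hQ1] at huQ
      obtain ⟨l, hl, h2⟩ := (h i).gen u hu huQ
      refine ⟨mk P (!i) l, ?_, fun H huH hEH => ?_⟩
      · rw [coset_adj_iff]
        exact ⟨l, hl, by rw [one_mul]⟩
      · rw [mk_one_stab]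
        refine h2 H huH fun b hb => hEH ⟨?_, ?_⟩
        · rw [mk_one_stab]
          exact (P i).mul_mem ((P i).mul_mem hl ((h i).le hb)) ((P i).inv_mem hl)
        · rw [mk_stab]
          refine mem_conj_smul.mpr ?_
          have e : l⁻¹ * (l * b * l⁻¹) * l = b := by group
          rw [e]
          exact (h (!i)).le hb
  have hmoved : ∀ {v w : CV P}, Γ.A v w → ¬ stabilizer G v ≤ normalizer (z v w : Set G) := by
    intro v w hvw
    refine forall_edge P (p := fun v w => ¬ stabilizer G v ≤ normalizer (z v w : Set G)) ?_ ?_ hvw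
    · intro g v w h1 h2
      apply h1
      rw [hse g v, hzs, normalizer_conj, pointwise_smul_le_pointwise_smul_iff] at h2
      exact h2
    · intro i h2
      rw [mk_one_stab, hz1] at h2
      exact (h i).moved h2
  have hQcard : ∀ {v w : CV P}, Γ.A v w → (Qf v).relIndex (E v w) = 2 := by
    intro v w hvw
    refine forall_edge P (p := fun v w => (Qf v).relIndex (E v w) = 2) ?_ ?_ hvw
    · intro g v w h1
      rw [hEs, hQe]
      rw [Subgroup.relIndex_pointwise_smul]
      exact h1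
    · intro i
      rw [hQ1, hE1]; exact (h i).idx
  have hDne : D ≠ ⊥ := by
    intro h0
    have := (h false).card
    rw [h0, card_bot] at this
    omega
  have hZle : ∀ {v w : CV P}, Γ.A v w → z v w ≤ Zf v := by
    intro v w hvw
    refine (Subgroup.commutator_le).mpr fun a ha e he => ?_
    have h1 : e ∈ normalizer (Zf v : Set G) := hZe.stab_le_normalizer v he.1
    rw [commutatorElement_def, mul_assoc, mul_assoc]
    refine (Zf v).mul_mem ha ?_
    rw [← mul_assoc]
    exact (mem_normalizer_iff.mp h1 a⁻¹).mp ((Zf v).inv_mem ha)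
  have hQQ : ∀ {v w : CV P}, Γ.A v w → ¬ Qf v ≤ Qf w := by
    intro v w hvw hle
    have h1 : Qf v = Qf w := by
      have h2 := relIndex_mul_relIndex (Qf v) (Qf w) (E v w) hle (by
        rw [hEc]; exact hQE (Γ.symm hvw))
      rw [hQcard hvw, hEc, hQcard (Γ.symm hvw)] at h2
      have h3 : (Qf v).relIndex (Qf w) = 1 := by omega
      exact le_antisymm hle (relIndex_eq_one.mp h3)
    have h2 : Qf v = ⊥ := by
      refine hfaith v w hvw (Qf v) (hQs v) ?_ (hQe.stab_le_normalizer v) ?_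
      · rw [h1]; exact hQs w
      · rw [h1]; exact hQe.stab_le_normalizer w
    have h3 : z v w = ⊥ := by
      rw [eq_bot_iff, ← h2]
      exact (hZle hvw).trans (hZQ v)
    have h4 := hcard hvw
    rw [h3, card_bot] at h4
    omega
  -- critical pairs
  have hbase : Γ.A (mk P false 1) (mk P true 1) := coset_adj P false 1
  have hne : Zf (mk P false 1) ≠ ⊥ := by
    intro h0
    have h4 := hcard hbase
    have h5 : z (mk P false 1) (mk P true 1) = ⊥ := by
      rw [eq_bot_iff, ← h0]; exact hZle hbase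
    rw [h5, card_bot] at h4
    omega
  obtain ⟨b, hb⟩ := Γ.exists_crit hfaith hZe hQe hQs hbase hne
  have hb2 : 2 ≤ b := hb.two_le hZQ hadj
  obtain ⟨b, rfl⟩ : ∃ b', b = b' + 2 := ⟨b - 2, by omega⟩
  -- the commutator of a critical pair
  have hcrit : ∀ v p q w : CV P, Γ.A v p → Γ.W b p q → Γ.A q w → ¬ Zf v ≤ Qf w →
      (⁅Zf v, Zf w⁆ = z v p ∧ ⁅Zf v, Zf w⁆ = z w q) ∧ Zf v ≤ E w q ∧ Zf w ≤ E v p ∧
        ∃ u ∈ Zf w, u ∉ Qf v := by
    intro v p q w hvp hpq hqw hn
    have h1 : Zf v ≤ Qf q := hb.min (b + 1) (by omega) v q (Wlk.cons hvp hpq)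
    have h2 : Zf w ≤ Qf p := by
      refine hb.min (b + 1) (by omega) w p ?_
      exact Wlk.cons (Γ.symm hqw) (RGraph.W.symm hpq)
    have h3 : Zf v ≤ E w q := by
      rw [hEc]; exact h1.trans (hQE hqw)
    have h4 : Zf w ≤ E v p := by
      rw [hEc]; exact h2.trans (hQE (Γ.symm hvp))
    have h5 : ⁅Zf v, Zf w⁆ ≠ ⊥ := by
      intro h0
      rw [commutator_eq_bot_iff_le_centralizer] at h0
      exact hn ((le_inf h3 h0).trans (hcent (Γ.symm hqw)))
    have h6 : ⁅Zf v, Zf w⁆ ≤ z v p := commutator_mono le_rfl h4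
    have h7 : ⁅Zf v, Zf w⁆ ≤ z w q := by
      rw [commutator_comm]; exact commutator_mono le_rfl h3
    refine ⟨⟨eq_of_le_of_card (hcard hvp) h6 h5,
      eq_of_le_of_card (hcard (Γ.symm hqw)) h7 h5⟩, h3, h4, ?_⟩
    by_contra hcon
    push Not at hcon
    apply h5
    rw [commutator_comm, commutator_eq_bot_iff_le_centralizer]
    exact fun u hu => hQc v (hcon u hu)
  obtain ⟨v, w, hw, hn⟩ := hb.ex
  obtain ⟨p, hvp, hpw⟩ := Wlk.succ_iff.mp hw
  obtain ⟨q, hpq, hqw⟩ := Wlk.succ_iff'.mp hpw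
  obtain ⟨⟨hc1, hc2⟩, h3, h4, u, hu, huQ⟩ := hcrit v p q w hvp hpq hqw hn
  obtain ⟨m, hvm, hmg⟩ := hgen hvp u (h4 hu) huQ
  by_cases hmq : Zf m ≤ Qf q
  · -- SECOND case
    have h5 : Zf m ≤ E w q := by
      rw [hEc]; exact hmq.trans (hQE hqw)
    have h6 : ⁅Zf w, Zf m⁆ ≤ Zf v := by
      have h7 : ⁅Zf w, Zf m⁆ ≤ z w q := commutator_mono le_rfl h5
      rw [← hc2, hc1] at h7
      exact h7.trans (hZle hvp)
    have hN : stabilizer G v ≤ normalizer ((Zf v ⊔ Zf m : Subgroup G) : Set G) := by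
      refine hmg _ ?_ ?_
      · refine mem_normalizer_of_map_le ?_
        rw [Subgroup.map_sup]
        refine sup_le (le_trans ?_ le_sup_left) ?_
        · rintro _ ⟨a, ha, rfl⟩
          exact (mem_normalizer_iff.mp (hZe.stab_le_normalizer v (h4 hu).1) a).mp ha
        · rintro _ ⟨a, ha, rfl⟩
          have h7 : ⁅u, a⁆ ∈ Zf v := h6 (commutator_mem_commutator hu ha)
          have h8 : u * a * u⁻¹ = ⁅u, a⁆ * a := by rw [commutatorElement_def]; group
          change u * a * u⁻¹ ∈ _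
          rw [h8]
          exact mul_mem (mem_sup_left h7) (mem_sup_right ha)
      · intro e he
        refine mem_normalizer_of_map_le ?_
        rw [Subgroup.map_sup]
        refine sup_le (le_trans ?_ le_sup_left) (le_trans ?_ le_sup_right)
        · rintro _ ⟨a, ha, rfl⟩
          exact (mem_normalizer_iff.mp (hZe.stab_le_normalizer v he.1) a).mp ha
        · rintro _ ⟨a, ha, rfl⟩
          exact (mem_normalizer_iff.mp (hZe.stab_le_normalizer m he.2) a).mp ha
    have hQN : stabilizer G v ≤ normalizer ((⁅Zf v ⊔ Zf m, Qf v⁆ : Subgroup G) : Set G) := by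
      intro g hg
      refine mem_normalizer_of_map_le ?_
      rw [Subgroup.map_commutator]
      refine commutator_mono ?_ ?_
      · rintro _ ⟨a, ha, rfl⟩
        exact (mem_normalizer_iff.mp (hN hg) a).mp ha
      · rintro _ ⟨a, ha, rfl⟩
        exact (mem_normalizer_iff.mp (hQe.stab_le_normalizer v hg) a).mp ha
    have hle : ⁅Zf v ⊔ Zf m, Qf v⁆ ≤ z v m := by
      rw [Subgroup.commutator_le]
      intro n hn' x hx
      have hcomm : ∀ a ∈ Zf v, ∀ c ∈ Zf m, a * c = c * a := fun a ha c hc' =>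
        (mem_centralizer_iff.mp ((hadj m v (Γ.symm hvm)).trans (hQc v) hc') a ha)
      have hn2 : ∃ a ∈ Zf v, ∃ c ∈ Zf m, n = a * c := by
        refine Subgroup.closure_induction (p := fun y _ => ∃ a ∈ Zf v, ∃ c ∈ Zf m, y = a * c)
          ?_ ?_ ?_ ?_ (show n ∈ closure ((Zf v : Set G) ∪ (Zf m : Set G)) by
            rw [Subgroup.closure_union, Subgroup.closure_eq, Subgroup.closure_eq]; exact hn')
        · rintro y (hy | hy)
          · exact ⟨y, hy, 1, one_mem _, by rw [mul_one]⟩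
          · exact ⟨1, one_mem _, y, hy, by rw [one_mul]⟩
        · exact ⟨1, one_mem _, 1, one_mem _, by rw [one_mul]⟩
        · rintro _ _ - - ⟨a, ha, c, hc', rfl⟩ ⟨a', ha', c', hc'', rfl⟩
          refine ⟨a * a', mul_mem ha ha', c * c', mul_mem hc' hc'', ?_⟩
          calc a * c * (a' * c') = a * (c * a') * c' := by group
            _ = a * (a' * c) * c' := by rw [hcomm a' ha' c hc']
            _ = a * a' * (c * c') := by group
        · rintro _ - ⟨a, ha, c, hc', rfl⟩
          refine ⟨a⁻¹, inv_mem ha, c⁻¹, inv_mem hc', ?_⟩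
          rw [mul_inv_rev]
          exact (hcomm a⁻¹ (inv_mem ha) c⁻¹ (inv_mem hc')).symm
      obtain ⟨a, ha, c, hc', rfl⟩ := hn2
      have hax : a * x = x * a := (mem_centralizer_iff.mp (hQc v hx) a ha)
      have h8 : ⁅c, x⁆ ∈ z v m := by
        rw [hzz hvm]
        refine commutator_mem_commutator hc' ?_
        rw [hEc]; exact hQE hvm hx
      have h9 : a * ⁅c, x⁆ * a⁻¹ = ⁅c, x⁆ := by
        have h10 : ⁅c, x⁆ ∈ Qf v := hZQ v (hZle hvm h8)
        rw [mem_centralizer_iff.mp (hQc v h10) a ha]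
        group
      have h10 : ⁅a * c, x⁆ = a * ⁅c, x⁆ * a⁻¹ := by
        rw [commutatorElement_def, commutatorElement_def]
        calc a * c * x * (a * c)⁻¹ * x⁻¹ = a * c * x * c⁻¹ * (x * a)⁻¹ := by group
          _ = a * c * x * c⁻¹ * (a * x)⁻¹ := by rw [hax]
          _ = a * (c * x * c⁻¹ * x⁻¹) * a⁻¹ := by group
      rw [h10, h9]
      exact h8
    by_cases hbot : ⁅Zf v ⊔ Zf m, Qf v⁆ = ⊥
    · apply hQQ hvm
      have h8 : Qf v ≤ centralizer (Zf m : Set G) := by
        rw [← commutator_eq_bot_iff_le_centralizer, commutator_comm, eq_bot_iff, ← hbot]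
        exact commutator_mono le_sup_right le_rfl
      refine le_trans (le_inf ?_ h8) (hcent (Γ.symm hvm))
      rw [hEc]; exact hQE hvm
    · have h8 := eq_of_le_of_card (hcard hvm) hle hbot
      rw [h8] at hQN
      exact hmoved hvm hQN
  · -- FIRST case
    have hvq : Γ.W (b + 1) v q := Wlk.cons hvp hpq
    obtain ⟨q', hvq', hq'q⟩ := Wlk.succ_iff'.mp hvq
    obtain ⟨⟨hd1, -⟩, h5, -⟩ := hcrit m v q' q (Γ.symm hvm) hvq' hq'q hmq
    apply hmoved hvm
    have hzq : z v m ≤ Zf q := by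
      rw [hzz hvm, ← hd1, commutator_comm]
      refine le_trans (commutator_mono le_rfl h5) ?_
      exact hZle (Γ.symm hq'q)
    refine hmg _ ?_ ?_
    · have h6 : u ∈ centralizer (z v m : Set G) :=
        centralizer_le hzq (hQc q (hadj w q (Γ.symm hqw) hu))
      exact centralizer_le_normalizer _ h6
    · intro e he
      refine mem_normalizer_of_map_le ?_
      change (⁅Zf v, E v m⁆).map _ ≤ ⁅Zf v, E v m⁆
      rw [Subgroup.map_commutator]
      refine commutator_mono ?_ ?_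
      · rintro _ ⟨a, ha, rfl⟩
        exact (mem_normalizer_iff.mp (hZe.stab_le_normalizer v he.1) a).mp ha
      · rintro _ ⟨a, ha, rfl⟩
        exact (E v m).mul_mem ((E v m).mul_mem he ha) ((E v m).inv_mem he)

end Graph

end Cfsg.Agent.MinSimple.SamePoint
end

-- part: MinSimple/DBlkApi
section
/-!
# Dihedral blocks: the point `z` and the structure of `zl B L`

For a dihedral block `L` over `B` (`IsDBlk B L k`) the *point* of `L` is the involution `z` of
`vl B L ⊓ zc B` (`IsPt B L z`): `⁅zl B L, B⁆ = ⟨z⟩`, `zc B = rl B L × ⟨z⟩`.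
-/

set_option autoImplicit false

namespace Cfsg.Agent.MinSimple.DBlkApi

open Subgroup Cfsg Cfsg.Agent.ZN Cfsg.Agent.MinSimple
open scoped commutatorElement

universe u

variable {G : Type u} [Group G] {B L : Subgroup G} {k : ℕ}

/-- `z` is the point of the block `L` over `B`. -/
def IsPt (B L : Subgroup G) (z : G) : Prop := z ∈ vl B L ∧ z ∈ zc B ∧ z ≠ 1

theorem vl_sq (h : IsDBlk B L k) : ∀ v ∈ vl B L, v ^ 2 = 1 := fun v hv =>
  h.zl_sq v (vl_le_zl B L hv)

theorem zl_le_o2 (h : IsDBlk B L k) : zl B L ≤ o2 L := by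
  refine le_o2 (Block.zl_le_self h.le) ?_ (le_normalizer_zl B L)
  rintro ⟨x, hx⟩
  exact ⟨1, Subtype.ext (by simpa using h.zl_sq x hx)⟩

theorem zl_le_B (h : IsDBlk B L k) : zl B L ≤ B := (zl_le_o2 h).trans h.o2_le

theorem vl_le_B (h : IsDBlk B L k) : vl B L ≤ B := (vl_le_zl B L).trans (zl_le_B h)

theorem vl_le_o2 (h : IsDBlk B L k) : vl B L ≤ o2 L := (vl_le_zl B L).trans (zl_le_o2 h)

theorem exists_b (h : IsDBlk B L k) : ∃ b ∈ B, b ∉ o2 L := by
  by_contra hcon
  push Not at hcon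
  have h1 : (o2 L).relIndex B = 1 := relIndex_eq_one.mpr hcon
  rw [h.o2_index] at h1
  omega

theorem mem_o2_of_cent (h : IsDBlk B L k) {b : G} (hb : b ∈ B)
    (hc : b ∈ centralizer (vl B L : Set G)) : b ∈ o2 L := by
  rw [← h.cent_vl]
  exact ⟨hb, hc⟩

theorem o2_cent (h : IsDBlk B L k) : o2 L ≤ centralizer (vl B L : Set G) := by
  rw [← h.cent_vl]
  exact inf_le_right

theorem o2_cent_zl (h : IsDBlk B L k) : o2 L ≤ centralizer (zl B L : Set G) := by
  rw [← h.cent_zl]
  exact inf_le_right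

/-- The point exists. -/
theorem exists_pt [Finite G] (h : IsDBlk B L k) : ∃ z, IsPt B L z := by
  have hf : Fact (Nat.Prime 2) := ⟨Nat.prime_two⟩
  have hne : vl B L ≠ ⊥ := by
    intro h0
    have := h.card_vl
    rw [h0, card_bot] at this
    omega
  have h3 := PLocal.OffenderStep.inf_centralizer_ne_bot (vl B L) B (h.two.to_le (vl_le_B h))
    h.two (h.le.trans (le_normalizer_vl B L)) hne
  obtain ⟨⟨z, hz⟩, hz1⟩ := Subgroup.ne_bot_iff_exists_ne_one.mp h3
  refine ⟨z, hz.1, mem_zc.mpr ⟨vl_le_B h hz.1, fun b hb => ?_, vl_sq h z hz.1⟩,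
    fun h0 => hz1 (Subtype.ext h0)⟩
  exact mem_centralizer_iff.mp hz.2 b hb

section pt

variable {z : G}

theorem IsPt.sq (hz : IsPt B L z) : z ^ 2 = 1 := zc_sq hz.2.1

theorem IsPt.mul_self (hz : IsPt B L z) : z * z = 1 := by rw [← pow_two]; exact hz.sq

theorem IsPt.comm (hz : IsPt B L z) {b : G} (hb : b ∈ B) : b * z = z * b := zc_comm hz.2.1 hb

theorem IsPt.conj (hz : IsPt B L z) {b : G} (hb : b ∈ B) : b * z * b⁻¹ = z :=
  Four.conj_eq_iff_comm.mpr (hz.comm hb)

/-- The point is unique. -/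
theorem eq_of_mem (h : IsDBlk B L k) (hz : IsPt B L z) {w : G} (hw : w ∈ vl B L)
    (hwz : w ∈ zc B) : w = 1 ∨ w = z := by
  by_contra hcon
  push Not at hcon
  obtain ⟨b, hb, hbQ⟩ := exists_b h
  apply hbQ
  refine mem_o2_of_cent h hb ?_
  exact Four.cent_of_two h.card_vl (vl_sq h) hz.1 hw hz.2.2 hcon.1 (fun h0 => hcon.2 h0.symm)
    (hz.conj hb) (Four.conj_eq_iff_comm.mpr (zc_comm hwz hb))

theorem IsPt.unique (h : IsDBlk B L k) (hz : IsPt B L z) {w : G} (hw : IsPt B L w) : w = z :=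
  (eq_of_mem h hz hw.1 hw.2.1).resolve_left hw.2.2

/-- An element `y` of `vl B L` outside `⟨z⟩` is moved to `z y` by the elements of `B` outside
`O₂(L)`. -/
theorem conj_eq (h : IsDBlk B L k) (hz : IsPt B L z) {y : G} (hy : y ∈ vl B L) (hy1 : y ≠ 1)
    (hyz : y ≠ z) {b : G} (hb : b ∈ B) (hbQ : b ∉ o2 L) : b * y * b⁻¹ = z * y := by
  rcases Four.fix_dichotomy h.card_vl (vl_sq h) hz.1 hy hz.2.2 hy1 hyz.symm
    (le_normalizer_vl B L (h.le hb)) (hz.conj hb) with h1 | h1
  · exfalso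
    apply hbQ
    refine mem_o2_of_cent h hb ?_
    exact Four.cent_of_two h.card_vl (vl_sq h) hz.1 hy hz.2.2 hy1 hyz.symm (hz.conj hb) h1
  · exact h1

theorem rl_comm {r l : G} (hr : r ∈ rl B L) (hl : l ∈ L) : l * r = r * l :=
  mem_centralizer_iff.mp hr.2 l hl

theorem rl_conj {r l : G} (hr : r ∈ rl B L) (hl : l ∈ L) : l * r * l⁻¹ = r :=
  Four.conj_eq_iff_comm.mpr (rl_comm hr hl)

theorem mem_zl (h : IsDBlk B L k) {x : G} (hx : x ∈ zl B L) :
    ∃ r ∈ rl B L, ∃ v ∈ vl B L, x = r * v := by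
  rw [← h.sup_eq] at hx
  exact (BlkFam.mem_sup_of_comm (R := rl B L) (V := vl B L)
    (fun r hr v hv => h.zl_comm r (rl_le_zl B L hr) v (vl_le_zl B L hv))).mp hx

/-- `⁅zl B L, B⁆ ≤ ⟨z⟩`, elementwise. -/
theorem comm_eq (h : IsDBlk B L k) (hz : IsPt B L z) {x b : G} (hx : x ∈ zl B L) (hb : b ∈ B) :
    ⁅x, b⁆ = 1 ∨ ⁅x, b⁆ = z := by
  obtain ⟨r, hr, v, hv, rfl⟩ := mem_zl h hx
  have h1 : ⁅r * v, b⁆ = ⁅v, b⁆ := by
    have hrb := rl_comm hr (h.le hb)
    have hrv : r * v = v * r := h.zl_comm r (rl_le_zl B L hr) v (vl_le_zl B L hv)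
    rw [commutatorElement_def, commutatorElement_def]
    calc r * v * b * (r * v)⁻¹ * b⁻¹ = v * r * b * (v * r)⁻¹ * b⁻¹ := by rw [hrv]
      _ = v * (r * b) * r⁻¹ * v⁻¹ * b⁻¹ := by group
      _ = v * (b * r) * r⁻¹ * v⁻¹ * b⁻¹ := by rw [hrb]
      _ = v * b * v⁻¹ * b⁻¹ := by group
  rw [h1]
  by_cases hbQ : b ∈ o2 L
  · left
    rw [commutatorElement_eq_one_iff_mul_comm]
    exact mem_centralizer_iff.mp (o2_cent h hbQ) v hv
  by_cases hv1 : v = 1
  · left; rw [hv1]; exact commutatorElement_one_left b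
  by_cases hvz : v = z
  · left
    rw [hvz, commutatorElement_eq_one_iff_mul_comm]
    exact (hz.comm hb).symm
  · right
    have h2 := conj_eq h hz hv hv1 hvz hb hbQ
    have hvv : v * v = 1 := by rw [← pow_two]; exact vl_sq h v hv
    have hvi : v⁻¹ = v := inv_eq_of_mul_eq_one_left hvv
    rw [commutatorElement_def, hvi]
    calc v * b * v * b⁻¹ = v * (b * v * b⁻¹) := by group
      _ = v * (z * v) := by rw [h2]
      _ = (v * v) * z := by
          rw [Four.comm_of_sq (vl_sq h) hz.1 hv]; group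
      _ = z := by rw [hvv, one_mul]

theorem zpowers_eq {z : G} (hz : z ^ 2 = 1) {x : G} : x ∈ zpowers z ↔ x = 1 ∨ x = z := by
  constructor
  · intro hx
    obtain ⟨n, rfl⟩ := mem_zpowers_iff.mp hx
    have hz' : z ^ (2 : ℤ) = 1 := by exact_mod_cast hz
    rcases Int.even_or_odd n with ⟨m, hm⟩ | ⟨m, hm⟩
    · left
      rw [hm, ← two_mul, zpow_mul, hz', one_zpow]
    · right
      rw [hm, zpow_add, zpow_mul, hz', one_zpow, one_mul, zpow_one]
  · rintro (rfl | rfl)
    · exact one_mem _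
    · exact mem_zpowers _

theorem card_zpowers {z : G} (hz : z ^ 2 = 1) (h1 : z ≠ 1) : Nat.card (zpowers z) = 2 := by
  rw [Nat.card_zpowers]
  exact orderOf_eq_prime hz h1

/-- `⁅zl B L, B⁆ = ⟨z⟩`. -/
theorem commutator_eq (h : IsDBlk B L k) (hz : IsPt B L z) : ⁅zl B L, B⁆ = zpowers z := by
  apply le_antisymm
  · rw [Subgroup.commutator_le]
    intro x hx b hb
    exact (zpowers_eq hz.sq).mpr (comm_eq h hz hx hb)
  · rw [zpowers_le]
    obtain ⟨b, hb, hbQ⟩ := exists_b h
    obtain ⟨y, hy, hy1, hyz⟩ := Four.exists_other h.card_vl z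
    have h2 := conj_eq h hz hy hy1 hyz hb hbQ
    have h3 : ⁅y, b⁆ ∈ ⁅zl B L, B⁆ := commutator_mem_commutator (vl_le_zl B L hy) hb
    have hvv : y * y = 1 := by rw [← pow_two]; exact vl_sq h y hy
    have hvi : y⁻¹ = y := inv_eq_of_mul_eq_one_left hvv
    have h4 : ⁅y, b⁆ = z := by
      rw [commutatorElement_def, hvi]
      calc y * b * y * b⁻¹ = y * (b * y * b⁻¹) := by group
        _ = y * (z * y) := by rw [h2]
        _ = (y * y) * z := by
            rw [Four.comm_of_sq (vl_sq h) hz.1 hy]; group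
        _ = z := by rw [hvv, one_mul]
    rwa [h4] at h3

/-- `z ∉ rl B L`. -/
theorem pt_notMem_rl (h : IsDBlk B L k) (hz : IsPt B L z) : z ∉ rl B L := fun h1 => by
  have h2 : z ∈ rl B L ⊓ vl B L := ⟨h1, hz.1⟩
  rw [h.disj, mem_bot] at h2
  exact hz.2.2 h2

/-- `zc B = rl B L × ⟨z⟩`. -/
theorem mem_zc_cases (h : IsDBlk B L k) (hz : IsPt B L z) {x : G} (hx : x ∈ zc B) :
    x ∈ rl B L ∨ z * x ∈ rl B L := by
  by_cases h1 : x ∈ rl B L
  · exact Or.inl h1
  · exact Or.inr (Block.mul_mem_of_relIndex_two h.rl_index hz.2.1 hx (pt_notMem_rl h hz) h1)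

end pt

/-! ### Generation -/

theorem dvd_aux (n k : ℕ) : ∃ m : ℕ, 2 * m = n * (3 ^ k + 1) := by
  have h1 : Even (3 ^ k + 1) := by
    have : Odd (3 ^ k) := Odd.pow (by decide)
    exact this.add_one
  obtain ⟨m, hm⟩ := h1
  exact ⟨n * m, by rw [hm]; ring⟩

theorem mem_of_sq_mem {y : G} {k : ℕ} (hy : y ^ 3 ^ k = 1) {H : Subgroup G} (h2 : y * y ∈ H) :
    y ∈ H := by
  obtain ⟨m, hm⟩ := dvd_aux 1 k
  have h3 : (y * y) ^ m = y := by
    rw [← pow_two, ← pow_mul, hm, one_mul, pow_add, hy, one_mul, pow_one]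
  rw [← h3]
  exact pow_mem h2 m

/-- There is an element `l` of `L` such that `L = ⟨u, B^l⟩` for every `u ∈ B` outside `O₂(L)`. -/
theorem gen (h : IsDBlk B L k) : ∃ l ∈ L, (∀ v ∈ vl B L, l * v * l⁻¹ = v → v = 1) ∧
    (∀ v ∈ vl B L, l ^ 3 * v * (l ^ 3)⁻¹ = v) ∧ l ^ 3 ^ k = 1 ∧
    ∀ u ∈ B, u ∉ o2 L → ∀ H : Subgroup G, u ∈ H → (∀ b ∈ B, l * b * l⁻¹ ∈ H) → L ≤ H := by
  obtain ⟨y, hy, h0, h1, h2, h3, h4⟩ := h.dih
  refine ⟨y, hy, h3, h4, h0, fun u hu huQ H huH hH => ?_⟩
  have hQH : o2 L ≤ H := by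
    intro q hq
    have h5 : y⁻¹ * q * y ∈ o2 L := Four.conj_mem' (le_normalizer_o2 L hy) hq
    have h6 := hH _ (h.o2_le h5)
    have e : y * (y⁻¹ * q * y) * y⁻¹ = q := by group
    rwa [e] at h6
  have hBH : B ≤ H := by
    intro b hb
    by_cases hbQ : b ∈ o2 L
    · exact hQH hbQ
    · have h5 := Block.mul_mem_of_relIndex_two h.o2_index hu hb huQ hbQ
      have h6 : b = u⁻¹ * (u * b) := by group
      rw [h6]
      exact H.mul_mem (H.inv_mem huH) (hQH h5)
  have hyH : y ∈ H := by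
    refine mem_of_sq_mem h0 ?_
    -- `y u y⁻¹ u⁻¹ = y (u y u⁻¹)⁻¹`, and `u y u⁻¹ y ∈ Q`
    have h5 : u * y * u⁻¹ * y ∈ H := hQH (h1 u hu huQ)
    have h6 : y * u * y⁻¹ ∈ H := hH u hu
    have h7 : y * y = (y * u * y⁻¹) * u⁻¹ * (u * y * u⁻¹ * y) := by group
    rw [h7]
    exact H.mul_mem (H.mul_mem h6 (H.inv_mem huH)) h5
  intro g hg
  obtain ⟨n, b, hb, rfl⟩ := h2 g hg
  exact H.mul_mem (H.pow_mem hyH n) (hBH hb)

/-- The element of the previous theorem moves the point. -/
theorem not_le_normalizer_zpowers (h : IsDBlk B L k) {z : G} (hz : IsPt B L z) :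
    ¬ L ≤ normalizer (zpowers z : Set G) := by
  intro hn
  obtain ⟨y, hy, h0, h1, h2, h3, h4⟩ := h.dih
  apply hz.2.2
  refine h3 z hz.1 ?_
  have h5 := Four.conj_mem (hn hy) (mem_zpowers z)
  rcases (zpowers_eq hz.sq).mp h5 with h6 | h6
  · rw [conj_eq_one_iff.mp h6]; group
  · exact h6

theorem moves (h : IsDBlk B L k) {z : G} (hz : IsPt B L z) : ∃ l ∈ L, l * z * l⁻¹ ≠ z := by
  obtain ⟨y, hy, h0, h1, h2, h3, h4⟩ := h.dih
  exact ⟨y, hy, fun h5 => hz.2.2 (h3 z hz.1 h5)⟩

/-- `L = O₂(L)` is impossible: `vl B L` is generated by the conjugates of `z`. -/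
theorem vl_le_of (h : IsDBlk B L k) {z : G} (hz : IsPt B L z) {H : Subgroup G}
    (hH : ∀ l ∈ L, l * z * l⁻¹ ∈ H) : vl B L ≤ H := by
  obtain ⟨y, hy, h0, h1, h2, h3, h4⟩ := h.dih
  have h5 : y * z * y⁻¹ ∈ vl B L := Four.conj_mem (le_normalizer_vl B L hy) hz.1
  have h6 : y * z * y⁻¹ ≠ 1 := fun h => hz.2.2 (conj_eq_one_iff.mp h)
  have h7 : y * z * y⁻¹ ≠ z := fun h => hz.2.2 (h3 z hz.1 h)
  have hzH : z ∈ H := by
    have := hH 1 (one_mem _)
    simpa using this
  intro v hv
  rcases Four.four h.card_vl (vl_sq h) hz.1 h5 hz.2.2 h6 h7.symm v hv with rfl | rfl | rfl | rfl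
  · exact one_mem _
  · exact hzH
  · exact hH y hy
  · exact H.mul_mem hzH (hH y hy)

/-- The data of the critical pair argument. -/
theorem toPB (h : IsDBlk B L k) {z : G} (hz : IsPt B L z) :
    SamePoint.PB B L (o2 L) (zl B L) (zpowers z) where
  le := h.le
  Q_le := h.o2_le
  Qn := le_normalizer_o2 L
  Zn := le_normalizer_zl B L
  ZQ := zl_le_o2 h
  cent := h.cent_zl
  idx := h.o2_index
  comm := commutator_eq h hz
  card := card_zpowers hz.sq hz.2.2
  gen := by
    obtain ⟨l, hl, -, -, -, hg⟩ := gen h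
    exact fun u hu huQ => ⟨l, hl, fun H huH hH => hg u hu huQ H huH hH⟩
  moved := not_le_normalizer_zpowers h hz

/-! ### Pairs of blocks over the same `B` -/

theorem conj_pow_mul (h : IsDBlk B L k) {y : G} (hy : y ∈ L) {b : G} (hb : b ∈ B)
    (h1 : b * y * b⁻¹ * y ∈ o2 L) (n : ℕ) : b * y ^ n * b⁻¹ * y ^ n ∈ o2 L := by
  induction n with
  | zero => simp
  | succ n ih =>
    have h2 : b * y ^ n * b⁻¹ ∈ L := L.mul_mem (L.mul_mem (h.le hb) (L.pow_mem hy n))
      (L.inv_mem (h.le hb))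
    have h3 := Four.conj_mem (le_normalizer_o2 L h2) h1
    have e : b * y ^ (n + 1) * b⁻¹ * y ^ (n + 1) =
        (b * y ^ n * b⁻¹ * (b * y * b⁻¹ * y) * (b * y ^ n * b⁻¹)⁻¹) *
          (b * y ^ n * b⁻¹ * y ^ n) := by
      calc b * y ^ (n + 1) * b⁻¹ * y ^ (n + 1) = b * (y ^ n * y) * b⁻¹ * (y * y ^ n) := by
            rw [← pow_succ, ← pow_succ']
        _ = _ := by group
    rw [e]
    exact (o2 L).mul_mem h3 ih

theorem o2_le_of_lt {L' : Subgroup G} {k' : ℕ} (h : IsDBlk B L k) (h' : IsDBlk B L' k')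
    (hlt : ¬ L ⊓ L' ≤ B) : o2 L' ≤ o2 L := by
  intro b hb
  by_contra hbQ
  have hbB : b ∈ B := h'.o2_le hb
  obtain ⟨y, hy, h0, h1, h2, h3, h4⟩ := h.dih
  apply hlt
  rintro g ⟨hg, hg'⟩
  obtain ⟨n, c, hc, rfl⟩ := h2 g hg
  refine B.mul_mem ?_ hc
  have hx' : y ^ n ∈ L' := by
    have : y ^ n = y ^ n * c * c⁻¹ := by group
    rw [this]
    exact L'.mul_mem hg' (L'.inv_mem (h'.le hc))
  have h5 := conj_pow_mul h hy hbB (h1 b hbB hbQ) n
  have h6 : b * (y ^ n * b⁻¹ * (y ^ n)⁻¹) ∈ B := by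
    refine B.mul_mem hbB (h'.o2_le ?_)
    exact Four.conj_mem (le_normalizer_o2 L' hx') ((o2 L').inv_mem hb)
  have h7 : y ^ n * y ^ n ∈ B := by
    have e : y ^ n * y ^ n = (b * (y ^ n * b⁻¹ * (y ^ n)⁻¹))⁻¹ * (b * y ^ n * b⁻¹ * y ^ n) := by
      group
    rw [e]
    exact B.mul_mem (B.inv_mem h6) (h.o2_le h5)
  refine mem_of_sq_mem (k := k) ?_ h7
  rw [← pow_mul, mul_comm, pow_mul, h0, one_pow]

/-- Two blocks over `B` without common normal subgroup in `B` meet in `B`. -/
theorem inf_eq {L' : Subgroup G} {k' : ℕ} [Finite G] (h : IsDBlk B L k) (h' : IsDBlk B L' k')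
    (core : ∀ N : Subgroup G, N ≤ B → L ≤ normalizer (N : Set G) →
      L' ≤ normalizer (N : Set G) → N = ⊥) : L ⊓ L' = B := by
  refine le_antisymm ?_ (le_inf h.le h'.le)
  by_contra hlt
  have h1 := o2_le_of_lt h h' hlt
  have h2 := o2_le_of_lt h' h (by rwa [inf_comm])
  have h3 : o2 L = o2 L' := le_antisymm h2 h1
  have h4 := core (o2 L) h.o2_le (le_normalizer_o2 L) (by rw [h3]; exact le_normalizer_o2 L')
  obtain ⟨z, hz⟩ := exists_pt h
  have h5 := vl_le_o2 h hz.1
  rw [h4, mem_bot] at h5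
  exact hz.2.2 h5

theorem zl_commute {L' : Subgroup G} {k' : ℕ} (h : IsDBlk B L k) (h' : IsDBlk B L' k')
    (hc : ∀ u ∈ vl B L, ∀ w ∈ vl B L', u * w = w * u) :
    ∀ u ∈ zl B L, ∀ w ∈ zl B L', u * w = w * u := by
  intro u hu w hw
  obtain ⟨r, hr, v, hv, rfl⟩ := mem_zl h hu
  obtain ⟨r', hr', v', hv', rfl⟩ := mem_zl h' hw
  have a1 : r * (r' * v') = (r' * v') * r := by
    have := zc_comm (rl_le_zc B L hr) (B.mul_mem (zc_le B (rl_le_zc B L' hr')) (vl_le_B h' hv'))
    exact this.symm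
  have a2 : r' * v = v * r' := by
    have := zc_comm (rl_le_zc B L' hr') (vl_le_B h hv)
    exact this.symm
  calc r * v * (r' * v') = r * (v * r') * v' := by group
    _ = r * r' * (v * v') := by rw [← a2]; group
    _ = r * (r' * v') * v := by rw [hc v hv v' hv']; group
    _ = (r' * v') * (r * v) := by rw [a1]; group

/-- **(B) of helper60.** Two blocks over the same `B`, with the same point and without common
normal subgroup in `B`: their four-groups do not commute. -/
theorem exists_noncommuting [Finite G] {L' : Subgroup G} {k' : ℕ} (h : IsDBlk B L k)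
    (h' : IsDBlk B L' k') {z : G} (hz : IsPt B L z) (hz' : IsPt B L' z)
    (core : ∀ N : Subgroup G, N ≤ B → L ≤ normalizer (N : Set G) →
      L' ≤ normalizer (N : Set G) → N = ⊥) : ∃ u ∈ vl B L, ∃ w ∈ vl B L', u * w ≠ w * u := by
  by_contra hcon
  push Not at hcon
  refine SamePoint.not_commute (P := fun i => cond i L' L) (Q := fun i => cond i (o2 L') (o2 L))
    (Z := fun i => cond i (zl B L') (zl B L)) (B := B) (D := zpowers z) ?_ ?_ ?_ ?_
  · intro i
    cases i
    · exact toPB h hz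
    · exact toPB h' hz'
  · exact inf_eq h h' core
  · exact core
  · rw [commutator_eq_bot_iff_le_centralizer]
    intro u hu
    rw [mem_centralizer_iff]
    exact fun w hw => (zl_commute h h' hcon u hu w hw).symm

end Cfsg.Agent.MinSimple.DBlkApi
end
end

-- part: MinSimple/LemX
section
prune_inst 0x2010000000000000000040000000000001000400003040000001020820000a8000000000090028000020008a0000000000040020c280081000010000404800000000000000000000000000000000000000000000000
set_option linter.all false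
open scoped Cfsg.Agent.FastGrp

-- part: MinSimple/FFMod
section
/-!
# The structure theorem S0617 for an arbitrary module `W`

`K` solvable, `W` a normal elementary abelian 2-subgroup with `O₂(K/C_K(W)) = 1` which is not
centralized by `J(K)`: then `W = C_W(J(K)) × ∏ V i` with four-groups `V i` permuted by `K`
(the proof is helper361's `Cfsg.Agent.ZN.FFData.exists_ff1`).
-/

set_option autoImplicit false

namespace Cfsg.Agent.MinSimple.FFMod

open Subgroup Cfsg Cfsg.Agent.ZN

section bridge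

open Cfsg.Agent.PLocal Cfsg.Agent.PLocal.FFBridge

variable {K Γ : Type*} [Group K] [Group Γ] [Finite K] {p : ℕ} [Fact p.Prime]

/-- The bridge, first part: no solvability needed beyond `C_K(O_p(K)) ≤ O_p(K)`. -/
theorem bridge_aux (V : Subgroup K) (hVn : V.Normal) (hVe : IsElementaryAbelian p V)
    (hVO : ∀ D : Subgroup K, D.Normal → centralizer (V : Set K) ≤ D →
      (∃ k : ℕ, (centralizer (V : Set K)).relIndex D = p ^ k) → D = centralizer (V : Set K))
    (f : K →* Γ) (j : V →* Γ) (h : Compat V f j)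
    (hker : ∀ k ∈ centralizer (V : Set K), f k = 1) :
    V.Normal ∧ f.ker = centralizer (V : Set K) ∧
    IsElementaryAbelian p j.range ∧
    f.range ≤ normalizer (j.range : Set Γ) ∧
    f.range ⊓ centralizer (j.range : Set Γ) = ⊥ ∧
    (∀ H : Subgroup Γ, H ≤ f.range → f.range ≤ normalizer (H : Set Γ) → pCore p H = ⊥) ∧
    (thompsonSubgroup p K).map f = ⨆ A : {A : Subgroup Γ // A ≤ (thompsonSubgroup p K).map f ∧
      IsBestOffenderOn p j.range A}, (A : Subgroup Γ) := by
  have hkereq : f.ker = centralizer (V : Set K) := by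
    apply le_antisymm
    · intro k hk
      rw [Subgroup.mem_centralizer_iff]
      intro v hv
      have h1 : Commute (f k) (j ⟨v, hv⟩) := by
        rw [(hk : f k = 1)]; exact Commute.one_left _
      exact ((h.commute_iff k ⟨v, hv⟩).1 h1).symm
    · exact hker
  refine ⟨hVn, hkereq, ?_, ?_, ?_, ?_, ?_⟩
  · rw [ThompsonJ.isElementaryAbelian_iff] at hVe ⊢
    constructor
    · rintro _ ⟨v, rfl⟩ _ ⟨w, rfl⟩
      rw [← map_mul, ← map_mul]
      congr 1
      exact Subtype.ext (hVe.1 v v.2 w w.2)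
    · rintro _ ⟨v, rfl⟩
      rw [← map_pow]
      have : v ^ p = 1 := Subtype.ext (hVe.2 v v.2)
      rw [this, map_one]
  · rintro _ ⟨k, rfl⟩
    rw [Subgroup.mem_normalizer_iff]
    intro x
    constructor
    · rintro ⟨v, rfl⟩
      exact ⟨⟨k * v * k⁻¹, hVn.conj_mem _ v.2 k⟩, (h.act k v _ rfl).symm⟩
    · rintro ⟨v, hv⟩
      have h1 := h.act k⁻¹ v ⟨k⁻¹ * v * k⁻¹⁻¹, hVn.conj_mem _ v.2 k⁻¹⟩ rfl
      refine ⟨_, h1.symm.trans ?_⟩
      rw [hv, map_inv]; group
  · rw [eq_bot_iff]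
    rintro _ ⟨⟨k, rfl⟩, hk⟩
    have : k ∈ centralizer (V : Set K) := by
      rw [Subgroup.mem_centralizer_iff]
      intro v hv
      exact ((h.commute_iff k ⟨v, hv⟩).1
        ((Subgroup.mem_centralizer_iff.1 hk) (j ⟨v, hv⟩) ⟨⟨v, hv⟩, rfl⟩).symm).symm
    rw [hker k this]
    exact Subgroup.one_mem _
  · intro H hH hn
    have : Finite H := by
      have : Finite f.range := Finite.of_surjective f.rangeRestrict f.rangeRestrict_surjective
      exact Finite.of_injective (Subgroup.inclusion hH) (Subgroup.inclusion_injective hH)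
    set P : Subgroup Γ := (pCore p H).map H.subtype with hP
    have hPn : f.range ≤ normalizer (P : Set Γ) :=
      hn.trans (normalizer_le_normalizer_map H _ (Lib.Cores.pCore_characteristic p))
    have hPH : P ≤ H := Subgroup.map_subtype_le _
    have hPmap : (P.comap f).map f = P := by
      rw [Subgroup.map_comap_eq, inf_eq_right]
      exact hPH.trans hH
    have hD : (P.comap f).Normal := by
      refine ⟨fun n hn' g => ?_⟩
      change f (g * n * g⁻¹) ∈ P
      rw [map_mul, map_mul, map_inv]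
      exact (Subgroup.mem_normalizer_iff.1 (hPn ⟨g, rfl⟩) (f n)).1 hn'
    have hCD : centralizer (V : Set K) ≤ P.comap f := by
      intro k hk
      change f k ∈ P
      rw [hker k hk]; exact P.one_mem
    have hcard : (centralizer (V : Set K)).relIndex (P.comap f) = Nat.card P := by
      rw [← hkereq, Subgroup.relIndex_ker, hPmap]
    have hPp : IsPGroup p P := (Lib.Cores.pCore_isPGroup (G := H) p).map _
    have hPfin : Finite P := Finite.of_injective (Subgroup.inclusion hPH)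
      (Subgroup.inclusion_injective hPH)
    obtain ⟨k, hk⟩ := IsPGroup.iff_card.1 hPp
    have hDeq := hVO _ hD hCD ⟨k, hcard.trans hk⟩
    have hPbot : P = ⊥ := by
      rw [← hPmap, hDeq, ← hkereq]
      rw [Subgroup.map_eq_bot_iff]
    rw [hP, Subgroup.map_eq_bot_iff_of_injective _ H.subtype_injective] at hPbot
    exact hPbot
  · apply le_antisymm
    · rw [ThompsonJ.thompsonSubgroup_def, sSup_eq_iSup', Subgroup.map_iSup]
      refine iSup_le ?_
      rintro ⟨A, hA⟩
      have h1 : IsBestOffenderOn p j.range (A.map f) :=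
        h.isBestOffenderOn (S0606.result V hVe A hA)
      refine le_iSup_of_le ⟨A.map f, ?_, h1⟩ le_rfl
      exact le_iSup (fun i : maxElementaryAbelianSubgroups p K => (i : Subgroup K).map f) ⟨A, hA⟩
    · exact iSup_le fun A => A.2.1

/-- The bridge: all hypotheses of the structure theorem S0617 (except `H ≠ ⊥`) for
`H = f(J(K))` acting on `j(V)`, when `K` is `p`-separable with `O_{p'}(K) = 1`. -/
theorem bridge (hsep : IsPSolvable p K) (V : Subgroup K) (hVn : V.Normal)
    (hVe : IsElementaryAbelian p V)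
    (hVO : ∀ D : Subgroup K, D.Normal → centralizer (V : Set K) ≤ D →
      (∃ k : ℕ, (centralizer (V : Set K)).relIndex D = p ^ k) → D = centralizer (V : Set K))
    (f : K →* Γ) (j : V →* Γ) (h : Compat V f j)
    (hker : ∀ k ∈ centralizer (V : Set K), f k = 1) :
    IsElementaryAbelian p j.range ∧
    (thompsonSubgroup p K).map f ≤ normalizer (j.range : Set Γ) ∧
    (thompsonSubgroup p K).map f ⊓ centralizer (j.range : Set Γ) = ⊥ ∧
    centralizer (pPrimeCore p ↥((thompsonSubgroup p K).map f) :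
        Set ↥((thompsonSubgroup p K).map f)) ≤ pPrimeCore p ↥((thompsonSubgroup p K).map f) ∧
    (thompsonSubgroup p K).map f = ⨆ A : {A : Subgroup Γ // A ≤ (thompsonSubgroup p K).map f ∧
      IsBestOffenderOn p j.range A}, (A : Subgroup Γ) := by
  obtain ⟨-, -, h3, h4, h5, h6, h7⟩ :=
    bridge_aux V hVn hVe hVO f j h hker
  have hle : (thompsonSubgroup p K).map f ≤ f.range := Subgroup.map_le_range f _
  refine ⟨h3, hle.trans h4, ?_, ?_, h7⟩
  · rw [eq_bot_iff, ← h5]
    exact inf_le_inf_right _ hle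
  · have hJn : (thompsonSubgroup p K).Normal := ThompsonJ.thompsonSubgroup_normal p K
    have hcore : pCore p ↥((thompsonSubgroup p K).map f) = ⊥ := by
      apply h6 _ hle
      rintro _ ⟨k, rfl⟩
      rw [Subgroup.mem_normalizer_iff_map_conj_eq]
      have e1 : (MulAut.conj (f k) : Γ →* Γ).comp f = f.comp (MulAut.conj k : K →* K) := by
        ext x
        simp
      rw [Subgroup.map_map, e1, ← Subgroup.map_map]
      congr 1
      exact Subgroup.mem_normalizer_iff_map_conj_eq.1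
        ((Subgroup.normalizer_eq_top_iff.2 hJn) ▸ Subgroup.mem_top k)
    have hfin : Finite ↥((thompsonSubgroup p K).map f) :=
      Finite.of_surjective (f.subgroupMap (thompsonSubgroup p K))
        (f.subgroupMap_surjective (thompsonSubgroup p K))
    have hps : IsPSolvable p ↥((thompsonSubgroup p K).map f) :=
      Lib.PSolvable.IsPSolvable_of_surjective p
        (Lib.PSolvable.IsPSolvable_of_injective p hsep (thompsonSubgroup p K).subtype
          (thompsonSubgroup p K).subtype_injective)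
        (f.subgroupMap (thompsonSubgroup p K))
        (f.subgroupMap_surjective (thompsonSubgroup p K))
    exact HallHigmanPrime.centralizer_pPrimeCore_le_of_pSolvable p hps hcore

end bridge

universe u

/-- Consequences of the structure theorem S0617. -/
structure FFW {K : Type u} [Group K] (T W : Subgroup K) {ι : Type} (V : ι → Subgroup K) : Prop where
  two : IsPGroup 2 T
  sylow : ¬ 2 ∣ T.index
  nonempty : Nonempty ι
  Wn : W.Normal
  Wcomm : ∀ x ∈ W, ∀ y ∈ W, x * y = y * x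
  Wsq : ∀ x ∈ W, x ^ 2 = 1
  card : ∀ i, Nat.card (V i) = 4
  indep : iSupIndep (fun o : Option ι =>
    o.elim (W ⊓ centralizer (thompsonSubgroup 2 K : Set K)) V)
  sup : (W ⊓ centralizer (thompsonSubgroup 2 K : Set K)) ⊔ (⨆ i, V i) = W
  perm : ∀ (g : K) (i : ι), ∃ j, (V i).map (MulAut.conj g).toMonoidHom = V j
  nrm : ∀ i, thompsonSubgroup 2 K ≤ normalizer ((V i : Subgroup K) : Set K)
  d : ∀ i, ∃ d ∈ thompsonSubgroup 2 K, (∃ v ∈ V i, d * v * d⁻¹ ≠ v) ∧
    (∀ v ∈ V i, d ^ 3 * v * (d ^ 3)⁻¹ = v) ∧ ∀ j, j ≠ i → ∀ v ∈ V j, d * v = v * d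
  t : ∀ i, ∃ t ∈ jj T, (∃ v ∈ V i, t * v * t⁻¹ ≠ v) ∧ ∀ j, j ≠ i → ∀ v ∈ V j, t * v = v * t

open Cfsg.Agent.PLocal
open Cfsg.Agent.PLocal.ThompsonJ

/-- The data of the structure theorem S0617, for an arbitrary module. -/
theorem exists_ffw {K : Type u} [Group K] [Finite K] (hs : Group.IsSolvable K) (T : Subgroup K)
    (hT : IsPGroup 2 T) (hTi : ¬ 2 ∣ T.index) (W : Subgroup K) (Wn : W.Normal)
    (hWe : IsElementaryAbelian 2 W)
    (hWO : ∀ D : Subgroup K, D.Normal → centralizer (W : Set K) ≤ D →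
      (∃ k : ℕ, (centralizer (W : Set K)).relIndex D = 2 ^ k) → D = centralizer (W : Set K))
    (hnJ : ¬ thompsonSubgroup 2 K ≤ centralizer (W : Set K)) :
    ∃ (n : ℕ) (V : Fin n → Subgroup K), FFW T W V := by
  classical
  have hf2 : Fact (Nat.Prime 2) := ⟨Nat.prime_two⟩
  have hWe' := isElementaryAbelian_iff.1 hWe
  set J := thompsonSubgroup 2 K with hJdef
  obtain ⟨Γ, hΓ, hfin, f, j, hcomp, hker, hdisj⟩ := FFBridge.exists_data W Wn
  have hsep : IsPSolvable 2 K := Lib.PSolvable.IsPSolvable_of_solvable 2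
  obtain ⟨b1, b2, b3, b4, b5⟩ := bridge hsep W Wn hWe hWO f j
    hcomp (fun k hk => (hker k).2 hk)
  set H := J.map f with hH
  have hHne : H ≠ ⊥ := by
    intro h
    apply hnJ
    intro k hk
    rw [← hker]
    have : f k ∈ H := ⟨k, hk, rfl⟩
    rw [h] at this
    simpa using this
  have hfam := FFTransport.fffam j.range H b1 b2 b3 b4 b5 hHne
  set 𝓔 := FFTransport.comps 2 j.range H with h𝓔
  have hEfin : Finite 𝓔 := inferInstance
  let e : Fin (Nat.card 𝓔) ≃ 𝓔 := (Finite.equivFin 𝓔).symm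
  -- the planes
  let V' : 𝓔 → Subgroup W := fun E => (⁅j.range, (E : Subgroup Γ)⁆).comap j
  have hV'j : ∀ E : 𝓔, (V' E).map j = ⁅j.range, (E : Subgroup Γ)⁆ := by
    intro E
    rw [Subgroup.map_comap_eq, inf_eq_right]
    exact hfam.comm_le E.2
  let V₀ : 𝓔 → Subgroup K := fun E => (V' E).map W.subtype
  have hmemV : ∀ (E : 𝓔) (w : W), (w : K) ∈ V₀ E ↔ j w ∈ ⁅j.range, (E : Subgroup Γ)⁆ := by
    intro E w
    constructor
    · rintro ⟨w', hw', h⟩
      have : w' = w := Subtype.ext h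
      rw [← this]; exact hw'
    · intro h
      exact ⟨w, h, rfl⟩
  have hVW : ∀ E, V₀ E ≤ W := fun E => Subgroup.map_subtype_le _
  have hcardV : ∀ E, Nat.card (V₀ E) = 4 := by
    intro E
    have h1 : Nat.card (V₀ E) = Nat.card (V' E) :=
      card_map_injective _ W.subtype_injective
    have h2 : Nat.card ((V' E).map j) = Nat.card (V' E) := card_map_injective _ hcomp.inj
    rw [h1, ← h2, hV'j, hfam.cardE E E.2]; norm_num
  -- the action
  have hconjV : ∀ (g : K) (E E' : 𝓔), (E : Subgroup Γ).map (MulAut.conj (f g)).toMonoidHom = E' →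
      (V₀ E).map (MulAut.conj g).toMonoidHom = V₀ E' := by
    intro g E E' hE
    apply Subgroup.eq_of_le_of_card_ge
    · rintro _ ⟨x, hx, rfl⟩
      obtain ⟨w, hw, rfl⟩ := hx
      have hw' : g * (w : K) * g⁻¹ ∈ W := Wn.conj_mem _ w.2 g
      have h1 := hcomp.act g w ⟨_, hw'⟩ rfl
      change g * (w : K) * g⁻¹ ∈ V₀ E'
      refine (hmemV E' ⟨_, hw'⟩).2 ?_
      rw [← h1, ← hE]
      have h2 : (⁅j.range, (E : Subgroup Γ)⁆).map (MulAut.conj (f g)).toMonoidHom =
          ⁅j.range, (E : Subgroup Γ).map (MulAut.conj (f g)).toMonoidHom⁆ := by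
        rw [Subgroup.map_commutator]
        congr 1
        exact Subgroup.mem_normalizer_iff_map_conj_eq.1
          ((bridge_aux W Wn hWe hWO f j hcomp (fun k hk => (hker k).2 hk)).2.2.2.1 ⟨g, rfl⟩)
      rw [← h2]
      exact ⟨j w, hw, rfl⟩
    · rw [hcardV, card_map_injective _ (MulAut.conj g).injective, hcardV]
  have hfgN : ∀ g : K, f g ∈ normalizer (j.range : Set Γ) := fun g =>
    (bridge_aux W Wn hWe hWO f j hcomp (fun k hk => (hker k).2 hk)).2.2.2.1 ⟨g, rfl⟩
  have hJn : J.Normal := haveI := thompsonSubgroup_characteristic 2 K; inferInstance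
  have hfgH : ∀ g : K, f g ∈ normalizer (H : Set Γ) := by
    intro g
    rw [mem_normalizer_iff_map_conj_eq]
    apply Subgroup.eq_of_le_of_card_ge
    · rintro _ ⟨_, ⟨k, hk, rfl⟩, rfl⟩
      refine ⟨g * k * g⁻¹, hJn.conj_mem _ hk g, ?_⟩
      rw [map_mul, map_mul, map_inv]; rfl
    · exact (card_map_injective _ (MulAut.conj (f g)).injective).ge
  have hperm : ∀ (g : K) (E : 𝓔), ∃ E' : 𝓔, (V₀ E).map (MulAut.conj g).toMonoidHom = V₀ E' := by
    intro g E
    exact ⟨⟨_, FFTransport.map_conj_mem_comps (hfgN g) (hfgH g) E.2⟩, hconjV g E _ rfl⟩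
  have hnrm : ∀ E : 𝓔, J ≤ normalizer ((V₀ E : Subgroup K) : Set K) := by
    intro E k hk
    rw [mem_normalizer_iff_map_conj_eq]
    refine hconjV k E E ?_
    exact mem_normalizer_iff_map_conj_eq.1 (hfam.nrmE E E.2 ⟨k, hk, rfl⟩)
  -- independence and join
  let C₀' : Subgroup W := (W ⊓ centralizer (J : Set K)).subgroupOf W
  have hC₀j : C₀'.map j = j.range ⊓ centralizer (H : Set Γ) := (hcomp.inf_centralizer J).symm
  have hC₀ : C₀'.map W.subtype = W ⊓ centralizer (J : Set K) := by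
    rw [Subgroup.subgroupOf_map_subtype, inf_eq_left]
    exact inf_le_left
  have hind : iSupIndep (fun o : Option 𝓔 => o.elim (W ⊓ centralizer (J : Set K)) V₀) := by
    have h1 : iSupIndep (fun o : Option 𝓔 => (o.elim C₀' V').map j) := by
      have h2 := hfam.indepV
      convert h2 using 2 with o
      cases o with
      | none => exact hC₀j
      | some E => exact hV'j E
    have h3 : iSupIndep (fun o : Option 𝓔 => (o.elim C₀' V').map W.subtype) :=
      (FFData.iSupIndep_map_iff _ W.subtype_injective _).2 ((FFData.iSupIndep_map_iff j hcomp.inj _).1 h1)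
    convert h3 using 2 with o
    cases o with
    | none => exact hC₀.symm
    | some E => rfl
  have hsup : (W ⊓ centralizer (J : Set K)) ⊔ (⨆ E, V₀ E) = W := by
    have h1 : (C₀' ⊔ ⨆ E, V' E).map j = (⊤ : Subgroup W).map j := by
      rw [Subgroup.map_sup, Subgroup.map_iSup, hC₀j, ← MonoidHom.range_eq_map]
      exact (congrArg₂ (· ⊔ ·) rfl (iSup_congr fun E => hV'j E)).trans hfam.supV
    have h2 : C₀' ⊔ ⨆ E, V' E = ⊤ := Subgroup.map_injective hcomp.inj h1
    have h3 := congrArg (Subgroup.map W.subtype) h2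
    rw [Subgroup.map_sup, Subgroup.map_iSup, hC₀, ← MonoidHom.range_eq_map,
      Subgroup.range_subtype] at h3
    exact h3
  have hsup' : (W ⊓ centralizer (J : Set K)) ⊔ (⨆ i, V₀ (e i)) = W :=
    (congrArg₂ (· ⊔ ·) rfl (e.iSup_comp (g := V₀))).trans hsup
  have hes : ∀ E, e (e.symm E) = E := e.apply_symm_apply
  -- the elements `d`
  have hd : ∀ E : 𝓔, ∃ d ∈ J, (∃ v ∈ V₀ E, d * v * d⁻¹ ≠ v) ∧
      (∀ v ∈ V₀ E, d ^ 3 * v * (d ^ 3)⁻¹ = v) ∧ ∀ F, F ≠ E → ∀ v ∈ V₀ F, d * v = v * d := by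
    intro E
    obtain ⟨iso⟩ := hfam.iso E E.2
    have hcE : Nat.card (E : Subgroup Γ) = 6 := by
      rw [Nat.card_congr iso.toEquiv, FFFamily.card_sl_two]
    obtain ⟨x, hx⟩ := exists_prime_orderOf_dvd_card' (G := (E : Subgroup Γ)) 3
      (by rw [hcE]; norm_num)
    obtain ⟨d, hdJ, hdx⟩ : ((x : Γ)) ∈ H := hfam.le E.2 x.2
    have hx1 : (x : Γ) ≠ 1 := by
      intro h
      have : x = 1 := Subtype.ext h
      rw [this, orderOf_one] at hx
      norm_num at hx
    have hx3 : (x : Γ) ^ 3 = 1 := by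
      have h1 : x ^ 3 = 1 := by rw [← hx]; exact pow_orderOf_eq_one x
      exact congrArg Subtype.val h1
    refine ⟨d, hdJ, ?_, ?_, ?_⟩
    · by_contra hcon
      push Not at hcon
      apply hx1
      refine hfam.faithfulE E.2 x.2 fun v hv => ?_
      obtain ⟨w, rfl⟩ := hfam.comm_le E.2 hv
      have h1 := hcon w ((hmemV E w).2 hv)
      have h2 : Commute (f d) (j w) := by
        rw [hcomp.commute_iff]
        change d * (w : K) = w * d
        calc d * (w : K) = (d * w * d⁻¹) * d := by group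
          _ = w * d := by rw [h1]
      rw [← hdx]; exact h2
    · intro v hv
      have h1 : d ^ 3 ∈ centralizer (W : Set K) := by
        rw [← hker, map_pow, hdx, hx3]
      have h2 := (mem_centralizer_iff.1 h1) v (hVW E hv)
      rw [← h2]; group
    · intro F hF v hv
      obtain ⟨w, hw, rfl⟩ := hv
      have h1 := hfam.commuteV F.2 E.2 (fun h => hF (Subtype.ext h)) hw x.2
      rw [← hdx] at h1
      exact ((hcomp.commute_iff d w).1 h1.symm)
  -- the elements `t`
  have ht : ∀ E : 𝓔, ∃ t ∈ jj T, (∃ v ∈ V₀ E, t * v * t⁻¹ ≠ v) ∧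
      ∀ F, F ≠ E → ∀ v ∈ V₀ F, t * v = v * t := by
    intro E
    obtain ⟨d, hdJ, ⟨v, hv, hdv⟩, -, -⟩ := hd E
    -- some maximal elementary abelian subgroup moves `V₀ E`
    have h1 : ∃ A ∈ maxElementaryAbelianSubgroups 2 K, ∃ a ∈ A, ∃ v ∈ V₀ E, a * v * a⁻¹ ≠ v := by
      by_contra hcon
      push Not at hcon
      have h2 : J ≤ centralizer (V₀ E : Set K) := by
        refine thompsonSubgroup_le fun A hA a ha => ?_
        rw [mem_centralizer_iff]
        intro v hv
        have := hcon A hA a ha v hv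
        calc v * a = (a * v * a⁻¹) * a := by rw [this]
          _ = a * v := by group
      have h3 := (mem_centralizer_iff.1 (h2 hdJ)) v hv
      apply hdv
      rw [← h3]; group
    obtain ⟨A, hA, a, ha, v, hv, hav⟩ := h1
    obtain ⟨S, hS⟩ := FFBasic.exists_sylow hT hTi
    obtain ⟨P, hP⟩ := ThompsonFrattini.exists_sylow_subgroupOf S J
    have hAJ : A ≤ J := le_thompsonSubgroup hA
    have hA2 : IsPGroup 2 (A.subgroupOf J) :=
      (isPGroup_of_isElementaryAbelian hA.1).comap_of_injective J.subtype J.subtype_injective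
    obtain ⟨P', hP'⟩ := hA2.exists_le_sylow
    obtain ⟨g, hg⟩ := MulAction.exists_smul_eq J P' P
    set A' : Subgroup K := A.map (MulAut.conj (g : K)).toMonoidHom with hA'
    have hA'max : A' ∈ maxElementaryAbelianSubgroups 2 K := by
      refine mem_max_of_card_eq hA (isElementaryAbelian_map hA.1 _) ?_
      rw [card_map_injective _ (MulAut.conj (g : K)).injective]
    have hA'T : A' ≤ T := by
      rintro _ ⟨x, hx, rfl⟩
      have h2 : (⟨x, hAJ hx⟩ : J) ∈ (P' : Subgroup J) := hP' hx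
      have h3 : g * ⟨x, hAJ hx⟩ * g⁻¹ ∈ (P : Subgroup J) := by
        rw [← hg, Sylow.coe_subgroup_smul]
        exact Subgroup.smul_mem_pointwise_smul _ (MulAut.conj g) _ h2
      rw [hP, hS] at h3
      exact h3
    have hA'J : A' ≤ J := le_thompsonSubgroup hA'max
    have hgn : (g : K) ∈ normalizer ((V₀ E : Subgroup K) : Set K) := hnrm E g.2
    have hsingle := Support.exists_single (W := W) (A := A') (C₀ := W ⊓ centralizer (J : Set K))
      (V := fun i => V₀ (e i)) hWe hWe'.1 (fun i => hcardV (e i))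
      (by
        have h5 := FFData.iSupIndep_option_comp e hind
        exact h5.comp (f := some) (Option.some_injective _))
      hsup' (fun i => hA'J.trans (hnrm (e i)))
      (inf_le_right.trans (centralizer_le hA'J)) hA'max (e.symm E) ?_
    · obtain ⟨t, ht, ht1, ht2⟩ := hsingle
      refine ⟨t, ?_, ?_, ?_⟩
      · have h6 : A' ≤ jj T := by
          unfold jj
          rw [thompsonSubgroupOf_eq_sSup hA'max hA'T]
          exact le_sSup ⟨hA'max, hA'T⟩
        exact h6 ht
      · rw [hes] at ht1; exact ht1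
      · intro F hF v hv
        refine ht2 (e.symm F) (fun h => hF (e.symm.injective h)) v ?_
        rw [hes]; exact hv
    · refine ⟨(g : K) * a * (g : K)⁻¹, ⟨a, ha, rfl⟩, (g : K) * v * (g : K)⁻¹, ?_, ?_⟩
      · rw [hes]; exact Support.mem_normalizer_conj hgn hv
      · intro h
        apply hav
        have h7 : (g : K) * (a * v * a⁻¹) * (g : K)⁻¹ = (g : K) * v * (g : K)⁻¹ := by
          rw [← h]; group
        have h8 := congrArg (fun z => (g : K)⁻¹ * z * (g : K)) h7
        simpa [mul_assoc] using h8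
  -- nonempty
  have hne : Nonempty 𝓔 := by
    by_contra hcon
    rw [not_nonempty_iff] at hcon
    apply hHne
    rw [← hfam.sup, iSup_of_empty]
  refine ⟨Nat.card 𝓔, fun i => V₀ (e i), ?_⟩
  exact {
    two := hT
    sylow := hTi
    nonempty := ⟨e.symm hne.some⟩
    Wn := Wn
    Wcomm := hWe'.1
    Wsq := hWe'.2
    card := fun i => hcardV (e i)
    indep := FFData.iSupIndep_option_comp e hind
    sup := hsup'
    perm := fun g i => by
      obtain ⟨E', hE'⟩ := hperm g (e i)
      exact ⟨e.symm E', by rw [hes]; exact hE'⟩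
    nrm := fun i => hnrm (e i)
    d := fun i => by
      obtain ⟨d, h1, h2, h3, h4⟩ := hd (e i)
      exact ⟨d, h1, h2, h3, fun j hj => h4 (e j) (fun h => hj (e.injective h))⟩
    t := fun i => by
      obtain ⟨t, h1, h2, h3⟩ := ht (e i)
      exact ⟨t, h1, h2, fun j hj => h3 (e j) (fun h => hj (e.injective h))⟩ }

end Cfsg.Agent.MinSimple.FFMod
end

-- part: MinSimple/LemX
section
/-!
# Lemma X: all blocks over the Baumann subgroup in a solvable group of characteristic 2

`X ≤ G` solvable of characteristic 2 with Sylow 2-subgroup `T`, `B = bau T`. There is one module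
`W` and one family of four-groups `V i` (structure theorem S0617) such that every dihedral block
`L ≤ X` over `B` has `vl B L = V i` for exactly one `i`.
-/

set_option autoImplicit false

namespace Cfsg.Agent.MinSimple.LemX

open Subgroup Cfsg Cfsg.Agent.ZN Cfsg.Agent.MinSimple Cfsg.Agent.MinSimple.PlanePair
open Cfsg.Agent.MinSimple.DBlkApi
open scoped commutatorElement

universe u

variable {G : Type u} [Group G]

/-- `X` is solvable of characteristic 2 with Sylow 2-subgroup `T`. -/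
structure Loc (X T : Subgroup G) : Prop where
  solv : Group.IsSolvable ↥X
  char2 : X ⊓ centralizer (o2 X : Set G) ≤ o2 X
  two : IsPGroup 2 T
  TX : T ≤ X
  syl : ¬ 2 ∣ T.relIndex X

/-- The blocks over `bau T` inside `X`. -/
def blocks (X T : Subgroup G) : Set (Subgroup G) := {L | L ≤ X ∧ ∃ k, IsDBlk (bau T) L k}

/-- `⟨U^X⟩`. -/
def nc (X U : Subgroup G) : Subgroup G := ⨆ g : X, U.map (MulAut.conj (g : G)).toMonoidHom

theorem le_nc (X U : Subgroup G) : U ≤ nc X U := by
  refine le_trans (le_of_eq ?_)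
    (le_iSup (fun g : X => U.map (MulAut.conj (g : G)).toMonoidHom) 1)
  ext x
  simp

theorem nc_le {X U V : Subgroup G} (hU : U ≤ V) (hX : X ≤ normalizer (V : Set G)) :
    nc X U ≤ V := by
  refine iSup_le fun g => ?_
  rintro _ ⟨u, hu, rfl⟩
  exact Four.conj_mem (hX g.2) (hU hu)

theorem le_normalizer_nc [Finite G] (X U : Subgroup G) : X ≤ normalizer (nc X U : Set G) := by
  intro g hg
  refine VModule.mem_normalizer_of_map_le ?_
  rw [nc, Subgroup.map_iSup]
  refine iSup_le fun h => ?_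
  refine le_trans (le_of_eq ?_)
    (le_iSup (fun g : X => U.map (MulAut.conj (g : G)).toMonoidHom) ⟨g * h, X.mul_mem hg h.2⟩)
  rw [Subgroup.map_map]
  congr 1
  ext x
  simp [mul_assoc]

/-- The basic computation: an element acting on the relevant subgroups fixes the point. -/
theorem fix_pt {B L : Subgroup G} {k : ℕ} {z : G} (h : IsDBlk B L k) (hz : IsPt B L z)
    {N : Subgroup G} (hN : N ≤ zl B L) {n d t : G} (hn : n ∈ N) (hnv : n ∈ vl B L) (hn1 : n ≠ 1)
    (hnz : n ≠ z) (hdN : ∀ x ∈ N, d * x * d⁻¹ ∈ N) (ht : ∀ b ∈ B, t * b * t⁻¹ ∈ B)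
    (hdn : d * n * d⁻¹ = t * n * t⁻¹) (hdz : d * z * d⁻¹ = t * z * t⁻¹) :
    d * z * d⁻¹ = z := by
  obtain ⟨b, hb, hbQ⟩ := exists_b h
  have h1 := conj_eq h hz hnv hn1 hnz hb hbQ
  have h2 : z = (⁅n, b⁆)⁻¹ := by
    rw [commutatorElement_def]
    calc z = (z * n) * n⁻¹ := by group
      _ = (b * n * b⁻¹) * n⁻¹ := by rw [h1]
      _ = (n * b * n⁻¹ * b⁻¹)⁻¹ := by group
  have h3 : t * z * t⁻¹ = (⁅d * n * d⁻¹, t * b * t⁻¹⁆)⁻¹ := by
    rw [hdn, h2, commutatorElement_def, commutatorElement_def]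
    group
  rw [hdz, h3]
  rcases comm_eq h hz (hN (hdN n hn)) (ht b hb) with h4 | h4
  · exfalso
    apply hz.2.2
    rw [h4, inv_one] at h3
    exact conj_eq_one_iff.mp h3
  · rw [h4]
    exact inv_eq_of_mul_eq_one_left hz.mul_self

section loc

variable [Finite G] {X T : Subgroup G}

theorem Loc.o2_le (hX : Loc X T) : o2 X ≤ T := VModule.o2_le_of_sylow hX.two hX.syl

/-- (a) `O₂(X)` fixes the point of a block. -/
theorem o2_fix_pt (hX : Loc X T) {L : Subgroup G} {k : ℕ} {z : G} (hL : L ≤ X)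
    (h : IsDBlk (bau T) L k) (hz : IsPt (bau T) L z) {q : G} (hq : q ∈ o2 X) :
    q * z * q⁻¹ = z := by
  set B := bau T with hB
  obtain ⟨y, hy, h3, h4, h0, -⟩ := gen h
  have hTB : ∀ t ∈ T, ∀ b ∈ B, t * b * t⁻¹ ∈ B := fun t ht b hb =>
    Four.conj_mem (le_normalizer_bau T ht) hb
  have hyz : y * z * y⁻¹ ∈ vl B L := Four.conj_mem (le_normalizer_vl B L hy) hz.1
  refine fix_pt h hz (N := (zc B).map (MulAut.conj y).toMonoidHom) (n := y * z * y⁻¹) (t := q)
    ?_ ⟨z, hz.2.1, rfl⟩ hyz (fun h => hz.2.2 (conj_eq_one_iff.mp h))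
    (fun h => hz.2.2 (h3 z hz.1 h)) ?_ (hTB q (hX.o2_le hq)) rfl rfl
  · rintro _ ⟨x, hx, rfl⟩
    exact Four.conj_mem (le_normalizer_zl B L hy) (zc_le_zl hx)
  · rintro _ ⟨x, hx, rfl⟩
    have h5 : y⁻¹ * q * y ∈ T := hX.o2_le (Four.conj_mem' (le_normalizer_o2 X (hL hy)) hq)
    have h6 : (y⁻¹ * q * y) * x * (y⁻¹ * q * y)⁻¹ ∈ zc B :=
      Four.conj_mem (normalizer_le_normalizer_zc B (le_normalizer_bau T h5)) hx
    refine ⟨_, h6, ?_⟩
    simp only [MulEquiv.toMonoidHom_eq_coe, MonoidHom.coe_coe, MulAut.conj_apply]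
    group

/-- (a) `vl B L ≤ Ω₁(Z(O₂(X)))` for the blocks `L` of `X`. -/
theorem vl_le_zc_o2 (hX : Loc X T) {L : Subgroup G} {k : ℕ} (hL : L ≤ X)
    (h : IsDBlk (bau T) L k) : vl (bau T) L ≤ zc (o2 X) := by
  obtain ⟨z, hz⟩ := exists_pt h
  have h1 : vl (bau T) L ≤ centralizer (o2 X : Set G) := by
    refine vl_le_of h hz fun l hl => ?_
    rw [mem_centralizer_iff]
    intro q hq
    have h2 := o2_fix_pt hX hL h hz (Four.conj_mem' (le_normalizer_o2 X (hL hl)) hq)
    have h3 : q * (l * z * l⁻¹) * q⁻¹ = l * z * l⁻¹ := by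
      calc q * (l * z * l⁻¹) * q⁻¹ = l * ((l⁻¹ * q * l) * z * (l⁻¹ * q * l)⁻¹) * l⁻¹ := by group
        _ = _ := by rw [h2]
    exact Four.conj_eq_iff_comm.mp h3
  intro v hv
  have h2 : v ∈ o2 X := hX.char2 ⟨hL (h.le (vl_le_B h hv)), h1 hv⟩
  exact mem_zc.mpr ⟨h2, fun b hb => mem_centralizer_iff.mp (h1 hv) b hb, vl_sq h v hv⟩

/-- The module of Lemma X. -/
def mod (X T : Subgroup G) : Subgroup G :=
  nc X (zc T ⊔ ⨆ L : blocks X T, vl (bau T) (L : Subgroup G))

omit [Finite G] in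
theorem zc_le_mod : zc T ≤ mod X T := le_sup_left.trans (le_nc _ _)

omit [Finite G] in
theorem vl_le_mod {L : Subgroup G} {k : ℕ} (hL : L ≤ X) (h : IsDBlk (bau T) L k) :
    vl (bau T) L ≤ mod X T :=
  (le_iSup (fun L : blocks X T => vl (bau T) (L : Subgroup G)) ⟨L, hL, k, h⟩).trans
    (le_sup_right.trans (le_nc _ _))

theorem mod_le (hX : Loc X T) : mod X T ≤ zc (o2 X) := by
  refine nc_le (sup_le (VModule.zc_le_zc_o2 hX.TX hX.two hX.syl hX.char2) (iSup_le fun L => ?_))
    ((le_normalizer_o2 X).trans (normalizer_le_normalizer_zc _))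
  obtain ⟨L, hL, k, h⟩ := L
  exact vl_le_zc_o2 hX hL h

/-- (b) `O₂(X/C_X(W)) = 1`. -/
theorem mod_core (hX : Loc X T) {D : Subgroup G} (hD : X ≤ normalizer (D : Set G))
    (h : ∀ d ∈ D, ∃ c ∈ centralizer (mod X T : Set G), ∃ t ∈ T, d = c * t) :
    D ≤ centralizer (mod X T : Set G) := by
  set W := mod X T with hW
  set B := bau T with hB
  have hWn : X ≤ normalizer (W : Set G) := le_normalizer_nc _ _
  have hWT : W ≤ T := (mod_le hX).trans ((zc_le _).trans hX.o2_le)
  have hTB : ∀ t ∈ T, ∀ b ∈ B, t * b * t⁻¹ ∈ B := fun t ht b hb =>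
    Four.conj_mem (le_normalizer_bau T ht) hb
  have hact : ∀ c ∈ centralizer (W : Set G), ∀ t ∈ T, ∀ w ∈ W,
      (c * t) * w * (c * t)⁻¹ = t * w * t⁻¹ := by
    intro c hc t ht w hw
    have h1 : t * w * t⁻¹ ∈ W := Four.conj_mem (hWn (hX.TX ht)) hw
    calc (c * t) * w * (c * t)⁻¹ = c * (t * w * t⁻¹) * c⁻¹ := by group
      _ = t * w * t⁻¹ := Four.mem_cent_iff.mp hc _ h1
  -- `D` centralizes the generators
  have hz : ∀ x ∈ zc T, ∀ d ∈ D, d * x * d⁻¹ = x := by
    intro x hx d hd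
    obtain ⟨c, hc, t, ht, rfl⟩ := h d hd
    rw [hact c hc t ht x (zc_le_mod hx)]
    exact Four.conj_eq_iff_comm.mpr (zc_comm hx ht)
  have hv : ∀ L : Subgroup G, ∀ k : ℕ, L ≤ X → IsDBlk B L k → vl B L ≤ centralizer (D : Set G) := by
    intro L k hL hk
    obtain ⟨z, hz⟩ := exists_pt hk
    have hfix : ∀ d ∈ D, d * z * d⁻¹ = z := by
      intro d hd
      obtain ⟨y, hy, h3, h4, h0, -⟩ := gen hk
      have hyz : y * z * y⁻¹ ∈ vl B L := Four.conj_mem (le_normalizer_vl B L hy) hz.1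
      have hvW : vl B L ≤ W := vl_le_mod hL hk
      obtain ⟨c, hc, t, ht, hdct⟩ := h d hd
      refine fix_pt hk hz
        (N := W ⊓ centralizer ((B.map (MulAut.conj y).toMonoidHom : Subgroup G) : Set G))
        (n := y * z * y⁻¹) (t := t) ?_ ⟨hvW hyz, ?_⟩ hyz
        (fun h => hz.2.2 (conj_eq_one_iff.mp h))
        (fun h => hz.2.2 (h3 z hz.1 h)) ?_ (hTB t ht) ?_ ?_
      · rintro w ⟨hw, hwc⟩
        have h5 : y⁻¹ * w * y ∈ W := Four.conj_mem' (hWn (hL hy)) hw
        have h6 : y⁻¹ * w * y ∈ zc B := by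
          rw [hB, zc_bau]
          refine mem_zj_of_comm (hWT h5) (zc_sq (mod_le hX h5)) fun b hb => ?_
          have h7 := mem_centralizer_iff.mp hwc (y * b * y⁻¹) ⟨b, jj_le_bau T hb, rfl⟩
          have h8 : y⁻¹ * ((y * b * y⁻¹) * w) * y = y⁻¹ * (w * (y * b * y⁻¹)) * y := by rw [h7]
          calc b * (y⁻¹ * w * y) = y⁻¹ * ((y * b * y⁻¹) * w) * y := by group
            _ = y⁻¹ * (w * (y * b * y⁻¹)) * y := h8
            _ = y⁻¹ * w * y * b := by group
        have h7 : y * (y⁻¹ * w * y) * y⁻¹ ∈ zl B L :=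
          Four.conj_mem (le_normalizer_zl B L hy) (zc_le_zl h6)
        have e : y * (y⁻¹ * w * y) * y⁻¹ = w := by group
        rwa [e] at h7
      · change y * z * y⁻¹ ∈ centralizer _
        rw [mem_centralizer_iff]
        rintro _ ⟨b, hb, rfl⟩
        have h5 := hz.comm hb
        calc y * b * y⁻¹ * (y * z * y⁻¹) = y * (b * z) * y⁻¹ := by group
          _ = y * (z * b) * y⁻¹ := by rw [h5]
          _ = y * z * y⁻¹ * (y * b * y⁻¹) := by group
      · rintro w ⟨hw, hwc⟩
        obtain ⟨c', hc', t', ht', hd'⟩ := h (y⁻¹ * d * y) (Four.conj_mem' (hD (hL hy)) hd)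
        have hd2 : d = (y * c' * y⁻¹) * (y * t' * y⁻¹) := by
          calc d = y * (y⁻¹ * d * y) * y⁻¹ := by group
            _ = y * (c' * t') * y⁻¹ := by rw [hd']
            _ = _ := by group
        have h5 : y⁻¹ * w * y ∈ W := Four.conj_mem' (hWn (hL hy)) hw
        have h6 : d * w * d⁻¹ = (y * t' * y⁻¹) * w * (y * t' * y⁻¹)⁻¹ := by
          calc d * w * d⁻¹ = y * ((c' * t') * (y⁻¹ * w * y) * (c' * t')⁻¹) * y⁻¹ := by
                rw [hd2]; group
            _ = y * (t' * (y⁻¹ * w * y) * t'⁻¹) * y⁻¹ := by rw [hact c' hc' t' ht' _ h5]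
            _ = _ := by group
        have h7 : y * t' * y⁻¹ ∈ X :=
          X.mul_mem (X.mul_mem (hL hy) (hX.TX ht')) (X.inv_mem (hL hy))
        rw [h6]
        refine ⟨Four.conj_mem (hWn h7) hw, ?_⟩
        change _ ∈ centralizer _
        rw [mem_centralizer_iff]
        rintro _ ⟨b, hb, rfl⟩
        -- `w` commutes with `y (t'⁻¹ b t') y⁻¹`
        have h8 : t'⁻¹ * b * t' ∈ B := by
          have := hTB t'⁻¹ (T.inv_mem ht') b hb
          rwa [inv_inv] at this
        have h9 := mem_centralizer_iff.mp hwc (y * (t'⁻¹ * b * t') * y⁻¹) ⟨_, h8, rfl⟩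
        change (y * b * y⁻¹) * _ = _ * (y * b * y⁻¹)
        calc (y * b * y⁻¹) * ((y * t' * y⁻¹) * w * (y * t' * y⁻¹)⁻¹)
            = (y * t' * y⁻¹) * ((y * (t'⁻¹ * b * t') * y⁻¹) * w) * (y * t' * y⁻¹)⁻¹ := by group
          _ = (y * t' * y⁻¹) * (w * (y * (t'⁻¹ * b * t') * y⁻¹)) * (y * t' * y⁻¹)⁻¹ := by rw [h9]
          _ = _ := by group
      · rw [hdct]; exact hact c hc t ht _ (hvW hyz)
      · rw [hdct]; exact hact c hc t ht _ (hvW hz.1)
    refine vl_le_of hk hz fun l hl => ?_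
    rw [mem_centralizer_iff]
    intro d hd
    refine Four.conj_eq_iff_comm.mp ?_
    have h1 := hfix _ (Four.conj_mem' (hD (hL hl)) hd)
    calc d * (l * z * l⁻¹) * d⁻¹ = l * ((l⁻¹ * d * l) * z * (l⁻¹ * d * l)⁻¹) * l⁻¹ := by group
      _ = _ := by rw [h1]
  have h1 : W ≤ W ⊓ centralizer (D : Set G) := by
    refine nc_le ?_ ?_
    · refine sup_le (le_inf zc_le_mod ?_) (iSup_le fun L => ?_)
      · intro x hx
        rw [mem_centralizer_iff]
        exact fun d hd => Four.conj_eq_iff_comm.mp (hz x hx d hd)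
      · obtain ⟨L, hL, k, hk⟩ := L
        exact le_inf (vl_le_mod hL hk) (hv L k hL hk)
    · intro g hg
      refine VModule.mem_normalizer_of_map_le ?_
      rintro _ ⟨w, ⟨hw, hwc⟩, rfl⟩
      refine ⟨Four.conj_mem (hWn hg) hw, ?_⟩
      change g * w * g⁻¹ ∈ centralizer _
      rw [mem_centralizer_iff]
      intro d hd
      have h2 := mem_centralizer_iff.mp hwc _ (Four.conj_mem' (hD hg) hd)
      calc d * (g * w * g⁻¹) = g * ((g⁻¹ * d * g) * w) * g⁻¹ := by group
        _ = g * (w * (g⁻¹ * d * g)) * g⁻¹ := by rw [h2]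
        _ = _ := by group
  exact le_centralizer_iff.mp (h1.trans inf_le_right)

theorem mod_le_T (hX : Loc X T) : mod X T ≤ T :=
  (mod_le hX).trans ((zc_le _).trans hX.o2_le)

/-- The family of four-groups. -/
theorem exists_gff (hX : Loc X T) (hne : (blocks X T).Nonempty) :
    ∃ (n : ℕ) (V : Fin n → Subgroup G),
      GFF X T (mod X T) ((thompsonSubgroup 2 ↥X).map X.subtype) V := by
  have hf : Fact (Nat.Prime 2) := ⟨Nat.prime_two⟩
  have hinj : Function.Injective X.subtype := X.subtype_injective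
  set W := mod X T with hW
  have hWT : W ≤ T := mod_le_T hX
  have hWX : W ≤ X := hWT.trans hX.TX
  have hWn : X ≤ normalizer (W : Set G) := le_normalizer_nc _ _
  have hWc : ∀ x ∈ W, ∀ y ∈ W, x * y = y * x := fun x hx y hy =>
    (mem_zc.mp (mod_le hX hy)).2.1 x (zc_le _ (mod_le hX hx))
  have hWs : ∀ x ∈ W, x ^ 2 = 1 := fun x hx => zc_sq (mod_le hX hx)
  set T' : Subgroup ↥X := T.subgroupOf X with hT'
  have hTT : T'.map X.subtype = T := by
    rw [hT', subgroupOf_map_subtype, inf_eq_left.2 hX.TX]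
  have hT2 : IsPGroup 2 T' := hX.two.of_equiv (subgroupOfEquivOfLe hX.TX).symm
  have hTi : ¬ 2 ∣ T'.index := hX.syl
  obtain ⟨S, hS⟩ := FFBasic.exists_sylow hT2 hTi
  set W' : Subgroup ↥X := W.subgroupOf X with hW'
  have hWW : W'.map X.subtype = W := by
    rw [hW', subgroupOf_map_subtype, inf_eq_left.2 hWX]
  have hWn' : W'.Normal := normal_subgroupOf_of_le_normalizer hWn
  have hWe : IsElementaryAbelian 2 W' := by
    rw [PLocal.ThompsonJ.isElementaryAbelian_iff]
    exact ⟨fun x hx y hy => Subtype.ext (hWc x hx y hy), fun x hx => Subtype.ext (hWs x hx)⟩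
  have hJn : (thompsonSubgroup 2 ↥X).Normal :=
    haveI := PLocal.ThompsonJ.thompsonSubgroup_characteristic 2 ↥X; inferInstance
  set J : Subgroup G := (thompsonSubgroup 2 ↥X).map X.subtype with hJ
  have hJn' : X ≤ normalizer (J : Set G) := by
    have h1 := (le_normalizer_map_iff X.subtype hinj ⊤ (thompsonSubgroup 2 ↥X)).2
      (by rw [normalizer_eq_top_iff.2 hJn])
    rwa [← MonoidHom.range_eq_map, Subgroup.range_subtype] at h1
  have hjJ : jj T ≤ J := by
    rw [← hTT, jj_map X.subtype hinj]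
    obtain ⟨A, hA, hAS⟩ := PLocal.ThompsonJ.exists_max_le_sylow S
    exact Subgroup.map_mono (PLocal.ThompsonJ.thompsonSubgroupOf_le hA (hS ▸ hAS))
  have hWO : ∀ D : Subgroup ↥X, D.Normal → centralizer (W' : Set ↥X) ≤ D →
      (∃ k : ℕ, (centralizer (W' : Set ↥X)).relIndex D = 2 ^ k) →
      D = centralizer (W' : Set ↥X) := by
    rintro D hD hCD ⟨k, hk⟩
    refine le_antisymm ?_ hCD
    have hCn : (centralizer (W' : Set ↥X)).Normal := inferInstance
    have h1 : ∀ x ∈ D, ∃ k : ℕ, x ^ 2 ^ k ∈ centralizer (W' : Set ↥X) := by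
      intro x hx
      refine ⟨k, ?_⟩
      have h2 := Subgroup.pow_index_mem ((centralizer (W' : Set ↥X)).subgroupOf D) ⟨x, hx⟩
      rw [relIndex] at hk
      rw [hk] at h2
      exact h2
    have h2 := Lib.SylowNormalInf.le_sup_inf S D (centralizer (W' : Set ↥X)) h1
    have h3 : D.map X.subtype ≤ centralizer (W : Set G) := by
      refine mod_core hX ?_ ?_
      · have h4 := (le_normalizer_map_iff X.subtype hinj ⊤ D).2
          (by rw [normalizer_eq_top_iff.2 hD])
        rwa [← MonoidHom.range_eq_map, Subgroup.range_subtype] at h4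
      · rintro _ ⟨d, hd, rfl⟩
        have h4 := h2 hd
        rw [mem_sup_of_normal_left] at h4
        obtain ⟨c, hc, t, ht, hct⟩ := h4
        refine ⟨(c : G), ?_, (t : G), ?_, (congrArg Subtype.val hct).symm⟩
        · rw [mem_centralizer_iff]
          intro w hw
          exact congrArg Subtype.val (mem_centralizer_iff.mp hc ⟨w, hWX hw⟩ hw)
        · have h5 : t ∈ T' := by rw [← hS]; exact ht.1
          exact h5
    rw [← hWW, le_centralizer_map_iff X.subtype hinj] at h3
    exact h3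
  have hnJ : ¬ thompsonSubgroup 2 ↥X ≤ centralizer (W' : Set ↥X) := by
    intro hcon
    have hcon' : J ≤ centralizer (W : Set G) := by
      rw [← hWW]
      exact (le_centralizer_map_iff X.subtype hinj _ _).2 hcon
    obtain ⟨L, hL, k, hk⟩ := hne
    apply hk.not_jj_le
    rw [jj_bau]
    intro b hb
    exact mem_o2_of_cent hk (jj_le_bau T hb) (centralizer_le (vl_le_mod hL hk) (hcon' (hjJ hb)))
  obtain ⟨n, V', hF⟩ := FFMod.exists_ffw hX.solv T' hT2 hTi W' hWn' hWe hWO hnJ
  have hCJ : W ⊓ centralizer (J : Set G) =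
      (W' ⊓ centralizer (thompsonSubgroup 2 ↥X : Set ↥X)).map X.subtype := by
    rw [← centralizer_map_inf X.subtype hinj, hWW]
  refine ⟨n, fun i => (V' i).map X.subtype, ?_⟩
  exact
    { two := hX.two
      TX := hX.TX
      WT := hWT
      Wn := hWn
      Wcomm := hWc
      Wsq := hWs
      zcW := zc_le_mod
      Jn := hJn'
      jJ := hjJ
      card := fun i => by
        rw [card_map_of_injective hinj]; exact hF.card i
      indep := by
        have h1 := (FFData.iSupIndep_map_iff X.subtype hinj _).2 hF.indep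
        convert h1 using 2 with o
        cases o with
        | none => exact hCJ
        | some i => rfl
      sup := by
        rw [hCJ, ← Subgroup.map_iSup, ← Subgroup.map_sup, hF.sup, hWW]
      perm := by
        intro g hg i
        obtain ⟨j, hj⟩ := hF.perm ⟨g, hg⟩ i
        refine ⟨j, ?_⟩
        rw [← hj, Subgroup.map_map, Subgroup.map_map]
        rfl
      nrm := fun i => (le_normalizer_map_iff X.subtype hinj _ _).2 (hF.nrm i)
      t := by
        intro i
        obtain ⟨t, ht, ⟨v, hv, htv⟩, hj⟩ := hF.t i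
        refine ⟨(t : G), ?_, ⟨(v : G), ⟨v, hv, rfl⟩, fun h0 => htv (Subtype.ext h0)⟩, ?_⟩
        · rw [← hTT, jj_map X.subtype hinj]
          exact ⟨t, ht, rfl⟩
        · rintro j hj' _ ⟨w, hw, rfl⟩
          exact congrArg Subtype.val (hj j hj' w hw) }

/-! ### Every block has its four-group in the family -/

section plane

variable {W J L : Subgroup G} {k : ℕ} {ι : Type} {V : ι → Subgroup G}

theorem nV (h : GFF X T W J V) (hL : L ≤ X) (hk : IsDBlk (bau T) L k) (i : ι) :
    L ≤ normalizer (V i : Set G) :=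
  PlaneData.gen hk _ fun _ hl _ hb => h.conj_bV i (hL hl) hb

/-- `L` centralises `C_W(J)`. -/
theorem cC (h : GFF X T W J V) (hL : L ≤ X) (hk : IsDBlk (bau T) L k) :
    L ≤ centralizer ((W ⊓ centralizer (J : Set G) : Subgroup G) : Set G) := by
  refine PlaneData.gen hk _ fun l hl b hb => ?_
  rw [Four.mem_cent_iff]
  intro w hw
  have h1 : l⁻¹ * w * l ∈ W ⊓ centralizer (J : Set G) := by
    have hW := Four.conj_mem' (h.Wn (hL hl)) hw.1
    refine ⟨hW, mem_centralizer_iff.2 fun y hy => ?_⟩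
    have hy' := Four.conj_mem (h.Jn (hL hl)) hy
    have h2 := (mem_centralizer_iff.1 hw.2) _ hy'
    have h3 : l⁻¹ * ((l * y * l⁻¹) * w) * l = l⁻¹ * (w * (l * y * l⁻¹)) * l := by rw [h2]
    calc y * (l⁻¹ * w * l) = l⁻¹ * ((l * y * l⁻¹) * w) * l := by group
      _ = l⁻¹ * (w * (l * y * l⁻¹)) * l := h3
      _ = l⁻¹ * w * l * y := by group
  have h2 : l⁻¹ * w * l ∈ zj T := by
    refine mem_zj_of_comm (h.WT h1.1) (h.Wsq _ h1.1) fun y hy => ?_
    exact (mem_centralizer_iff.1 h1.2) y (h.jJ hy)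
  have h3 : b * (l⁻¹ * w * l) * b⁻¹ = l⁻¹ * w * l := by
    rw [Four.conj_eq_iff_comm]
    exact ((mem_centralizer_iff.1 (bau_le_centralizer T hb)) _ h2).symm
  calc l * b * l⁻¹ * w * (l * b * l⁻¹)⁻¹ = l * (b * (l⁻¹ * w * l) * b⁻¹) * l⁻¹ := by group
    _ = w := by rw [h3]; group

/-- if `L` moves `x i` then `O₂(L) = C_B(V i)`. -/
theorem o2_eq (h : GFF X T W J V) (hL : L ≤ X) (hk : IsDBlk (bau T) L k) {i : ι}
    (hm : ∃ l ∈ L, l * h.x i * l⁻¹ ≠ h.x i) :
    o2 L = bau T ⊓ centralizer (V i : Set G) := by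
  obtain ⟨l, hl, hlx⟩ := hm
  have h1 : o2 L ≤ bau T ⊓ centralizer (V i : Set G) := by
    refine le_inf hk.o2_le fun q hq => ?_
    have hq1 := h.fix_x i (hk.o2_le hq)
    have hq2 : l⁻¹ * q * l ∈ o2 L := Four.conj_mem' (le_normalizer_o2 L hl) hq
    have hq3 := h.fix_x i (hk.o2_le hq2)
    have hq4 : q * (l * h.x i * l⁻¹) * q⁻¹ = l * h.x i * l⁻¹ := by
      calc q * (l * h.x i * l⁻¹) * q⁻¹
          = l * ((l⁻¹ * q * l) * h.x i * (l⁻¹ * q * l)⁻¹) * l⁻¹ := by group
        _ = _ := by rw [hq3]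
    refine Four.cent_of_two (h.card i) (h.Vsq i) (h.xV i)
      (Four.conj_mem (nV h hL hk i hl) (h.xV i)) (h.x1 i) ?_ hlx.symm hq1 hq4
    intro h0
    apply h.x1 i
    calc h.x i = l⁻¹ * (l * h.x i * l⁻¹) * l := by group
      _ = 1 := by rw [h0]; group
  rcases Block.eq_or_eq_of_relIndex_prime Nat.prime_two hk.o2_index h1 inf_le_left with h2 | h2
  · exact h2.symm
  · exfalso
    obtain ⟨t, ht, ⟨v, hv, htv⟩, -⟩ := h.t i
    have h3 : t ∈ bau T ⊓ centralizer (V i : Set G) := by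
      rw [h2]; exact jj_le_bau T ht
    exact htv (Four.mem_cent_iff.1 h3.2 v hv)

/-- `L` moves at most one `x i`. -/
theorem moved_unique (h : GFF X T W J V) (hL : L ≤ X) (hk : IsDBlk (bau T) L k) {i j : ι}
    (hi : ∃ l ∈ L, l * h.x i * l⁻¹ ≠ h.x i) (hj : ∃ l ∈ L, l * h.x j * l⁻¹ ≠ h.x j) : i = j := by
  by_contra hij
  have h1 := o2_eq h hL hk hi
  have h2 := o2_eq h hL hk hj
  obtain ⟨t, ht, ⟨v, hv, htv⟩, hc⟩ := h.t i
  have h3 : t ∈ o2 L := by
    rw [h2]
    refine ⟨jj_le_bau T ht, mem_centralizer_iff.2 fun w hw => ?_⟩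
    exact (hc j (fun h0 => hij h0.symm) w hw).symm
  rw [h1] at h3
  exact htv (Four.mem_cent_iff.1 h3.2 v hv)

/-- `L` moves some `x i`. -/
theorem exists_moved (h : GFF X T W J V) (hL : L ≤ X) (hk : IsDBlk (bau T) L k)
    (hW : vl (bau T) L ≤ W) : ∃ i, ∃ l ∈ L, l * h.x i * l⁻¹ ≠ h.x i := by
  by_contra hcon
  push Not at hcon
  obtain ⟨y, hy, h3, h4, h0, -⟩ := gen hk
  have h1 : W ≤ centralizer ({y} : Set G) := by
    rw [← h.sup]
    refine sup_le ?_ (iSup_le fun i => ?_)
    · intro w hw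
      rw [mem_centralizer_singleton_iff]
      exact (mem_centralizer_iff.mp (cC h hL hk hy) w hw)
    · have h5 : y ∈ normalizer (V i : Set G) := nV h hL hk i hy
      have h6 := Four.sq_mem_cent (h.card i) (h.Vsq i) (h.xV i) (h.x1 i) h5 (hcon i y hy)
      have h7 : y ∈ centralizer (V i : Set G) := mem_of_sq_mem h0 h6
      intro w hw
      rw [mem_centralizer_singleton_iff]
      exact (mem_centralizer_iff.mp h7 w hw)
  obtain ⟨z, hz⟩ := exists_pt hk
  apply hz.2.2
  refine h3 z hz.1 ?_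
  rw [Four.conj_eq_iff_comm]
  exact (mem_centralizer_singleton_iff.mp (h1 (hW hz.1))).symm

/-- the plane moved by `L` is `vl B L`. -/
theorem vl_eq (h : GFF X T W J V) (hL : L ≤ X) (hk : IsDBlk (bau T) L k) {i : ι}
    (hm : ∃ l ∈ L, l * h.x i * l⁻¹ ≠ h.x i) : vl (bau T) L = V i := by
  obtain ⟨l, hl, hlx⟩ := hm
  set x := h.x i with hx
  have hxz : x ∈ zl (bau T) L := by
    apply zc_le_zl
    rw [zc_bau]
    exact h.xz i
  set y := l * x * l⁻¹ with hy
  have hyV : y ∈ V i := Four.conj_mem (nV h hL hk i hl) (h.xV i)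
  have hy1 : y ≠ 1 := by
    intro h0
    apply h.x1 i
    change x = 1
    calc x = l⁻¹ * y * l := by rw [hy]; group
      _ = 1 := by rw [h0]; group
  obtain ⟨t, ht, hmt, -⟩ := h.t i
  have htB := jj_le_bau T ht
  have hxx : x * x = 1 := by rw [← pow_two]; exact h.Vsq i _ (h.xV i)
  have hyy : y * y = 1 := by rw [← pow_two]; exact h.Vsq i _ hyV
  have hxy : x * y = y * x := Four.comm_of_sq (h.Vsq i) (h.xV i) hyV
  have h1 : x * y ∈ vl (bau T) L := by
    have h2 : ⁅x, l⁆ ∈ vl (bau T) L := Subgroup.commutator_mem_commutator hxz hl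
    have h3 : ⁅x, l⁆ = x * y := by
      have hxi : x⁻¹ = x := inv_eq_of_mul_eq_one_left hxx
      rw [commutatorElement_def, hy]
      calc x * l * x⁻¹ * l⁻¹ = x * l * x * l⁻¹ := by rw [hxi]
        _ = x * (l * x * l⁻¹) := by group
    rwa [h3] at h2
  have htx : t * x * t⁻¹ = x := h.fix_x i htB
  have hty : t * y * t⁻¹ = x * y := by
    rcases Four.fix_dichotomy (h.card i) (h.Vsq i) (h.xV i) hyV (h.x1 i) hy1 (Ne.symm hlx)
      (nV h hL hk i (hk.le htB)) htx with h0 | h0
    · exfalso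
      rcases h.eq_x hyV htx h0 hmt with h5 | h5
      · exact hy1 h5
      · exact hlx h5
    · exact h0
  have h4 : y ∈ vl (bau T) L := by
    have h5 := Four.conj_mem (le_normalizer_vl (bau T) L (hk.le htB)) h1
    have h6 : t * (x * y) * t⁻¹ = y := by
      calc t * (x * y) * t⁻¹ = (t * x * t⁻¹) * (t * y * t⁻¹) := by group
        _ = x * (x * y) := by rw [htx, hty]
        _ = (x * x) * y := by group
        _ = y := by rw [hxx, one_mul]
    rwa [h6] at h5
  have h5 : x ∈ vl (bau T) L := by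
    have h6 := mul_mem h1 h4
    have h7 : x * y * y = x := by rw [mul_assoc, hyy, mul_one]
    rwa [h7] at h6
  have h6 : V i ≤ vl (bau T) L := by
    intro v hv
    rcases Four.four (h.card i) (h.Vsq i) (h.xV i) hyV (h.x1 i) hy1 (Ne.symm hlx) v hv with
      h0 | h0 | h0 | h0
    · rw [h0]; exact one_mem _
    · rw [h0]; exact h5
    · rw [h0]; exact h4
    · rw [h0]; exact h1
  exact (Subgroup.eq_of_le_of_card_ge h6 (by rw [h.card i, hk.card_vl])).symm

theorem exists_plane (h : GFF X T W J V) (hL : L ≤ X) (hk : IsDBlk (bau T) L k)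
    (hW : vl (bau T) L ≤ W) :
    ∃ i, vl (bau T) L = V i ∧ o2 L = bau T ⊓ centralizer (V i : Set G) ∧
      IsPt (bau T) L (h.x i) ∧ ∀ j, j ≠ i → ∀ l ∈ L, l * h.x j * l⁻¹ = h.x j := by
  obtain ⟨i, hi⟩ := exists_moved h hL hk hW
  refine ⟨i, vl_eq h hL hk hi, o2_eq h hL hk hi, ⟨?_, ?_, h.x1 i⟩, fun j hj l hl => ?_⟩
  · rw [vl_eq h hL hk hi]; exact h.xV i
  · rw [zc_bau]; exact h.xz i
  · by_contra hcon
    exact hj (moved_unique h hL hk ⟨l, hl, hcon⟩ hi)

end plane

end loc

end Cfsg.Agent.MinSimple.LemX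
end

private theorem dce_a66e333d2502 : _root_.True := by
  try have : _root_.True := by simp only [_root_.Cfsg.Agent.MinSimple.LemX.nc.eq_1]
  exact _root_.True.intro
end

-- part: MinSimple/LemXPerm
section
prune_inst 0x2010400010020000000000000000000010000000000000000040000008000001004500013050000001d20ca0404ac020024c00090028000020008a0000040000040120e2803c1c00110000404800000000000000000000000000000000000000000000000
set_option linter.all false
open scoped Cfsg.Agent.FastGrp

/-!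
# Lemma X, consequences: the blocks in a solvable group `X` of characteristic 2

* `indep`: two blocks `L, L'` with `vl B L ≠ vl B L'`: the point of `L'` lies in `rl B L`;
* `perm`: `X` permutes the planes `vl B L` of its blocks;
* `bau_eq`: `B(T) = B(S)` for a 2-group `T ≥ B(S)`, `S` a Sylow 2-subgroup of `G`.
-/

set_option autoImplicit false

namespace Cfsg.Agent.MinSimple.LemXPerm

open Subgroup Cfsg Cfsg.Agent.ZN Cfsg.Agent.MinSimple Cfsg.Agent.MinSimple.PlanePair
open Cfsg.Agent.MinSimple.DBlkApi Cfsg.Agent.MinSimple.LemX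

universe u

variable {G : Type u} [Group G]

/-! ### General lemmas -/

/-- The Frattini argument, elementwise. -/
theorem exists_frattini [Finite G] {X L T : Subgroup G} (hTX : T ≤ X) (hT : IsPGroup 2 T)
    (hTs : ¬ 2 ∣ T.relIndex X) (hL : X ≤ normalizer (L : Set G)) {x : G} (hx : x ∈ X) :
    ∃ l ∈ L, ∃ n ∈ X ⊓ normalizer ((T ⊓ L : Subgroup G) : Set G), x = l * n := by
  have h1 := Basic.frattini hTX hT hTs hL hx
  have h2 : x ∈ ((L ⊔ (X ⊓ normalizer ((T ⊓ L : Subgroup G) : Set G)) : Subgroup G) : Set G) := h1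
  rw [coe_mul_of_right_le_normalizer_left _ _ (inf_le_left.trans hL)] at h2
  obtain ⟨a, ha, b, hb, hab⟩ := h2
  exact ⟨a, ha, b, hb, hab.symm⟩

/-- `N_X(J(T)) = (N_X(J(T)) ∩ C(Ω₁Z(J(T)))) (N_X(J(T)) ∩ N(B(T)))`, elementwise. -/
theorem exists_mul_of_mem_normalizer_jj [Finite G] {X T : Subgroup G} (hTX : T ≤ X)
    (hT : IsPGroup 2 T) (hTs : ¬ 2 ∣ T.relIndex X) {x : G} (hx : x ∈ X)
    (hxJ : x ∈ normalizer (jj T : Set G)) :
    ∃ c ∈ X ⊓ centralizer (zj T : Set G), ∃ n ∈ X ⊓ normalizer (bau T : Set G), x = c * n := by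
  set N := X ⊓ normalizer (jj T : Set G) with hN
  have hTN : T ≤ N := le_inf hTX (le_normalizer_jj T)
  have hNX : N ≤ X := inf_le_left
  set L := N ⊓ centralizer (zj T : Set G) with hL
  have hNL : N ≤ normalizer (L : Set G) := by
    refine le_trans (le_inf le_normalizer ?_) inf_normalizer_le_normalizer_inf
    exact (inf_le_right.trans (normalizer_jj_le_normalizer_zj T)).trans (DBlkReduce.nc _)
  have hTL : T ⊓ L = bau T := by
    rw [hL, bau, ← inf_assoc, inf_eq_left.2 hTN]
  obtain ⟨c, hc, n, hn, rfl⟩ := exists_frattini hTN hT (DBlkReduce.not_dvd_of_le hTs hTN hNX) hNL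
    (show x ∈ N from ⟨hx, hxJ⟩)
  rw [hTL] at hn
  exact ⟨c, ⟨hNX hc.1, hc.2⟩, n, ⟨hNX hn.1, hn.2⟩, rfl⟩

/-- `X = J(X) (X ∩ C(Ω₁Z(J(T)))) N_X(B(T))`, elementwise, for `J(T) ≤ J ⊴ X`. -/
theorem exists_decomp [Finite G] {X T J : Subgroup G} (hTX : T ≤ X) (hT : IsPGroup 2 T)
    (hTs : ¬ 2 ∣ T.relIndex X) (hJ : X ≤ normalizer (J : Set G)) (hjJ : jj T ≤ J) {x : G}
    (hx : x ∈ X) : ∃ j ∈ J, ∃ c ∈ X ⊓ centralizer (zj T : Set G),
      ∃ n ∈ X ⊓ normalizer (bau T : Set G), x = j * c * n := by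
  obtain ⟨j, hj, m, hm, rfl⟩ := exists_frattini hTX hT hTs hJ hx
  have h1 : jj (T ⊓ J) = jj T := ZN.jj_eq_of_le (le_inf (ZN.jj_le T) hjJ) inf_le_left
  have h2 : m ∈ normalizer (jj T : Set G) := by
    rw [← h1]
    exact ZN.normalizer_le_normalizer_jj _ hm.2
  obtain ⟨c, hc, n, hn, rfl⟩ := exists_mul_of_mem_normalizer_jj hTX hT hTs hm.1 h2
  exact ⟨j, hj, c, hc, n, hn, by group⟩

theorem vl_map_conj {B L : Subgroup G} {n : G} (hn : n ∈ normalizer (B : Set G)) :
    (vl B L).map (MulAut.conj n).toMonoidHom = vl B (L.map (MulAut.conj n).toMonoidHom) := by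
  have h1 := vl_map (MulAut.conj n).toMonoidHom (MulAut.conj n).injective B L
  rw [← h1]
  congr 1
  exact map_conj_eq_of_mem_normalizer hn

theorem isDBlk_conj {B L : Subgroup G} {k : ℕ} {n : G} (h : IsDBlk B L k)
    (hn : n ∈ normalizer (B : Set G)) : IsDBlk B (L.map (MulAut.conj n).toMonoidHom) k := by
  have h1 := h.conj n
  rwa [map_conj_eq_of_mem_normalizer hn] at h1

/-! ### The blocks of `X` -/

section loc

variable [Finite G] {X T : Subgroup G}

/-- Conjugation of a block of `X` by an element of `N_X(B)`. -/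
theorem conj_mem_blocks {L : Subgroup G} (hL : L ∈ blocks X T) {n : G}
    (hn : n ∈ X ⊓ normalizer (bau T : Set G)) :
    L.map (MulAut.conj n).toMonoidHom ∈ blocks X T := by
  obtain ⟨hLX, k, hk⟩ := hL
  refine ⟨?_, k, isDBlk_conj hk hn.2⟩
  rintro _ ⟨l, hl, rfl⟩
  exact mul_mem (mul_mem hn.1 (hLX hl)) (inv_mem hn.1)

/-- **`X` permutes the planes of its blocks.** -/
theorem perm (hX : Loc X T) {L : Subgroup G} (hL : L ∈ blocks X T) {x : G} (hx : x ∈ X) :
    ∃ L' ∈ blocks X T, (vl (bau T) L).map (MulAut.conj x).toMonoidHom = vl (bau T) L' := by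
  obtain ⟨n, V, h⟩ := exists_gff hX ⟨L, hL⟩
  obtain ⟨j, hj, c, hc, m, hm, rfl⟩ := exists_decomp hX.TX hX.two hX.syl h.Jn h.jJ hx
  refine ⟨_, conj_mem_blocks hL hm, ?_⟩
  set L' := L.map (MulAut.conj m).toMonoidHom with hL'
  have hL'b : L' ∈ blocks X T := conj_mem_blocks hL hm
  obtain ⟨hL'X, k, hk⟩ := hL'b
  obtain ⟨i, hi, -, hpt, -⟩ := exists_plane h hL'X hk (vl_le_mod hL'X hk)
  have h1 : (vl (bau T) L).map (MulAut.conj m).toMonoidHom = V i := by
    rw [vl_map_conj hm.2, ← hi]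
  have h2 : (V i).map (MulAut.conj c).toMonoidHom = V i := by
    obtain ⟨i', hi'⟩ := h.perm c hc.1 i
    have h3 : h.x i ∈ V i' := by
      rw [← hi']
      refine ⟨h.x i, h.xV i, ?_⟩
      exact Four.conj_eq_iff_comm.2 ((mem_centralizer_iff.1 hc.2) _ (h.xz i)).symm
    have h4 := h.eq_of_mem (h.xV i) h3 (h.x1 i)
    rw [hi', ← h4]
  have h3 : (V i).map (MulAut.conj j).toMonoidHom = V i :=
    map_conj_eq_of_mem_normalizer (h.nrm i hj)
  calc (vl (bau T) L).map (MulAut.conj (j * c * m)).toMonoidHom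
      = (((vl (bau T) L).map (MulAut.conj m).toMonoidHom).map
          (MulAut.conj c).toMonoidHom).map (MulAut.conj j).toMonoidHom := by
        rw [Subgroup.map_map, Subgroup.map_map]
        congr 1
        ext v
        simp [mul_assoc]
    _ = V i := by rw [h1, h2, h3]
    _ = vl (bau T) L' := hi.symm

/-- **The point of another block lies in `rl`.** -/
theorem indep (hX : Loc X T) {L L' : Subgroup G} (hL : L ∈ blocks X T) (hL' : L' ∈ blocks X T)
    (hne : vl (bau T) L ≠ vl (bau T) L') {z : G} (hz : IsPt (bau T) L' z) :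
    z ∈ rl (bau T) L := by
  obtain ⟨n, V, h⟩ := exists_gff hX ⟨L, hL⟩
  obtain ⟨hLX, k, hk⟩ := hL
  obtain ⟨hL'X, k', hk'⟩ := hL'
  obtain ⟨i, hi, -, -, hfix⟩ := exists_plane h hLX hk (vl_le_mod hLX hk)
  obtain ⟨j, hj, -, hpt, -⟩ := exists_plane h hL'X hk' (vl_le_mod hL'X hk')
  have hij : j ≠ i := by
    rintro rfl
    exact hne (hi.trans hj.symm)
  have hzx : z = h.x j := hpt.unique hk' hz
  rw [hzx]
  refine ⟨hpt.2.1, mem_centralizer_iff.2 fun l hl => ?_⟩
  exact Four.conj_eq_iff_comm.1 (hfix j hij l hl)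

/-- Two blocks of `X` with the same point have the same plane. -/
theorem vl_eq_of_pt (hX : Loc X T) {L L' : Subgroup G} (hL : L ∈ blocks X T)
    (hL' : L' ∈ blocks X T) {z : G} (hz : IsPt (bau T) L z) (hz' : IsPt (bau T) L' z) :
    vl (bau T) L = vl (bau T) L' := by
  by_contra hne
  obtain ⟨-, k, hk⟩ := id hL
  exact pt_notMem_rl hk hz (indep hX hL hL' hne hz')

end loc

/-! ### Fusion of Baumann subgroups -/

/-- A 2-group containing `B(S)`, `S` a Sylow 2-subgroup of `G`, has the same `J`. -/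
theorem jj_eq [Finite G] (S : Sylow 2 G) {T : Subgroup G} (hT : IsPGroup 2 T)
    (hB : jj (S : Subgroup G) ≤ T) : jj T = jj (S : Subgroup G) := by
  haveI : Fact (Nat.Prime 2) := ⟨Nat.prime_two⟩
  obtain ⟨P, hP⟩ := hT.exists_le_sylow
  obtain ⟨g, hg⟩ := MulAction.exists_smul_eq G P S
  have hPS : (P : Subgroup G).map (MulAut.conj g).toMonoidHom = (S : Subgroup G) := by
    rw [← hg, Sylow.coe_subgroup_smul]; rfl
  -- `T ^ g ≤ S`
  have hTS : T.map (MulAut.conj g).toMonoidHom ≤ (S : Subgroup G) := by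
    rw [← hPS]; exact Subgroup.map_mono hP
  -- largest elementary abelian subgroups
  obtain ⟨A, hA⟩ := exists_isMaxIn (S : Subgroup G)
  have hAT : A ≤ T := hA.le_jj.trans hB
  have hmax : IsMaxIn T A := by
    refine ⟨hAT, hA.2.1, fun C hC hC2 => ?_⟩
    have h1 := hA.2.2 (C.map (MulAut.conj g).toMonoidHom) ((Subgroup.map_mono hC).trans hTS)
      (PLocal.ThompsonJ.isElementaryAbelian_map hC2 _)
    rwa [PLocal.ThompsonJ.card_map_injective _ (MulAut.conj g).injective] at h1
  have hle : jj (S : Subgroup G) ≤ jj T := by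
    refine jj_le_of_forall fun C hC => ?_
    refine IsMaxIn.le_jj ⟨hC.le_jj.trans hB, hC.2.1, fun D hD hD2 => ?_⟩
    exact (hmax.2.2 D hD hD2).trans (hC.2.2 A hA.1 hA.2.1)
  have hle2 : (jj T).map (MulAut.conj g).toMonoidHom ≤ jj (S : Subgroup G) := by
    rw [← jj_map _ (MulAut.conj g).injective]
    refine jj_le_of_forall fun C hC => ?_
    refine IsMaxIn.le_jj ⟨hC.1.trans hTS, hC.2.1, fun D hD hD2 => ?_⟩
    have h1 := hA.2.2 D hD hD2
    have h2 := hC.2.2 (A.map (MulAut.conj g).toMonoidHom) (Subgroup.map_mono hAT)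
      (PLocal.ThompsonJ.isElementaryAbelian_map hA.2.1 _)
    rw [PLocal.ThompsonJ.card_map_injective _ (MulAut.conj g).injective] at h2
    exact h1.trans h2
  refine (Subgroup.eq_of_le_of_card_ge hle ?_).symm
  calc Nat.card (jj T) = Nat.card ((jj T).map (MulAut.conj g).toMonoidHom) :=
        (PLocal.ThompsonJ.card_map_injective _ (MulAut.conj g).injective).symm
    _ ≤ Nat.card (jj (S : Subgroup G)) := Subgroup.card_le_of_le hle2

/-- A 2-group containing `B(S)`, `S` a Sylow 2-subgroup of `G`, has the same Baumann subgroup. -/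
theorem bau_eq [Finite G] (S : Sylow 2 G) {T : Subgroup G} (hT : IsPGroup 2 T)
    (hB : bau (S : Subgroup G) ≤ T) : bau T = bau (S : Subgroup G) := by
  haveI : Fact (Nat.Prime 2) := ⟨Nat.prime_two⟩
  have hJ : jj T = jj (S : Subgroup G) := jj_eq S hT ((jj_le_bau _).trans hB)
  have hz : zj T = zj (S : Subgroup G) := by rw [zj_eq_zc, zj_eq_zc, hJ]
  obtain ⟨P, hP⟩ := hT.exists_le_sylow
  obtain ⟨g, hg⟩ := MulAction.exists_smul_eq G P S
  have hPS : (P : Subgroup G).map (MulAut.conj g).toMonoidHom = (S : Subgroup G) := by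
    rw [← hg, Sylow.coe_subgroup_smul]; rfl
  have hJP : jj (P : Subgroup G) = jj (S : Subgroup G) :=
    jj_eq S P.isPGroup' (((jj_le_bau _).trans hB).trans hP)
  have hzP : zj (P : Subgroup G) = zj (S : Subgroup G) := by rw [zj_eq_zc, zj_eq_zc, hJP]
  have h1 : (bau (P : Subgroup G)).map (MulAut.conj g).toMonoidHom = bau (S : Subgroup G) := by
    rw [← bau_map _ (MulAut.conj g).injective, hPS]
  have h2 : bau T ≤ bau (P : Subgroup G) := by
    rw [bau, bau, hz, hzP]
    exact inf_le_inf_right _ hP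
  have h3 : bau (S : Subgroup G) ≤ bau T := by
    refine le_inf hB ?_
    rw [hz]
    exact bau_le_centralizer _
  refine (Subgroup.eq_of_le_of_card_ge h3 ?_).symm
  calc Nat.card (bau T) ≤ Nat.card (bau (P : Subgroup G)) := Subgroup.card_le_of_le h2
    _ = Nat.card ((bau (P : Subgroup G)).map (MulAut.conj g).toMonoidHom) :=
        (PLocal.ThompsonJ.card_map_injective _ (MulAut.conj g).injective).symm
    _ = Nat.card (bau (S : Subgroup G)) := by rw [h1]

end Cfsg.Agent.MinSimple.LemXPerm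
end

-- part: MinSimple/SamePt
section
prune_inst 0x1044005002000000000000000000001000000000000000200000000048000080410001200000000012080000000020034c0000420000002a000800000400000000000200000000010000000000000000000000000000000000000000000000000000000
set_option linter.all false
open scoped Cfsg.Agent.FastGrp

/-!
# Blocks over the Baumann subgroup of a Sylow 2-subgroup: the point determines the line

`G` is a finite group of characteristic 2 type with solvable 2-locals, `S` a Sylow 2-subgroup of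
`G` and `B = bau S`.

* `bau_eq` : `bau T = bau S` for every 2-subgroup `T ≥ bau S` (and `jj_eq`, `zj_eq`,
  `le_normalizer`);
* `loc` : a 2-local over `bau S` is a `LemX.Loc`;
* `vl_eq_of_local` : two blocks over `bau S` with the same point in one 2-local have the same line;
* `vl_eq_of_pt` : two blocks over `bau S` with the same point and commuting lines have the same
  line;
* `le_normalizer_vl'` : a 2-subgroup `T ≥ bau S` centralizing the point normalizes the line.
-/

set_option autoImplicit false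

namespace Cfsg.Agent.MinSimple.SamePt

open Subgroup Cfsg Cfsg.Agent.ZN Cfsg.Agent.MinSimple Cfsg.Agent.MinSimple.PlanePair
open Cfsg.Agent.MinSimple.DBlkApi Cfsg.Agent.MinSimple.LemX

universe u

variable {G : Type u} [Group G] [Finite G]

/-! ### 2-subgroups over `bau S` -/

theorem key_aux (S : Sylow 2 G) {T : Subgroup G} (hT : IsPGroup 2 T)
    (h : bau (S : Subgroup G) ≤ T) :
    jj T = jj (S : Subgroup G) ∧ bau T = bau (S : Subgroup G) := by
  obtain ⟨S', hS'⟩ := hT.exists_le_sylow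
  obtain ⟨g, hg⟩ := MulAction.exists_smul_eq G S S'
  have hg2 : (S' : Subgroup G) = ChoiceBase.cj g (S : Subgroup G) := by
    rw [← hg, Sylow.coe_subgroup_smul]
    rfl
  have h1 : ChoiceBase.key T ≤ ChoiceBase.key (S : Subgroup G) := by
    refine (ChoiceBase.key_mono hS').trans ?_
    rw [hg2, ChoiceBase.key_cj]
  obtain ⟨-, h2, h3, -⟩ := ChoiceBase.of_key_le h h1
  exact ⟨h2, h3⟩

theorem jj_eq (S : Sylow 2 G) {T : Subgroup G} (hT : IsPGroup 2 T)
    (h : bau (S : Subgroup G) ≤ T) : jj T = jj (S : Subgroup G) := (key_aux S hT h).1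

theorem bau_eq (S : Sylow 2 G) {T : Subgroup G} (hT : IsPGroup 2 T)
    (h : bau (S : Subgroup G) ≤ T) : bau T = bau (S : Subgroup G) := (key_aux S hT h).2

theorem zj_eq (S : Sylow 2 G) {T : Subgroup G} (hT : IsPGroup 2 T)
    (h : bau (S : Subgroup G) ≤ T) : zj T = zj (S : Subgroup G) := by
  rw [← zj_bau T, bau_eq S hT h, zj_bau]

/-- A 2-subgroup containing `bau S` normalizes it. -/
theorem le_normalizer (S : Sylow 2 G) {T : Subgroup G} (hT : IsPGroup 2 T)
    (h : bau (S : Subgroup G) ≤ T) : T ≤ normalizer (bau (S : Subgroup G) : Set G) := by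
  rw [← bau_eq S hT h]
  exact Subgroup.le_normalizer.trans (ChoiceBase.normalizer_le_bau T)

variable (hG : IsCharacteristicTwoType G)
  (hL : ∀ N : Subgroup G, IsTwoLocal N → Group.IsSolvable N) (S : Sylow 2 G)

include hG hL in
/-- The normalizer of a nontrivial 2-subgroup is a `Loc` for each of its Sylow 2-subgroups. -/
theorem loc_normalizer {U T : Subgroup G} (hU : IsPGroup 2 U) (hU1 : U ≠ ⊥)
    (hT : ChoiceSit.Syl T (normalizer (U : Set G))) : Loc (normalizer (U : Set G)) T where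
  solv := hL _ ⟨U, hU, hU1, rfl⟩
  char2 := Basic.char2_normalizer hG hU hU1
  two := hT.2.1
  TX := hT.1
  syl := ChoiceSit.syl_not_dvd hT

include hG hL in
/-- A 2-local is a `Loc` for each of its Sylow 2-subgroups. -/
theorem loc {X T : Subgroup G} (hX : IsTwoLocal X) (hT : ChoiceSit.Syl T X) : Loc X T := by
  obtain ⟨U, hU, hU1, rfl⟩ := hX
  exact loc_normalizer hG hL hU hU1 hT

/-- Two blocks over `bau T` inside `X` with the same point have the same line. -/
theorem vl_eq_of_loc {X T L L' : Subgroup G} {k k' : ℕ} {z : G} (hX : Loc X T)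
    (hLX : L ≤ X) (hLX' : L' ≤ X) (h : IsDBlk (bau T) L k) (h' : IsDBlk (bau T) L' k')
    (hz : IsPt (bau T) L z) (hz' : IsPt (bau T) L' z) : vl (bau T) L = vl (bau T) L' := by
  obtain ⟨n, V, hV⟩ := exists_gff hX ⟨L, hLX, k, h⟩
  obtain ⟨i, hi, -, hpi, -⟩ := exists_plane hV hLX h (vl_le_mod hLX h)
  obtain ⟨j, hj, -, hpj, -⟩ := exists_plane hV hLX' h' (vl_le_mod hLX' h')
  have h1 : hV.x i = z := IsPt.unique h hz hpi
  have h2 : hV.x j = z := IsPt.unique h' hz' hpj
  have h3 : i = j := hV.eq_of_mem (hV.xV i) (x := hV.x i)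
    (by rw [h1, ← h2]; exact hV.xV j) (hV.x1 i)
  rw [hi, hj, h3]

include hG hL in
/-- Two blocks over `bau S` with the same point and in one 2-local have the same line. -/
theorem vl_eq_of_local {U L L' : Subgroup G} {k k' : ℕ} {z : G} (hU : IsPGroup 2 U)
    (hU1 : U ≠ ⊥) (hLU : L ≤ normalizer (U : Set G)) (hLU' : L' ≤ normalizer (U : Set G))
    (h : IsDBlk (bau (S : Subgroup G)) L k) (h' : IsDBlk (bau (S : Subgroup G)) L' k')
    (hz : IsPt (bau (S : Subgroup G)) L z) (hz' : IsPt (bau (S : Subgroup G)) L' z) :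
    vl (bau (S : Subgroup G)) L = vl (bau (S : Subgroup G)) L' := by
  obtain ⟨T, hT, hBT⟩ := ChoiceSit.exists_syl h.two (h.le.trans hLU)
  have hb : bau T = bau (S : Subgroup G) := bau_eq S hT.2.1 hBT
  have hX := loc_normalizer hG hL hU hU1 hT
  rw [← hb] at h h' hz hz' ⊢
  exact vl_eq_of_loc hX hLU hLU' h h' hz hz'

include hG hL in
/-- Step (2): two blocks over `bau S` with the same point and commuting lines have the same
line. -/
theorem vl_eq_of_pt {L L' : Subgroup G} {k k' : ℕ} {z : G}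
    (h : IsDBlk (bau (S : Subgroup G)) L k) (h' : IsDBlk (bau (S : Subgroup G)) L' k')
    (hz : IsPt (bau (S : Subgroup G)) L z) (hz' : IsPt (bau (S : Subgroup G)) L' z)
    (hc : ∀ v ∈ vl (bau (S : Subgroup G)) L, ∀ w ∈ vl (bau (S : Subgroup G)) L', v * w = w * v) :
    vl (bau (S : Subgroup G)) L = vl (bau (S : Subgroup G)) L' := by
  by_cases hcore : ∀ N : Subgroup G, N ≤ bau (S : Subgroup G) → L ≤ normalizer (N : Set G) →
      L' ≤ normalizer (N : Set G) → N = ⊥
  · exfalso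
    obtain ⟨u, hu, w, hw, huw⟩ := exists_noncommuting h h' hz hz' hcore
    exact huw (hc u hu w hw)
  · push Not at hcore
    obtain ⟨N, hN, hLN, hLN', hN1⟩ := hcore
    exact vl_eq_of_local hG hL S (h.two.to_le hN) hN1 hLN hLN' h h' hz hz'

/-! ### Conjugation -/

omit [Finite G] in
theorem isPt_conj {B L : Subgroup G} {z : G} (h : IsPt B L z) (g : G) :
    IsPt (B.map (MulAut.conj g).toMonoidHom) (L.map (MulAut.conj g).toMonoidHom)
      (g * z * g⁻¹) := by
  have hf := (MulAut.conj g).injective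
  refine ⟨?_, ?_, ?_⟩
  · rw [vl_map _ hf]
    exact ⟨z, h.1, by simp⟩
  · rw [zc_map _ hf]
    exact ⟨z, h.2.1, by simp⟩
  · intro h0
    apply h.2.2
    have : z = g⁻¹ * (g * z * g⁻¹) * g := by group
    rw [this, h0]
    group

/-- all lines of blocks over `bau S` commute -/
def AllComm (B : Subgroup G) : Prop :=
  ∀ (L L' : Subgroup G) (k k' : ℕ), IsDBlk B L k → IsDBlk B L' k' →
    ∀ v ∈ vl B L, ∀ w ∈ vl B L', v * w = w * v

include hG hL in
/-- Step (3): an element of `N_G(bau S)` centralizing the point of a block over `bau S` normalizes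
its line. -/
theorem mem_normalizer_vl (hc : AllComm (bau (S : Subgroup G))) {L : Subgroup G} {k : ℕ}
    {z g : G} (h : IsDBlk (bau (S : Subgroup G)) L k) (hz : IsPt (bau (S : Subgroup G)) L z)
    (hg : g ∈ normalizer (bau (S : Subgroup G) : Set G)) (hgz : g * z * g⁻¹ = z) :
    g ∈ normalizer (vl (bau (S : Subgroup G)) L : Set G) := by
  set B := bau (S : Subgroup G) with hB
  have hBg : B.map (MulAut.conj g).toMonoidHom = B :=
    ChoiceBase.mem_normalizer_iff_cj.mp hg
  have h' := h.conj g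
  have hz' := isPt_conj hz g
  rw [hBg] at h' hz'
  rw [hgz] at hz'
  have h1 : vl B L = vl B (L.map (MulAut.conj g).toMonoidHom) :=
    vl_eq_of_pt hG hL S h h' hz hz' (hc _ _ _ _ h h')
  have h2 : vl B (L.map (MulAut.conj g).toMonoidHom) =
      (vl B L).map (MulAut.conj g).toMonoidHom := by
    rw [← vl_map _ (MulAut.conj g).injective, hBg]
  rw [ChoiceBase.mem_normalizer_iff_cj]
  exact (h1.trans h2).symm

include hG hL in
/-- Step (3): a 2-subgroup `T ≥ bau S` centralizing the point of a block over `bau S` normalizes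
its line. -/
theorem le_normalizer_vl' (hc : AllComm (bau (S : Subgroup G))) {L T : Subgroup G} {k : ℕ}
    {z : G} (h : IsDBlk (bau (S : Subgroup G)) L k) (hz : IsPt (bau (S : Subgroup G)) L z)
    (hT : IsPGroup 2 T) (hBT : bau (S : Subgroup G) ≤ T) (hTz : T ≤ centralizer ({z} : Set G)) :
    T ≤ normalizer (vl (bau (S : Subgroup G)) L : Set G) := fun t ht =>
  mem_normalizer_vl hG hL S hc h hz (le_normalizer S hT hBT ht) (by
    have := mem_centralizer_singleton_iff.mp (hTz ht)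
    rw [this]
    group)

/-! ### The line is contained in `O₂(C_G(z))` -/

/-- the elements of `X ≤ C_G(z)` centralizing `O₂(X)` modulo `⟨z⟩`. -/
def cmod (X : Subgroup G) (z : G) (hX : X ≤ centralizer ({z} : Set G)) (hz : z * z = 1) :
    Subgroup G where
  carrier := {x | x ∈ X ∧ ∀ q ∈ o2 X, x * q * x⁻¹ = q ∨ x * q * x⁻¹ = z * q}
  one_mem' := ⟨one_mem _, fun q _ => Or.inl (by group)⟩
  mul_mem' := by
    rintro x y ⟨hx, hx'⟩ ⟨hy, hy'⟩
    refine ⟨mul_mem hx hy, fun q hq => ?_⟩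
    have hxz : x * z = z * x := (mem_centralizer_singleton_iff.mp (hX hx))
    have e : x * y * q * (x * y)⁻¹ = x * (y * q * y⁻¹) * x⁻¹ := by group
    rcases hy' q hq with h1 | h1 <;> rcases hx' q hq with h2 | h2
    · left; rw [e, h1, h2]
    · right; rw [e, h1, h2]
    · right
      rw [e, h1]
      calc x * (z * q) * x⁻¹ = (x * z) * q * x⁻¹ := by group
        _ = z * (x * q * x⁻¹) := by rw [hxz]; group
        _ = z * q := by rw [h2]
    · left
      rw [e, h1]
      calc x * (z * q) * x⁻¹ = (x * z) * q * x⁻¹ := by group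
        _ = z * (x * q * x⁻¹) := by rw [hxz]; group
        _ = (z * z) * q := by rw [h2]; group
        _ = q := by rw [hz, one_mul]
  inv_mem' := by
    rintro x ⟨hx, hx'⟩
    refine ⟨inv_mem hx, fun q hq => ?_⟩
    have hxz : x * z = z * x := (mem_centralizer_singleton_iff.mp (hX hx))
    rcases hx' q hq with h1 | h1
    · left
      calc x⁻¹ * q * x⁻¹⁻¹ = x⁻¹ * (x * q * x⁻¹) * x := by rw [h1]; group
        _ = q := by group
    · right
      have h2 : x⁻¹ * (z * q) * x = q := by rw [← h1]; group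
      have h3 : x⁻¹ * z = z * x⁻¹ := by
        calc x⁻¹ * z = x⁻¹ * (z * x) * x⁻¹ := by group
          _ = x⁻¹ * (x * z) * x⁻¹ := by rw [hxz]
          _ = z * x⁻¹ := by group
      have h4 : z * (x⁻¹ * q * x) = q := by
        calc z * (x⁻¹ * q * x) = (z * x⁻¹) * q * x := by group
          _ = (x⁻¹ * z) * q * x := by rw [h3]
          _ = x⁻¹ * (z * q) * x := by group
          _ = q := h2
      calc x⁻¹ * q * x⁻¹⁻¹ = (z * z) * (x⁻¹ * q * x) := by rw [hz]; group
        _ = z * (z * (x⁻¹ * q * x)) := by group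
        _ = z * q := by rw [h4]

/-- If `X ≤ C_G(z)` has characteristic 2, then `C_X(O₂(X)/⟨z⟩) ≤ O₂(X)`. -/
theorem cmod_le {X : Subgroup G} {z : G} (hX : X ≤ centralizer ({z} : Set G)) (hz : z * z = 1)
    (hc : X ⊓ centralizer (o2 X : Set G) ≤ o2 X) : cmod X z hX hz ≤ o2 X := by
  have hcomm : ∀ x ∈ X, x * z = z * x := fun x hx => mem_centralizer_singleton_iff.mp (hX hx)
  refine Cfsg.Agent.ZN.Block.le_o2 ?_ (fun x hx => hx.1) ?_
  · rintro ⟨x, hx, hx'⟩
    have h1 : x * x ∈ o2 X := by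
      refine hc ⟨mul_mem hx hx, mem_centralizer_iff.mpr fun q hq => ?_⟩
      have h2 : x * (x * q * x⁻¹) * x⁻¹ = q := by
        rcases hx' q hq with h3 | h3
        · rw [h3, h3]
        · rw [h3]
          calc x * (z * q) * x⁻¹ = (x * z) * q * x⁻¹ := by group
            _ = z * (x * q * x⁻¹) := by rw [hcomm x hx]; group
            _ = (z * z) * q := by rw [h3]; group
            _ = q := by rw [hz, one_mul]
      calc q * (x * x) = x * (x * q * x⁻¹) * x⁻¹ * (x * x) := by rw [h2]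
        _ = x * x * q := by group
    obtain ⟨n, hn⟩ := VModule.o2_isPGroup X ⟨_, h1⟩
    refine ⟨n + 1, Subtype.ext ?_⟩
    have h3 : (x * x) ^ 2 ^ n = 1 := congrArg Subtype.val hn
    change x ^ 2 ^ (n + 1) = 1
    rw [pow_succ, mul_comm, pow_mul, pow_two]
    exact h3
  · intro g hg
    refine VModule.mem_normalizer_of_map_le ?_
    rintro _ ⟨x, ⟨hx, hx'⟩, rfl⟩
    refine ⟨mul_mem (mul_mem hg hx) (inv_mem hg), fun q hq => ?_⟩
    have hq' : g⁻¹ * q * g ∈ o2 X := Four.conj_mem' (le_normalizer_o2 X hg) hq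
    have e : ((MulAut.conj g).toMonoidHom x) * q * ((MulAut.conj g).toMonoidHom x)⁻¹ =
        g * (x * (g⁻¹ * q * g) * x⁻¹) * g⁻¹ := by
      simp only [MulEquiv.toMonoidHom_eq_coe, MonoidHom.coe_coe, MulAut.conj_apply]
      group
    rcases hx' _ hq' with h1 | h1
    · left
      rw [e, h1]; group
    · right
      rw [e, h1]
      calc g * (z * (g⁻¹ * q * g)) * g⁻¹ = (g * z) * g⁻¹ * q := by group
        _ = z * q := by rw [hcomm g hg]; group

include hG hL in
/-- `V_L ≤ O₂(C_G(z_L))`. -/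
theorem vl_le_o2_centralizer (hc : AllComm (bau (S : Subgroup G))) {L : Subgroup G} {k : ℕ}
    {z : G} (h : IsDBlk (bau (S : Subgroup G)) L k) (hz : IsPt (bau (S : Subgroup G)) L z) :
    vl (bau (S : Subgroup G)) L ≤ o2 (centralizer ({z} : Set G)) := by
  have hBz : bau (S : Subgroup G) ≤ centralizer ({z} : Set G) := fun b hb => by
    rw [mem_centralizer_singleton_iff]
    exact hz.comm hb
  obtain ⟨T, hT, hBT⟩ := ChoiceSit.exists_syl h.two hBz
  have hTn := le_normalizer_vl' hG hL S hc h hz hT.2.1 hBT hT.1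
  have hQT : o2 (centralizer ({z} : Set G)) ≤ T :=
    VModule.o2_le_of_sylow hT.2.1 (ChoiceSit.syl_not_dvd hT)
  refine le_trans ?_ (cmod_le le_rfl hz.mul_self (Basic.char2_centralizer hG hz.sq hz.2.2))
  intro v hv
  refine ⟨hBz (vl_le_B h hv), fun q hq => ?_⟩
  have hqz : q * z * q⁻¹ = z := by
    have := mem_centralizer_singleton_iff.mp (hT.1 (hQT hq))
    rw [this]; group
  by_cases hv1 : v = 1
  · left; rw [hv1]; group
  by_cases hvz : v = z
  · left
    have := mem_centralizer_singleton_iff.mp (hT.1 (hQT hq))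
    rw [hvz, ← this]; group
  have hvv : v * v = 1 := by rw [← pow_two]; exact vl_sq h v hv
  have hvi : v⁻¹ = v := inv_eq_of_mul_eq_one_left hvv
  have hvzc : v * z = z * v := Four.comm_of_sq (vl_sq h) hv hz.1
  rcases Four.fix_dichotomy h.card_vl (vl_sq h) hz.1 hv hz.2.2 hv1 (fun h0 => hvz h0.symm)
    (hTn (hQT hq)) hqz with h1 | h1
  · left
    have h2 : q * v = v * q := by
      calc q * v = (q * v * q⁻¹) * q := by group
        _ = v * q := by rw [h1]
    rw [← h2]; group
  · right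
    have h2 : q * v = z * v * q := by
      calc q * v = (q * v * q⁻¹) * q := by group
        _ = z * v * q := by rw [h1]
    have h3 : v * q = z * (q * v) := by
      calc v * q = (z * z) * v * q := by rw [hz.mul_self, one_mul]
        _ = z * (z * v * q) := by group
        _ = z * (q * v) := by rw [h2]
    calc v * q * v⁻¹ = z * (q * v) * v⁻¹ := by rw [h3]
      _ = z * q := by group

omit [Finite G] in
/-- `N_G(V_L) ∩ N_G(B)` centralizes `z_L`. -/
theorem comm_of_normalizer {B L : Subgroup G} {k : ℕ} {z g : G} (h : IsDBlk B L k)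
    (hz : IsPt B L z) (hg : g ∈ normalizer (B : Set G))
    (hgV : g ∈ normalizer (vl B L : Set G)) : g * z * g⁻¹ = z := by
  have h1 : g * z * g⁻¹ ∈ vl B L := Four.conj_mem hgV hz.1
  have h2 : g * z * g⁻¹ ∈ zc B :=
    Four.conj_mem (ChoiceBase.normalizer_le_of_cj (F := zc)
      (fun g T => zc_map _ (MulAut.conj g).injective T) B hg) hz.2.1
  rcases eq_of_mem h hz h1 h2 with h3 | h3
  · exfalso
    apply hz.2.2
    calc z = g⁻¹ * (g * z * g⁻¹) * g := by group
      _ = 1 := by rw [h3]; group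
  · exact h3

include hG hL in
/-- A Sylow 2-subgroup `T ≥ bau S` of `C_G(z_L)` is a Sylow 2-subgroup of `N_G(V_L)`. -/
theorem syl_normalizer_vl (hc : AllComm (bau (S : Subgroup G))) {L T : Subgroup G} {k : ℕ}
    {z : G} (h : IsDBlk (bau (S : Subgroup G)) L k) (hz : IsPt (bau (S : Subgroup G)) L z)
    (hT : ChoiceSit.Syl T (centralizer ({z} : Set G))) (hBT : bau (S : Subgroup G) ≤ T) :
    ChoiceSit.Syl T (normalizer (vl (bau (S : Subgroup G)) L : Set G)) := by
  refine ⟨le_normalizer_vl' hG hL S hc h hz hT.2.1 hBT hT.1, hT.2.1, fun Q hQ hQ2 hTQ => ?_⟩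
  refine hT.2.2 Q (fun q hq => ?_) hQ2 hTQ
  rw [mem_centralizer_singleton_iff]
  have h1 := comm_of_normalizer h hz (le_normalizer S hQ2 (hBT.trans hTQ) hq) (hQ hq)
  exact Four.conj_eq_iff_comm.mp h1

end Cfsg.Agent.MinSimple.SamePt
end
end
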