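import Mathlib
import Cfsg.Agent.MinSimple.Geo_m3
import Cfsg.Agent.Classification.TitsFin.Defs_m3
import Cfsg.Agent.OddCyclic.GamFar_m3
import Cfsg.Agent.Transfer.ThompsonTransfer
import Cfsg.Agent.Lib.KleinGen
import Cfsg.Agent.Lib.ThompsonPQ
import Cfsg.Agent.OddOrderLocal.FitAux
import Cfsg.Agent.Lib.GenFitting
import Cfsg.Agent.S0044
import Cfsg.Agent.MinSimple.CaseD9_m3
import Cfsg.Agent.MinSimple.VModule
import Cfsg.Agent.Solvable.Glauberman
import Cfsg.Agent.MinSimple.CaseDFiveC_m3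
import Mathlib.Algebra.Group.Subgroup.Basic
import Mathlib.Algebra.Group.End
import Mathlib.Tactic.Group
import Cfsg.Agent.Lib.BenderMaximal
import Mathlib.GroupTheory.PGroup
import Cfsg.Prelude.Def_Local
import Cfsg.Agent.Lib.Cores
import Cfsg.Agent.OddOrderLocal.RankTwoFitting
import Cfsg.Agent.SmallSimple.SylowPrimeCount
import Cfsg.Agent.FastGrp
import Cfsg.Agent.Prune
set_option linter.all false

section
prune_inst 0x7ff0fef98fb88ddfffff7e7ffffddffc38d4dfffffdff90bffe1ebffdfff03672be5fbaf0de4d8feced7e2b410b87813f9ffc23feb6bdc7ffffd5ff45ffbee1fe5ffbf8951d698341ffc6ffffbf37fffffffffffffffffffffffffffffffffffffffffffffff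

-- part: MinSimple/OmPairD
section
prune_inst 0xc0000200532000000000000020003c5282000000002f0001c100020006888d4180400f20b00013000100ae24003c0020001000490010000000000200410001a0000262c01240a00021000000c800000000000000000000000000000000000000000000000
set_option linter.all false
open scoped Cfsg.Agent.FastGrp

-- part: MinSimple/OmPair
section
/-!
# The case (Omega) is empty: the contract between the two halves of the proof

Row 4061 of the blackboard (helper12). `UU` = the conjugates of `U`, `VV` = the conjugates of the `V i`,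
`F` = the conjugates of `z` (the "full" elements of the members of `UU`).

* `Fam k UU VV F`: the conjugation invariant facts (O0), (O1);
* `Vert UU VV F D N Q U0 W z p`: a vertex `d` with its group `D = G_d` (a conjugate of `C1`),
  `Q = Q_d`, `N / Q` the socle of `D / Q` (an elementary abelian `p`-group, `p` odd), a neighbour `U0` of `d`,
  `W = ⟨U0 ^ D⟩`, `z` the central involution (Step 1);
* `Pair`: the noncommuting pair `W, W'` (Step 2).
-/

set_option autoImplicit false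
set_option linter.dupNamespace false

namespace Cfsg.Agent.MinSimple.OmPair

open Subgroup
open Cfsg.Agent.MinSimple.Geo (cj)

universe u

variable {G : Type u} [Group G]

/-- (O0), (O1) of row 4061, in conjugation invariant form. `V` in `frame` is the list of the members of
`VV` in `X`; the elements of `F` in `X` are those all of whose components are nontrivial. -/
structure Fam (k : ℕ) (UU VV : Set (Subgroup G)) (F : Set G) : Prop where
  two_le : 2 ≤ k
  cjU : ∀ g : G, ∀ X ∈ UU, cj g X ∈ UU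
  cjV : ∀ g : G, ∀ V ∈ VV, cj g V ∈ VV
  cjF : ∀ g : G, ∀ x ∈ F, g * x * g⁻¹ ∈ F
  comm : ∀ X ∈ UU, ∀ a ∈ X, ∀ b ∈ X, a * b = b * a
  sq : ∀ X ∈ UU, ∀ a ∈ X, a * a = 1
  card : ∀ V ∈ VV, Nat.card V = 4
  frame : ∀ X ∈ UU, ∃ V : Fin k → Subgroup G, (∀ i, V i ∈ VV) ∧ X = ⨆ i, V i ∧ iSupIndep V ∧
    (∀ Y ∈ VV, Y ≤ X → ∃ i, Y = V i) ∧ ∀ u ∈ X, u ∈ F ↔ ∀ i, u ∉ ⨆ j : {j : Fin k // j ≠ i}, V j
  cent : ∀ X ∈ UU, ∀ u ∈ X, u ≠ 1 → u ∉ F → centralizer ({u} : Set G) ≤ normalizer (X : Set G)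
  inter : ∀ X ∈ UU, ∀ Y ∈ UU, ∀ u ∈ X, u ∈ Y → u ≠ 1 → u ∉ F → X = Y

/-- a vertex `d` of the second kind, with its group `D`, and a neighbour `U0` (Step 1) -/
structure Vert (UU VV : Set (Subgroup G)) (F : Set G) (D N Q U0 W : Subgroup G) (z : G) (p : ℕ) : Prop where
  U0_mem : U0 ∈ UU
  z_mem : z ∈ U0
  z_F : z ∈ F
  D_le : D ≤ centralizer ({z} : Set G)
  stab : ∀ g ∈ normalizer (U0 : Set G), g * z = z * g → g ∈ D
  /-- an element inducing a transvection on `V ≤ U0`, trivial on the other members of `VV` in `U0` -/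
  t : ∃ V ∈ VV, V ≤ U0 ∧ ∃ t ∈ normalizer (U0 : Set G), t * z = z * t ∧ (∃ v ∈ V, t * v ≠ v * t) ∧
    ∀ V' ∈ VV, V' ≤ U0 → V' ≠ V → ∀ v ∈ V', t * v = v * t
  W_ge : ∀ d ∈ D, cj d U0 ≤ W
  W_le : ∀ X : Subgroup G, (∀ d ∈ D, cj d U0 ≤ X) → W ≤ X
  W_comm : ∀ a ∈ W, ∀ b ∈ W, a * b = b * a
  N_le : N ≤ D
  Q_le : Q ≤ N
  N_norm : ∀ d ∈ D, ∀ n ∈ N, d * n * d⁻¹ ∈ N
  Q_norm : ∀ d ∈ D, ∀ q ∈ Q, d * q * d⁻¹ ∈ Q
  prime : p.Prime
  odd : p ≠ 2
  N_comm : ∀ a ∈ N, ∀ b ∈ N, a * b * a⁻¹ * b⁻¹ ∈ Q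
  N_pow : ∀ a ∈ N, a ^ p ∈ Q
  ne : Q ≠ N
  Q_fix : ∀ q ∈ Q, q ∈ normalizer (U0 : Set G)
  N_fix : ∀ n ∈ N, n ∈ normalizer (U0 : Set G) → n ∈ Q
  trans : ∀ d ∈ D, ∃ n ∈ N, ∃ m ∈ D, m ∈ normalizer (U0 : Set G) ∧ d = n * m
  faith : ∀ d ∈ D, (∀ n ∈ N, d * n * d⁻¹ * n⁻¹ ∈ Q) → d ∈ N
  irr : ∀ X : Subgroup G, Q ≤ X → X ≤ N →
    (∀ d ∈ D, d ∈ normalizer (U0 : Set G) → ∀ x ∈ X, d * x * d⁻¹ ∈ X) → X = Q ∨ X = N

/-- the noncommuting pair (Step 2) -/
structure Pair (k : ℕ) (UU VV : Set (Subgroup G)) (F : Set G)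
    (D N Q U0 W : Subgroup G) (z : G) (p : ℕ)
    (D' N' Q' U0' W' : Subgroup G) (z' : G) (p' : ℕ) : Prop where
  fam : Fam k UU VV F
  v : Vert UU VV F D N Q U0 W z p
  v' : Vert UU VV F D' N' Q' U0' W' z' p'
  le : W ≤ D'
  le' : W' ≤ D
  fix : ∀ w ∈ W, ∀ u ∈ U0', w * u = u * w
  fix' : ∀ w ∈ W', ∀ u ∈ U0, w * u = u * w
  ne : ∃ w ∈ W, ∃ w' ∈ W', w * w' ≠ w' * w

/-- the neighbours of the vertex `d`: the members of `Δ` -/
def Nb (D U0 : Subgroup G) : Set (Subgroup G) := {X | ∃ d ∈ D, X = cj d U0}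

/-- a line of `X` (relative to the central involution `z`) -/
structure IsLn (F : Set G) (z : G) (X E : Subgroup G) : Prop where
  le : E ≤ X
  card : Nat.card E = 4
  mem : z ∈ E
  full : ∀ e ∈ E, e ≠ 1 → e ∈ F

/-- a common eigenvector of `W` on `N/Q`, with a nontrivial character -/
def Eig (W N Q : Subgroup G) (y : G) : Prop :=
  y ∈ N ∧ y ∉ Q ∧ (∀ w ∈ W, w * y * w⁻¹ * y⁻¹ ∈ Q ∨ w * y * w⁻¹ * y ∈ Q) ∧ ∃ w ∈ W, w * y * w⁻¹ * y ∈ Q

theorem Pair.symm {k : ℕ} {UU VV : Set (Subgroup G)} {F : Set G}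
    {D N Q U0 W : Subgroup G} {z : G} {p : ℕ} {D' N' Q' U0' W' : Subgroup G} {z' : G} {p' : ℕ}
    (h : Pair k UU VV F D N Q U0 W z p D' N' Q' U0' W' z' p') :
    Pair k UU VV F D' N' Q' U0' W' z' p' D N Q U0 W z p where
  fam := h.fam
  v := h.v'
  v' := h.v
  le := h.le'
  le' := h.le
  fix := h.fix'
  fix' := h.fix
  ne := by
    obtain ⟨w, hw, w', hw', hne⟩ := h.ne
    exact ⟨w', hw', w, hw, fun e => hne e.symm⟩

end Cfsg.Agent.MinSimple.OmPair
end

-- part: MinSimple/OmPairA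
section
/-!
# The case (Omega) is empty, Step 3

Row 4061 of the blackboard (helper12), facts (3.1)-(3.4) about the noncommuting pair `W, W'`.
-/

set_option autoImplicit false
set_option linter.dupNamespace false

namespace Cfsg.Agent.MinSimple.OmPair

open Subgroup
open Cfsg.Agent.ZN.Block (card_mul_relIndex' card_sup_mul_card_inf le_normalizer_of_forall)
open Cfsg.Agent.MinSimple.Geo (cj mem_cj conj_mem_cj cj_cj cj_mono cj_eq_of_mem_normalizer
  mem_normalizer_iff_cj card_cj cj_one)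

universe u

variable {G : Type u} [Group G]

/-! ### the family -/

namespace Fam

variable {k : ℕ} {UU VV : Set (Subgroup G)} {F : Set G}

theorem not_F (h : Fam k UU VV F) {X V : Subgroup G} (hX : X ∈ UU) (hV : V ∈ VV) (hVX : V ≤ X)
    {v : G} (hv : v ∈ V) : v ∉ F := by
  obtain ⟨Vf, hVf, hsup, hind, hall, hF⟩ := h.frame X hX
  obtain ⟨i, rfl⟩ := hall V hV hVX
  intro hvF
  have hj : ∃ j : Fin k, j ≠ i := by
    have := h.two_le
    by_cases hi : i.1 = 0
    · refine ⟨⟨1, by omega⟩, fun e => ?_⟩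
      rw [← e] at hi
      simp at hi
    · exact ⟨⟨0, by omega⟩, fun e => hi (by rw [← e])⟩
  obtain ⟨j, hj⟩ := hj
  exact (hF v (hVX hv)).1 hvF j ((le_iSup (fun l : {l : Fin k // l ≠ j} => Vf l) ⟨i, hj.symm⟩) hv)

theorem V_eq (h : Fam k UU VV F) {X V X' V' : Subgroup G} (hX : X ∈ UU) (hV : V ∈ VV) (hVX : V ≤ X)
    (hX' : X' ∈ UU) (hV' : V' ∈ VV) (hVX' : V' ≤ X') {v : G} (hv : v ∈ V) (hv' : v ∈ V') (h1 : v ≠ 1) :
    V = V' := by
  have hXX : X = X' := h.inter X hX X' hX' v (hVX hv) (hVX' hv') h1 (h.not_F hX hV hVX hv)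
  subst hXX
  obtain ⟨Vf, hVf, hsup, hind, hall, hF⟩ := h.frame X hX
  obtain ⟨i, rfl⟩ := hall V hV hVX
  obtain ⟨j, rfl⟩ := hall V' hV' hVX'
  by_contra hne
  have hij : i ≠ j := fun e => hne (by rw [e])
  exact h1 (Subgroup.disjoint_def.1 (hind.pairwiseDisjoint hij) hv hv')

theorem mem_normalizer_V (h : Fam k UU VV F) {X V : Subgroup G} (hX : X ∈ UU) (hV : V ∈ VV) (hVX : V ≤ X)
    {v g : G} (hv : v ∈ V) (h1 : v ≠ 1) (hg : g * v = v * g) : g ∈ normalizer (V : Set G) := by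
  have hgX : g ∈ normalizer (X : Set G) :=
    h.cent X hX v (hVX hv) h1 (h.not_F hX hV hVX hv) (mem_centralizer_singleton_iff.2 hg)
  rw [mem_normalizer_iff_cj]
  refine h.V_eq hX (h.cjV g V hV) ?_ hX hV hVX (v := v) ?_ hv h1
  · have := cj_mono (g := g) hVX
    rwa [cj_eq_of_mem_normalizer hgX] at this
  · rw [mem_cj]
    have : g⁻¹ * v * g = v := by rw [mul_assoc, ← hg, inv_mul_cancel_left]
    rw [this]; exact hv

theorem V_sq (h : Fam k UU VV F) {X V : Subgroup G} (hX : X ∈ UU) (hVX : V ≤ X) {v : G} (hv : v ∈ V) :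
    v * v = 1 := h.sq X hX v (hVX hv)

theorem comm_of_V (h : Fam k UU VV F) {X : Subgroup G} (hX : X ∈ UU) {w : G}
    (hw : ∀ V ∈ VV, V ≤ X → ∀ v ∈ V, w * v = v * w) : ∀ x ∈ X, w * x = x * w := by
  obtain ⟨Vf, hVf, hsup, hind, hall, hF⟩ := h.frame X hX
  have hle : X ≤ centralizer ({w} : Set G) := by
    rw [hsup]
    refine iSup_le fun i v hv => ?_
    rw [mem_centralizer_singleton_iff]
    exact (hw (Vf i) (hVf i) (by rw [hsup]; exact le_iSup Vf i) v hv).symm
  intro x hx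
  exact (mem_centralizer_singleton_iff.1 (hle hx)).symm

theorem exists_V (h : Fam k UU VV F) {X : Subgroup G} (hX : X ∈ UU) {w : G}
    (hw : ∃ x ∈ X, w * x ≠ x * w) : ∃ V ∈ VV, V ≤ X ∧ ∃ v ∈ V, w * v ≠ v * w := by
  by_contra hcon
  push Not at hcon
  obtain ⟨x, hx, hne⟩ := hw
  exact hne (h.comm_of_V hX hcon x hx)

theorem cj_V (h : Fam k UU VV F) {X V : Subgroup G} (hV : V ∈ VV) (hVX : V ≤ X) {w : G}
    (hw : w ∈ normalizer (X : Set G)) : cj w V ∈ VV ∧ cj w V ≤ X := by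
  refine ⟨h.cjV w V hV, ?_⟩
  have := cj_mono (g := w) hVX
  rwa [cj_eq_of_mem_normalizer hw] at this

/-- an element of `V` which lies in a product of other members of `VV` in `X` is trivial -/
theorem eq_one_of_mem_sup (h : Fam k UU VV F) {X V : Subgroup G} (hX : X ∈ UU) (hV : V ∈ VV) (hVX : V ≤ X)
    {Y : Subgroup G} (hY : ∃ S : Set (Subgroup G), (∀ V' ∈ S, V' ∈ VV ∧ V' ≤ X ∧ V' ≠ V) ∧ Y = sSup S)
    {v : G} (hv : v ∈ V) (hvY : v ∈ Y) : v = 1 := by
  obtain ⟨Vf, hVf, hsup, hind, hall, hF⟩ := h.frame X hX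
  obtain ⟨i, rfl⟩ := hall V hV hVX
  obtain ⟨S, hS, rfl⟩ := hY
  have hle : sSup S ≤ ⨆ (j : Fin k) (_ : j ≠ i), Vf j := by
    refine sSup_le fun V' hV' => ?_
    obtain ⟨h1, h2, h3⟩ := hS V' hV'
    obtain ⟨j, rfl⟩ := hall V' h1 h2
    exact le_iSup₂ (f := fun (j : Fin k) (_ : j ≠ i) => Vf j) j (fun e => h3 (by rw [e]))
  exact Subgroup.disjoint_def.1 (hind i) hv (hle hvY)

end Fam

/-! ### `k = 2` -/

namespace Fam

variable {UU VV : Set (Subgroup G)} {F : Set G}

theorem exists_two (h : Fam 2 UU VV F) {X : Subgroup G} (hX : X ∈ UU) :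
    ∃ A ∈ VV, ∃ B ∈ VV, A ≠ B ∧ X = A ⊔ B ∧ Disjoint A B ∧ (∀ Y ∈ VV, Y ≤ X → Y = A ∨ Y = B) ∧
      ∀ u ∈ X, u ∈ F ↔ u ∉ A ∧ u ∉ B := by
  obtain ⟨Vf, hVf, hsup, hind, hall, hF⟩ := h.frame X hX
  have hdis : Disjoint (Vf 0) (Vf 1) := hind.pairwiseDisjoint (by decide)
  refine ⟨Vf 0, hVf 0, Vf 1, hVf 1, ?_, ?_, hdis, ?_, ?_⟩
  · intro e
    rw [← e, disjoint_self] at hdis
    have := h.card (Vf 0) (hVf 0)
    rw [hdis, Subgroup.card_bot] at this
    omega
  · rw [hsup]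
    refine le_antisymm (iSup_le fun i => ?_) (sup_le (le_iSup Vf 0) (le_iSup Vf 1))
    fin_cases i
    · exact le_sup_left
    · exact le_sup_right
  · intro Y hY hYX
    obtain ⟨i, rfl⟩ := hall Y hY hYX
    fin_cases i
    · exact Or.inl rfl
    · exact Or.inr rfl
  · intro u hu
    have e0 : (⨆ j : {j : Fin 2 // j ≠ 0}, Vf j) = Vf 1 := by
      refine le_antisymm (iSup_le ?_) (le_iSup (fun l : {l : Fin 2 // l ≠ 0} => Vf l) ⟨1, by decide⟩)
      rintro ⟨i, hi⟩
      have : i = 1 := by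
        fin_cases i
        · exact absurd rfl hi
        · rfl
      subst this
      exact le_rfl
    have e1 : (⨆ j : {j : Fin 2 // j ≠ 1}, Vf j) = Vf 0 := by
      refine le_antisymm (iSup_le ?_) (le_iSup (fun l : {l : Fin 2 // l ≠ 1} => Vf l) ⟨0, by decide⟩)
      rintro ⟨i, hi⟩
      have : i = 0 := by
        fin_cases i
        · rfl
        · exact absurd rfl hi
      subst this
      exact le_rfl
    rw [hF u hu, Fin.forall_fin_two, e0, e1]
    exact and_comm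

theorem two (h : Fam 2 UU VV F) {X V V2 : Subgroup G} (hX : X ∈ UU) (hV : V ∈ VV) (hVX : V ≤ X)
    (hV2 : V2 ∈ VV) (hVX2 : V2 ≤ X) (hne : V ≠ V2) :
    (∀ Y ∈ VV, Y ≤ X → Y = V ∨ Y = V2) ∧ X = V ⊔ V2 ∧ Disjoint V V2 ∧
      ∀ u ∈ X, u ∈ F ↔ u ∉ V ∧ u ∉ V2 := by
  obtain ⟨A, hA, B, hB, hAB, hsup, hdis, hall, hF⟩ := h.exists_two hX
  rcases hall V hV hVX with rfl | rfl <;> rcases hall V2 hV2 hVX2 with rfl | rfl
  · exact absurd rfl hne
  · exact ⟨hall, hsup, hdis, hF⟩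
  · exact ⟨fun Y hY hYX => (hall Y hY hYX).symm, by rw [sup_comm]; exact hsup, hdis.symm,
      fun u hu => (hF u hu).trans and_comm⟩
  · exact absurd rfl hne

theorem card_eq (h : Fam 2 UU VV F) {X : Subgroup G} (hX : X ∈ UU) : Nat.card X = 16 := by
  obtain ⟨A, hA, B, hB, hAB, hsup, hdis, hall, hF⟩ := h.exists_two hX
  have hAX : A ≤ X := by rw [hsup]; exact le_sup_left
  have hBX : B ≤ X := by rw [hsup]; exact le_sup_right
  have hn : A ≤ normalizer (B : Set G) := le_normalizer_of_forall fun a ha b hb => by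
    rw [h.comm X hX a (hAX ha) b (hBX hb), mul_inv_cancel_right]; exact hb
  have := card_sup_mul_card_inf hn
  rw [hdis.eq_bot, Subgroup.card_bot, ← hsup, h.card A hA, h.card B hB] at this
  omega

theorem card_le_four [Finite G] (h : Fam 2 UU VV F) {X E : Subgroup G} (hX : X ∈ UU) (hE : E ≤ X)
    (hEF : ∀ e ∈ E, e ≠ 1 → e ∈ F) : Nat.card E ≤ 4 := by
  obtain ⟨A, hA, B, hB, hAB, hsup, hdis, hall, hF⟩ := h.exists_two hX
  have hAX : A ≤ X := by rw [hsup]; exact le_sup_left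
  have hn : E ≤ normalizer (A : Set G) := le_normalizer_of_forall fun a ha b hb => by
    rw [h.comm X hX a (hE ha) b (hAX hb), mul_inv_cancel_right]; exact hb
  have hcard := card_sup_mul_card_inf hn
  have hinf : E ⊓ A = ⊥ := by
    rw [eq_bot_iff]
    intro x hx
    obtain ⟨hx1, hx2⟩ := mem_inf.1 hx
    rw [mem_bot]
    by_contra hx0
    exact ((hF x (hE hx1)).1 (hEF x hx1 hx0)).1 hx2
  have hle : Nat.card (E ⊔ A : Subgroup G) ≤ 16 := by
    rw [← h.card_eq hX]
    exact card_le_of_le (sup_le hE hAX)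
  rw [hinf, Subgroup.card_bot, mul_one, h.card A hA] at hcard
  omega

end Fam

theorem Vert.exists_V {k : ℕ} {UU VV : Set (Subgroup G)} {F : Set G} {D N Q U0 W : Subgroup G} {z : G} {p : ℕ}
    (hv : Vert UU VV F D N Q U0 W z p) (h : Fam k UU VV F) {g : G} (hne : ∃ w ∈ W, w * g ≠ g * w) :
    ∃ X ∈ Nb D U0, ∃ V ∈ VV, V ≤ X ∧ ∃ a ∈ V, a * g ≠ g * a := by
  by_contra hcon
  push Not at hcon
  obtain ⟨w, hw, hwg⟩ := hne
  have hle : W ≤ centralizer ({g} : Set G) := by
    refine hv.W_le _ fun d hd x hx => ?_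
    rw [mem_centralizer_singleton_iff]
    have := h.comm_of_V (h.cjU d U0 hv.U0_mem) (w := g)
      (fun V hV hVX v hv => (hcon (cj d U0) ⟨d, hd, rfl⟩ V hV hVX v hv).symm) x hx
    exact this.symm
  exact hwg (mem_centralizer_singleton_iff.1 (hle hw))

section
variable {k : ℕ} {UU VV : Set (Subgroup G)} {F : Set G}
  {D N Q U0 W : Subgroup G} {z : G} {p : ℕ} {D' N' Q' U0' W' : Subgroup G} {z' : G} {p' : ℕ}

theorem Vert.conj_W (hv : Vert UU VV F D N Q U0 W z p) {d w : G} (hd : d ∈ D) (hw : w ∈ W) :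
    d * w * d⁻¹ ∈ W := by
  have hle : W ≤ cj d⁻¹ W := by
    refine hv.W_le _ fun e he x hx => ?_
    rw [mem_cj]
    apply hv.W_ge (d * e) (mul_mem hd he)
    rw [← cj_cj]
    have := conj_mem_cj (g := d) hx
    simpa only [mul_assoc, _root_.inv_inv, _root_.Subgroup.mem_map, _root_.MulEquiv.toMonoidHom_eq_coe, _root_.MonoidHom.coe_coe, _root_.MulAut.conj_apply, _root_.mul_right_inj, _root_.mul_left_inj, _root_.exists_eq_right] using this
  have := hle hw
  rw [mem_cj, inv_inv] at this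
  exact this

theorem Vert.nb_mem (hv : Vert UU VV F D N Q U0 W z p) (h : Fam k UU VV F) {X : Subgroup G} (hX : X ∈ Nb D U0) :
    X ∈ UU ∧ X ≤ W ∧ z ∈ X := by
  obtain ⟨d, hd, rfl⟩ := hX
  refine ⟨h.cjU d _ hv.U0_mem, hv.W_ge d hd, ?_⟩
  rw [mem_cj]
  have hc : d * z = z * d := mem_centralizer_singleton_iff.1 (hv.D_le hd)
  have : d⁻¹ * z * d = z := by rw [mul_assoc, ← hc, inv_mul_cancel_left]
  rw [this]; exact hv.z_mem

theorem Vert.W_sq (hv : Vert UU VV F D N Q U0 W z p) (h : Fam k UU VV F) {w : G} (hw : w ∈ W) : w * w = 1 := by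
  let K : Subgroup G :=
    { carrier := {x | x ∈ W ∧ x * x = 1}
      mul_mem' := by
        rintro a b ⟨ha, ha1⟩ ⟨hb, hb1⟩
        refine ⟨mul_mem ha hb, ?_⟩
        calc a * b * (a * b) = a * (b * a) * b := by group
          _ = a * (a * b) * b := by rw [hv.W_comm a ha b hb]
          _ = (a * a) * (b * b) := by group
          _ = 1 := by rw [ha1, hb1, one_mul]
      one_mem' := ⟨one_mem _, one_mul _⟩
      inv_mem' := by
        rintro a ⟨ha, ha1⟩
        refine ⟨inv_mem ha, ?_⟩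
        rw [← mul_inv_rev, ha1, inv_one] }
  have hle : W ≤ K := hv.W_le K fun d hd x hx =>
    ⟨hv.W_ge d hd hx, h.sq _ (h.cjU d _ hv.U0_mem) x hx⟩
  exact (hle hw).2

variable (h : Pair k UU VV F D N Q U0 W z p D' N' Q' U0' W' z' p')
include h

/-- (3.0) -/
theorem Pair.comm_mem {w w' : G} (hw : w ∈ W) (hw' : w' ∈ W') :
    w * w' * w⁻¹ * w'⁻¹ ∈ W ∧ w * w' * w⁻¹ * w'⁻¹ ∈ W' := by
  constructor
  · have := h.v.conj_W (h.le' hw') (inv_mem hw)
    have h2 := mul_mem hw this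
    simpa only [mul_assoc] using h2
  · have := h.v'.conj_W (h.le hw) hw'
    exact mul_mem this (inv_mem hw')

theorem Pair.nb_mem {X : Subgroup G} (hX : X ∈ Nb D' U0') : X ∈ UU ∧ X ≤ W' ∧ z' ∈ X := h.v'.nb_mem h.fam hX

/-- a noncommuting pair of members of `VV` -/
theorem Pair.exists_pair {X : Subgroup G} (hX : X ∈ Nb D' U0') (hne : ∃ w ∈ W, ∃ x ∈ X, w * x ≠ x * w) :
    ∃ V' ∈ VV, V' ≤ X ∧ ∃ Y ∈ Nb D U0, ∃ V ∈ VV, V ≤ Y ∧ ∃ a ∈ V, ∃ b ∈ V', a * b ≠ b * a := by
  obtain ⟨w, hw, hx⟩ := hne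
  obtain ⟨V', hV', hVX', b, hb, hb1⟩ := h.fam.exists_V (h.nb_mem hX).1 hx
  obtain ⟨Y, hY, V, hV, hVY, a, ha, ha1⟩ := h.v.exists_V h.fam ⟨w, hw, hb1⟩
  exact ⟨V', hV', hVX', Y, hY, V, hV, hVY, a, ha, b, hb, ha1⟩

/-- (3.1) -/
theorem Pair.comm_of_normalizer_V [Finite G] {X V : Subgroup G} (hX : X ∈ Nb D' U0') (hV : V ∈ VV)
    (hVX : V ≤ X) {w : G} (hw : w ∈ W) (hn : w ∈ normalizer (V : Set G)) : ∀ v ∈ V, w * v = v * w := by
  by_contra hcon
  push Not at hcon
  obtain ⟨v, hv, hne⟩ := hcon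
  obtain ⟨hXU, hXW, hzX⟩ := h.nb_mem hX
  have hWW := h.v.W_comm
  -- the commutator
  set c := w * v * w⁻¹ * v⁻¹ with hc
  have hcV : c ∈ V := mul_mem ((mem_normalizer_iff.1 hn v).1 hv) (inv_mem hv)
  have hcW : c ∈ W := (h.comm_mem hw (hXW (hVX hv))).1
  have hc1 : c ≠ 1 := by
    intro e
    rw [hc, mul_inv_eq_one] at e
    exact hne (mul_inv_eq_iff_eq_mul.1 e)
  have hWV : ∀ w' ∈ W, w' ∈ normalizer (V : Set G) := fun w' hw' =>
    h.fam.mem_normalizer_V hXU hV hVX hcV hc1 (hWW _ hw' _ hcW)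
  -- `V ∩ W` has order at most 2
  have hcard : Nat.card (V ⊓ W : Subgroup G) ≤ 2 := by
    have hdvd : Nat.card (V ⊓ W : Subgroup G) ∣ 4 := by
      rw [← h.fam.card V hV]
      exact card_dvd_of_le inf_le_left
    have hne4 : Nat.card (V ⊓ W : Subgroup G) ≠ 4 := by
      intro e
      have : V ⊓ W = V := eq_of_le_of_card_ge inf_le_left (by rw [e, h.fam.card V hV])
      have hvW : v ∈ W := by
        have : v ∈ V ⊓ W := by rw [this]; exact hv
        exact this.2
      exact hne (hWW _ hw _ hvW)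
    have hle := Nat.le_of_dvd (by norm_num) hdvd
    interval_cases hN : Nat.card (V ⊓ W : Subgroup G) <;> omega
  obtain ⟨Y, hY, V1, hV1, hVY1, a, ha, hane⟩ := h.v.exists_V h.fam ⟨w, hw, hne⟩
  obtain ⟨hYU, hYW, -⟩ := h.v.nb_mem h.fam hY
  -- `v` does not normalise `V1`
  have hvn : v ∉ normalizer (V1 : Set G) := by
    intro hvn
    have haW : a ∈ W := hYW (hVY1 ha)
    have h1 : a * v * a⁻¹ * v⁻¹ ∈ V := mul_mem ((mem_normalizer_iff.1 (hWV a haW) v).1 hv) (inv_mem hv)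
    have h2 : a * v * a⁻¹ * v⁻¹ ∈ V1 := by
      have := mul_mem ha ((mem_normalizer_iff.1 hvn a⁻¹).1 (inv_mem ha))
      simpa only [mul_assoc] using this
    have h3 : a * v * a⁻¹ * v⁻¹ ≠ 1 := by
      intro e
      rw [mul_inv_eq_one] at e
      exact hane (mul_inv_eq_iff_eq_mul.1 e)
    have : V1 = V := h.fam.V_eq hYU hV1 hVY1 hXU hV hVX h2 h1 h3
    subst this
    exact hane (h.fam.comm X hXU a (hVX ha) v (hVX hv))
  -- injectivity
  have hinj : Nat.card V1 ≤ Nat.card (V ⊓ W : Subgroup G) := by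
    refine Nat.card_le_card_of_injective (fun b : V1 => (⟨(b : G) * v * (b : G)⁻¹ * v⁻¹, ?_⟩ : (V ⊓ W : Subgroup G))) ?_
    · have hbW : (b : G) ∈ W := hYW (hVY1 b.2)
      exact mem_inf.2 ⟨mul_mem ((mem_normalizer_iff.1 (hWV b hbW) v).1 hv) (inv_mem hv),
        (h.comm_mem hbW (hXW (hVX hv))).1⟩
    · rintro ⟨b, hb⟩ ⟨b', hb'⟩ e
      have e' : b * v * b⁻¹ * v⁻¹ = b' * v * b'⁻¹ * v⁻¹ := by
        have := congrArg Subtype.val e
        simpa only [_root_.mul_left_inj] using this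
      by_contra hbb
      have hbb' : b'⁻¹ * b ≠ 1 := by
        intro e2
        rw [inv_mul_eq_one] at e2
        exact hbb (by simp [e2])
      have hcomm : v * (b'⁻¹ * b) = (b'⁻¹ * b) * v := by
        have e3 : b * v * b⁻¹ = b' * v * b'⁻¹ := mul_right_cancel e'
        calc v * (b'⁻¹ * b) = b'⁻¹ * (b' * v * b'⁻¹) * b := by group
          _ = b'⁻¹ * (b * v * b⁻¹) * b := by rw [e3]
          _ = (b'⁻¹ * b) * v := by group
      have hm : b'⁻¹ * b ∈ V1 := mul_mem (inv_mem hb') hb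
      exact hvn (h.fam.mem_normalizer_V hYU hV1 hVY1 hm hbb' hcomm)
  rw [h.fam.card V1 hV1] at hinj
  omega

/-- (3.1), second half: a noncommuting pair of members of `VV` has no commuting pair of elements -/
theorem Pair.ne_of_ne [Finite G] {X V X' V' : Subgroup G} (hX : X ∈ Nb D U0) (hV : V ∈ VV) (hVX : V ≤ X)
    (hX' : X' ∈ Nb D' U0') (hV' : V' ∈ VV) (hVX' : V' ≤ X') (hne : ∃ a ∈ V, ∃ b ∈ V', a * b ≠ b * a)
    {a b : G} (ha : a ∈ V) (hb : b ∈ V') (ha1 : a ≠ 1) (hb1 : b ≠ 1) : a * b ≠ b * a := by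
  obtain ⟨a0, ha0, b0, hb0, hne⟩ := hne
  obtain ⟨hXU, hXW, -⟩ := h.v.nb_mem h.fam hX
  obtain ⟨hXU', hXW', -⟩ := h.nb_mem hX'
  have hstep : a * b0 ≠ b0 * a := by
    intro e
    have hn : b0 ∈ normalizer (V : Set G) := h.fam.mem_normalizer_V hXU hV hVX ha ha1 e.symm
    exact hne (h.symm.comm_of_normalizer_V hX hV hVX (hXW' (hVX' hb0)) hn a0 ha0).symm
  intro e
  have hn : a ∈ normalizer (V' : Set G) := h.fam.mem_normalizer_V hXU' hV' hVX' hb hb1 e
  exact hstep (h.comm_of_normalizer_V hX' hV' hVX' (hXW (hVX ha)) hn b0 hb0)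

/-- (3.2) -/
theorem Pair.comm_of_normalizer [Finite G] {X : Subgroup G} (hX : X ∈ Nb D' U0')
    (hn : W ≤ normalizer (X : Set G)) : ∀ w ∈ W, ∀ x ∈ X, w * x = x * w := by
  by_contra hcon
  push Not at hcon
  obtain ⟨V', hV', hVX', Y, hY, V, hV, hVY, a, ha, b, hb, hab⟩ := h.exists_pair hX hcon
  obtain ⟨hXU, hXW, -⟩ := h.nb_mem hX
  obtain ⟨hYU, hYW, -⟩ := h.v.nb_mem h.fam hY
  have hne : ∀ a ∈ V, ∀ b ∈ V', a ≠ 1 → b ≠ 1 → a * b ≠ b * a := fun a' ha' b' hb' h1 h2 =>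
    h.ne_of_ne hY hV hVY hX hV' hVX' ⟨a, ha, b, hb, hab⟩ ha' hb' h1 h2
  -- elements of `V` different from `1` do not normalise `V'`
  have hnn : ∀ c ∈ V, c ≠ 1 → cj c V' ≠ V' := by
    intro c hc hc1 e
    have hb1 : b ≠ 1 := by
      rintro rfl
      exact hab (by simp)
    exact hne c hc b hb hc1 hb1
      (h.comm_of_normalizer_V hX hV' hVX' (hYW (hVY hc)) (mem_normalizer_iff_cj.2 e) b hb)
  have ha1 : a ≠ 1 := by
    rintro rfl
    exact hab (by simp)
  have hb1 : b ≠ 1 := by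
    rintro rfl
    exact hab (by simp)
  -- a second element
  obtain ⟨a2, ha2, ha21, haa⟩ : ∃ a2 ∈ V, a2 ≠ 1 ∧ a2 ≠ a := by
    by_contra hcon2
    push Not at hcon2
    have hle : V ≤ zpowers a := by
      intro x hx
      by_cases hx1 : x = 1
      · rw [hx1]; exact one_mem _
      · rw [hcon2 x hx hx1]; exact mem_zpowers a
    have h2 : orderOf a ≤ 2 := orderOf_le_of_pow_eq_one (by norm_num) (by
      rw [pow_two]; exact h.fam.V_sq hYU hVY ha)
    have h3 : Nat.card V ≤ Nat.card (zpowers a) := card_le_of_le hle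
    rw [h.fam.card V hV, Nat.card_zpowers] at h3
    omega
  have hsq : ∀ c ∈ V, c * c = 1 := fun c hc => h.fam.V_sq hYU hVY hc
  have hac : a2 * a = a * a2 := h.fam.comm Y hYU _ (hVY ha2) _ (hVY ha)
  have hWn : ∀ c ∈ V, c ∈ normalizer (X : Set G) := fun c hc => hn (hYW (hVY hc))
  -- the commutator
  have hcW : a * b * a⁻¹ * b⁻¹ ∈ W := (h.comm_mem (hYW (hVY ha)) (hXW (hVX' hb))).1
  have hc := h.v.W_comm _ (hYW (hVY ha2)) _ hcW
  have hbsup : b ∈ sSup ({cj a V', cj (a2 * a) V', cj a2 V'} : Set (Subgroup G)) := by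
    have e1 : b⁻¹ = (a * b * a⁻¹)⁻¹ * ((a2 * a) * b * (a2 * a)⁻¹) * (a2 * b * a2⁻¹)⁻¹ := by
      have : a2 * (a * b * a⁻¹ * b⁻¹) * a2⁻¹ = a * b * a⁻¹ * b⁻¹ := by
        rw [hc, mul_inv_cancel_right]
      calc b⁻¹ = (a * b * a⁻¹)⁻¹ * (a * b * a⁻¹ * b⁻¹) := by group
        _ = (a * b * a⁻¹)⁻¹ * (a2 * (a * b * a⁻¹ * b⁻¹) * a2⁻¹) := by rw [this]
        _ = _ := by group
    rw [← inv_mem_iff, e1]
    refine mul_mem (mul_mem (inv_mem ?_) ?_) (inv_mem ?_)
    · exact le_sSup (a := cj a V') (by simp) (conj_mem_cj hb)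
    · exact le_sSup (a := cj (a2 * a) V') (by simp) (conj_mem_cj hb)
    · exact le_sSup (a := cj a2 V') (by simp) (conj_mem_cj hb)
  refine hb1 (h.fam.eq_one_of_mem_sup hXU hV' hVX' ⟨_, ?_, rfl⟩ hb hbsup)
  rintro V2 (rfl | rfl | rfl)
  · exact ⟨(h.fam.cj_V hV' hVX' (hWn a ha)).1, (h.fam.cj_V hV' hVX' (hWn a ha)).2, hnn a ha ha1⟩
  · have hm := mul_mem ha2 ha
    exact ⟨(h.fam.cj_V hV' hVX' (hWn _ hm)).1, (h.fam.cj_V hV' hVX' (hWn _ hm)).2, hnn _ hm (by
      intro e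
      apply haa
      have := hsq a ha
      calc a2 = a2 * (a * a) := by rw [this, mul_one]
        _ = (a2 * a) * a := by group
        _ = a := by rw [e, one_mul])⟩
  · exact ⟨(h.fam.cj_V hV' hVX' (hWn a2 ha2)).1, (h.fam.cj_V hV' hVX' (hWn a2 ha2)).2, hnn a2 ha2 ha21⟩

/-- (3.2) -/
theorem Pair.comm_of_nonfull [Finite G] {X : Subgroup G} (hX : X ∈ Nb D' U0') {u : G} (hu : u ∈ X)
    (h1 : u ≠ 1) (hF : u ∉ F) (hc : ∀ w ∈ W, w * u = u * w) : ∀ w ∈ W, ∀ x ∈ X, w * x = x * w := by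
  refine h.comm_of_normalizer hX fun w hw => ?_
  exact h.fam.cent X (h.nb_mem hX).1 u hu h1 hF (mem_centralizer_singleton_iff.2 (hc w hw))

/-- (3.3), `k ≥ 3` -/
theorem Pair.comm_of_three [Finite G] (h3 : 3 ≤ k) {X : Subgroup G} (hX : X ∈ Nb D' U0')
    (hne : ∃ w ∈ W, ∃ x ∈ X, w * x ≠ x * w) {w : G} (hw : w ∈ W) (hn : w ∈ normalizer (X : Set G)) :
    ∀ x ∈ X, w * x = x * w := by
  by_contra hcon
  push Not at hcon
  obtain ⟨hXU, hXW, -⟩ := h.nb_mem hX
  obtain ⟨V, hV, hVX, v, hv, hwv⟩ := h.fam.exists_V hXU hcon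
  have hne2 : cj w V ≠ V := fun e =>
    hwv (h.comm_of_normalizer_V hX hV hVX hw (mem_normalizer_iff_cj.2 e) v hv)
  obtain ⟨hV2, hVX2⟩ := h.fam.cj_V hV hVX hn
  set c := w * v * w⁻¹ * v⁻¹ with hc
  have hcW : c ∈ W := (h.comm_mem hw (hXW (hVX hv))).1
  have hc1 : c ≠ 1 := by
    intro e
    rw [hc, mul_inv_eq_one] at e
    exact hwv (mul_inv_eq_iff_eq_mul.1 e)
  have hcX : c ∈ X := mul_mem (hVX2 (conj_mem_cj hv)) (inv_mem (hVX hv))
  have hcF : c ∉ F := by
    obtain ⟨Vf, hVf, hsup, hind, hall, hF⟩ := h.fam.frame X hXU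
    obtain ⟨i, hi⟩ := hall V hV hVX
    obtain ⟨j, hj⟩ := hall _ hV2 hVX2
    obtain ⟨l, hli, hlj⟩ : ∃ l : Fin k, l ≠ i ∧ l ≠ j := by
      have hcard : ({i, j} : Finset (Fin k)).card < (Finset.univ : Finset (Fin k)).card := by
        rw [Finset.card_univ, Fintype.card_fin]
        exact (Finset.card_le_two).trans_lt (by omega)
      obtain ⟨l, -, hl⟩ := Finset.exists_mem_notMem_of_card_lt_card hcard
      simp only [Finset.mem_insert, Finset.mem_singleton, not_or] at hl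
      exact ⟨l, hl.1, hl.2⟩
    intro hcF
    refine (hF c hcX).1 hcF l ?_
    refine mul_mem ?_ (inv_mem ?_)
    · have : w * v * w⁻¹ ∈ Vf j := by rw [← hj]; exact conj_mem_cj hv
      exact (le_iSup (fun m : {m : Fin k // m ≠ l} => Vf m) ⟨j, hlj.symm⟩) this
    · have : v ∈ Vf i := by rw [← hi]; exact hv
      exact (le_iSup (fun m : {m : Fin k // m ≠ l} => Vf m) ⟨i, hli.symm⟩) this
  obtain ⟨w', hw', x, hx, hw'x⟩ := hne
  exact hw'x (h.comm_of_nonfull hX hcX hc1 hcF (fun w' hw' => h.v.W_comm _ hw' _ hcW) w' hw' x hx)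

/-- (3.4): `|W : C_W(X)| ≥ 4` -/
theorem Pair.four_le [Finite G] {X : Subgroup G} (hX : X ∈ Nb D' U0')
    (hne : ∃ w ∈ W, ∃ x ∈ X, w * x ≠ x * w) :
    4 ≤ (W ⊓ centralizer (X : Set G)).relIndex W := by
  obtain ⟨V', hV', hVX', Y, hY, V, hV, hVY, a, ha, b, hb, hab⟩ := h.exists_pair hX hne
  obtain ⟨hXU, hXW, -⟩ := h.nb_mem hX
  obtain ⟨hYU, hYW, -⟩ := h.v.nb_mem h.fam hY
  have hb1 : b ≠ 1 := by
    rintro rfl
    exact hab (by simp)
  have hdis : ∀ c ∈ V, c ∈ centralizer (X : Set G) → c = 1 := by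
    intro c hc hcX
    by_contra hc1
    exact h.ne_of_ne hY hV hVY hX hV' hVX' ⟨a, ha, b, hb, hab⟩ hc hb hc1 hb1
      (mem_centralizer_iff.1 hcX b (hVX' hb)).symm
  -- counting
  have hmul : Nat.card (W ⊓ centralizer (X : Set G) : Subgroup G) *
      (W ⊓ centralizer (X : Set G)).relIndex W = Nat.card W :=
    card_mul_relIndex' inf_le_left
  have hinj : Nat.card (V × (W ⊓ centralizer (X : Set G) : Subgroup G)) ≤ Nat.card W := by
    refine Nat.card_le_card_of_injective (fun c => (⟨(c.1 : G) * (c.2 : G),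
      mul_mem (hYW (hVY c.1.2)) (mem_inf.1 c.2.2).1⟩ : W)) ?_
    rintro ⟨⟨c, hc⟩, ⟨d, hd⟩⟩ ⟨⟨c', hc'⟩, ⟨d', hd'⟩⟩ e
    have e' : c * d = c' * d' := by
      have := congrArg Subtype.val e
      simpa only [] using this
    have h1 : c'⁻¹ * c = d' * d⁻¹ := by
      rw [inv_mul_eq_iff_eq_mul, ← mul_assoc, ← e', mul_assoc, mul_inv_cancel, mul_one]
    have h2 : c'⁻¹ * c = 1 := by
      refine hdis _ (mul_mem (inv_mem hc') hc) ?_
      rw [h1]
      exact mul_mem (mem_inf.1 hd').2 (inv_mem (mem_inf.1 hd).2)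
    have h3 : c = c' := (inv_mul_eq_one.1 h2).symm
    subst h3
    have h4 : d = d' := mul_left_cancel e'
    subst h4
    rfl
  rw [Nat.card_prod, h.fam.card V hV] at hinj
  have hpos : 0 < Nat.card (W ⊓ centralizer (X : Set G) : Subgroup G) := Nat.card_pos
  rw [← hmul, mul_comm] at hinj
  exact Nat.le_of_mul_le_mul_left hinj hpos

/-- (3.3), `k = 2`: if `w ∈ W_X` is nontrivial on `X` then `C_X(w) = [X, w] = C_X(W)` is a line -/
theorem Pair.line [Finite G] (h2 : k = 2) {X : Subgroup G} (hX : X ∈ Nb D' U0') {w : G} (hw : w ∈ W)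
    (hn : w ∈ normalizer (X : Set G)) (hne : ∃ x ∈ X, w * x ≠ x * w) :
    IsLn F z' X (X ⊓ centralizer (W : Set G)) ∧
      (∀ x ∈ X, w * x * w⁻¹ * x⁻¹ ∈ X ⊓ centralizer (W : Set G)) ∧
      (∀ x ∈ X, w * x = x * w → x ∈ centralizer (W : Set G)) ∧
      (∀ e ∈ X ⊓ centralizer (W : Set G), ∃ x ∈ X, w * x * w⁻¹ * x⁻¹ = e) := by
  subst h2
  obtain ⟨hXU, hXW, hzX⟩ := h.nb_mem hX
  obtain ⟨V, hV, hVX, v, hv, hwv⟩ := h.fam.exists_V hXU hne
  have hv1 : v ≠ 1 := by
    rintro rfl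
    exact hwv (by simp)
  have hVn : w ∉ normalizer (V : Set G) := fun e =>
    hwv (h.comm_of_normalizer_V hX hV hVX hw e v hv)
  have hVc : ∀ x ∈ V, w * x = x * w → x = 1 := by
    intro x hx e
    by_contra hx1
    exact hVn (h.fam.mem_normalizer_V hXU hV hVX hx hx1 e)
  set E := X ⊓ centralizer (W : Set G) with hE
  have hEX : E ≤ X := inf_le_left
  have hfull : ∀ e ∈ E, e ≠ 1 → e ∈ F := by
    intro e he he1
    by_contra heF
    refine hwv (h.comm_of_nonfull hX (mem_inf.1 he).1 he1 heF (fun w' hw' => ?_) w hw v (hVX hv))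
    exact mem_centralizer_iff.1 (mem_inf.1 he).2 w' hw'
  have hcomm : ∀ x ∈ X, w * x * w⁻¹ * x⁻¹ ∈ E := by
    intro x hx
    refine mem_inf.2 ⟨mul_mem ((mem_normalizer_iff.1 hn x).1 hx) (inv_mem hx), ?_⟩
    rw [mem_centralizer_iff]
    intro w' hw'
    exact h.v.W_comm _ hw' _ (h.comm_mem hw (hXW hx)).1
  have hinj : Function.Injective (fun b : V => (⟨w * (b : G) * w⁻¹ * (b : G)⁻¹, hcomm b (hVX b.2)⟩ : E)) := by
    rintro ⟨b, hb⟩ ⟨c, hc⟩ e
    have e' : w * b * w⁻¹ * b⁻¹ = w * c * w⁻¹ * c⁻¹ := by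
      have := congrArg Subtype.val e
      simpa only [] using this
    have hbc : c⁻¹ * b = 1 := by
      refine hVc _ (mul_mem (inv_mem hc) hb) ?_
      have hX1 : w * c * w⁻¹ ∈ X := (mem_normalizer_iff.1 hn c).1 (hVX hc)
      have hX2 : w * b * w⁻¹ ∈ X := (mem_normalizer_iff.1 hn b).1 (hVX hb)
      have e3 : w * b * w⁻¹ = w * c * w⁻¹ * (c⁻¹ * b) := by
        rw [mul_inv_eq_iff_eq_mul] at e'
        rw [e']; group
      calc w * (c⁻¹ * b) = (w * c * w⁻¹)⁻¹ * (w * b * w⁻¹) * w := by group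
        _ = (w * c * w⁻¹)⁻¹ * (w * c * w⁻¹ * (c⁻¹ * b)) * w := by rw [← e3]
        _ = c⁻¹ * b * w := by group
    have : b = c := (inv_mul_eq_one.1 hbc).symm
    subst this
    rfl
  have hcard4 : Nat.card E = 4 := by
    have h1 := Nat.card_le_card_of_injective _ hinj
    rw [h.fam.card V hV] at h1
    have h2 := h.fam.card_le_four hXU hEX hfull
    omega
  have hsurj : Function.Surjective (fun b : V => (⟨w * (b : G) * w⁻¹ * (b : G)⁻¹, hcomm b (hVX b.2)⟩ : E)) := by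
    have hb := (Nat.bijective_iff_injective_and_card (fun b : V =>
      (⟨w * (b : G) * w⁻¹ * (b : G)⁻¹, hcomm b (hVX b.2)⟩ : E))).2 ⟨hinj, by rw [hcard4, h.fam.card V hV]⟩
    exact hb.2
  refine ⟨⟨hEX, hcard4, mem_inf.2 ⟨hzX, ?_⟩, hfull⟩, hcomm, ?_, ?_⟩
  · rw [mem_centralizer_iff]
    intro w' hw'
    exact mem_centralizer_singleton_iff.1 (h.v'.D_le (h.le hw'))
  · intro x hx hwx
    set K := X ⊓ centralizer ({w} : Set G) with hK
    have hEK : E ≤ K := by
      refine le_inf hEX fun e he => ?_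
      rw [mem_centralizer_singleton_iff]
      exact (mem_centralizer_iff.1 (mem_inf.1 he).2 w hw).symm
    have hKV : K ⊓ V = ⊥ := by
      rw [eq_bot_iff]
      intro y hy
      rw [mem_bot]
      obtain ⟨hy1, hy2⟩ := mem_inf.1 hy
      exact hVc y hy2 (mem_centralizer_singleton_iff.1 (mem_inf.1 hy1).2).symm
    have hn2 : K ≤ normalizer (V : Set G) := le_normalizer_of_forall fun a ha b hb => by
      rw [h.fam.comm X hXU a (mem_inf.1 ha).1 b (hVX hb), mul_inv_cancel_right]; exact hb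
    have hcard := card_sup_mul_card_inf hn2
    have hle : Nat.card (K ⊔ V : Subgroup G) ≤ 16 := by
      rw [← h.fam.card_eq hXU]
      exact card_le_of_le (sup_le inf_le_left hVX)
    rw [hKV, Subgroup.card_bot, mul_one, h.fam.card V hV] at hcard
    have hKE : E = K := eq_of_le_of_card_ge hEK (by omega)
    have hxK : x ∈ K := mem_inf.2 ⟨hx, mem_centralizer_singleton_iff.2 hwx.symm⟩
    rw [← hKE] at hxK
    exact (mem_inf.1 hxK).2
  · intro e he
    obtain ⟨b, hb⟩ := hsurj ⟨e, he⟩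
    exact ⟨b, hVX b.2, congrArg Subtype.val hb⟩

/-- (3.4): `C_W(u) = C_W(X)` for nonfull `u ∈ X` -/
theorem Pair.comm_of_comm [Finite G] {X : Subgroup G} (hX : X ∈ Nb D' U0')
    (hne : ∃ w ∈ W, ∃ x ∈ X, w * x ≠ x * w) {u : G} (hu : u ∈ X) (h1 : u ≠ 1) (hF : u ∉ F) {w : G}
    (hw : w ∈ W) (hc : w * u = u * w) : ∀ x ∈ X, w * x = x * w := by
  have hn : w ∈ normalizer (X : Set G) :=
    h.fam.cent X (h.nb_mem hX).1 u hu h1 hF (mem_centralizer_singleton_iff.2 hc)
  by_cases h3 : 3 ≤ k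
  · exact h.comm_of_three h3 hX hne hw hn
  · have h2 : k = 2 := by
      have := h.fam.two_le
      omega
    by_contra hcon
    push Not at hcon
    obtain ⟨-, -, h4, -⟩ := h.line h2 hX hw hn hcon
    obtain ⟨w', hw', x, hx, hne⟩ := hne
    exact hne (h.comm_of_nonfull hX hu h1 hF
      (fun w' hw' => mem_centralizer_iff.1 (h4 u hu hc) w' hw') w' hw' x hx)

/-- (3.3), `k = 2`: the product of two elements of `W_X` which are nontrivial on `X` is trivial on `X` -/
theorem Pair.mul_comm_of_two [Finite G] (h2 : k = 2) {X : Subgroup G} (hX : X ∈ Nb D' U0') {w w' : G}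
    (hw : w ∈ W) (hw' : w' ∈ W) (hn : w ∈ normalizer (X : Set G)) (hn' : w' ∈ normalizer (X : Set G))
    (hne : ∃ x ∈ X, w * x ≠ x * w) (hne' : ∃ x ∈ X, w' * x ≠ x * w') :
    ∀ x ∈ X, w * w' * x = x * (w * w') := by
  subst h2
  obtain ⟨hXU, hXW, hzX⟩ := h.nb_mem hX
  -- an element normalising some `V` centralises `X`
  have key : ∀ g ∈ W, g ∈ normalizer (X : Set G) → (∃ V ∈ VV, V ≤ X ∧ cj g V = V) →
      ∀ x ∈ X, g * x = x * g := by
    rintro g hg hgn ⟨V, hV, hVX, hgV⟩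
    by_contra hcon
    push Not at hcon
    obtain ⟨V2, hV2, hVX2, v, hv, hgv⟩ := h.fam.exists_V hXU hcon
    have hgV2 : cj g V2 ≠ V2 := fun e =>
      hgv (h.comm_of_normalizer_V hX hV2 hVX2 hg (mem_normalizer_iff_cj.2 e) v hv)
    have hVV2 : V ≠ V2 := by
      rintro rfl
      exact hgV2 hgV
    obtain ⟨hall, -, -, -⟩ := h.fam.two hXU hV hVX hV2 hVX2 hVV2
    obtain ⟨h3, h4⟩ := h.fam.cj_V hV2 hVX2 hgn
    rcases hall _ h3 h4 with e | e
    · -- cj g V2 = V = cj g V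
      apply hVV2
      rw [← hgV] at e
      have := congrArg (cj g⁻¹) e
      rwa [cj_cj, cj_cj, inv_mul_cancel, cj_one, cj_one, eq_comm] at this
    · exact hgV2 e
  obtain ⟨A, hA, B, hB, hAB, hsup, hdis, hall, hF⟩ := h.fam.exists_two hXU
  have hAX : A ≤ X := by rw [hsup]; exact le_sup_left
  have hBX : B ≤ X := by rw [hsup]; exact le_sup_right
  have hsw : ∀ g ∈ W, g ∈ normalizer (X : Set G) → (∃ x ∈ X, g * x ≠ x * g) → cj g A = B ∧ cj g B = A := by
    intro g hg hgn hgne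
    obtain ⟨x, hx, hgx⟩ := hgne
    constructor
    · rcases hall _ (h.fam.cj_V hA hAX hgn).1 (h.fam.cj_V hA hAX hgn).2 with e | e
      · exact absurd (key g hg hgn ⟨A, hA, hAX, e⟩ x hx) hgx
      · exact e
    · rcases hall _ (h.fam.cj_V hB hBX hgn).1 (h.fam.cj_V hB hBX hgn).2 with e | e
      · exact e
      · exact absurd (key g hg hgn ⟨B, hB, hBX, e⟩ x hx) hgx
  refine key (w * w') (mul_mem hw hw') (mul_mem hn hn') ⟨A, hA, hAX, ?_⟩
  rw [← cj_cj, (hsw w' hw' hn' hne').1, (hsw w hw hn hne).2]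

/-- (3.3), `k = 2`: `|W_X : C_W(X)| ≤ 2` -/
theorem Pair.relIndex_le_two [Finite G] (h2 : k = 2) {X : Subgroup G} (hX : X ∈ Nb D' U0') :
    (W ⊓ centralizer (X : Set G)).relIndex (W ⊓ normalizer (X : Set G)) ≤ 2 := by
  have hle : W ⊓ centralizer (X : Set G) ≤ W ⊓ normalizer (X : Set G) :=
    inf_le_inf_left _ (centralizer_le_normalizer _)
  by_cases hall : ∀ w ∈ W ⊓ normalizer (X : Set G), w ∈ W ⊓ centralizer (X : Set G)
  · rw [relIndex_eq_one.2 hall]
    omega
  · push Not at hall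
    obtain ⟨w, hw, hwC⟩ := hall
    obtain ⟨hw1, hw2⟩ := mem_inf.1 hw
    have hnc : ∀ g ∈ W, g ∉ W ⊓ centralizer (X : Set G) → ∃ x ∈ X, g * x ≠ x * g := by
      intro g hg hgC
      by_contra hcon
      push Not at hcon
      exact hgC (mem_inf.2 ⟨hg, mem_centralizer_iff.2 fun x hx => (hcon x hx).symm⟩)
    refine le_of_eq ?_
    rw [relIndex, index_eq_two_iff]
    refine ⟨⟨w, hw⟩, ?_⟩
    rintro ⟨b, hb⟩
    obtain ⟨hb1, hb2⟩ := mem_inf.1 hb
    simp only [mem_subgroupOf, coe_mul]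
    by_cases hbC : b ∈ W ⊓ centralizer (X : Set G)
    · refine Or.inr ⟨hbC, fun hbw => hwC ?_⟩
      have := mul_mem (inv_mem hbC) hbw
      simpa only [_root_.Subgroup.mem_inf, _root_.inv_mul_cancel_left] using this
    · refine Or.inl ⟨mem_inf.2 ⟨mul_mem hb1 hw1, mem_centralizer_iff.2 fun x hx => ?_⟩, hbC⟩
      exact (h.mul_comm_of_two h2 hX hb1 hw1 hb2 hw2 (hnc b hb1 hbC) (hnc w hw1 hwC) x hx).symm

end

end Cfsg.Agent.MinSimple.OmPair
end

-- part: MinSimple/OmLines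
section
/-!
# The lines of a member of `UU` when `k = 2`

`X = A × B` with four-groups `A, B`; the full elements of `X` are those outside `A` and `B`. A line through the
full element `z` is a subgroup of order four of `X` containing `z` all of whose nontrivial elements are full.
There are exactly two lines, they meet in `⟨z⟩` and generate a subgroup of index two of `X`.
-/

set_option autoImplicit false
set_option linter.dupNamespace false

namespace Cfsg.Agent.MinSimple.OmPair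

open Subgroup
open Cfsg.Agent.ZN.Block (card_mul_relIndex' card_sup_mul_card_inf le_normalizer_of_forall)
open Cfsg.Agent.MinSimple.Geo (cj mem_cj conj_mem_cj cj_cj cj_mono cj_eq_of_mem_normalizer
  mem_normalizer_iff_cj card_cj cj_one)

universe u

variable {G : Type u} [Group G]

/-! ### four-groups -/

/-- the subgroup generated by two commuting involutions -/
def four (x y : G) (hx : x * x = 1) (hy : y * y = 1) (hxy : x * y = y * x) : Subgroup G where
  carrier := {g | g = 1 ∨ g = x ∨ g = y ∨ g = x * y}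
  one_mem' := Or.inl rfl
  mul_mem' := by
    have h1 : ∀ g, x * (x * g) = g := fun g => by rw [← mul_assoc, hx, one_mul]
    have h2 : ∀ g, y * (y * g) = g := fun g => by rw [← mul_assoc, hy, one_mul]
    have h3 : ∀ g, y * (x * g) = x * (y * g) := fun g => by rw [← mul_assoc, ← hxy, mul_assoc]
    intro a b ha hb
    simp only [Set.mem_ofPred_eq] at ha hb ⊢
    rcases ha with rfl | rfl | rfl | rfl <;> rcases hb with rfl | rfl | rfl | rfl <;>
      simp only [mul_assoc, hx, hy, h1, h3, ← hxy, _root_.mul_one, _root_.true_or, _root_.one_mul, _root_.left_eq_mul, _root_.or_true, _root_.right_eq_mul, _root_.mul_eq_left, _root_.mul_eq_right]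
  inv_mem' := by
    have h1 : x⁻¹ = x := inv_eq_of_mul_eq_one_left hx
    have h2 : y⁻¹ = y := inv_eq_of_mul_eq_one_left hy
    intro a ha
    simp only [Set.mem_ofPred_eq] at ha ⊢
    rcases ha with rfl | rfl | rfl | rfl
    · simp
    · simp [h1]
    · simp [h2]
    · simp only [h1, h2, hxy, _root_.mul_inv_rev, _root_.mul_eq_right, _root_.mul_eq_left, _root_.or_true]

theorem mem_four {x y : G} {hx : x * x = 1} {hy : y * y = 1} {hxy : x * y = y * x} {g : G} :
    g ∈ four x y hx hy hxy ↔ g = 1 ∨ g = x ∨ g = y ∨ g = x * y := Iff.rfl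

theorem card_four {x y : G} (hx : x * x = 1) (hy : y * y = 1) (hxy : x * y = y * x)
    (hx1 : x ≠ 1) (hy1 : y ≠ 1) (hne : x ≠ y) : Nat.card (four x y hx hy hxy) = 4 := by
  have e : ((four x y hx hy hxy : Subgroup G) : Set G) = {1, x, y, x * y} := by
    ext g
    simp only [SetLike.mem_coe, mem_four, Set.mem_insert_iff, Set.mem_singleton_iff]
  have hc : Nat.card (four x y hx hy hxy) = Set.ncard ((four x y hx hy hxy : Subgroup G) : Set G) := rfl
  have h3 : x * y ≠ 1 := by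
    intro h
    apply hne
    calc x = x * (y * y) := by rw [hy, mul_one]
      _ = y := by rw [← mul_assoc, h, one_mul]
  rw [hc, e, Set.ncard_insert_of_notMem, Set.ncard_insert_of_notMem, Set.ncard_pair]
  · intro h
    exact hx1 (by simpa using h)
  · simp only [Set.mem_insert_iff, Set.mem_singleton_iff, not_or]
    refine ⟨hne, fun h => hy1 (by simpa using h)⟩
  · simp only [Set.mem_insert_iff, Set.mem_singleton_iff, not_or]
    exact ⟨hx1.symm, hy1.symm, h3.symm⟩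

theorem eq_four [Finite G] {E : Subgroup G} (hE : Nat.card E = 4) {x y : G} (hx : x * x = 1) (hy : y * y = 1)
    (hxy : x * y = y * x) (hxE : x ∈ E) (hyE : y ∈ E)
    (hx1 : x ≠ 1) (hy1 : y ≠ 1) (hne : x ≠ y) : E = four x y hx hy hxy := by
  refine (Subgroup.eq_of_le_of_card_ge (fun g hg => ?_) ?_).symm
  · rcases mem_four.1 hg with rfl | rfl | rfl | rfl
    · exact one_mem _
    · exact hxE
    · exact hyE
    · exact mul_mem hxE hyE
  · rw [hE, card_four hx hy hxy hx1 hy1 hne]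

/-- the elements of a four-group -/
theorem four_cases [Finite G] {E : Subgroup G} (hE : Nat.card E = 4) {x y : G} (hx : x * x = 1) (hy : y * y = 1)
    (hxy : x * y = y * x) (hxE : x ∈ E) (hyE : y ∈ E)
    (hx1 : x ≠ 1) (hy1 : y ≠ 1) (hne : x ≠ y) {g : G} (hg : g ∈ E) : g = 1 ∨ g = x ∨ g = y ∨ g = x * y := by
  rw [eq_four hE hx hy hxy hxE hyE hx1 hy1 hne] at hg
  exact mem_four.1 hg

theorem exists_mem_ne [Finite G] {E : Subgroup G} (h4 : 2 < Nat.card E) (a b : G) : ∃ e ∈ E, e ≠ a ∧ e ≠ b := by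
  by_contra hcon
  push Not at hcon
  have hsub : (E : Set G) ⊆ {a, b} := by
    intro e he
    by_cases h : e = a
    · exact Or.inl h
    · exact Or.inr (hcon e he h)
  have h1 := Set.ncard_le_ncard hsub (Set.toFinite _)
  have h2 : Set.ncard ({a, b} : Set G) ≤ 2 := (Set.ncard_insert_le a {b}).trans (by rw [Set.ncard_singleton])
  have h3 : Nat.card E = Set.ncard (E : Set G) := rfl
  omega

/-! ### components -/

theorem exists_comp {A B : Subgroup G} (hc : ∀ a ∈ A, ∀ b ∈ B, a * b = b * a) {x : G} (hx : x ∈ A ⊔ B) :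
    ∃ a ∈ A, ∃ b ∈ B, x = a * b := by
  have hn : A ≤ normalizer (B : Set G) := le_normalizer_of_forall fun a ha b hb => by
    rw [hc a ha b hb, mul_inv_cancel_right]; exact hb
  have : x ∈ ((A ⊔ B : Subgroup G) : Set G) := hx
  rw [Subgroup.coe_mul_of_left_le_normalizer_right A B hn] at this
  obtain ⟨a, ha, b, hb, rfl⟩ := Set.mem_mul.1 this
  exact ⟨a, ha, b, hb, rfl⟩

theorem comp_unique {A B : Subgroup G} (hd : Disjoint A B) {a a' b b' : G} (ha : a ∈ A) (ha' : a' ∈ A)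
    (hb : b ∈ B) (hb' : b' ∈ B) (h : a * b = a' * b') : a = a' ∧ b = b' := by
  have h1 : a'⁻¹ * a = b' * b⁻¹ := by
    rw [eq_mul_inv_iff_mul_eq, mul_assoc, h, inv_mul_cancel_left]
  have h2 : a'⁻¹ * a = 1 :=
    Subgroup.disjoint_def.1 hd (mul_mem (inv_mem ha') ha) (by rw [h1]; exact mul_mem hb' (inv_mem hb))
  have h3 : a = a' := (inv_mul_eq_one.1 h2).symm
  subst h3
  exact ⟨rfl, mul_left_cancel h⟩

section lines
variable [Finite G] {UU VV : Set (Subgroup G)} {F : Set G}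

omit [Finite G] in
theorem Fam.ne_one (h : Fam 2 UU VV F) {X : Subgroup G} (hX : X ∈ UU) {z : G} (hzF : z ∈ F) : z ≠ 1 := by
  obtain ⟨A, hA, B, hB, hAB, hsup, hdis, hall, hF⟩ := h.exists_two hX
  rintro rfl
  exact h.not_F hX hA (by rw [hsup]; exact le_sup_left) (one_mem A) hzF

/-- a line through `z` is `⟨z, e⟩` for every further element `e` -/
theorem IsLn.eq_four {X E : Subgroup G} {z : G} (hz1 : z ≠ 1)
    (hE : IsLn F z X E) {e : G} (he : e ∈ E) (he1 : e ≠ 1) (hez : e ≠ z)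
    (h1 : z * z = 1) (h2 : e * e = 1) (h3 : z * e = e * z) :
    E = four z e h1 h2 h3 :=
  OmPair.eq_four hE.card h1 h2 h3 hE.mem he hz1 he1 hez.symm

theorem IsLn.exists_mem {X E : Subgroup G} {z : G} (hE : IsLn F z X E) :
    ∃ e ∈ E, e ≠ 1 ∧ e ≠ z := exists_mem_ne (by rw [hE.card]; omega) 1 z

omit [Finite G] in
theorem IsLn.cj (h : Fam 2 UU VV F) {X E : Subgroup G} {z : G} (hE : IsLn F z X E) {s : G}
    (hs : s ∈ normalizer (X : Set G)) (hz : s * z = z * s) : IsLn F z X (cj s E) where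
  le := by
    have := cj_mono (g := s) hE.le
    rwa [cj_eq_of_mem_normalizer hs] at this
  card := by rw [card_cj, hE.card]
  mem := by
    rw [mem_cj]
    have : s⁻¹ * z * s = z := by rw [mul_assoc, ← hz, inv_mul_cancel_left]
    rw [this]; exact hE.mem
  full := by
    rintro _ ⟨e, he, rfl⟩ h1
    refine h.cjF s e (hE.full e he ?_)
    rintro rfl
    exact h1 (map_one _)

/-- an element fixing `z` and a line: its commutators with the line are in `⟨z⟩` -/
theorem IsLn.comm (h : Fam 2 UU VV F) {X E : Subgroup G} (hX : X ∈ UU) {z : G} (hE : IsLn F z X E) (hz1 : z ≠ 1)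
    {s : G} (hz : s * z = z * s) (hsE : s ∈ normalizer (E : Set G)) {e : G} (he : e ∈ E) :
    s * e * s⁻¹ * e⁻¹ = 1 ∨ s * e * s⁻¹ * e⁻¹ = z := by
  by_cases he1 : e = 1
  · left; subst he1; group
  by_cases hez : e = z
  · left; subst hez
    rw [hz]; group
  have hz2 : z * z = 1 := h.sq X hX z (hE.le hE.mem)
  have he2 : e * e = 1 := h.sq X hX e (hE.le he)
  have hc : z * e = e * z := h.comm X hX z (hE.le hE.mem) e (hE.le he)
  have hmem : s * e * s⁻¹ ∈ E := (mem_normalizer_iff.1 hsE e).1 he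
  have hsz : s * z * s⁻¹ = z := by rw [hz, mul_inv_cancel_right]
  rcases four_cases hE.card hz2 he2 hc hE.mem he hz1 he1 (Ne.symm hez) hmem with h0 | h0 | h0 | h0
  · exact absurd (by rwa [conj_eq_one_iff] at h0) he1
  · refine absurd ?_ hez
    have h4 : s * e * s⁻¹ = s * z * s⁻¹ := by rw [h0, hsz]
    exact mul_left_cancel (mul_right_cancel h4)
  · left; rw [h0, mul_inv_cancel]
  · right; rw [h0, mul_inv_cancel_right]

/-- two different lines: all lines -/
theorem Fam.exists_lines (h : Fam 2 UU VV F) {X : Subgroup G} (hX : X ∈ UU) {z : G} (hz : z ∈ X) (hzF : z ∈ F) :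
    ∃ E₁ E₂ : Subgroup G, IsLn F z X E₁ ∧ IsLn F z X E₂ ∧ E₁ ≠ E₂ ∧
      ∀ E, IsLn F z X E → E = E₁ ∨ E = E₂ := by
  obtain ⟨A, hA, B, hB, hAB, hsup, hdis, hall, hF⟩ := h.exists_two hX
  have hAX : A ≤ X := by rw [hsup]; exact le_sup_left
  have hBX : B ≤ X := by rw [hsup]; exact le_sup_right
  have hcomm : ∀ a ∈ A, ∀ b ∈ B, a * b = b * a := fun a ha b hb => h.comm X hX a (hAX ha) b (hBX hb)
  have hz1 : z ≠ 1 := h.ne_one hX hzF
  have hfull : ∀ a ∈ A, ∀ b ∈ B, a ≠ 1 → b ≠ 1 → a * b ∈ F := by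
    intro a ha b hb ha1 hb1
    rw [hF _ (mul_mem (hAX ha) (hBX hb))]
    constructor
    · intro hm
      exact hb1 (Subgroup.disjoint_def.1 hdis ((Subgroup.mul_mem_cancel_left A ha).1 hm) hb)
    · intro hm
      exact ha1 (Subgroup.disjoint_def.1 hdis ha ((Subgroup.mul_mem_cancel_right B hb).1 hm))
  have hfull' : ∀ a ∈ A, ∀ b ∈ B, a * b ∈ F → a ≠ 1 ∧ b ≠ 1 := by
    intro a ha b hb hab
    obtain ⟨h1, h2⟩ := (hF _ (mul_mem (hAX ha) (hBX hb))).1 hab
    constructor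
    · rintro rfl
      exact h2 (by rwa [one_mul])
    · rintro rfl
      exact h1 (by rwa [mul_one])
  have hzz : z * z = 1 := h.sq X hX z hz
  obtain ⟨a0, ha0, b0, hb0, rfl⟩ := exists_comp hcomm (by rw [← hsup]; exact hz)
  obtain ⟨ha01, hb01⟩ := hfull' a0 ha0 b0 hb0 hzF
  obtain ⟨a1, ha1, ha11, ha10⟩ := exists_mem_ne (E := A) (by rw [h.card A hA]; omega) 1 a0
  obtain ⟨b1, hb1, hb11, hb10⟩ := exists_mem_ne (E := B) (by rw [h.card B hB]; omega) 1 b0
  have hsq : ∀ x ∈ X, x * x = 1 := h.sq X hX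
  have hmul : ∀ a ∈ A, ∀ b ∈ B, a0 * b0 * (a * b) = (a0 * a) * (b0 * b) := by
    intro a ha b hb
    rw [mul_assoc, ← mul_assoc b0 a b, ← hcomm a ha b0 hb0]
    simp only [mul_assoc]
  have hinv : ∀ x ∈ X, ∀ y ∈ X, x * y = 1 → x = y := by
    intro x hx y hy hxy
    calc x = x * (y * y) := by rw [hsq y hy, mul_one]
      _ = y := by rw [← mul_assoc, hxy, one_mul]
  have key : ∀ a ∈ A, ∀ b ∈ B, a ≠ 1 → a ≠ a0 → b ≠ 1 → b ≠ b0 →
      ∃ (h1 : (a * b) * (a * b) = 1) (h2 : a0 * b0 * (a * b) = a * b * (a0 * b0)),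
        IsLn F (a0 * b0) X (four (a0 * b0) (a * b) hzz h1 h2) := by
    intro a ha b hb h1 h2 h3 h4
    have hab : a * b ∈ X := mul_mem (hAX ha) (hBX hb)
    have e1 := hsq _ hab
    have e2 := h.comm X hX _ hz _ hab
    have hne1 : a * b ≠ 1 := h.ne_one hX (hfull a ha b hb h1 h3)
    refine ⟨e1, e2, ?_, ?_, ?_, ?_⟩
    · intro g hg
      rcases mem_four.1 hg with rfl | rfl | rfl | rfl
      · exact one_mem _
      · exact hz
      · exact hab
      · exact mul_mem hz hab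
    · refine card_four hzz e1 e2 hz1 hne1 ?_
      intro e
      exact h2 (comp_unique hdis ha0 ha hb0 hb e).1.symm
    · exact mem_four.2 (Or.inr (Or.inl rfl))
    · intro e he he1
      rcases mem_four.1 he with rfl | rfl | rfl | rfl
      · exact absurd rfl he1
      · exact hzF
      · exact hfull a ha b hb h1 h3
      · rw [hmul a ha b hb]
        refine hfull _ (mul_mem ha0 ha) _ (mul_mem hb0 hb) ?_ ?_
        · intro e
          exact h2 (hinv _ (hAX ha0) _ (hAX ha) e).symm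
        · intro e
          exact h4 (hinv _ (hBX hb0) _ (hBX hb) e).symm
  have hb01' : b0 * b1 ≠ 1 := fun e => hb10 (hinv _ (hBX hb0) _ (hBX hb1) e).symm
  have hb01'' : b0 * b1 ≠ b0 := fun e => hb11 (by simpa using e)
  obtain ⟨p1, p2, hE1⟩ := key a1 ha1 b1 hb1 ha11 ha10 hb11 hb10
  obtain ⟨q1, q2, hE2⟩ := key a1 ha1 (b0 * b1) (mul_mem hb0 hb1) ha11 ha10 hb01' hb01''
  refine ⟨_, _, hE1, hE2, ?_, ?_⟩
  · intro heq
    have hm : a1 * (b0 * b1) ∈ four (a0 * b0) (a1 * (b0 * b1)) hzz q1 q2 := mem_four.2 (Or.inr (Or.inr (Or.inl rfl)))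
    rw [← heq] at hm
    rcases mem_four.1 hm with e | e | e | e
    · have := comp_unique hdis ha1 (one_mem A) (mul_mem hb0 hb1) (one_mem B) (by rw [e, one_mul])
      exact ha11 this.1
    · exact ha10 (comp_unique hdis ha1 ha0 (mul_mem hb0 hb1) hb0 e).1
    · have := (comp_unique hdis ha1 ha1 (mul_mem hb0 hb1) hb1 e).2
      exact hb01 (by simpa using this)
    · rw [hmul a1 ha1 b1 hb1] at e
      have := (comp_unique hdis ha1 (mul_mem ha0 ha1) (mul_mem hb0 hb1) (mul_mem hb0 hb1) e).1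
      exact ha01 (by simpa using this)
  · intro E hE
    obtain ⟨e, he, he1, hez⟩ := hE.exists_mem
    obtain ⟨a, ha, b, hb, rfl⟩ := exists_comp hcomm (by rw [← hsup]; exact hE.le he)
    obtain ⟨ha', hb'⟩ := hfull' a ha b hb (hE.full _ he he1)
    have hmem : a0 * b0 * (a * b) ∈ E := mul_mem hE.mem he
    have hne : a0 * b0 * (a * b) ≠ 1 := by
      intro e
      exact hez (hinv _ hz _ (hE.le he) e).symm
    have hfl := hE.full _ hmem hne
    rw [hmul a ha b hb] at hfl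
    obtain ⟨haa, hbb⟩ := hfull' _ (mul_mem ha0 ha) _ (mul_mem hb0 hb) hfl
    have haa' : a ≠ a0 := by
      rintro rfl
      exact haa (hsq _ (hAX ha))
    have hbb' : b ≠ b0 := by
      rintro rfl
      exact hbb (hsq _ (hBX hb))
    have hA4 : a = a1 ∨ a = a0 * a1 := by
      rcases four_cases (h.card A hA) (hsq _ (hAX ha0)) (hsq _ (hAX ha1)) (h.comm X hX _ (hAX ha0) _ (hAX ha1))
        ha0 ha1 ha01 ha11 ha10.symm ha with e | e | e | e
      · exact absurd e ha'
      · exact absurd e haa'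
      · exact Or.inl e
      · exact Or.inr e
    have hB4 : b = b1 ∨ b = b0 * b1 := by
      rcases four_cases (h.card B hB) (hsq _ (hBX hb0)) (hsq _ (hBX hb1)) (h.comm X hX _ (hBX hb0) _ (hBX hb1))
        hb0 hb1 hb01 hb11 hb10.symm hb with e | e | e | e
      · exact absurd e hb'
      · exact absurd e hbb'
      · exact Or.inl e
      · exact Or.inr e
    have hfin : (a1 * b1 ∈ E) ∨ (a1 * (b0 * b1) ∈ E) := by
      have e1 : a0 * (a0 * a1) = a1 := by rw [← mul_assoc, hsq _ (hAX ha0), one_mul]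
      have e2 : b0 * (b0 * b1) = b1 := by rw [← mul_assoc, hsq _ (hBX hb0), one_mul]
      rcases hA4 with rfl | rfl <;> rcases hB4 with rfl | rfl
      · exact Or.inl he
      · exact Or.inr he
      · right
        rw [hmul _ (mul_mem ha0 ha1) _ hb1, e1] at hmem
        exact hmem
      · left
        rw [hmul _ (mul_mem ha0 ha1) _ (mul_mem hb0 hb1), e1, e2] at hmem
        exact hmem
    rcases hfin with hm | hm
    · left
      refine OmPair.eq_four hE.card _ _ _ hE.mem hm hz1 ?_ ?_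
      · exact h.ne_one hX (hfull _ ha1 _ hb1 ha11 hb11)
      · intro e
        exact ha10 (comp_unique hdis ha0 ha1 hb0 hb1 e).1.symm
    · right
      refine OmPair.eq_four hE.card _ _ _ hE.mem hm hz1 ?_ ?_
      · exact h.ne_one hX (hfull _ ha1 _ (mul_mem hb0 hb1) ha11 hb01')
      · intro e
        exact ha10 (comp_unique hdis ha0 ha1 hb0 (mul_mem hb0 hb1) e).1.symm

theorem Fam.line_cases (h : Fam 2 UU VV F) {X : Subgroup G} (hX : X ∈ UU) {z : G} (hzF : z ∈ F)
    {E₁ E₂ E : Subgroup G} (h1 : IsLn F z X E₁) (h2 : IsLn F z X E₂) (hne : E₁ ≠ E₂) (hE : IsLn F z X E) :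
    E = E₁ ∨ E = E₂ := by
  obtain ⟨K₁, K₂, k1, k2, kne, kall⟩ := h.exists_lines hX (h1.le h1.mem) hzF
  rcases kall _ h1 with rfl | rfl <;> rcases kall _ h2 with rfl | rfl
  · exact absurd rfl hne
  · exact kall _ hE
  · exact (kall _ hE).symm
  · exact absurd rfl hne

theorem Fam.line_inf (h : Fam 2 UU VV F) {X : Subgroup G} (hX : X ∈ UU) {z : G} (hzF : z ∈ F)
    {E₁ E₂ : Subgroup G} (h1 : IsLn F z X E₁) (h2 : IsLn F z X E₂) (hne : E₁ ≠ E₂) {x : G} (hx1 : x ∈ E₁)
    (hx2 : x ∈ E₂) : x = 1 ∨ x = z := by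
  by_contra hcon
  rw [not_or] at hcon
  have hz1 := h.ne_one hX hzF
  have hzX := h1.le h1.mem
  have hxX := h1.le hx1
  apply hne
  rw [h1.eq_four hz1 hx1 hcon.1 hcon.2 (h.sq X hX z hzX) (h.sq X hX x hxX) (h.comm X hX z hzX x hxX),
    ← h2.eq_four hz1 hx2 hcon.1 hcon.2]

theorem Fam.line_sup (h : Fam 2 UU VV F) {X : Subgroup G} (hX : X ∈ UU) {z : G} (hzF : z ∈ F)
    {E₁ E₂ : Subgroup G} (h1 : IsLn F z X E₁) (h2 : IsLn F z X E₂) (hne : E₁ ≠ E₂) :
    Nat.card (E₁ ⊔ E₂ : Subgroup G) = 8 ∧ (∃ u ∈ E₁ ⊔ E₂, u ≠ 1 ∧ u ∉ F) ∧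
      ∀ x ∈ X, ∀ y ∈ X, x ∉ E₁ ⊔ E₂ → y ∉ E₁ ⊔ E₂ → x * y ∈ E₁ ⊔ E₂ := by
  have hz1 := h.ne_one hX hzF
  have hn : E₁ ≤ normalizer (E₂ : Set G) := le_normalizer_of_forall fun a ha b hb => by
    rw [h.comm X hX a (h1.le ha) b (h2.le hb), mul_inv_cancel_right]; exact hb
  have hcard := card_sup_mul_card_inf hn
  have hset : ((E₁ ⊓ E₂ : Subgroup G) : Set G) = {1, z} := by
    ext x
    simp only [SetLike.mem_coe, mem_inf, Set.mem_insert_iff, Set.mem_singleton_iff]
    constructor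
    · rintro ⟨hx1, hx2⟩
      exact h.line_inf hX hzF h1 h2 hne hx1 hx2
    · rintro (rfl | rfl)
      · exact ⟨one_mem _, one_mem _⟩
      · exact ⟨h1.mem, h2.mem⟩
  have hinf : Nat.card (E₁ ⊓ E₂ : Subgroup G) = 2 := by
    have hc : Nat.card (E₁ ⊓ E₂ : Subgroup G) = Set.ncard ((E₁ ⊓ E₂ : Subgroup G) : Set G) := rfl
    rw [hc, hset, Set.ncard_pair hz1.symm]
  rw [hinf, h1.card, h2.card] at hcard
  have h8 : Nat.card (E₁ ⊔ E₂ : Subgroup G) = 8 := by omega
  have hle : E₁ ⊔ E₂ ≤ X := sup_le h1.le h2.le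
  refine ⟨h8, ?_, ?_⟩
  · by_contra hcon
    push Not at hcon
    have := h.card_le_four hX hle hcon
    omega
  · intro x hx y hy hx' hy'
    have hrel := card_mul_relIndex' hle
    rw [h8, h.card_eq hX] at hrel
    have h2' : ((E₁ ⊔ E₂ : Subgroup G).subgroupOf X).index = 2 := by
      change (E₁ ⊔ E₂ : Subgroup G).relIndex X = 2
      omega
    have := (Subgroup.mul_mem_iff_of_index_two h2' (a := ⟨x, hx⟩) (b := ⟨y, hy⟩)).2
      (by simp [mem_subgroupOf, hx', hy'])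
    exact this

omit [Finite G] in
/-- the action of an element whose commutators lie in a line is determined by the line -/
theorem Fam.unique_act (h : Fam 2 UU VV F) {X : Subgroup G} (hX : X ∈ UU) {z : G} {E : Subgroup G}
    (hE : IsLn F z X E) {s s' : G} (hs : s ∈ normalizer (X : Set G)) (hs' : s' ∈ normalizer (X : Set G))
    (hc : ∀ x ∈ X, s * x * s⁻¹ * x⁻¹ ∈ E) (hc' : ∀ x ∈ X, s' * x * s'⁻¹ * x⁻¹ ∈ E)
    (hn : ∃ x ∈ X, s * x ≠ x * s) (hn' : ∃ x ∈ X, s' * x ≠ x * s') :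
    ∀ x ∈ X, s * x * s⁻¹ = s' * x * s'⁻¹ := by
  obtain ⟨A, hA, B, hB, hAB, hsup, hdis, hall, hF⟩ := h.exists_two hX
  have hAX : A ≤ X := by rw [hsup]; exact le_sup_left
  have hBX : B ≤ X := by rw [hsup]; exact le_sup_right
  have hcomm : ∀ a ∈ A, ∀ b ∈ B, a * b = b * a := fun a ha b hb => h.comm X hX a (hAX ha) b (hBX hb)
  have hEV : ∀ V ∈ VV, V ≤ X → ∀ e ∈ E, e ∈ V → e = 1 := by
    intro V hV hVX e he heV
    by_contra he1
    exact h.not_F hX hV hVX heV (hE.full e he he1)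
  have key : ∀ s : G, s ∈ normalizer (X : Set G) → (∀ x ∈ X, s * x * s⁻¹ * x⁻¹ ∈ E) →
      (∃ x ∈ X, s * x ≠ x * s) → Geo.cj s A = B ∧ Geo.cj s B = A := by
    intro s hs hc hn
    -- a member of `VV` fixed by `s` is centralised by `s`
    have hcen : ∀ V ∈ VV, V ≤ X → Geo.cj s V = V → ∀ v ∈ V, s * v = v * s := by
      intro V hV hVX hfix v hv
      have hm : s * v * s⁻¹ ∈ V := by
        have := conj_mem_cj (g := s) hv
        rwa [hfix] at this
      have := hEV V hV hVX _ (hc v (hVX hv)) (mul_mem hm (inv_mem hv))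
      calc s * v = (s * v * s⁻¹ * v⁻¹) * (v * s) := by group
        _ = v * s := by rw [this, one_mul]
    have hAcj := h.cj_V hA hAX hs
    have hBcj := h.cj_V hB hBX hs
    have hne : Geo.cj s A ≠ Geo.cj s B := by
      intro e
      apply hAB
      rw [← Geo.cj_inv_cj s A, e, Geo.cj_inv_cj]
    rcases hall _ hAcj.1 hAcj.2 with hA1 | hA1 <;> rcases hall _ hBcj.1 hBcj.2 with hB1 | hB1
    · exact absurd (hA1.trans hB1.symm) hne
    · exfalso
      obtain ⟨x, hx, hxn⟩ := hn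
      refine hxn (h.comm_of_V hX (w := s) ?_ x hx)
      intro V hV hVX
      rcases hall V hV hVX with rfl | rfl
      · exact hcen _ hA hAX hA1
      · exact hcen _ hB hBX hB1
    · exact ⟨hA1, hB1⟩
    · exact absurd (hA1.trans hB1.symm) hne
  obtain ⟨k1, k2⟩ := key s hs hc hn
  obtain ⟨k1', k2'⟩ := key s' hs' hc' hn'
  have hV : ∀ V ∈ VV, V ≤ X → (∀ v ∈ V, ∃ V' ∈ VV, V' ≤ X ∧ s * v * s⁻¹ ∈ V' ∧ s' * v * s'⁻¹ ∈ V') →
      ∀ v ∈ V, s * v * s⁻¹ = s' * v * s'⁻¹ := by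
    intro V hV hVX hex v hv
    obtain ⟨V', hV', hVX', h1, h2⟩ := hex v hv
    have hm : (s * v * s⁻¹) * (s' * v * s'⁻¹)⁻¹ ∈ E := by
      have := mul_mem (hc v (hVX hv)) (inv_mem (hc' v (hVX hv)))
      have e : s * v * s⁻¹ * v⁻¹ * (s' * v * s'⁻¹ * v⁻¹)⁻¹ = (s * v * s⁻¹) * (s' * v * s'⁻¹)⁻¹ := by group
      rwa [e] at this
    have := hEV V' hV' hVX' _ hm (mul_mem h1 (inv_mem h2))
    exact mul_inv_eq_one.1 this
  have hAa := hV A hA hAX (fun v hv => ⟨B, hB, hBX, by rw [← k1]; exact conj_mem_cj hv,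
    by rw [← k1']; exact conj_mem_cj hv⟩)
  have hBb := hV B hB hBX (fun v hv => ⟨A, hA, hAX, by rw [← k2]; exact conj_mem_cj hv,
    by rw [← k2']; exact conj_mem_cj hv⟩)
  intro x hx
  obtain ⟨a, ha, b, hb, rfl⟩ := exists_comp hcomm (by rw [← hsup]; exact hx)
  calc s * (a * b) * s⁻¹ = (s * a * s⁻¹) * (s * b * s⁻¹) := by group
    _ = (s' * a * s'⁻¹) * (s' * b * s'⁻¹) := by rw [hAa a ha, hBb b hb]
    _ = s' * (a * b) * s'⁻¹ := by group

/-- an element normalising `X`, fixing `z` and a line: it fixes the other line, all commutators are in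
`E₁ ⊔ E₂`, those of `E₁ ⊔ E₂` in `⟨z⟩` -/
theorem Fam.fix_line (h : Fam 2 UU VV F) {X : Subgroup G} (hX : X ∈ UU) {z : G} (hzF : z ∈ F)
    {E₁ E₂ : Subgroup G} (h1 : IsLn F z X E₁) (h2 : IsLn F z X E₂) (hne : E₁ ≠ E₂)
    {s : G} (hs : s ∈ normalizer (X : Set G)) (hz : s * z = z * s) (hsE : s ∈ normalizer (E₁ : Set G)) :
    s ∈ normalizer (E₂ : Set G) := by
  rw [mem_normalizer_iff_cj]
  have h2' : IsLn F z X (Geo.cj s E₂) := IsLn.cj h h2 hs hz
  rcases h.line_cases hX hzF h1 h2 hne h2' with e | e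
  · exfalso
    apply hne
    rw [← Geo.cj_inv_cj s E₂, e, ← cj_eq_of_mem_normalizer hsE, Geo.cj_inv_cj]
    exact cj_eq_of_mem_normalizer hsE
  · exact e

theorem Fam.comm_mem (h : Fam 2 UU VV F) {X : Subgroup G} (hX : X ∈ UU) {z : G} (hzF : z ∈ F)
    {E₁ E₂ : Subgroup G} (h1 : IsLn F z X E₁) (h2 : IsLn F z X E₂) (hne : E₁ ≠ E₂)
    {s : G} (hs : s ∈ normalizer (X : Set G)) (hz : s * z = z * s) (hsE : s ∈ normalizer (E₁ : Set G)) :
    (∀ x ∈ X, s * x * s⁻¹ * x⁻¹ ∈ E₁ ⊔ E₂) ∧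
      ∀ x ∈ E₁ ⊔ E₂, s * x * s⁻¹ * x⁻¹ = 1 ∨ s * x * s⁻¹ * x⁻¹ = z := by
  have hz1 := h.ne_one hX hzF
  have hsE2 := h.fix_line hX hzF h1 h2 hne hs hz hsE
  obtain ⟨h8, -, hind⟩ := h.line_sup hX hzF h1 h2 hne
  have hle : E₁ ⊔ E₂ ≤ X := sup_le h1.le h2.le
  have hzz : z * z = 1 := h.sq X hX z (h1.le h1.mem)
  have hsN : Geo.cj s (E₁ ⊔ E₂) = E₁ ⊔ E₂ := by
    change (E₁ ⊔ E₂).map _ = _
    rw [Subgroup.map_sup]
    exact congrArg₂ (· ⊔ ·) (cj_eq_of_mem_normalizer hsE) (cj_eq_of_mem_normalizer hsE2)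
  have hmem : ∀ x, s * x * s⁻¹ ∈ E₁ ⊔ E₂ ↔ x ∈ E₁ ⊔ E₂ := by
    intro x
    exact ((mem_normalizer_iff.1 (mem_normalizer_iff_cj.2 hsN)) x).symm
  constructor
  · intro x hx
    by_cases hxE : x ∈ E₁ ⊔ E₂
    · exact mul_mem ((hmem x).2 hxE) (inv_mem hxE)
    · refine hind _ ((mem_normalizer_iff.1 hs x).1 hx) _ (inv_mem hx) (fun h' => hxE ((hmem x).1 h')) ?_
      exact fun h' => hxE (inv_mem_iff.1 h')
  · intro x hx
    obtain ⟨a, ha, b, hb, rfl⟩ := exists_comp (fun a ha b hb => h.comm X hX a (h1.le ha) b (h2.le hb)) hx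
    have hb' : s * b * s⁻¹ ∈ X := (mem_normalizer_iff.1 hs b).1 (h2.le hb)
    have e : s * (a * b) * s⁻¹ * (a * b)⁻¹ = (s * a * s⁻¹ * a⁻¹) * (s * b * s⁻¹ * b⁻¹) := by
      have e1 : a⁻¹ * (s * b * s⁻¹ * b⁻¹) = (s * b * s⁻¹ * b⁻¹) * a⁻¹ :=
        h.comm X hX _ (inv_mem (h1.le ha)) _ (mul_mem hb' (inv_mem (h2.le hb)))
      calc s * (a * b) * s⁻¹ * (a * b)⁻¹ = (s * a * s⁻¹) * ((s * b * s⁻¹ * b⁻¹) * a⁻¹) := by group
        _ = (s * a * s⁻¹ * a⁻¹) * (s * b * s⁻¹ * b⁻¹) := by rw [← e1]; group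
    rw [e]
    rcases h1.comm h hX hz1 hz hsE ha with e1 | e1 <;> rcases h2.comm h hX hz1 hz hsE2 hb with e2 | e2
    · left; rw [e1, e2, mul_one]
    · right; rw [e1, e2, one_mul]
    · right; rw [e1, e2, mul_one]
    · left; rw [e1, e2, hzz]

/-- the transvection `t` of `Vert` swaps the two lines -/
theorem Fam.swap (h : Fam 2 UU VV F) {X : Subgroup G} (hX : X ∈ UU) {z : G} (hzF : z ∈ F) {V : Subgroup G}
    (hV : V ∈ VV) (hVX : V ≤ X) {t : G} (ht : t ∈ normalizer (X : Set G)) (htz : t * z = z * t)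
    (ht1 : ∃ v ∈ V, t * v ≠ v * t) (ht2 : ∀ V' ∈ VV, V' ≤ X → V' ≠ V → ∀ v ∈ V', t * v = v * t)
    {E : Subgroup G} (hE : IsLn F z X E) : Geo.cj t E ≠ E := by
  intro hfix
  have hz1 := h.ne_one hX hzF
  have htE : t ∈ normalizer (E : Set G) := mem_normalizer_iff_cj.2 hfix
  obtain ⟨B, hB, hBX, hBV⟩ : ∃ B ∈ VV, B ≤ X ∧ B ≠ V := by
    obtain ⟨A, hA, B, hB, hAB, hsup, hdis, hall, hF⟩ := h.exists_two hX
    by_cases hAV : A = V
    · exact ⟨B, hB, by rw [hsup]; exact le_sup_right, fun e => hAB (hAV.trans e.symm)⟩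
    · exact ⟨A, hA, by rw [hsup]; exact le_sup_left, hAV⟩
  obtain ⟨hall, hsup, hdis, hF⟩ := h.two hX hV hVX hB hBX (Ne.symm hBV)
  have htB := ht2 B hB hBX hBV
  have htBc : Geo.cj t B = B := by
    refine Subgroup.eq_of_le_of_card_ge ?_ (by rw [card_cj])
    rintro _ ⟨b, hb, rfl⟩
    change t * b * t⁻¹ ∈ B
    rw [htB b hb, mul_inv_cancel_right]; exact hb
  have htVc : Geo.cj t V = V := by
    obtain ⟨c1, c2⟩ := h.cj_V hV hVX ht
    rcases hall _ c1 c2 with e | e
    · exact e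
    · exfalso
      apply hBV
      rw [← Geo.cj_inv_cj t V, e, ← htBc, Geo.cj_inv_cj]
      exact htBc
  have hcomm : ∀ a ∈ V, ∀ b ∈ B, a * b = b * a := fun a ha b hb => h.comm X hX a (hVX ha) b (hBX hb)
  -- `t` centralises `E`
  have htEc : ∀ e ∈ E, t * e = e * t := by
    intro e he
    obtain ⟨a, ha, b, hb, rfl⟩ := exists_comp hcomm (by rw [← hsup]; exact hE.le he)
    have e1 : t * (a * b) * t⁻¹ * (a * b)⁻¹ = t * a * t⁻¹ * a⁻¹ := by
      have e2 : t * b * t⁻¹ * b⁻¹ = 1 := by rw [htB b hb]; group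
      calc t * (a * b) * t⁻¹ * (a * b)⁻¹ = (t * a * t⁻¹) * (t * b * t⁻¹ * b⁻¹) * a⁻¹ := by group
        _ = t * a * t⁻¹ * a⁻¹ := by rw [e2, mul_one]
    have hm : t * a * t⁻¹ * a⁻¹ ∈ V := by
      refine mul_mem ?_ (inv_mem ha)
      have := conj_mem_cj (g := t) ha
      rwa [htVc] at this
    have h1 : t * (a * b) * t⁻¹ * (a * b)⁻¹ = 1 := by
      rcases hE.comm h hX hz1 htz htE he with h0 | h0
      · exact h0
      · exfalso
        rw [e1] at h0
        rw [h0] at hm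
        exact h.not_F hX hV hVX hm hzF
    calc t * (a * b) = (t * (a * b) * t⁻¹ * (a * b)⁻¹) * (a * b * t) := by group
      _ = a * b * t := by rw [h1, one_mul]
  -- `X = E B`
  have hinf : E ⊓ B = ⊥ := by
    rw [eq_bot_iff]
    intro x hx
    obtain ⟨hx1, hx2⟩ := mem_inf.1 hx
    rw [mem_bot]
    by_contra hx0
    exact h.not_F hX hB hBX hx2 (hE.full x hx1 hx0)
  have hn : E ≤ normalizer (B : Set G) := le_normalizer_of_forall fun a ha b hb => by
    rw [h.comm X hX a (hE.le ha) b (hBX hb), mul_inv_cancel_right]; exact hb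
  have hcard := card_sup_mul_card_inf hn
  rw [hinf, Subgroup.card_bot, hE.card, h.card B hB, mul_one] at hcard
  have hXE : E ⊔ B = X := Subgroup.eq_of_le_of_card_ge (sup_le hE.le hBX) (by rw [hcard, h.card_eq hX])
  have hle : E ⊔ B ≤ centralizer ({t} : Set G) := by
    refine sup_le (fun e he => ?_) (fun b hb => ?_)
    · rw [mem_centralizer_singleton_iff]; exact (htEc e he).symm
    · rw [mem_centralizer_singleton_iff]; exact (htB b hb).symm
  obtain ⟨v, hv, hvn⟩ := ht1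
  exact hvn (mem_centralizer_singleton_iff.1 (hle (by rw [hXE]; exact hVX hv))).symm

end lines

end Cfsg.Agent.MinSimple.OmPair
end

-- part: MinSimple/OmPairSign
section
/-!
# Core theorem T, case (Omega): sign characters

`W` an elementary abelian 2-group acting on the abelian section `N / Q`: if `w0 ∈ W` acts nontrivially, there is
`y ∈ N`, `y ∉ Q`, such that every element of `W` centralises or inverts `y` modulo `Q`, and `w0` inverts it.
-/

set_option autoImplicit false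

namespace Cfsg.Agent.MinSimple.OmPairSign

open Subgroup

universe u

variable {G : Type u} [Group G]

/-- `{y ∈ Y | w y w⁻¹ ≡ y mod Q}` -/
def fixQ (Y Q : Subgroup G) (w : G) (hY : ∀ y ∈ Y, ∀ q ∈ Q, y * q * y⁻¹ ∈ Q) : Subgroup G where
  carrier := {y | y ∈ Y ∧ w * y * w⁻¹ * y⁻¹ ∈ Q}
  one_mem' := ⟨one_mem _, by simp⟩
  mul_mem' := by
    rintro a b ⟨ha, ha'⟩ ⟨hb, hb'⟩
    refine ⟨Y.mul_mem ha hb, ?_⟩
    have e : w * (a * b) * w⁻¹ * (a * b)⁻¹ =
        (w * a * w⁻¹ * a⁻¹) * (a * (w * b * w⁻¹ * b⁻¹) * a⁻¹) := by group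
    rw [e]
    exact Q.mul_mem ha' (hY a ha _ hb')
  inv_mem' := by
    rintro a ⟨ha, ha'⟩
    refine ⟨Y.inv_mem ha, ?_⟩
    have e : w * a⁻¹ * w⁻¹ * a⁻¹⁻¹ = a⁻¹ * (w * a * w⁻¹ * a⁻¹)⁻¹ * a⁻¹⁻¹ := by group
    rw [e]
    exact hY _ (Y.inv_mem ha) _ (Q.inv_mem ha')

/-- `{y ∈ Y | w y w⁻¹ ≡ y⁻¹ mod Q}` -/
def invQ (Y Q : Subgroup G) (w : G) (hY : ∀ y ∈ Y, ∀ q ∈ Q, y * q * y⁻¹ ∈ Q)
    (hw : ∀ y ∈ Y, w * y * w⁻¹ ∈ Y) (hab : ∀ a ∈ Y, ∀ b ∈ Y, a * b * a⁻¹ * b⁻¹ ∈ Q) :
    Subgroup G where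
  carrier := {y | y ∈ Y ∧ w * y * w⁻¹ * y ∈ Q}
  one_mem' := ⟨one_mem _, by simp⟩
  mul_mem' := by
    rintro a b ⟨ha, ha'⟩ ⟨hb, hb'⟩
    refine ⟨Y.mul_mem ha hb, ?_⟩
    have e : w * (a * b) * w⁻¹ * (a * b) =
        (w * a * w⁻¹ * a) * (a⁻¹ * (w * b * w⁻¹) * a⁻¹⁻¹ * (w * b * w⁻¹)⁻¹) *
          (w * b * w⁻¹ * b) := by group
    rw [e]
    exact Q.mul_mem (Q.mul_mem ha' (hab _ (Y.inv_mem ha) _ (hw b hb))) hb'
  inv_mem' := by
    rintro a ⟨ha, ha'⟩
    refine ⟨Y.inv_mem ha, ?_⟩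
    have e : w * a⁻¹ * w⁻¹ * a⁻¹ = (a * (w * a * w⁻¹ * a) * a⁻¹)⁻¹ := by group
    rw [e]
    exact Q.inv_mem (hY a ha _ ha')

theorem sign [Finite G] {N Q W : Subgroup G} (hQN : Q ≤ N)
    (hNQ : ∀ y ∈ N, ∀ q ∈ Q, y * q * y⁻¹ ∈ Q)
    (hab : ∀ a ∈ N, ∀ b ∈ N, a * b * a⁻¹ * b⁻¹ ∈ Q)
    (hWN : ∀ w ∈ W, ∀ y ∈ N, w * y * w⁻¹ ∈ N) (hWQ : ∀ w ∈ W, ∀ q ∈ Q, w * q * w⁻¹ ∈ Q)
    (hcomm : ∀ a ∈ W, ∀ b ∈ W, a * b = b * a) (hsq : ∀ a ∈ W, a * a = 1) {w0 : G} (hw0 : w0 ∈ W)
    (hne : ∃ n ∈ N, w0 * n * w0⁻¹ * n⁻¹ ∉ Q) :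
    ∃ y ∈ N, y ∉ Q ∧ (∀ w ∈ W, w * y * w⁻¹ * y⁻¹ ∈ Q ∨ w * y * w⁻¹ * y ∈ Q) ∧
      w0 * y * w0⁻¹ * y ∈ Q := by
  classical
  -- the family of subgroups
  let P : Subgroup G → Prop := fun Y => Q ≤ Y ∧ Y ≤ N ∧ ¬ Y ≤ Q ∧
    (∀ w ∈ W, ∀ y ∈ Y, w * y * w⁻¹ ∈ Y) ∧ ∀ y ∈ Y, w0 * y * w0⁻¹ * y ∈ Q
  have key : ∃ Y, P Y := by
    refine ⟨invQ N Q w0 hNQ (hWN w0 hw0) hab, ?_, ?_, ?_, ?_, ?_⟩
    · intro q hq
      exact ⟨hQN hq, Q.mul_mem (hWQ w0 hw0 q hq) hq⟩
    · exact fun y hy => hy.1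
    · obtain ⟨n, hn, hn'⟩ := hne
      intro hle
      apply hn'
      refine hle ⟨N.mul_mem (hWN w0 hw0 n hn) (N.inv_mem hn), ?_⟩
      have hw : w0⁻¹ = w0 := inv_eq_of_mul_eq_one_left (hsq w0 hw0)
      have e : w0 * (w0 * n * w0⁻¹ * n⁻¹) * w0⁻¹ * (w0 * n * w0⁻¹ * n⁻¹) =
          (w0 * w0) * n * (w0⁻¹ * n⁻¹ * w0⁻¹) * w0 * n * w0⁻¹ * n⁻¹ := by group
      rw [e, hsq w0 hw0]
      have e2 : 1 * n * (w0⁻¹ * n⁻¹ * w0⁻¹) * w0 * n * w0⁻¹ * n⁻¹ = n * (w0⁻¹ * w0⁻¹) * n⁻¹ := by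
        group
      rw [e2, hw, hsq w0 hw0]
      simp
    · rintro w hw y ⟨hy, hy'⟩
      refine ⟨hWN w hw y hy, ?_⟩
      have e : w0 * (w * y * w⁻¹) * w0⁻¹ * (w * y * w⁻¹) =
          (w0 * w) * y * (w0 * w)⁻¹ * w * y * w⁻¹ := by group
      rw [e, hcomm w0 hw0 w hw]
      have e2 : w * w0 * y * (w * w0)⁻¹ * w * y * w⁻¹ = w * (w0 * y * w0⁻¹ * y) * w⁻¹ := by group
      rw [e2]
      exact hWQ w hw _ hy'
    · exact fun y hy => hy.2
  -- a minimal one
  obtain ⟨Y, hY, hmin⟩ : ∃ Y, P Y ∧ ∀ Y', P Y' → Nat.card Y ≤ Nat.card Y' := by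
    obtain ⟨Y, hY⟩ := key
    have hwf := Nat.find_spec (p := fun n => ∃ Y, P Y ∧ Nat.card Y = n) ⟨_, Y, hY, rfl⟩
    have hm := fun (m : ℕ) => Nat.find_min' (p := fun n => ∃ Y, P Y ∧ Nat.card Y = n)
      ⟨_, Y, hY, rfl⟩ (m := m)
    obtain ⟨Y1, h1, h2⟩ := hwf
    exact ⟨Y1, h1, fun Y' hY' => h2.trans_le (hm _ ⟨Y', hY', rfl⟩)⟩
  obtain ⟨hQY, hYN, hYQ, hWY, hY0⟩ := hY
  have hYQ' : ∀ y ∈ Y, ∀ q ∈ Q, y * q * y⁻¹ ∈ Q := fun y hy => hNQ y (hYN hy)
  obtain ⟨y, hy, hyQ⟩ := SetLike.not_le_iff_exists.mp hYQ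
  refine ⟨y, hYN hy, hyQ, fun w hw => ?_, hY0 y hy⟩
  let C := fixQ Y Q w hYQ'
  by_cases hC : C ≤ Q
  · right
    have hmem : y * (w * y * w⁻¹) ∈ C := by
      refine ⟨Y.mul_mem hy (hWY w hw y hy), ?_⟩
      have hwi : w⁻¹ = w := inv_eq_of_mul_eq_one_left (hsq w hw)
      have e : w * (y * (w * y * w⁻¹)) * w⁻¹ * (y * (w * y * w⁻¹))⁻¹ =
          (w * y * w⁻¹) * (w * w * y * w⁻¹ * w⁻¹) * (w * y * w⁻¹)⁻¹ * y⁻¹ := by group
      rw [e, hsq w hw]
      have e2 : (w * y * w⁻¹) * (1 * y * w⁻¹ * w⁻¹) * (w * y * w⁻¹)⁻¹ * y⁻¹ =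
        (w * y * w⁻¹) * (y * (w⁻¹ * w⁻¹)) * (w * y * w⁻¹)⁻¹ * y⁻¹ := by group
      rw [e2]
      have e3 : w⁻¹ * w⁻¹ = 1 := by rw [hwi, hsq w hw]
      rw [e3, mul_one]
      exact hab _ (hYN (hWY w hw y hy)) _ (hYN hy)
    have h1 := hC hmem
    have e : w * y * w⁻¹ * y = y⁻¹ * (y * (w * y * w⁻¹)) * y⁻¹⁻¹ := by group
    rw [e]
    exact hNQ _ (N.inv_mem (hYN hy)) _ h1
  · left
    have hPC : P C := by
      refine ⟨?_, fun a ha => hYN ha.1, hC, ?_, fun a ha => hY0 a ha.1⟩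
      · intro q hq
        exact ⟨hQY hq, Q.mul_mem (hWQ w hw q hq) (Q.inv_mem hq)⟩
      · rintro w' hw' a ⟨ha, ha'⟩
        refine ⟨hWY w' hw' a ha, ?_⟩
        have e : w * (w' * a * w'⁻¹) * w⁻¹ * (w' * a * w'⁻¹)⁻¹ =
            (w * w') * a * (w * w')⁻¹ * w' * a⁻¹ * w'⁻¹ := by group
        rw [e, hcomm w hw w' hw']
        have e2 : w' * w * a * (w' * w)⁻¹ * w' * a⁻¹ * w'⁻¹ = w' * (w * a * w⁻¹ * a⁻¹) * w'⁻¹ := by
          group
        rw [e2]
        exact hWQ w' hw' _ ha'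
    have h1 := hmin C hPC
    have h2 : C ≤ Y := fun a ha => ha.1
    have h3 : C = Y := Subgroup.eq_of_le_of_card_ge h2 h1
    have h4 : y ∈ C := by rw [h3]; exact hy
    exact h4.2

end Cfsg.Agent.MinSimple.OmPairSign
end

-- part: MinSimple/OmPairB
section
/-!
# The case (Omega) is empty: Steps 4 and 5 of row 4061
-/

set_option autoImplicit false
set_option linter.dupNamespace false
set_option linter.unusedSectionVars false

namespace Cfsg.Agent.MinSimple.OmPairB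

open Subgroup
open Cfsg.Agent.MinSimple.Geo (cj mem_cj conj_mem_cj cj_cj cj_one cj_inv_cj cj_cj_inv cj_mono cj_le_iff
  cj_le_cj cj_eq_of_mem_normalizer mem_normalizer_iff_cj)
open Cfsg.Agent.MinSimple.OmPair

universe u

variable {G : Type u} [Group G]

section vert

variable {k : ℕ} {UU VV : Set (Subgroup G)} {F : Set G} {D N Q U0 W : Subgroup G} {z : G} {p : ℕ}

theorem cj_inf (g : G) (A B : Subgroup G) : cj g (A ⊓ B) = cj g A ⊓ cj g B := by
  ext x
  simp only [mem_cj, mem_inf]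

theorem card_cj (g : G) (X : Subgroup G) : Nat.card ↥(cj g X) = Nat.card X :=
  Subgroup.card_map_of_injective (MulAut.conj g).injective

theorem z_comm (h : Vert UU VV F D N Q U0 W z p) {d : G} (hd : d ∈ D) : d * z = z * d :=
  mem_centralizer_singleton_iff.mp (h.D_le hd)

theorem z_conj (h : Vert UU VV F D N Q U0 W z p) {d : G} (hd : d ∈ D) : d * z * d⁻¹ = z := by
  rw [z_comm h hd]; group

theorem W_conj (h : Vert UU VV F D N Q U0 W z p) {d : G} (hd : d ∈ D) {w : G} (hw : w ∈ W) :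
    d * w * d⁻¹ ∈ W := by
  have h1 : W ≤ cj d⁻¹ W := by
    refine h.W_le _ fun e he => ?_
    have h2 := cj_mono (g := d⁻¹) (h.W_ge _ (D.mul_mem hd he))
    rwa [← cj_cj, cj_inv_cj] at h2
  have := h1 hw
  rw [mem_cj] at this
  simpa only [_root_.inv_inv] using this

theorem nb_le_W (h : Vert UU VV F D N Q U0 W z p) {X : Subgroup G} (hX : X ∈ Nb D U0) : X ≤ W := by
  obtain ⟨d, hd, rfl⟩ := hX
  exact h.W_ge d hd

theorem U0_nb : U0 ∈ Nb D U0 := ⟨1, one_mem _, (cj_one U0).symm⟩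

theorem nb_UU (hf : Fam k UU VV F) (h : Vert UU VV F D N Q U0 W z p) {X : Subgroup G}
    (hX : X ∈ Nb D U0) : X ∈ UU := by
  obtain ⟨d, hd, rfl⟩ := hX
  exact hf.cjU d U0 h.U0_mem

theorem z_nb (h : Vert UU VV F D N Q U0 W z p) {X : Subgroup G} (hX : X ∈ Nb D U0) : z ∈ X := by
  obtain ⟨d, hd, rfl⟩ := hX
  rw [← z_conj h hd]
  exact conj_mem_cj h.z_mem

theorem W_sq (hf : Fam k UU VV F) (h : Vert UU VV F D N Q U0 W z p) {w : G} (hw : w ∈ W) :
    w * w = 1 := by
  let K : Subgroup G :=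
    { carrier := {a | a ∈ W ∧ a * a = 1}
      one_mem' := ⟨one_mem _, one_mul 1⟩
      mul_mem' := by
        rintro a b ⟨ha, ha'⟩ ⟨hb, hb'⟩
        refine ⟨W.mul_mem ha hb, ?_⟩
        calc a * b * (a * b) = a * (b * a) * b := by group
          _ = (a * a) * (b * b) := by rw [h.W_comm b hb a ha]; group
          _ = 1 := by rw [ha', hb', one_mul]
      inv_mem' := by
        rintro a ⟨ha, ha'⟩
        refine ⟨W.inv_mem ha, ?_⟩
        rw [← mul_inv_rev, ha', inv_one] }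
  have : W ≤ K := by
    refine h.W_le K fun d hd x hx => ⟨h.W_ge d hd hx, ?_⟩
    exact hf.sq _ (hf.cjU d U0 h.U0_mem) x hx
  exact (this hw).2

theorem nb_of_N (h : Vert UU VV F D N Q U0 W z p) {n : G} (hn : n ∈ N) : cj n U0 ∈ Nb D U0 :=
  ⟨n, h.N_le hn, rfl⟩

theorem Q_le_D (h : Vert UU VV F D N Q U0 W z p) : Q ≤ D := h.Q_le.trans h.N_le

theorem Q_fix_nb (h : Vert UU VV F D N Q U0 W z p) {X : Subgroup G} (hX : X ∈ Nb D U0) {q : G}
    (hq : q ∈ Q) : cj q X = X := by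
  obtain ⟨d, hd, rfl⟩ := hX
  have h1 : d⁻¹ * q * d⁻¹⁻¹ ∈ Q := h.Q_norm _ (D.inv_mem hd) q hq
  rw [inv_inv] at h1
  have h2 := cj_eq_of_mem_normalizer (h.Q_fix _ h1)
  rw [cj_cj]
  have e : q * d = d * (d⁻¹ * q * d) := by group
  rw [e, ← cj_cj, h2]

theorem eq_iff (h : Vert UU VV F D N Q U0 W z p) {a b : G} (ha : a ∈ N) (hb : b ∈ N) :
    cj a U0 = cj b U0 ↔ a⁻¹ * b ∈ Q := by
  constructor
  · intro e
    refine h.N_fix _ (N.mul_mem (N.inv_mem ha) hb) ?_
    rw [mem_normalizer_iff_cj, ← cj_cj, ← e, cj_inv_cj]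
  · intro e
    have h1 := cj_eq_of_mem_normalizer (h.Q_fix _ e)
    rw [← cj_cj] at h1
    have h2 := congrArg (cj a) h1
    rw [cj_cj_inv] at h2
    exact h2.symm

/-- `p` odd: squares -/
theorem mem_of_sq (h : Vert UU VV F D N Q U0 W z p) {n : G} (hn : n ∈ N) (h2 : n * n ∈ Q) : n ∈ Q := by
  have h1 := h.N_pow n hn
  obtain ⟨m, hm⟩ : Odd p := h.prime.odd_of_ne_two h.odd
  rw [hm, pow_add, pow_mul, pow_one, pow_two] at h1
  have h3 := Q.mul_mem (Q.inv_mem (Q.pow_mem h2 m)) h1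
  have e : ((n * n) ^ m)⁻¹ * ((n * n) ^ m * n) = n := by group
  rwa [e] at h3

/-- commutators with `y ∈ N`: `w y w⁻¹ y⁻¹ ∈ Q` iff `w` fixes `cj y U0` -/
theorem fix_iff (h : Vert UU VV F D N Q U0 W z p) {w y : G} (hw : w ∈ D) (hw' : cj w U0 = U0)
    (hy : y ∈ N) : cj w (cj y U0) = cj y U0 ↔ w * y * w⁻¹ * y⁻¹ ∈ Q := by
  have hw2 : cj w⁻¹ U0 = U0 := by
    have := congrArg (cj w⁻¹) hw'
    rw [cj_inv_cj] at this
    exact this.symm
  have e : cj w (cj y U0) = cj (w * y * w⁻¹) U0 := by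
    rw [cj_cj, ← cj_cj (w * y) w⁻¹ U0, hw2]
  have hn : w * y * w⁻¹ ∈ N := h.N_norm w hw y hy
  rw [e, eq_iff h hn hy]
  constructor
  · intro h1
    have h2 := h.Q_norm _ (h.N_le hn) _ (Q.inv_mem h1)
    have e2 : w * y * w⁻¹ * ((w * y * w⁻¹)⁻¹ * y)⁻¹ * (w * y * w⁻¹)⁻¹ = w * y * w⁻¹ * y⁻¹ := by
      group
    -- `(a⁻¹ b)⁻¹ = b⁻¹ a`
    have e3 : w * y * w⁻¹ * ((w * y * w⁻¹)⁻¹ * y)⁻¹ * (w * y * w⁻¹)⁻¹ =
        (w * y * w⁻¹) * y⁻¹ := by group
    rwa [e3] at h2
  · intro h1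
    have h2 := h.Q_norm _ (h.N_le (N.inv_mem hn)) _ (Q.inv_mem h1)
    have e3 : (w * y * w⁻¹)⁻¹ * (w * y * w⁻¹ * y⁻¹)⁻¹ * (w * y * w⁻¹)⁻¹⁻¹ =
        (w * y * w⁻¹)⁻¹ * y := by group
    rwa [e3] at h2

end vert

/-! ### Step 4 -/

section pair

variable {k : ℕ} {UU VV : Set (Subgroup G)} {F : Set G}
  {D N Q U0 W : Subgroup G} {z : G} {p : ℕ} {D' N' Q' U0' W' : Subgroup G} {z' : G} {p' : ℕ}

variable [Finite G] (h : Pair k UU VV F D N Q U0 W z p D' N' Q' U0' W' z' p')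
include h

theorem W_fix {w : G} (hw : w ∈ W) : cj w U0' = U0' := by
  rw [← mem_normalizer_iff_cj, mem_normalizer_iff]
  intro x
  constructor
  · intro hx
    rw [h.fix w hw x hx]; simpa using hx
  · intro hx
    have h1 := h.fix w⁻¹ (W.inv_mem hw) _ hx
    have e : x = w⁻¹ * (w * x * w⁻¹) * w := by group
    rw [e, h1]; simpa only [_root_.inv_mul_cancel_right] using hx

theorem W_sq' {w : G} (hw : w ∈ W) : w * w = 1 := W_sq h.fam h.v hw

theorem W_iff {w y : G} (hw : w ∈ W) (hy : y ∈ N') :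
    w ∈ normalizer (cj y U0' : Set G) ↔ w * y * w⁻¹ * y⁻¹ ∈ Q' := by
  rw [mem_normalizer_iff_cj]
  exact fix_iff h.v' (h.le hw) (W_fix h hw) hy

theorem exists_eig {Y : Subgroup G} (hQ : Q' ≤ Y) (hN : Y ≤ N')
    (hW : ∀ w ∈ W, ∀ y ∈ Y, w * y * w⁻¹ ∈ Y)
    {w₀ : G} (hw₀ : w₀ ∈ W) (hne : ∃ y ∈ Y, w₀ * y * w₀⁻¹ * y⁻¹ ∉ Q') :
    ∃ y, Eig W N' Q' y ∧ y ∈ Y ∧ w₀ * y * w₀⁻¹ * y ∈ Q' := by
  obtain ⟨y, hy, hyQ, h1, h2⟩ := OmPairSign.sign (N := Y) (Q := Q') (W := W) hQ
    (fun y hy q hq => h.v'.Q_norm y (h.v'.N_le (hN hy)) q hq)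
    (fun a ha b hb => h.v'.N_comm a (hN ha) b (hN hb)) hW
    (fun w hw q hq => h.v'.Q_norm w (h.le hw) q hq) h.v.W_comm (fun a ha => W_sq' h ha) hw₀ hne
  exact ⟨y, ⟨hN hy, hyQ, h1, w₀, hw₀, h2⟩, hy, h2⟩

theorem not_le_Q : ¬ W ≤ Q' := by
  intro hle
  obtain ⟨w, hw, w', hw', hne⟩ := h.ne
  apply hne
  have h1 : W' ≤ centralizer (W : Set G) := by
    refine h.v'.W_le _ fun d hd => ?_
    have hX : cj d U0' ∈ Nb D' U0' := ⟨d, hd, rfl⟩
    have hn : W ≤ normalizer (cj d U0' : Set G) := fun w hw => by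
      rw [mem_normalizer_iff_cj]
      exact Q_fix_nb h.v' hX (hle hw)
    intro x hx
    rw [mem_centralizer_iff]
    exact fun w hw => h.comm_of_normalizer hX hn w hw x hx
  exact mem_centralizer_iff.mp (h1 hw') w hw

/-- an element of `W` outside `Q'` acts nontrivially on `N'/Q'` -/
theorem exists_ne {w : G} (hw : w ∈ W) (hwQ : w ∉ Q') : ∃ n ∈ N', w * n * w⁻¹ * n⁻¹ ∉ Q' := by
  by_contra hcon
  push Not at hcon
  apply hwQ
  refine mem_of_sq h.v' (h.v'.faith w (h.le hw) hcon) ?_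
  rw [W_sq' h hw]
  exact one_mem _

theorem exists_eig_of {w : G} (hw : w ∈ W) (hwQ : w ∉ Q') :
    ∃ y, Eig W N' Q' y ∧ w * y * w⁻¹ * y ∈ Q' := by
  obtain ⟨y, hy, -, h2⟩ := exists_eig h h.v'.Q_le le_rfl
    (fun w hw y hy => h.v'.N_norm w (h.le hw) y hy) hw (exists_ne h hw hwQ)
  exact ⟨y, hy, h2⟩

theorem exists_eig_any : ∃ y, Eig W N' Q' y := by
  obtain ⟨w, hw, hwQ⟩ := SetLike.not_le_iff_exists.mp (not_le_Q h)
  obtain ⟨y, hy, -⟩ := exists_eig_of h hw hwQ
  exact ⟨y, hy⟩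

/-- not both -/
theorem not_both {w y : G} (hy : y ∈ N') (hyQ : y ∉ Q')
    (h1 : w * y * w⁻¹ * y ∈ Q') : w * y * w⁻¹ * y⁻¹ ∉ Q' := by
  intro h2
  apply hyQ
  refine mem_of_sq h.v' hy ?_
  have h3 := Q'.mul_mem (Q'.inv_mem h2) h1
  have e : (w * y * w⁻¹ * y⁻¹)⁻¹ * (w * y * w⁻¹ * y) = y * y := by group
  rwa [e] at h3

/-- product of two elements inverting `y` centralises `y` -/
theorem mul_inv_inv {a b y : G} (ha : a ∈ W) (hy : y ∈ N')
    (h1 : a * y * a⁻¹ * y ∈ Q') (h2 : b * y * b⁻¹ * y ∈ Q') :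
    (a * b) * y * (a * b)⁻¹ * y⁻¹ ∈ Q' := by
  -- `a (b y b⁻¹ y) a⁻¹ ∈ Q'`, `a y⁻¹ a⁻¹ y⁻¹ ∈ Q'`
  have h3 := h.v'.Q_norm a (h.le ha) _ h2
  have h4 := h.v'.Q_norm (y : G) (h.v'.N_le hy) _ h1
  have e : a * b * y * (a * b)⁻¹ * y⁻¹ =
      (a * (b * y * b⁻¹ * y) * a⁻¹) * (y * (a * y * a⁻¹ * y) * y⁻¹)⁻¹ := by group
  rw [e]
  exact Q'.mul_mem h3 (Q'.inv_mem h4)

theorem index_le_two {y : G} (hy : Eig W N' Q' y) :
    (W ⊓ normalizer (cj y U0' : Set G)).relIndex W ≤ 2 := by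
  obtain ⟨hyN, hyQ, hc, a, ha, haQ⟩ := hy
  have h1 : (W ⊓ normalizer (cj y U0' : Set G)).relIndex W ∣ 2 := by
    rw [relIndex_dvd_two_iff]
    refine ⟨a, ha, fun b hb => ?_⟩
    rcases hc b hb with h2 | h2
    · right
      exact ⟨hb, (W_iff h hb hyN).mpr h2⟩
    · left
      exact ⟨W.mul_mem hb ha, (W_iff h (W.mul_mem hb ha) hyN).mpr (mul_inv_inv h hb hyN h2 haQ)⟩
  exact Nat.le_of_dvd (by norm_num) h1

theorem nb_eig {y : G} (hy : Eig W N' Q' y) : cj y U0' ∈ Nb D' U0' := nb_of_N h.v' hy.1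

theorem eig_ne {y : G} (hy : Eig W N' Q' y) : ∃ w ∈ W, ∃ x ∈ cj y U0', w * x ≠ x * w := by
  by_contra hcon
  push Not at hcon
  obtain ⟨hyN, hyQ, hc, a, ha, haQ⟩ := hy
  refine not_both h hyN hyQ haQ ?_
  rw [← W_iff h ha hyN, mem_normalizer_iff]
  intro x
  constructor
  · intro hx
    rw [hcon a ha x hx]; simpa only [_root_.mul_inv_cancel_right, _root_.Subgroup.mem_map, _root_.MulEquiv.toMonoidHom_eq_coe, _root_.MonoidHom.coe_coe, _root_.MulAut.conj_apply] using hx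
  · intro hx
    have h1 := hcon a⁻¹ (W.inv_mem ha) _ hx
    have e : x = a⁻¹ * (a * x * a⁻¹) * a := by group
    rw [e, h1]; simpa only [_root_.inv_mul_cancel_right, _root_.Subgroup.mem_map, _root_.MulEquiv.toMonoidHom_eq_coe, _root_.MonoidHom.coe_coe, _root_.MulAut.conj_apply] using hx

theorem k_eq : k = 2 := by
  by_contra hk
  have h3 : 3 ≤ k := by have := h.fam.two_le; omega
  obtain ⟨y, hy⟩ := exists_eig_any h
  have h4 := h.four_le (nb_eig h hy) (eig_ne h hy)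
  have h5 := index_le_two h hy
  have h6 : W ⊓ normalizer (cj y U0' : Set G) ≤ W ⊓ centralizer (cj y U0' : Set G) := by
    rintro w ⟨hw, hn⟩
    refine ⟨hw, mem_centralizer_iff.mpr ?_⟩
    exact fun x hx => (h.comm_of_three h3 (nb_eig h hy) (eig_ne h hy) hw hn x hx).symm
  have h7 := Subgroup.relIndex_dvd_of_le_left W h6
  have h8 : (W ⊓ normalizer (cj y U0' : Set G)).relIndex W ≠ 0 := by
    unfold Subgroup.relIndex
    exact index_ne_zero_of_finite
  have h9 := Nat.le_of_dvd (Nat.pos_of_ne_zero h8) h7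
  omega

theorem eig_index {y : G} (hy : Eig W N' Q' y) :
    (W ⊓ centralizer (cj y U0' : Set G)).relIndex W = 4 := by
  have h4 := h.four_le (nb_eig h hy) (eig_ne h hy)
  have h5 := index_le_two h hy
  have h6 := h.relIndex_le_two (k_eq h) (nb_eig h hy)
  have h7 : W ⊓ centralizer (cj y U0' : Set G) ≤ W ⊓ normalizer (cj y U0' : Set G) :=
    inf_le_inf_left _ (centralizer_le_normalizer _)
  have h8 := relIndex_mul_relIndex _ _ _ h7 inf_le_left
  have h9 := Nat.mul_le_mul h6 h5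
  omega

theorem eig_exists {y : G} (hy : Eig W N' Q' y) :
    ∃ w ∈ W, w * y * w⁻¹ * y⁻¹ ∈ Q' ∧ w ∈ normalizer (cj y U0' : Set G) ∧
      ∃ x ∈ cj y U0', w * x ≠ x * w := by
  by_contra hcon
  push Not at hcon
  have h4 := eig_index h hy
  have h5 := index_le_two h hy
  have h6 : W ⊓ normalizer (cj y U0' : Set G) ≤ W ⊓ centralizer (cj y U0' : Set G) := by
    rintro w ⟨hw, hn⟩
    refine ⟨hw, mem_centralizer_iff.mpr ?_⟩
    exact fun x hx => (hcon w hw ((W_iff h hw hy.1).mp hn) hn x hx).symm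
  have h7 := Subgroup.relIndex_dvd_of_le_left W h6
  have h8 : (W ⊓ normalizer (cj y U0' : Set G)).relIndex W ≠ 0 := by
    unfold Subgroup.relIndex
    exact index_ne_zero_of_finite
  have h9 := Nat.le_of_dvd (Nat.pos_of_ne_zero h8) h7
  omega

theorem exists_special' : ∃ X ∈ Nb D' U0', (W ⊓ centralizer (X : Set G)).relIndex W = 4 ∧
    ∃ w ∈ W, ∃ x ∈ X, w * x ≠ x * w := by
  obtain ⟨y, hy⟩ := exists_eig_any h
  exact ⟨_, nb_eig h hy, eig_index h hy, eig_ne h hy⟩

/-! ### Step 5: the lines `E_y` -/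

theorem fam2 : Fam 2 UU VV F := (k_eq h) ▸ h.fam

theorem eig_sq {y : G} (hy : Eig W N' Q' y) : Eig W N' Q' (y * y) := by
  obtain ⟨hyN, hyQ, hc, a, ha, haQ⟩ := hy
  have key : ∀ w ∈ W, w * y * w⁻¹ * y ∈ Q' → w * (y * y) * w⁻¹ * (y * y) ∈ Q' := by
    intro w hw h1
    have h2 := h.v'.Q_norm (w * y * w⁻¹) (h.v'.N_le (h.v'.N_norm w (h.le hw) y hyN)) _ h1
    have e : w * (y * y) * w⁻¹ * (y * y) =
        ((w * y * w⁻¹) * (w * y * w⁻¹ * y) * (w * y * w⁻¹)⁻¹) * (w * y * w⁻¹ * y) := by group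
    rw [e]
    exact Q'.mul_mem h2 h1
  refine ⟨N'.mul_mem hyN hyN, fun h1 => hyQ (mem_of_sq h.v' hyN h1), fun w hw => ?_, a, ha,
    key a ha haQ⟩
  rcases hc w hw with h1 | h1
  · left
    have h2 := h.v'.Q_norm y (h.v'.N_le hyN) _ h1
    have e : w * (y * y) * w⁻¹ * (y * y)⁻¹ =
        (w * y * w⁻¹ * y⁻¹) * (y * (w * y * w⁻¹ * y⁻¹) * y⁻¹) := by group
    rw [e]
    exact Q'.mul_mem h1 h2
  · right
    exact key w hw h1

theorem eig_inv {y : G} (hy : Eig W N' Q' y) : Eig W N' Q' y⁻¹ := by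
  obtain ⟨hyN, hyQ, hc, a, ha, haQ⟩ := hy
  have key : ∀ w ∈ W, w * y * w⁻¹ * y ∈ Q' → w * y⁻¹ * w⁻¹ * y⁻¹ ∈ Q' := by
    intro w hw h1
    have h2 := Q'.inv_mem (h.v'.Q_norm y (h.v'.N_le hyN) _ h1)
    have e : w * y⁻¹ * w⁻¹ * y⁻¹ = (y * (w * y * w⁻¹ * y) * y⁻¹)⁻¹ := by group
    rwa [e]
  refine ⟨N'.inv_mem hyN, fun h1 => hyQ ((Subgroup.inv_mem_iff Q').mp h1), fun w hw => ?_, a, ha,
    key a ha haQ⟩
  rcases hc w hw with h1 | h1
  · left
    have h2 := h.v'.Q_norm y⁻¹ (h.v'.N_le (N'.inv_mem hyN)) _ (Q'.inv_mem h1)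
    have e : w * y⁻¹ * w⁻¹ * y⁻¹⁻¹ = y⁻¹ * (w * y * w⁻¹ * y⁻¹)⁻¹ * y⁻¹⁻¹ := by group
    rwa [e]
  · right
    exact key w hw h1

theorem cj_of_inv {a y : G} (ha : a ∈ W) (hy : y ∈ N') (h1 : a * y * a⁻¹ * y ∈ Q') :
    cj a (cj y U0') = cj y⁻¹ U0' := by
  have h2 : cj a⁻¹ U0' = U0' := W_fix h (W.inv_mem ha)
  have e : cj a (cj y U0') = cj (a * y * a⁻¹) U0' := by
    rw [cj_cj, ← cj_cj (a * y) a⁻¹ U0', h2]
  rw [e, eq_iff h.v' (h.v'.N_norm a (h.le ha) y hy) (N'.inv_mem hy)]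
  have h3 := Q'.inv_mem (h.v'.Q_norm y (h.v'.N_le hy) _ h1)
  have e2 : (a * y * a⁻¹)⁻¹ * y⁻¹ = (y * (a * y * a⁻¹ * y) * y⁻¹)⁻¹ := by group
  rwa [e2]

theorem inf_full {a b : G} (ha : a ∈ N') (hb : b ∈ N') (hne : a⁻¹ * b ∉ Q') :
    ∀ e ∈ cj a U0' ⊓ cj b U0', e ≠ 1 → e ∈ F := by
  intro e he he1
  by_contra heF
  apply hne
  rw [← eq_iff h.v' ha hb]
  exact h.fam.inter _ (h.fam.cjU a _ h.v'.U0_mem) _ (h.fam.cjU b _ h.v'.U0_mem) e he.1 he.2 he1 heF

theorem inf_le_four {a b : G} (ha : a ∈ N') (hb : b ∈ N') (hne : a⁻¹ * b ∉ Q') :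
    Nat.card ↥(cj a U0' ⊓ cj b U0') ≤ 4 :=
  (fam2 h).card_le_four (h.fam.cjU a _ h.v'.U0_mem) inf_le_left (inf_full h ha hb hne)

/-- `C_X(W)` is a line of `X = cj y U0'` -/
theorem eig_isLn {y : G} (hy : Eig W N' Q' y) :
    IsLn F z' (cj y U0') (cj y U0' ⊓ centralizer (W : Set G)) := by
  obtain ⟨w, hw, -, hn, hne⟩ := eig_exists h hy
  exact (h.line (k_eq h) (nb_eig h hy) hw hn hne).1

/-- (I) -/
theorem eig_inf {y : G} (hy : Eig W N' Q' y) :
    cj y U0' ⊓ cj y⁻¹ U0' = cj y U0' ⊓ centralizer (W : Set G) := by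
  symm
  have hE := eig_isLn h hy
  obtain ⟨hyN, hyQ, hc, a, ha, haQ⟩ := hy
  have h1 : cj y U0' ⊓ centralizer (W : Set G) ≤ cj y U0' ⊓ cj y⁻¹ U0' := by
    rintro e ⟨he, he'⟩
    refine ⟨he, ?_⟩
    rw [← cj_of_inv h ha hyN haQ]
    have h2 : a * e * a⁻¹ ∈ cj a (cj y U0') := conj_mem_cj he
    have h3 : a * e = e * a := mem_centralizer_iff.mp he' a ha
    rw [h3] at h2
    simpa only [_root_.Subgroup.map_toSubmonoid, _root_.MulEquiv.toMonoidHom_eq_coe, _root_.Submonoid.map_coe_toMonoidHom, _root_.Submonoid.coe_map, _root_.MulAut.conj_apply, _root_.Subgroup.coe_toSubmonoid, _root_.Set.mem_image, _root_.SetLike.mem_coe, _root_.exists_exists_and_eq_and, _root_.mul_inv_cancel_right, _root_.Subgroup.mem_map, _root_.MonoidHom.coe_coe] using h2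
  refine Subgroup.eq_of_le_of_card_ge h1 ?_
  rw [hE.card]
  refine inf_le_four h hyN (N'.inv_mem hyN) fun h2 => hyQ ?_
  have h3 := Q'.inv_mem h2
  have e : (y⁻¹ * y⁻¹)⁻¹ = y * y := by rw [mul_inv_rev, inv_inv]
  rw [e] at h3
  exact mem_of_sq h.v' hyN h3

/-- (II) -/
theorem eig_inf2 {y : G} (hy : Eig W N' Q' y) :
    U0' ⊓ cj (y * y) U0' = cj (y * y) U0' ⊓ centralizer (W : Set G) := by
  have hE := eig_isLn h (eig_sq h hy)
  have h1 : U0' ⊓ cj (y * y) U0' = cj y (cj y⁻¹ U0' ⊓ cj y U0') := by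
    rw [cj_inf, cj_cj, cj_cj, mul_inv_cancel, cj_one]
  have h2 : Nat.card ↥(U0' ⊓ cj (y * y) U0') = 4 := by
    rw [h1, card_cj, inf_comm, eig_inf h hy, (eig_isLn h hy).card]
  refine Subgroup.eq_of_le_of_card_ge ?_ ?_
  · rintro e ⟨he, he'⟩
    refine ⟨he', mem_centralizer_iff.mpr fun w hw => h.fix w hw e he⟩
  · rw [hE.card, h2]

theorem eig_line {y : G} (hy : Eig W N' Q' y) :
    IsLn F z' U0' (cj y U0' ⊓ centralizer (W : Set G)) ∧
      IsLn F z' (cj y U0') (cj y U0' ⊓ centralizer (W : Set G)) ∧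
      cj y (cj y U0' ⊓ centralizer (W : Set G)) = cj y U0' ⊓ centralizer (W : Set G) ∧
      U0' ⊓ cj y U0' = cj y U0' ⊓ centralizer (W : Set G) := by
  have hE := eig_isLn h hy
  have hEY := eig_isLn h (eig_sq h hy)
  have hyN := hy.1
  set Y := y * y with hY
  set E := cj y U0' ⊓ centralizer (W : Set G) with hEdef
  set EY := cj Y U0' ⊓ centralizer (W : Set G) with hEYdef
  -- (II) for `y` and `y⁻¹`
  have a1 : U0' ⊓ cj Y U0' = EY := eig_inf2 h hy
  have a2 : U0' ⊓ cj Y⁻¹ U0' = cj Y⁻¹ U0' ⊓ centralizer (W : Set G) := by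
    have := eig_inf2 h (eig_inv h hy)
    have e : y⁻¹ * y⁻¹ = Y⁻¹ := by rw [hY, mul_inv_rev]
    rwa [e] at this
  have a3 : cj Y U0' ⊓ cj Y⁻¹ U0' = EY := eig_inf h (eig_sq h hy)
  have a4 : cj Y⁻¹ U0' ⊓ cj Y U0' = cj Y⁻¹ U0' ⊓ centralizer (W : Set G) := by
    have := eig_inf h (eig_inv h (eig_sq h hy))
    rwa [inv_inv] at this
  have a5 : U0' ⊓ cj Y⁻¹ U0' = EY := by rw [a2, ← a4, inf_comm, a3]
  have a6 : cj Y EY = EY := by
    rw [← a5, cj_inf, cj_cj, mul_inv_cancel, cj_one, inf_comm, a1, a5]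
  -- (III)
  have a7 : cj y EY = EY := by
    rw [← mem_normalizer_iff_cj] at a6 ⊢
    obtain ⟨m, hm⟩ : Odd p' := h.v'.prime.odd_of_ne_two h.v'.odd
    have h1 := h.v'.N_pow y hyN
    have h2 : y ^ p' ∈ normalizer (EY : Set G) := by
      rw [mem_normalizer_iff_cj, ← a1, cj_inf, Q_fix_nb h.v' U0_nb h1,
        Q_fix_nb h.v' (nb_of_N h.v' (N'.mul_mem hyN hyN)) h1]
    have e : y = (Y ^ m)⁻¹ * y ^ p' := by
      rw [hm, pow_add, pow_mul, pow_one, pow_two, ← hY]
      group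
    rw [e]
    exact Subgroup.mul_mem _ (Subgroup.inv_mem _ (Subgroup.pow_mem _ a6 m)) h2
  have a8 : EY ≤ U0' := by rw [← a1]; exact inf_le_left
  have a9 : EY ≤ E := by
    refine le_inf ?_ inf_le_right
    rw [← a7]
    exact cj_mono a8
  have a10 : EY = E := Subgroup.eq_of_le_of_card_ge a9 (by rw [hE.card, hEY.card])
  rw [a10] at a7 a8
  refine ⟨⟨a8, hE.card, hE.mem, hE.full⟩, hE, a7, ?_⟩
  symm
  refine Subgroup.eq_of_le_of_card_ge (le_inf a8 inf_le_left) ?_
  rw [hE.card]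
  have := inf_le_four h (one_mem N') hyN (by
    intro h1
    apply hy.2.1
    simpa using h1)
  rwa [cj_one] at this

/-! ### Step 5: the lines of all neighbours -/

omit h in
theorem isLn_cj (hf : Fam k UU VV F) {z : G} {X E : Subgroup G} {d : G} (hd : d * z = z * d)
    (hE : IsLn F z X E) : IsLn F z (cj d X) (cj d E) where
  le := cj_mono hE.le
  card := by rw [card_cj]; exact hE.card
  mem := by
    have e : d * z * d⁻¹ = z := by rw [hd]; group
    rw [← e]
    exact conj_mem_cj hE.mem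
  full := by
    rintro e he he1
    rw [mem_cj] at he
    have h1 := hf.cjF d _ (hE.full _ he (fun h0 => he1 (by
      have : e = d * (d⁻¹ * e * d) * d⁻¹ := by group
      rw [this, h0]; group)))
    have e2 : d * (d⁻¹ * e * d) * d⁻¹ = e := by group
    rwa [e2] at h1

/-- an element of `D'` swaps the lines of `U0'` -/
theorem exists_swap : ∃ t ∈ D', t ∈ normalizer (U0' : Set G) ∧ ∀ E, IsLn F z' U0' E → cj t E ≠ E := by
  obtain ⟨V, hV, hVU, t, ht, htz, ht1, ht2⟩ := h.v'.t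
  refine ⟨t, h.v'.stab t ht htz, ht, fun E hE => ?_⟩
  exact (fam2 h).swap h.v'.U0_mem h.v'.z_F hV hVU ht htz ht1 ht2 hE

/-- the lines of `U0'` are conjugate under `D' ∩ N(U0')` -/
theorem line_trans₀ {E E' : Subgroup G} (hE : IsLn F z' U0' E) (hE' : IsLn F z' U0' E') :
    ∃ t ∈ D', cj t U0' = U0' ∧ cj t E = E' := by
  by_cases hne : E = E'
  · exact ⟨1, one_mem _, cj_one _, by rw [cj_one, hne]⟩
  · obtain ⟨t, ht, htn, hts⟩ := exists_swap h
    have ht1 := cj_eq_of_mem_normalizer htn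
    refine ⟨t, ht, ht1, ?_⟩
    have h1 := isLn_cj h.fam (z_comm h.v' ht) hE
    rw [ht1] at h1
    rcases (fam2 h).line_cases h.v'.U0_mem h.v'.z_F hE hE' hne h1 with h2 | h2
    · exact absurd h2 (hts E hE)
    · exact h2

/-- `D'` is transitive on the flags -/
theorem flag_trans {X X' E E' : Subgroup G} (hX : X ∈ Nb D' U0') (hX' : X' ∈ Nb D' U0')
    (hE : IsLn F z' X E) (hE' : IsLn F z' X' E') : ∃ d ∈ D', cj d X = X' ∧ cj d E = E' := by
  obtain ⟨a, ha, rfl⟩ := hX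
  obtain ⟨b, hb, rfl⟩ := hX'
  have h1 := isLn_cj h.fam (z_comm h.v' (D'.inv_mem ha)) hE
  have h2 := isLn_cj h.fam (z_comm h.v' (D'.inv_mem hb)) hE'
  rw [cj_inv_cj] at h1 h2
  obtain ⟨t, ht, ht1, ht2⟩ := line_trans₀ h h1 h2
  refine ⟨b * t * a⁻¹, D'.mul_mem (D'.mul_mem hb ht) (D'.inv_mem ha), ?_, ?_⟩
  · rw [← cj_cj, cj_inv_cj, ← cj_cj, ht1]
  · rw [← cj_cj, ← cj_cj, ht2, cj_cj_inv]

/-- `Q'` normalises all lines -/
theorem Q_line {X E : Subgroup G} (hX : X ∈ Nb D' U0') (hE : IsLn F z' X E) {q : G} (hq : q ∈ Q') :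
    q ∈ normalizer (E : Set G) := by
  obtain ⟨y, hy⟩ := exists_eig_any h
  obtain ⟨h1, h2, h3, h4⟩ := eig_line h hy
  obtain ⟨d, hd, hdX, hdE⟩ := flag_trans h (nb_eig h hy) hX h2 hE
  have h5 : d⁻¹ * q * d⁻¹⁻¹ ∈ Q' := h.v'.Q_norm _ (D'.inv_mem hd) q hq
  rw [inv_inv] at h5
  have h6 : cj (d⁻¹ * q * d) (cj y U0' ⊓ centralizer (W : Set G)) =
      cj y U0' ⊓ centralizer (W : Set G) := by
    rw [← h4, cj_inf, Q_fix_nb h.v' U0_nb h5, Q_fix_nb h.v' (nb_eig h hy) h5]
  rw [mem_normalizer_iff_cj, ← hdE]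
  have e : q * d = d * (d⁻¹ * q * d) := by group
  rw [cj_cj, e, ← cj_cj, h6]

/-- strong form of `exists_Q_line` -/
theorem exists_Q_line' {X E : Subgroup G} (hX : X ∈ Nb D' U0') (hE : IsLn F z' X E) :
    ∃ q ∈ Q', (∀ x ∈ X, q * x * q⁻¹ * x⁻¹ ∈ E) ∧ ∀ e ∈ E, ∃ x ∈ X, q * x * q⁻¹ * x⁻¹ = e := by
  obtain ⟨y, hy⟩ := exists_eig_any h
  obtain ⟨h1, h2, h3, h4⟩ := eig_line h hy
  obtain ⟨w, hw, hwQ, hn, hne⟩ := eig_exists h hy
  obtain ⟨-, l1, -, l3⟩ := h.line (k_eq h) (nb_eig h hy) hw hn hne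
  -- `q = w (y w⁻¹ y⁻¹)`
  have hq : w * y * w⁻¹ * y⁻¹ ∈ Q' := hwQ
  have hact : ∀ x ∈ cj y U0', (w * y * w⁻¹ * y⁻¹) * x * (w * y * w⁻¹ * y⁻¹)⁻¹ = w * x * w⁻¹ := by
    intro x hx
    rw [mem_cj] at hx
    have h5 := h.fix w⁻¹ (W.inv_mem hw) _ hx
    have e : (w * y * w⁻¹ * y⁻¹) * x * (w * y * w⁻¹ * y⁻¹)⁻¹ =
        w * y * (w⁻¹ * (y⁻¹ * x * y)) * (w * y⁻¹ * w⁻¹) := by group
    rw [e, h5]
    group
  obtain ⟨d, hd, hdX, hdE⟩ := flag_trans h (nb_eig h hy) hX h2 hE
  set q := w * y * w⁻¹ * y⁻¹ with hqdef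
  refine ⟨d * q * d⁻¹, h.v'.Q_norm d hd q hq, ?_, ?_⟩
  · intro x hx
    rw [← hdX, mem_cj] at hx
    rw [← hdE, mem_cj]
    have h6 := l1 _ hx
    rw [← hact _ hx] at h6
    have e : d⁻¹ * (d * q * d⁻¹ * x * (d * q * d⁻¹)⁻¹ * x⁻¹) * d =
        q * (d⁻¹ * x * d) * q⁻¹ * (d⁻¹ * x * d)⁻¹ := by group
    rw [e]
    exact h6
  · intro e he
    rw [← hdE, mem_cj] at he
    obtain ⟨x, hx, hxe⟩ := l3 _ he
    refine ⟨d * x * d⁻¹, ?_, ?_⟩
    · rw [← hdX]; exact conj_mem_cj hx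
    · rw [← hact x hx] at hxe
      have e1 : d * q * d⁻¹ * (d * x * d⁻¹) * (d * q * d⁻¹)⁻¹ * (d * x * d⁻¹)⁻¹ =
          d * (q * x * q⁻¹ * x⁻¹) * d⁻¹ := by group
      rw [e1, hxe]
      group

/-! ### Step 5: `W'1 = [Q', W']` -/

theorem Q_comm_W {q w : G} (hq : q ∈ Q') (hw : w ∈ W') : q * w * q⁻¹ * w⁻¹ ∈ W' :=
  W'.mul_mem (W_conj h.v' (Q_le_D h.v' hq) hw) (W'.inv_mem hw)

theorem W1_conj {d : G} (hd : d ∈ D') {x : G} (hx : x ∈ ⁅Q', W'⁆) : d * x * d⁻¹ ∈ ⁅Q', W'⁆ := by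
  have h1 : cj d ⁅Q', W'⁆ = ⁅cj d Q', cj d W'⁆ := Subgroup.map_commutator _ _ _
  have h2 : cj d Q' ≤ Q' := by
    rintro _ ⟨q, hq, rfl⟩
    exact h.v'.Q_norm d hd q hq
  have h3 : cj d W' ≤ W' := by
    rintro _ ⟨w, hw, rfl⟩
    exact W_conj h.v' hd hw
  have h4 : cj d ⁅Q', W'⁆ ≤ ⁅Q', W'⁆ := by
    rw [h1]; exact commutator_mono h2 h3
  exact h4 (conj_mem_cj hx)

theorem z'_sq : z' * z' = 1 := h.fam.sq U0' h.v'.U0_mem z' h.v'.z_mem

/-- the elements `x` of `W'` with `[d, x] ∈ R` -/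
def ck {R : Subgroup G} (hR : R ≤ W') (d : G) : Subgroup G where
  carrier := {x | x ∈ W' ∧ d * x * d⁻¹ * x⁻¹ ∈ R}
  one_mem' := ⟨one_mem _, by simp⟩
  mul_mem' := by
    rintro a b ⟨ha, ha'⟩ ⟨hb, hb'⟩
    refine ⟨W'.mul_mem ha hb, ?_⟩
    have h1 : a * (d * b * d⁻¹ * b⁻¹) = (d * b * d⁻¹ * b⁻¹) * a := h.v'.W_comm _ ha _ (hR hb')
    have e : d * (a * b) * d⁻¹ * (a * b)⁻¹ =
        (d * a * d⁻¹ * a⁻¹) * (a * (d * b * d⁻¹ * b⁻¹)) * a⁻¹ := by group
    rw [e, h1]
    have e2 : (d * a * d⁻¹ * a⁻¹) * ((d * b * d⁻¹ * b⁻¹) * a) * a⁻¹ =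
        (d * a * d⁻¹ * a⁻¹) * (d * b * d⁻¹ * b⁻¹) := by group
    rw [e2]
    exact R.mul_mem ha' hb'
  inv_mem' := by
    rintro a ⟨ha, ha'⟩
    refine ⟨W'.inv_mem ha, ?_⟩
    have h1 : (d * a * d⁻¹ * a⁻¹)⁻¹ * a = a * (d * a * d⁻¹ * a⁻¹)⁻¹ :=
      h.v'.W_comm _ (W'.inv_mem (hR ha')) _ ha
    have e : d * a⁻¹ * d⁻¹ * a⁻¹⁻¹ = a⁻¹ * ((d * a * d⁻¹ * a⁻¹)⁻¹ * a) := by group
    rw [e, h1, inv_mul_cancel_left]
    exact R.inv_mem ha'

theorem zp_le : zpowers z' ≤ W' := by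
  rw [zpowers_le]
  exact (nb_le_W h.v' U0_nb) h.v'.z_mem

/-- `[Q', W'1] ≤ ⟨z'⟩` -/
theorem W1_comm' : ⁅Q', W'⁆ ≤ ⨅ q : Q', ck h (zp_le h) (q : G) := by
  set K : Subgroup G := ⨅ q : Q', ck h (zp_le h) (q : G) with hK
  have hKW : K ≤ W' := by
    refine (iInf_le _ (1 : Q')).trans ?_
    exact fun x hx => hx.1
  have hmem : ∀ x, x ∈ K ↔ ∀ q ∈ Q', x ∈ W' ∧ q * x * q⁻¹ * x⁻¹ ∈ zpowers z' := by
    intro x
    rw [hK, mem_iInf]
    exact ⟨fun h1 q hq => h1 ⟨q, hq⟩, fun h1 q => h1 q q.2⟩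
  rw [Subgroup.commutator_le]
  intro q hq w hw
  have h1 : W' ≤ ck h hKW q := by
    refine h.v'.W_le _ fun d hd => ?_
    have hX : cj d U0' ∈ Nb D' U0' := ⟨d, hd, rfl⟩
    intro x hx
    refine ⟨nb_le_W h.v' hX hx, ?_⟩
    obtain ⟨E₁, E₂, l1, l2, hne, -⟩ := (fam2 h).exists_lines (nb_UU h.fam h.v' hX) (z_nb h.v' hX) h.v'.z_F
    have hact : ∀ s ∈ Q', (∀ x ∈ cj d U0', s * x * s⁻¹ * x⁻¹ ∈ E₁ ⊔ E₂) ∧
        ∀ x ∈ E₁ ⊔ E₂, s * x * s⁻¹ * x⁻¹ = 1 ∨ s * x * s⁻¹ * x⁻¹ = z' := fun s hs =>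
      (fam2 h).comm_mem (nb_UU h.fam h.v' hX) h.v'.z_F l1 l2 hne
        (by rw [mem_normalizer_iff_cj]; exact Q_fix_nb h.v' hX hs) (z_comm h.v' (Q_le_D h.v' hs))
        (Q_line h hX l1 hs)
    have h2 := (hact q hq).1 x hx
    rw [hmem]
    intro s hs
    refine ⟨Q_comm_W h hq (nb_le_W h.v' hX hx), ?_⟩
    rcases (hact s hs).2 _ h2 with h3 | h3
    · rw [h3]; exact one_mem _
    · rw [h3]; exact mem_zpowers z'
  exact (h1 hw).2

theorem W1_comm {q x : G} (hq : q ∈ Q') (hx : x ∈ ⁅Q', W'⁆) :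
    q * x * q⁻¹ * x⁻¹ = 1 ∨ q * x * q⁻¹ * x⁻¹ = z' := by
  have h1 := W1_comm' h hx
  rw [mem_iInf] at h1
  have h2 := (h1 ⟨q, hq⟩).2
  obtain ⟨n, hn⟩ := h2
  have h3 : z' ^ n = 1 ∨ z' ^ n = z' := by
    have hz : z' ^ (2 : ℤ) = 1 := by
      have := z'_sq h
      rw [← pow_two] at this
      exact_mod_cast this
    rcases Int.even_or_odd n with ⟨m, hm⟩ | ⟨m, hm⟩
    · left
      rw [hm, ← two_mul, zpow_mul, hz, one_zpow]
    · right
      rw [hm, zpow_add, zpow_mul, hz, one_zpow, one_mul, zpow_one]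
  change z' ^ n = q * x * q⁻¹ * x⁻¹ at hn
  rw [← hn]
  exact h3

theorem W1_inf {X E₁ E₂ : Subgroup G} (hX : X ∈ Nb D' U0') (h1 : IsLn F z' X E₁) (h2 : IsLn F z' X E₂)
    (hne : E₁ ≠ E₂) : X ⊓ ⁅Q', W'⁆ = E₁ ⊔ E₂ := by
  have hle : E₁ ⊔ E₂ ≤ X ⊓ ⁅Q', W'⁆ := by
    have key : ∀ E, IsLn F z' X E → E ≤ X ⊓ ⁅Q', W'⁆ := by
      intro E hE e he
      refine ⟨hE.le he, ?_⟩
      obtain ⟨q, hq, -, h3⟩ := exists_Q_line' h hX hE
      obtain ⟨x, hx, hxe⟩ := h3 e he
      rw [← hxe]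
      exact commutator_mem_commutator hq (nb_le_W h.v' hX hx)
    exact sup_le (key _ h1) (key _ h2)
  obtain ⟨hc8, -, hprod⟩ := (fam2 h).line_sup (nb_UU h.fam h.v' hX) h.v'.z_F h1 h2 hne
  by_contra hcon
  -- then `X ≤ ⁅Q', W'⁆`
  have hXle : X ≤ ⁅Q', W'⁆ := by
    have : ¬ X ⊓ ⁅Q', W'⁆ ≤ E₁ ⊔ E₂ := fun h3 => hcon (le_antisymm h3 hle)
    obtain ⟨x, hx, hxn⟩ := SetLike.not_le_iff_exists.mp this
    intro y hy
    by_cases hyE : y ∈ E₁ ⊔ E₂
    · exact (hle hyE).2
    · have h3 := (hle (hprod x hx.1 y hy hxn hyE)).2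
      have e : y = x⁻¹ * (x * y) := by group
      rw [e]
      exact Subgroup.mul_mem _ (Subgroup.inv_mem _ hx.2) h3
  have hWle : W' ≤ ⁅Q', W'⁆ := by
    obtain ⟨a, ha, rfl⟩ := hX
    refine h.v'.W_le _ fun d hd => ?_
    intro x hx
    rw [mem_cj] at hx
    have h3 := hXle (conj_mem_cj (g := a) hx)
    have h4 := W1_conj h (D'.mul_mem hd (D'.inv_mem ha)) h3
    have e : d * a⁻¹ * (a * (d⁻¹ * x * d) * a⁻¹) * (d * a⁻¹)⁻¹ = x := by group
    rwa [e] at h4
  -- `[Q', W'] ≤ ⟨z'⟩`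
  have h5 : ⁅Q', W'⁆ ≤ zpowers z' := by
    rw [Subgroup.commutator_le]
    intro q hq w hw
    have h6 := W1_comm h hq (hWle hw)
    rw [commutatorElement_def]
    rcases h6 with h6 | h6
    · rw [h6]; exact one_mem _
    · rw [h6]; exact mem_zpowers _
  have h6 : E₁ ⊔ E₂ ≤ zpowers z' := (hle.trans inf_le_right).trans h5
  have h7 := Subgroup.card_le_of_le h6
  have h8 : Nat.card (zpowers z') ≤ 2 := by
    rw [Nat.card_zpowers]
    exact orderOf_le_of_pow_eq_one (by norm_num) (by rw [pow_two]; exact z'_sq h)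
  omega

end pair

end Cfsg.Agent.MinSimple.OmPairB

/-! ### The API -/

namespace Cfsg.Agent.MinSimple.OmPair

open Subgroup
open Cfsg.Agent.MinSimple.Geo (cj)

universe u

variable {G : Type u} [Group G] [Finite G] {k : ℕ} {UU VV : Set (Subgroup G)} {F : Set G}
  {D N Q U0 W : Subgroup G} {z : G} {p : ℕ} {D' N' Q' U0' W' : Subgroup G} {z' : G} {p' : ℕ}

variable (h : Pair k UU VV F D N Q U0 W z p D' N' Q' U0' W' z' p')
include h

/-- (SIGN) -/
theorem Pair.exists_eig {Y : Subgroup G} (hQ : Q' ≤ Y) (hN : Y ≤ N') (hW : ∀ w ∈ W, ∀ y ∈ Y, w * y * w⁻¹ ∈ Y)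
    {w₀ : G} (hw₀ : w₀ ∈ W) (hne : ∃ y ∈ Y, w₀ * y * w₀⁻¹ * y⁻¹ ∉ Q') :
    ∃ y, Eig W N' Q' y ∧ y ∈ Y ∧ w₀ * y * w₀⁻¹ * y ∈ Q' := OmPairB.exists_eig h hQ hN hW hw₀ hne

theorem Pair.k_eq : k = 2 := OmPairB.k_eq h

theorem Pair.not_le : ¬ W ≤ Q' := OmPairB.not_le_Q h

/-- an element of `W` outside `Q'` inverts an eigenvector -/
theorem Pair.exists_eig_of {w : G} (hw : w ∈ W) (hwQ : w ∉ Q') :
    ∃ y, Eig W N' Q' y ∧ w * y * w⁻¹ * y ∈ Q' := OmPairB.exists_eig_of h hw hwQ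

/-- (4.1) -/
theorem Pair.eig_index {y : G} (hy : Eig W N' Q' y) :
    (W ⊓ centralizer (cj y U0' : Set G)).relIndex W = 4 := OmPairB.eig_index h hy

/-- (4.1) -/
theorem Pair.eig_exists {y : G} (hy : Eig W N' Q' y) :
    ∃ w ∈ W, w * y * w⁻¹ * y⁻¹ ∈ Q' ∧ w ∈ normalizer (cj y U0' : Set G) ∧ ∃ x ∈ cj y U0', w * x ≠ x * w :=
  OmPairB.eig_exists h hy

theorem Pair.exists_special : ∃ X ∈ Nb D U0, (W' ⊓ centralizer (X : Set G)).relIndex W' = 4 ∧
    ∃ w ∈ W', ∃ x ∈ X, w * x ≠ x * w := OmPairB.exists_special' h.symm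

/-- Step 5: the line `E_y` -/
theorem Pair.eig_line {y : G} (hy : Eig W N' Q' y) :
    IsLn F z' U0' (cj y U0' ⊓ centralizer (W : Set G)) ∧ IsLn F z' (cj y U0') (cj y U0' ⊓ centralizer (W : Set G)) ∧
      cj y (cj y U0' ⊓ centralizer (W : Set G)) = cj y U0' ⊓ centralizer (W : Set G) ∧
      U0' ⊓ cj y U0' = cj y U0' ⊓ centralizer (W : Set G) := OmPairB.eig_line h hy

/-- `Q'` normalises all lines -/
theorem Pair.Q_line {X E : Subgroup G} (hX : X ∈ Nb D' U0') (hE : IsLn F z' X E) {q : G} (hq : q ∈ Q') :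
    q ∈ normalizer (E : Set G) := OmPairB.Q_line h hX hE hq

/-- an element of `D'` swaps the lines of `U0'` -/
theorem Pair.exists_swap : ∃ t ∈ D', t ∈ normalizer (U0' : Set G) ∧ ∀ E, IsLn F z' U0' E → cj t E ≠ E :=
  OmPairB.exists_swap h

theorem Pair.W1_conj {d : G} (hd : d ∈ D') {x : G} (hx : x ∈ ⁅Q', W'⁆) : d * x * d⁻¹ ∈ ⁅Q', W'⁆ :=
  OmPairB.W1_conj h hd hx

theorem Pair.W1_inf {X E₁ E₂ : Subgroup G} (hX : X ∈ Nb D' U0') (h1 : IsLn F z' X E₁) (h2 : IsLn F z' X E₂)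
    (hne : E₁ ≠ E₂) : X ⊓ ⁅Q', W'⁆ = E₁ ⊔ E₂ := OmPairB.W1_inf h hX h1 h2 hne

theorem Pair.W1_comm {q x : G} (hq : q ∈ Q') (hx : x ∈ ⁅Q', W'⁆) :
    q * x * q⁻¹ * x⁻¹ = 1 ∨ q * x * q⁻¹ * x⁻¹ = z' := OmPairB.W1_comm h hq hx

end Cfsg.Agent.MinSimple.OmPair
end

-- part: MinSimple/OmPairC
section
/-!
# The case (Omega) is empty, Step 6

Row 4061 of the blackboard (helper12). `E₁, E₂` are the two lines of `U0'`; `rr N' Eᵢ = N' ∩ N(Eᵢ)`.
-/

set_option autoImplicit false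
set_option linter.dupNamespace false

namespace Cfsg.Agent.MinSimple.OmPair

open Subgroup
open Cfsg.Agent.ZN.Block (card_mul_relIndex' card_sup_mul_card_inf le_normalizer_of_forall)
open Cfsg.Agent.MinSimple.Geo (cj mem_cj conj_mem_cj cj_cj cj_mono cj_eq_of_mem_normalizer
  mem_normalizer_iff_cj card_cj cj_one cj_normalizer)

universe u

variable {G : Type u} [Group G]

/-! ### general facts -/

theorem cj_eq_cj_iff {a b : G} {H : Subgroup G} : cj a H = cj b H ↔ a⁻¹ * b ∈ normalizer (H : Set G) := by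
  rw [mem_normalizer_iff_cj]
  constructor
  · intro e
    rw [← cj_cj, ← e, cj_cj, inv_mul_cancel, cj_one]
  · intro e
    rw [← cj_cj] at e
    have := congrArg (cj a) e
    rw [cj_cj, mul_inv_cancel, cj_one] at this
    exact this.symm

theorem card_le_two_mul [Finite G] {K X : Subgroup G} (hKX : K ≤ X)
    (h : ∀ u ∈ X, ∀ u' ∈ X, u ∉ K → u' ∉ K → u * u' ∈ K) : Nat.card X ≤ 2 * Nat.card K := by
  by_cases hall : ∀ u ∈ X, u ∈ K
  · have : X ≤ K := hall
    have := card_le_of_le this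
    omega
  · push Not at hall
    obtain ⟨a, ha, haK⟩ := hall
    have h2 : K.relIndex X = 2 := by
      rw [relIndex, index_eq_two_iff]
      refine ⟨⟨a, ha⟩, ?_⟩
      rintro ⟨b, hb⟩
      simp only [mem_subgroupOf]
      by_cases hbK : b ∈ K
      · refine Or.inr ⟨hbK, fun hba => haK ?_⟩
        have : b * a ∈ K := hba
        have := mul_mem (inv_mem hbK) this
        simpa using this
      · exact Or.inl ⟨h b hb a ha hbK haK, hbK⟩
    have := card_mul_relIndex' hKX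
    rw [h2] at this
    omega

theorem isLn_map_cj {F : Set G} {z : G} {X E : Subgroup G} (h : IsLn F z X E) (hF : ∀ g : G, ∀ x ∈ F, g * x * g⁻¹ ∈ F)
    {d : G} (hd : d * z = z * d) : IsLn F z (cj d X) (cj d E) where
  le := cj_mono h.le
  card := by rw [card_cj]; exact h.card
  mem := by
    have := conj_mem_cj (g := d) h.mem
    rwa [hd, mul_inv_cancel_right] at this
  full := by
    rintro e ⟨x, hx, rfl⟩ he
    refine hF d x (h.full x hx ?_)
    rintro rfl
    exact he (map_one _)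

theorem IsLn.two {F : Set G} {z : G} {X E : Subgroup G} (h : IsLn F z X E) [Finite G] (hz2 : z * z = 1)
    (hz1 : z ≠ 1) {a b : G} (ha : a ∈ E) (hb : b ∈ E) (ha1 : a ≠ 1) (haz : a ≠ z)
    (hb1 : b ≠ 1) (hbz : b ≠ z) : a * b = 1 ∨ a * b = z := by
  have hmem : ∀ x : G, x ∈ zpowers z ↔ x = 1 ∨ x = z := by
    intro x
    constructor
    · rintro ⟨m, rfl⟩
      simp only
      rcases Int.even_or_odd' m with ⟨c, rfl | rfl⟩
      · left
        rw [zpow_mul, zpow_two, hz2, one_zpow]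
      · right
        rw [zpow_add, zpow_mul, zpow_two, hz2, one_zpow, one_mul, zpow_one]
    · rintro (rfl | rfl)
      · exact one_mem _
      · exact mem_zpowers _
  have hle : zpowers z ≤ E := by rw [zpowers_le]; exact h.mem
  have hcard : Nat.card (zpowers z) = 2 := by
    rw [Nat.card_zpowers]
    exact orderOf_eq_prime (by rw [pow_two]; exact hz2) hz1
  have h2 : (zpowers z).relIndex E = 2 := by
    have := card_mul_relIndex' hle
    rw [hcard, h.card] at this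
    omega
  have := Cfsg.Agent.ZN.Block.mul_mem_of_relIndex_two h2 ha hb
    (fun e => (hmem a).1 e |>.elim ha1 haz) (fun e => (hmem b).1 e |>.elim hb1 hbz)
  exact (hmem _).1 this

theorem Fam.one_not_F {k : ℕ} {UU VV : Set (Subgroup G)} {F : Set G} (h : Fam k UU VV F) {X : Subgroup G}
    (hX : X ∈ UU) : (1 : G) ∉ F := by
  obtain ⟨Vf, hVf, hsup, hind, hall, hF⟩ := h.frame X hX
  intro h1
  have := h.two_le
  exact (hF 1 (one_mem _)).1 h1 ⟨0, by omega⟩ (one_mem _)

/-! ### congruences modulo `Q` -/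

namespace Vert

variable {UU VV : Set (Subgroup G)} {F : Set G} {D N Q U0 W : Subgroup G} {z : G} {p : ℕ}
  (h : Vert UU VV F D N Q U0 W z p)
include h

theorem Q_conj {d q : G} (hd : d ∈ D) (hq : q ∈ Q) : d * q * d⁻¹ ∈ Q := h.Q_norm d hd q hq

theorem Q_conj' {d q : G} (hd : d ∈ D) (hq : q ∈ Q) : d⁻¹ * q * d ∈ Q := by
  have := h.Q_norm d⁻¹ (inv_mem hd) q hq
  rwa [inv_inv] at this

theorem fix_mul_right {d n n' : G} (hn : n ∈ D) (h1 : d * n * d⁻¹ * n⁻¹ ∈ Q)
    (h2 : d * n' * d⁻¹ * n'⁻¹ ∈ Q) : d * (n * n') * d⁻¹ * (n * n')⁻¹ ∈ Q := by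
  have e : d * (n * n') * d⁻¹ * (n * n')⁻¹ = (d * n * d⁻¹ * n⁻¹) * (n * (d * n' * d⁻¹ * n'⁻¹) * n⁻¹) := by group
  rw [e]
  exact mul_mem h1 (h.Q_conj hn h2)

theorem fix_inv_right {d n : G} (hn : n ∈ D) (h1 : d * n * d⁻¹ * n⁻¹ ∈ Q) :
    d * n⁻¹ * d⁻¹ * n⁻¹⁻¹ ∈ Q := by
  have e : d * n⁻¹ * d⁻¹ * n⁻¹⁻¹ = n⁻¹ * (d * n * d⁻¹ * n⁻¹)⁻¹ * n := by group
  rw [e]
  exact h.Q_conj' hn (inv_mem h1)

theorem fix_Q_left {q n : G} (hq : q ∈ Q) (hn : n ∈ D) : q * n * q⁻¹ * n⁻¹ ∈ Q := by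
  have := mul_mem hq (h.Q_conj hn (inv_mem hq))
  simpa only [mul_assoc] using this

/-- `N/Q` has odd order -/
theorem sq_mem {n : G} (hn : n ∈ N) (h2 : n * n ∈ Q) : n ∈ Q := by
  have hp : Odd p := h.prime.odd_of_ne_two h.odd
  obtain ⟨m, hm⟩ := hp
  have h1 := h.N_pow n hn
  have e : n = ((n * n) ^ m)⁻¹ * n ^ p := by
    rw [hm, pow_succ, pow_mul, pow_two, inv_mul_cancel_left]
  rw [e]
  exact mul_mem (inv_mem (pow_mem h2 m)) h1

/-- two elements inverting `n` modulo `Q` -/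
theorem fix_of_inv {u u' n : G} (hu : u ∈ D) (hn : n ∈ D) (h1 : u * n * u⁻¹ * n ∈ Q)
    (h2 : u' * n * u'⁻¹ * n ∈ Q) : (u * u') * n * (u * u')⁻¹ * n⁻¹ ∈ Q := by
  have e : (u * u') * n * (u * u')⁻¹ * n⁻¹ =
      (u * (u' * n * u'⁻¹ * n) * u⁻¹) * (n * (u * n * u⁻¹ * n)⁻¹ * n⁻¹) := by group
  rw [e]
  exact mul_mem (h.Q_conj hu h2) (h.Q_conj hn (inv_mem h1))

/-- `w ∈ D ∩ N(U0)` fixes `cj n U0` iff it centralises `n` modulo `Q` -/
theorem fix_iff {w n : G} (hw : w ∈ D) (hwU : w ∈ normalizer (U0 : Set G)) (hn : n ∈ N) :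
    w ∈ normalizer (cj n U0 : Set G) ↔ w * n * w⁻¹ * n⁻¹ ∈ Q := by
  have e1 : cj w (cj n U0) = cj (w * n * w⁻¹) U0 := by
    rw [cj_cj]
    conv_rhs => rw [← cj_eq_of_mem_normalizer hwU, cj_cj]
    congr 1
    group
  rw [mem_normalizer_iff_cj, e1, eq_comm, cj_eq_cj_iff]
  constructor
  · intro hm
    have hN : n⁻¹ * (w * n * w⁻¹) ∈ N := mul_mem (inv_mem hn) (h.N_norm w hw n hn)
    have hQ := h.N_fix _ hN hm
    have := h.Q_conj (h.N_le hn) hQ
    have e : n * (n⁻¹ * (w * n * w⁻¹)) * n⁻¹ = w * n * w⁻¹ * n⁻¹ := by group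
    rwa [e] at this
  · intro hQ
    have := h.Q_conj' (h.N_le hn) hQ
    have e : n⁻¹ * (w * n * w⁻¹ * n⁻¹) * n = n⁻¹ * (w * n * w⁻¹) := by group
    rw [e] at this
    exact h.Q_fix _ this

theorem nb_iff {X : Subgroup G} : X ∈ Nb D U0 ↔ ∃ n ∈ N, X = cj n U0 := by
  constructor
  · rintro ⟨d, hd, rfl⟩
    obtain ⟨n, hn, m, hm, hmU, rfl⟩ := h.trans d hd
    exact ⟨n, hn, by rw [← cj_cj, cj_eq_of_mem_normalizer hmU]⟩
  · rintro ⟨n, hn, rfl⟩
    exact ⟨n, h.N_le hn, rfl⟩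

end Vert

/-- the elements of `N` normalising the line `E` -/
def rr (N E : Subgroup G) : Subgroup G := N ⊓ normalizer (E : Set G)

theorem mem_rr {N E : Subgroup G} {g : G} : g ∈ rr N E ↔ g ∈ N ∧ cj g E = E := by
  rw [rr, mem_inf, mem_normalizer_iff_cj]

/-- the pair together with the two lines of `U0'` -/
structure Sg (UU VV : Set (Subgroup G)) (F : Set G) (D N Q U0 W : Subgroup G) (z : G) (p : ℕ)
    (D' N' Q' U0' W' : Subgroup G) (z' : G) (p' : ℕ) (E₁ E₂ : Subgroup G) : Prop where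
  pair : Pair 2 UU VV F D N Q U0 W z p D' N' Q' U0' W' z' p'
  l1 : IsLn F z' U0' E₁
  l2 : IsLn F z' U0' E₂
  ne : E₁ ≠ E₂

namespace Sg

variable {UU VV : Set (Subgroup G)} {F : Set G}
  {D N Q U0 W : Subgroup G} {z : G} {p : ℕ} {D' N' Q' U0' W' : Subgroup G} {z' : G} {p' : ℕ}
  {E₁ E₂ : Subgroup G}

theorem symm (h : Sg UU VV F D N Q U0 W z p D' N' Q' U0' W' z' p' E₁ E₂) :
    Sg UU VV F D N Q U0 W z p D' N' Q' U0' W' z' p' E₂ E₁ :=
  ⟨h.pair, h.l2, h.l1, h.ne.symm⟩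

variable (h : Sg UU VV F D N Q U0 W z p D' N' Q' U0' W' z' p' E₁ E₂)
include h

omit h in
theorem U0_nb : U0' ∈ Nb D' U0' := ⟨1, one_mem _, (cj_one _).symm⟩

theorem nb {n : G} (hn : n ∈ N') : cj n U0' ∈ Nb D' U0' := ⟨n, h.pair.v'.N_le hn, rfl⟩

theorem z_comm {d : G} (hd : d ∈ D') : d * z' = z' * d := mem_centralizer_singleton_iff.1 (h.pair.v'.D_le hd)

theorem z_sq : z' * z' = 1 := h.pair.fam.sq _ h.pair.v'.U0_mem _ h.pair.v'.z_mem

theorem z_ne : z' ≠ 1 := by
  rintro e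
  exact h.pair.fam.one_not_F h.pair.v'.U0_mem (e ▸ h.pair.v'.z_F)

theorem ln {n : G} (hn : n ∈ N') : IsLn F z' (cj n U0') (cj n E₁) :=
  isLn_map_cj h.l1 h.pair.fam.cjF (h.z_comm (h.pair.v'.N_le hn))

theorem ln_ne (n : G) : cj n E₁ ≠ cj n E₂ := by
  intro e
  have := congrArg (cj n⁻¹) e
  rw [cj_cj, cj_cj, inv_mul_cancel, cj_one, cj_one] at this
  exact h.ne this

theorem Q_le_rr [Finite G] : Q' ≤ rr N' E₁ := fun q hq =>
  mem_inf.2 ⟨h.pair.v'.Q_le hq, h.pair.Q_line U0_nb h.l1 hq⟩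

theorem W_normalizer {w : G} (hw : w ∈ W) : w ∈ normalizer (U0' : Set G) := by
  have : w ∈ centralizer (U0' : Set G) := mem_centralizer_iff.2 fun u hu => (h.pair.fix w hw u hu).symm
  exact centralizer_le_normalizer _ this

theorem W_cj {w : G} (hw : w ∈ W) : cj w E₁ = E₁ := by
  rw [← mem_normalizer_iff_cj]
  have : w ∈ centralizer (E₁ : Set G) :=
    mem_centralizer_iff.2 fun u hu => (h.pair.fix w hw u (h.l1.le hu)).symm
  exact centralizer_le_normalizer _ this

theorem W_fix_iff {w n : G} (hw : w ∈ W) (hn : n ∈ N') :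
    w ∈ normalizer (cj n U0' : Set G) ↔ w * n * w⁻¹ * n⁻¹ ∈ Q' :=
  h.pair.v'.fix_iff (h.pair.le hw) (h.W_normalizer hw) hn

omit h in
/-- the line `cj n E₁` depends only on `n` modulo `rr N' E₁` -/
theorem cj_mul_rr {n r : G} (hr : r ∈ rr N' E₁) : cj (n * r) E₁ = cj n E₁ := by
  rw [← cj_cj, (mem_rr.1 hr).2]

theorem rr_cj [Finite G] {n r : G} (hn : n ∈ N') (hr : r ∈ rr N' E₁) : cj (r * n) E₁ = cj n E₁ := by
  have h1 : n⁻¹ * r * n⁻¹⁻¹ * r⁻¹ ∈ Q' := h.pair.v'.N_comm n⁻¹ (inv_mem hn) r (mem_rr.1 hr).1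
  have h2 : n⁻¹ * r * n ∈ rr N' E₁ := by
    have e : n⁻¹ * r * n = (n⁻¹ * r * n⁻¹⁻¹ * r⁻¹) * r := by group
    rw [e]
    exact mul_mem (h.Q_le_rr h1) hr
  have e : r * n = n * (n⁻¹ * r * n) := by group
  rw [e, cj_mul_rr h2]

/-- an element of both `rr` is in `Q'` -/
theorem rr_inf [Finite G] {n : G} (h1 : n ∈ rr N' E₁) (h2 : n ∈ rr N' E₂) : n ∈ Q' := by
  have hnD : n ∈ D' := h.pair.v'.N_le (mem_rr.1 h1).1
  have key : ∀ E : Subgroup G, IsLn F z' U0' E → cj n E = E → ∀ e ∈ E, n * n * e = e * (n * n) := by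
    intro E hE hnE e he
    by_cases he1 : e = 1
    · rw [he1]; simp
    by_cases hez : e = z'
    · have := h.z_comm hnD
      rw [hez, mul_assoc, this, ← mul_assoc, this, mul_assoc]
    have hc : n * e * n⁻¹ ∈ E := by
      have := conj_mem_cj (g := n) he
      rwa [hnE] at this
    have hc1 : n * e * n⁻¹ ≠ 1 := by
      intro e'
      rw [mul_inv_eq_one] at e'
      exact he1 (by
        have : n * e = n * 1 := by rw [e', mul_one]
        exact mul_left_cancel this)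
    have hcz : n * e * n⁻¹ ≠ z' := by
      intro e'
      have hzz := h.z_comm hnD
      rw [mul_inv_eq_iff_eq_mul, ← hzz] at e'
      exact hez (mul_left_cancel e')
    have hsqE : e * e = 1 := h.pair.fam.sq _ h.pair.v'.U0_mem _ (hE.le he)
    rcases hE.two h.z_sq h.z_ne hc he hc1 hcz he1 hez with e1 | e1
    · -- n e n⁻¹ = e
      have e2 : n * e * n⁻¹ = e := by
        rw [mul_eq_one_iff_eq_inv] at e1
        rw [e1]
        exact inv_eq_of_mul_eq_one_left hsqE
      rw [mul_inv_eq_iff_eq_mul] at e2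
      rw [mul_assoc, e2, ← mul_assoc, e2, mul_assoc]
    · have e2 : n * e * n⁻¹ = z' * e := by
        have : n * e * n⁻¹ = n * e * n⁻¹ * e * e := by rw [mul_assoc (n * e * n⁻¹) e e, hsqE, mul_one]
        rw [this, e1]
      rw [mul_inv_eq_iff_eq_mul] at e2
      have hzz := h.z_comm hnD
      calc n * n * e = n * (n * e) := by group
        _ = n * (z' * e * n) := by rw [e2]
        _ = (n * z') * (e * n) := by group
        _ = (z' * n) * (e * n) := by rw [hzz]
        _ = z' * (n * e) * n := by group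
        _ = z' * (z' * e * n) * n := by rw [e2]
        _ = (z' * z') * e * (n * n) := by group
        _ = e * (n * n) := by rw [h.z_sq, one_mul]
  obtain ⟨-, ⟨u, hu, hu1, huF⟩, -⟩ := h.pair.fam.line_sup h.pair.v'.U0_mem h.pair.v'.z_F h.l1 h.l2 h.ne
  have hle : E₁ ⊔ E₂ ≤ centralizer ({n * n} : Set G) := by
    refine sup_le (fun e he => ?_) (fun e he => ?_)
    · exact mem_centralizer_singleton_iff.2 (key E₁ h.l1 (mem_rr.1 h1).2 e he).symm
    · exact mem_centralizer_singleton_iff.2 (key E₂ h.l2 (mem_rr.1 h2).2 e he).symm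
  have huX : u ∈ U0' := (sup_le h.l1.le h.l2.le) hu
  have hnn : n * n ∈ normalizer (U0' : Set G) := by
    refine h.pair.fam.cent _ h.pair.v'.U0_mem u huX hu1 huF ?_
    exact mem_centralizer_singleton_iff.2 (mem_centralizer_singleton_iff.1 (hle hu)).symm
  have hnN : n ∈ N' := (mem_rr.1 h1).1
  exact h.pair.v'.sq_mem hnN (h.pair.v'.N_fix _ (mul_mem hnN hnN) hnn)

/-- `D' ∩ N(U0')` permutes the two lines -/
theorem cj_cases [Finite G] {d : G} (hd : d ∈ D') (hdU : d ∈ normalizer (U0' : Set G)) :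
    cj d E₁ = E₁ ∨ cj d E₁ = E₂ := by
  have hl : IsLn F z' U0' (cj d E₁) := by
    have := isLn_map_cj h.l1 h.pair.fam.cjF (h.z_comm hd)
    rwa [cj_eq_of_mem_normalizer hdU] at this
  exact h.pair.fam.line_cases h.pair.v'.U0_mem h.pair.v'.z_F h.l1 h.l2 h.ne hl

theorem conj_rr {d r : G} {E : Subgroup G} (hd : d ∈ D') (hr : r ∈ rr N' E) : d * r * d⁻¹ ∈ rr N' (cj d E) := by
  rw [mem_rr] at hr ⊢
  refine ⟨h.pair.v'.N_norm d hd r hr.1, ?_⟩
  rw [cj_cj]
  have e : d * r * d⁻¹ * d = d * r := by group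
  rw [e, ← cj_cj, hr.2]

/-- an eigenvector with a nontrivial character is in `rr N' E₁` or in `rr N' E₂` -/
theorem eig_cases [Finite G] {y : G} (hy : Eig W N' Q' y) : y ∈ rr N' E₁ ∨ y ∈ rr N' E₂ := by
  obtain ⟨hl, -, hcj, -⟩ := h.pair.eig_line hy
  rcases h.pair.fam.line_cases h.pair.v'.U0_mem h.pair.v'.z_F h.l1 h.l2 h.ne hl with e | e
  · left
    rw [e] at hcj
    exact mem_rr.2 ⟨hy.1, hcj⟩
  · right
    rw [e] at hcj
    exact mem_rr.2 ⟨hy.1, hcj⟩

/-- the line of an eigenvector in `rr N' E₁` is `E₁` -/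
theorem eig_E [Finite G] {y : G} (hy : Eig W N' Q' y) (hyE : y ∈ rr N' E₁) :
    cj y U0' ⊓ centralizer (W : Set G) = E₁ := by
  obtain ⟨hl, -, hcj, -⟩ := h.pair.eig_line hy
  rcases h.pair.fam.line_cases h.pair.v'.U0_mem h.pair.v'.z_F h.l1 h.l2 h.ne hl with e | e
  · exact e
  · rw [e] at hcj
    exact absurd (h.rr_inf hyE (mem_rr.2 ⟨hy.1, hcj⟩)) hy.2.1

theorem eig_not_fix {y : G} (hy : Eig W N' Q' y) : ¬ ∀ w ∈ W, w * y * w⁻¹ * y⁻¹ ∈ Q' := by
  intro hall
  obtain ⟨w, hw, hwy⟩ := hy.2.2.2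
  have h1 := hall w hw
  have h2 : (w * y * w⁻¹ * y⁻¹)⁻¹ * (w * y * w⁻¹ * y) ∈ Q' := mul_mem (inv_mem h1) hwy
  have e : (w * y * w⁻¹ * y⁻¹)⁻¹ * (w * y * w⁻¹ * y) = y * y := by group
  rw [e] at h2
  exact hy.2.1 (h.pair.v'.sq_mem hy.1 h2)

/-- an element of `W` cannot both centralise and invert an eigenvector -/
theorem eig_not_both {y w : G} (hy : y ∈ N') (hyQ : y ∉ Q') (h1 : w * y * w⁻¹ * y⁻¹ ∈ Q')
    (h2 : w * y * w⁻¹ * y ∈ Q') : False := by
  have h3 : (w * y * w⁻¹ * y⁻¹)⁻¹ * (w * y * w⁻¹ * y) ∈ Q' := mul_mem (inv_mem h1) h2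
  have e : (w * y * w⁻¹ * y⁻¹)⁻¹ * (w * y * w⁻¹ * y) = y * y := by group
  rw [e] at h3
  exact hyQ (h.pair.v'.sq_mem hy h3)

theorem exists_Eig [Finite G] : ∃ y, Eig W N' Q' y := by
  obtain ⟨w, hw, hwQ⟩ := SetLike.not_le_iff_exists.1 h.pair.not_le
  have hne : ∃ y ∈ N', w * y * w⁻¹ * y⁻¹ ∉ Q' := by
    by_contra hcon
    push Not at hcon
    have := h.pair.v'.faith w (h.pair.le hw) hcon
    exact hwQ (h.pair.v'.N_fix w this (h.W_normalizer hw))
  obtain ⟨y, hy, -, -⟩ := h.pair.exists_eig h.pair.v'.Q_le le_rfl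
    (fun w' hw' n hn => h.pair.v'.N_norm w' (h.pair.le hw') n hn) hw hne
  exact ⟨y, hy⟩

theorem rr_comm [Finite G] {r s : G} (hr : r ∈ rr N' E₁) (hs : s ∈ rr N' E₂) : r * s * r⁻¹ ∈ rr N' E₂ := by
  have h1 := h.pair.v'.N_comm r (mem_rr.1 hr).1 s (mem_rr.1 hs).1
  have e : r * s * r⁻¹ = (r * s * r⁻¹ * s⁻¹) * s := by group
  rw [e]
  exact mul_mem (h.symm.Q_le_rr h1) hs

/-- `N' = rr N' E₁ * rr N' E₂` -/
theorem exists_mul [Finite G] {n : G} (hn : n ∈ N') : ∃ r₁ ∈ rr N' E₁, ∃ r₂ ∈ rr N' E₂, n = r₁ * r₂ := by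
  have hle1 : rr N' E₁ ≤ N' := inf_le_left
  have hle2 : rr N' E₂ ≤ N' := inf_le_left
  have hirr := h.pair.v'.irr (rr N' E₁ ⊔ rr N' E₂) (h.Q_le_rr.trans le_sup_left) (sup_le hle1 hle2) (by
    intro d hd hdU x hx
    have key : rr N' E₁ ⊔ rr N' E₂ ≤ cj d⁻¹ (rr N' E₁ ⊔ rr N' E₂) := by
      refine sup_le (fun x hx => ?_) (fun x hx => ?_)
      · rw [mem_cj, inv_inv]
        have := h.conj_rr hd hx
        rcases h.cj_cases hd hdU with e | e
        · rw [e] at this; exact (le_sup_left : rr N' E₁ ≤ _) this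
        · rw [e] at this; exact (le_sup_right : rr N' E₂ ≤ _) this
      · rw [mem_cj, inv_inv]
        have := h.conj_rr hd hx
        rcases h.symm.cj_cases hd hdU with e | e
        · rw [e] at this; exact (le_sup_right : rr N' E₂ ≤ _) this
        · rw [e] at this; exact (le_sup_left : rr N' E₁ ≤ _) this
    have := key hx
    rwa [mem_cj, inv_inv] at this)
  rcases hirr with e | e
  · exfalso
    obtain ⟨y, hy⟩ := h.exists_Eig
    rcases h.eig_cases hy with h1 | h1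
    · have : y ∈ rr N' E₁ ⊔ rr N' E₂ := (le_sup_left : rr N' E₁ ≤ _) h1
      rw [e] at this
      exact hy.2.1 this
    · have : y ∈ rr N' E₁ ⊔ rr N' E₂ := (le_sup_right : rr N' E₂ ≤ _) h1
      rw [e] at this
      exact hy.2.1 this
  · have hn' : n ∈ rr N' E₁ ⊔ rr N' E₂ := by rw [e]; exact hn
    have hnorm : rr N' E₁ ≤ normalizer (rr N' E₂ : Set G) :=
      le_normalizer_of_forall fun r hr s hs => h.rr_comm hr hs
    rw [← SetLike.mem_coe, coe_mul_of_left_le_normalizer_right _ _ hnorm, Set.mem_mul] at hn'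
    obtain ⟨r₁, hr₁, r₂, hr₂, e⟩ := hn'
    exact ⟨r₁, hr₁, r₂, hr₂, e.symm⟩

/-- both `rr` are different from `Q'` -/
theorem exists_rr [Finite G] : ∃ g ∈ rr N' E₂, g ∉ Q' := by
  obtain ⟨y, hy⟩ := h.exists_Eig
  rcases h.eig_cases hy with h1 | h1
  · obtain ⟨t, ht, htU, hsw⟩ := h.pair.exists_swap
    have hcj : cj t E₁ = E₂ := (h.cj_cases ht htU).resolve_left (hsw E₁ h.l1)
    refine ⟨t * y * t⁻¹, ?_, fun hQ => hy.2.1 ?_⟩
    · have := h.conj_rr ht h1
      rwa [hcj] at this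
    · have := h.pair.v'.Q_conj' ht hQ
      have e : t⁻¹ * (t * y * t⁻¹) * t = y := by group
      rwa [e] at this
  · exact ⟨y, h1, hy.2.1⟩

/-- (6.1) -/
theorem cent_of [Finite G] {n r₁ r₂ : G} (hr₁ : r₁ ∈ rr N' E₁) (hr₂ : r₂ ∈ rr N' E₂) (hn : n = r₁ * r₂)
    (hE : ∀ w ∈ W, ∀ e ∈ cj n E₁, w * e = e * w) : ∀ w ∈ W, w * r₂ * w⁻¹ * r₂⁻¹ ∈ Q' := by
  have hr₂N : r₂ ∈ N' := (mem_rr.1 hr₂).1
  have e1 : cj n E₁ = cj r₂ E₁ := by rw [hn, h.rr_cj hr₂N hr₁]
  have e2 : cj r₂ E₂ = E₂ := (mem_rr.1 hr₂).2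
  have hX := h.nb hr₂N
  have hXU := (h.pair.nb_mem hX).1
  have hl1 := h.ln hr₂N
  have hl2 := h.symm.ln hr₂N
  obtain ⟨-, ⟨u, hu, hu1, huF⟩, -⟩ := h.pair.fam.line_sup hXU h.pair.v'.z_F hl1 hl2 (h.ln_ne r₂)
  have hcW : cj r₂ E₁ ⊔ cj r₂ E₂ ≤ centralizer (W : Set G) := by
    refine sup_le (fun e he => ?_) (fun e he => ?_)
    · rw [← e1] at he
      exact mem_centralizer_iff.2 fun w hw => hE w hw e he
    · rw [e2] at he
      exact mem_centralizer_iff.2 fun w hw => h.pair.fix w hw e (h.l2.le he)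
  have hall := h.pair.comm_of_nonfull hX ((sup_le hl1.le hl2.le) hu) hu1 huF
    (fun w hw => mem_centralizer_iff.1 (hcW hu) w hw)
  intro w hw
  rw [← h.W_fix_iff hw hr₂N]
  exact centralizer_le_normalizer _ (mem_centralizer_iff.2 fun x hx => (hall w hw x hx).symm)

/-- the line of a neighbour on which `w` acts nontrivially -/
theorem line_cases [Finite G] {n w : G} (hn : n ∈ N') (hw : w ∈ W) (hwn : w * n * w⁻¹ * n⁻¹ ∈ Q')
    (hne : ∃ x ∈ cj n U0', w * x ≠ x * w) :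
    cj n U0' ⊓ centralizer (W : Set G) = cj n E₁ ∨ cj n U0' ⊓ centralizer (W : Set G) = cj n E₂ := by
  have hX := h.nb hn
  obtain ⟨hl, -, -, -⟩ := h.pair.line rfl hX hw ((h.W_fix_iff hw hn).2 hwn) hne
  exact h.pair.fam.line_cases (h.pair.nb_mem hX).1 h.pair.v'.z_F (h.ln hn) (h.symm.ln hn) (h.ln_ne n) hl

/-- (6.3) -/
theorem step [Finite G] {n g w : G} (hn : n ∈ N') (hg : g ∈ rr N' E₂) (hw : w ∈ W)
    (hwn : w * n * w⁻¹ * n⁻¹ ∈ Q') (hne : ∃ x ∈ cj n U0', w * x ≠ x * w)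
    (hE : cj n U0' ⊓ centralizer (W : Set G) = cj n E₁) (hwg : w * g * w⁻¹ * g⁻¹ ∈ Q') :
    (∃ x ∈ cj (n * g) U0', w * x ≠ x * w) ∧ cj (n * g) U0' ⊓ centralizer (W : Set G) = cj (n * g) E₁ ∧
      ∀ w' ∈ W, w' * g * w'⁻¹ * g⁻¹ ∈ Q' := by
  have hgN : g ∈ N' := (mem_rr.1 hg).1
  have hng : n * g ∈ N' := mul_mem hn hgN
  have hwng : w * (n * g) * w⁻¹ * (n * g)⁻¹ ∈ Q' := h.pair.v'.fix_mul_right (h.pair.v'.N_le hn) hwn hwg
  have e2 : cj (n * g) E₂ = cj n E₂ := cj_mul_rr hg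
  have hX := h.nb hn
  -- `w` does not centralise `cj n E₂`
  have hnc : ¬ ∀ e ∈ cj n E₂, w * e = e * w := by
    intro hall
    obtain ⟨-, -, hl3, -⟩ := h.pair.line rfl hX hw ((h.W_fix_iff hw hn).2 hwn) hne
    have hle : cj n E₂ ≤ cj n E₁ := by
      rw [← hE]
      exact fun e he => mem_inf.2 ⟨(h.symm.ln hn).le he, hl3 e ((h.symm.ln hn).le he) (hall e he)⟩
    have := eq_of_le_of_card_ge hle (by rw [card_cj, card_cj, h.l1.card, h.l2.card])
    exact h.ln_ne n this.symm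
  have hne' : ∃ x ∈ cj (n * g) U0', w * x ≠ x * w := by
    by_contra hcon
    push Not at hcon
    refine hnc fun e he => hcon e ?_
    rw [← e2] at he
    exact (h.symm.ln hng).le he
  have hE' : cj (n * g) U0' ⊓ centralizer (W : Set G) = cj (n * g) E₁ := by
    rcases h.line_cases hng hw hwng hne' with e | e
    · exact e
    · exfalso
      apply hnc
      intro x hx
      rw [← e2, ← e] at hx
      exact mem_centralizer_iff.1 (mem_inf.1 hx).2 w hw
  refine ⟨hne', hE', ?_⟩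
  obtain ⟨r₁, hr₁, r₂, hr₂, hnr⟩ := h.exists_mul hn
  have h1 := h.cent_of hr₁ hr₂ hnr (by
    intro w' hw' e he
    rw [← hE] at he
    exact mem_centralizer_iff.1 (mem_inf.1 he).2 w' hw')
  have h2 := h.cent_of hr₁ (mul_mem hr₂ hg) (n := n * g) (by rw [hnr, mul_assoc]) (by
    intro w' hw' e he
    rw [← hE'] at he
    exact mem_centralizer_iff.1 (mem_inf.1 he).2 w' hw')
  intro w' hw'
  have hr₂D : r₂⁻¹ ∈ D' := inv_mem (h.pair.v'.N_le (mem_rr.1 hr₂).1)
  have h3 := h.pair.v'.fix_inv_right (inv_mem hr₂D |> (inv_inv r₂ ▸ ·)) (h1 w' hw')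
  have h4 := h.pair.v'.fix_mul_right hr₂D h3 (h2 w' hw')
  rwa [inv_mul_cancel_left] at h4

/-- the elements of `W` centralising both `y₁` and `y₂` modulo `Q'` centralise `cj y₁ U0'` -/
theorem cent_of_fix [Finite G] {y₁ y₂ : G} (hy₁ : Eig W N' Q' y₁) (hy₁E : y₁ ∈ rr N' E₁)
    (hy₂ : Eig W N' Q' y₂) (hy₂E : y₂ ∈ rr N' E₂) {w : G} (hw : w ∈ W)
    (h1 : w * y₁ * w⁻¹ * y₁⁻¹ ∈ Q') (h2 : w * y₂ * w⁻¹ * y₂⁻¹ ∈ Q') : ∀ x ∈ cj y₁ U0', w * x = x * w := by
  by_contra hcon
  push Not at hcon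
  have hE : cj y₁ U0' ⊓ centralizer (W : Set G) = cj y₁ E₁ := by
    rw [h.eig_E hy₁ hy₁E, (mem_rr.1 hy₁E).2]
  exact h.eig_not_fix hy₂ (h.step hy₁.1 hy₂E hw h1 hcon hE h2).2.2

theorem eig_relIndex [Finite G] {y : G} (hy : Eig W N' Q' y) :
    (W ⊓ normalizer (cj y U0' : Set G)).relIndex W ≤ 2 := by
  have hyD := h.pair.v'.N_le hy.1
  have hcard : Nat.card W ≤ 2 * Nat.card (W ⊓ normalizer (cj y U0' : Set G) : Subgroup G) := by
    refine card_le_two_mul inf_le_left fun u hu u' hu' huA hu'A => mem_inf.2 ⟨mul_mem hu hu', ?_⟩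
    have hinv : ∀ w ∈ W, w ∉ W ⊓ normalizer (cj y U0' : Set G) → w * y * w⁻¹ * y ∈ Q' := by
      intro w hw hwA
      rcases hy.2.2.1 w hw with e | e
      · exact absurd (mem_inf.2 ⟨hw, (h.W_fix_iff hw hy.1).2 e⟩) hwA
      · exact e
    rw [h.W_fix_iff (mul_mem hu hu') hy.1]
    exact h.pair.v'.fix_of_inv (h.pair.le hu) hyD (hinv u hu huA) (hinv u' hu' hu'A)
  have hmul := card_mul_relIndex' (K := W ⊓ normalizer (cj y U0' : Set G)) (L := W) inf_le_left
  rw [← hmul, mul_comm 2] at hcard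
  exact Nat.le_of_mul_le_mul_left hcard Nat.card_pos

theorem fix_of_cent [Finite G] {y₁ y₂ : G} (hy₁ : Eig W N' Q' y₁) (hy₁E : y₁ ∈ rr N' E₁)
    (hy₂ : Eig W N' Q' y₂) (hy₂E : y₂ ∈ rr N' E₂) {w : G} (hw : w ∈ W)
    (hc : ∀ x ∈ cj y₁ U0', w * x = x * w) : w * y₂ * w⁻¹ * y₂⁻¹ ∈ Q' := by
  set A := W ⊓ normalizer (cj y₁ U0' : Set G) with hA
  set B := W ⊓ normalizer (cj y₂ U0' : Set G) with hB
  set C := W ⊓ centralizer (cj y₁ U0' : Set G) with hC
  have hle : A ⊓ B ≤ C := by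
    intro a ha
    obtain ⟨haA, haB⟩ := mem_inf.1 ha
    obtain ⟨haW, haA⟩ := mem_inf.1 haA
    obtain ⟨-, haB⟩ := mem_inf.1 haB
    refine mem_inf.2 ⟨haW, mem_centralizer_iff.2 fun x hx => ?_⟩
    exact (h.cent_of_fix hy₁ hy₁E hy₂ hy₂E haW ((h.W_fix_iff haW hy₁.1).1 haA)
      ((h.W_fix_iff haW hy₂.1).1 haB) x hx).symm
  have hidx : (A ⊓ B).relIndex W ≤ 4 := by
    have h1 := h.eig_relIndex hy₁
    have h2 := h.eig_relIndex hy₂
    calc (A ⊓ B).relIndex W ≤ A.relIndex W * B.relIndex W := relIndex_inf_le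
      _ ≤ 2 * 2 := Nat.mul_le_mul h1 h2
  have hC4 : C.relIndex W = 4 := h.pair.eig_index hy₁
  have hcAB := card_mul_relIndex' (K := A ⊓ B) (L := W) (inf_le_left.trans inf_le_left)
  have hcC := card_mul_relIndex' (K := C) (L := W) inf_le_left
  have heq : A ⊓ B = C := by
    refine eq_of_le_of_card_ge hle ?_
    by_contra hlt
    push Not at hlt
    have : Nat.card (A ⊓ B : Subgroup G) * (A ⊓ B).relIndex W < Nat.card C * C.relIndex W := by
      rw [hC4]
      calc Nat.card (A ⊓ B : Subgroup G) * (A ⊓ B).relIndex W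
          ≤ Nat.card (A ⊓ B : Subgroup G) * 4 := Nat.mul_le_mul_left _ hidx
        _ < Nat.card C * 4 := by omega
    omega
  have hwC : w ∈ C := mem_inf.2 ⟨hw, mem_centralizer_iff.2 fun x hx => (hc x hx).symm⟩
  rw [← heq] at hwC
  exact (h.W_fix_iff hw hy₂.1).1 (mem_inf.1 (mem_inf.1 hwC).2).2

theorem W_rr {w r : G} (hw : w ∈ W) (hr : r ∈ rr N' E₁) : w * r * w⁻¹ ∈ rr N' E₁ := by
  have := h.conj_rr (h.pair.le hw) hr
  rwa [h.W_cj hw] at this

/-- an element of `W` centralising both `y₁` and `y₂` modulo `Q'` is in `Q'` -/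
theorem mem_Q_of_fix [Finite G] {y₁ y₂ : G} (hy₁ : Eig W N' Q' y₁) (hy₁E : y₁ ∈ rr N' E₁)
    (hy₂ : Eig W N' Q' y₂) (hy₂E : y₂ ∈ rr N' E₂) {w : G} (hw : w ∈ W)
    (h1 : w * y₁ * w⁻¹ * y₁⁻¹ ∈ Q') (h2 : w * y₂ * w⁻¹ * y₂⁻¹ ∈ Q') : w ∈ Q' := by
  by_contra hwQ
  have hc1 := h.cent_of_fix hy₁ hy₁E hy₂ hy₂E hw h1 h2
  have hc2 := h.symm.cent_of_fix hy₂ hy₂E hy₁ hy₁E hw h2 h1
  obtain ⟨n, hn, hwn⟩ : ∃ n ∈ N', w * n * w⁻¹ * n⁻¹ ∉ Q' := by
    by_contra hcon
    push Not at hcon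
    have := h.pair.v'.faith w (h.pair.le hw) hcon
    exact hwQ (h.pair.v'.N_fix w this (h.W_normalizer hw))
  obtain ⟨r₁, hr₁, r₂, hr₂, rfl⟩ := h.exists_mul hn
  by_cases hf : w * r₁ * w⁻¹ * r₁⁻¹ ∈ Q'
  · have hf2 : w * r₂ * w⁻¹ * r₂⁻¹ ∉ Q' := fun hf2 =>
      hwn (h.pair.v'.fix_mul_right (h.pair.v'.N_le (mem_rr.1 hr₁).1) hf hf2)
    obtain ⟨y', hy', hy'E, hinv⟩ := h.pair.exists_eig h.symm.Q_le_rr inf_le_left
      (fun w' hw' y hy => h.symm.W_rr hw' hy) hw ⟨r₂, hr₂, hf2⟩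
    have hfix := h.fix_of_cent hy₁ hy₁E hy' hy'E hw hc1
    exact h.eig_not_both hy'.1 hy'.2.1 hfix hinv
  · obtain ⟨y', hy', hy'E, hinv⟩ := h.pair.exists_eig h.Q_le_rr inf_le_left
      (fun w' hw' y hy => h.W_rr hw' hy) hw ⟨r₁, hr₁, hf⟩
    have hfix := h.symm.fix_of_cent hy₂ hy₂E hy' hy'E hw hc2
    exact h.eig_not_both hy'.1 hy'.2.1 hfix hinv

/-- an element of `W ∩ Q'` centralises `W'` -/
theorem cent_of_mem_Q [Finite G] {y₁ y₂ : G} (hy₁ : Eig W N' Q' y₁) (hy₁E : y₁ ∈ rr N' E₁)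
    (hy₂ : Eig W N' Q' y₂) (hy₂E : y₂ ∈ rr N' E₂) {w : G} (hw : w ∈ W) (hwQ : w ∈ Q') :
    ∀ x ∈ W', w * x = x * w := by
  have hle : W' ≤ centralizer ({w} : Set G) := by
    refine h.pair.v'.W_le _ fun d hd => ?_
    obtain ⟨n, hn, e⟩ := h.pair.v'.nb_iff.1 (⟨d, hd, rfl⟩ : cj d U0' ∈ Nb D' U0')
    rw [e]
    by_contra hcon
    obtain ⟨x, hx, hxw⟩ := SetLike.not_le_iff_exists.1 hcon
    have hne : ∃ x ∈ cj n U0', w * x ≠ x * w :=
      ⟨x, hx, fun e => hxw (mem_centralizer_singleton_iff.2 e.symm)⟩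
    have hfix : ∀ m ∈ N', w * m * w⁻¹ * m⁻¹ ∈ Q' := fun m hm =>
      h.pair.v'.fix_Q_left hwQ (h.pair.v'.N_le hm)
    rcases h.line_cases hn hw (hfix n hn) hne with e | e
    · exact h.eig_not_fix hy₂ (h.step hn hy₂E hw (hfix n hn) hne e (hfix _ hy₂.1)).2.2
    · exact h.eig_not_fix hy₁ (h.symm.step hn hy₁E hw (hfix n hn) hne e (hfix _ hy₁.1)).2.2
  intro x hx
  exact (mem_centralizer_singleton_iff.1 (hle hx)).symm

/-- (6.2) -/
theorem not_both [Finite G] {y₁ y₂ : G} (hy₁ : Eig W N' Q' y₁) (hy₁E : y₁ ∈ rr N' E₁)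
    (hy₂ : Eig W N' Q' y₂) (hy₂E : y₂ ∈ rr N' E₂) : False := by
  have hWW := h.pair.v.W_comm
  have hWW' := h.pair.v'.W_comm
  obtain ⟨b, hb, hb1, hbn, hbne⟩ := h.pair.eig_exists hy₁
  have hb2 : ¬ b * y₂ * b⁻¹ * y₂⁻¹ ∈ Q' := by
    intro hb2
    obtain ⟨x, hx, hne⟩ := hbne
    exact hne (h.cent_of_fix hy₁ hy₁E hy₂ hy₂E hb hb1 hb2 x hx)
  -- the special neighbour of `d`
  obtain ⟨X, hX, hX4, hXne⟩ := h.pair.exists_special
  obtain ⟨V, hV, hVX, Y, hY, V', hV', hVY', a', ha', a, ha, haa⟩ := h.pair.symm.exists_pair hX hXne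
  obtain ⟨hXU, hXW, -⟩ := h.pair.v.nb_mem h.pair.fam hX
  obtain ⟨hYU, hYW, -⟩ := h.pair.nb_mem hY
  have hVW : V ≤ W := hVX.trans hXW
  have hVcent : ∀ v ∈ V, (∀ x ∈ W', v * x = x * v) → v = 1 := by
    intro v hv hall
    by_contra hv1
    have ha'1 : a' ≠ 1 := by
      rintro rfl
      exact haa (by simp)
    exact h.pair.ne_of_ne hX hV hVX hY hV' hVY' ⟨a, ha, a', ha', fun e => haa e.symm⟩ hv ha' hv1 ha'1
      (hall a' (hYW (hVY' ha')))
  -- `C_W(W') = C_W(X₁)`
  set X₁ := cj y₁ U0' with hX₁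
  have hX₁nb : X₁ ∈ Nb D' U0' := h.nb hy₁.1
  obtain ⟨hX₁U, hX₁W, hzX₁⟩ := h.pair.nb_mem hX₁nb
  have hD0 : W ⊓ centralizer (W' : Set G) = W ⊓ centralizer (X₁ : Set G) := by
    refine le_antisymm (inf_le_inf_left _ (centralizer_le hX₁W)) fun c hc => ?_
    obtain ⟨hcW, hcX⟩ := mem_inf.1 hc
    have hc1 : ∀ x ∈ X₁, c * x = x * c := fun x hx => (mem_centralizer_iff.1 hcX x hx).symm
    have hf1 : c * y₁ * c⁻¹ * y₁⁻¹ ∈ Q' := (h.W_fix_iff hcW hy₁.1).1 (centralizer_le_normalizer _ hcX)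
    have hf2 := h.fix_of_cent hy₁ hy₁E hy₂ hy₂E hcW hc1
    have hcQ := h.mem_Q_of_fix hy₁ hy₁E hy₂ hy₂E hcW hf1 hf2
    exact mem_inf.2 ⟨hcW, mem_centralizer_iff.2 fun x hx =>
      (h.cent_of_mem_Q hy₁ hy₁E hy₂ hy₂E hcW hcQ x hx).symm⟩
  set D0 := W ⊓ centralizer (W' : Set G) with hD0def
  have hcW : Nat.card D0 * 4 = Nat.card W := by
    have h1 := card_mul_relIndex' (K := D0) (L := W) inf_le_left
    have h2 : D0.relIndex W = 4 := by rw [hD0]; exact h.pair.eig_index hy₁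
    rwa [h2] at h1
  have hVD : V ⊔ D0 = W := by
    have hn : V ≤ normalizer (D0 : Set G) := le_normalizer_of_forall fun v hv c hc => by
      rw [hWW v (hVW hv) c (mem_inf.1 hc).1, mul_inv_cancel_right]; exact hc
    have h1 := card_sup_mul_card_inf hn
    have h2 : V ⊓ D0 = ⊥ := by
      rw [eq_bot_iff]
      intro v hv
      obtain ⟨hv1, hv2⟩ := mem_inf.1 hv
      rw [mem_bot]
      exact hVcent v hv1 fun x hx => (mem_centralizer_iff.1 (mem_inf.1 hv2).2 x hx).symm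
    rw [h2, Subgroup.card_bot, mul_one, h.pair.fam.card V hV] at h1
    exact eq_of_le_of_card_ge (sup_le hVW inf_le_left) (by omega)
  -- `C_{W'}(W) = C_{W'}(X)`
  have hC : W' ⊓ centralizer (W : Set G) = W' ⊓ centralizer (X : Set G) := by
    refine le_antisymm (inf_le_inf_left _ (centralizer_le hXW)) fun c hc => ?_
    obtain ⟨hcW', hcX⟩ := mem_inf.1 hc
    have hle : W ≤ centralizer ({c} : Set G) := by
      rw [← hVD]
      refine sup_le (fun v hv => ?_) (fun v hv => ?_)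
      · exact mem_centralizer_singleton_iff.2 (mem_centralizer_iff.1 hcX v (hVX hv))
      · exact mem_centralizer_singleton_iff.2 (mem_centralizer_iff.1 (mem_inf.1 hv).2 c hcW').symm
    exact mem_inf.2 ⟨hcW', mem_centralizer_iff.2 fun w hw => mem_centralizer_singleton_iff.1 (hle hw)⟩
  set C := W' ⊓ centralizer (W : Set G) with hCdef
  have hcW' : Nat.card C * 4 = Nat.card W' := by
    have h1 := card_mul_relIndex' (K := C) (L := W') inf_le_left
    have h2 : C.relIndex W' = 4 := by rw [hC]; exact hX4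
    rwa [h2] at h1
  have hn1 : X₁ ≤ normalizer (C : Set G) := le_normalizer_of_forall fun v hv c hc => by
    rw [hWW' v (hX₁W hv) c (mem_inf.1 hc).1, mul_inv_cancel_right]; exact hc
  have hXC : X₁ ⊔ C = W' := by
    have h1 := card_sup_mul_card_inf hn1
    have h2 : X₁ ⊓ C = X₁ ⊓ centralizer (W : Set G) := by
      rw [hCdef, ← inf_assoc, inf_eq_left.2 hX₁W]
    have h3 : Nat.card (X₁ ⊓ centralizer (W : Set G) : Subgroup G) = 4 := (h.pair.eig_line hy₁).2.1.card
    rw [h2, h3, h.pair.fam.card_eq hX₁U] at h1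
    exact eq_of_le_of_card_ge (sup_le hX₁W inf_le_left) (by omega)
  -- `[W', b] ≤ E₁`
  obtain ⟨-, hl2, -, -⟩ := h.pair.line rfl hX₁nb hb hbn hbne
  have hbW : ∀ x ∈ W', b * x * b⁻¹ * x⁻¹ ∈ E₁ := by
    intro x hx
    rw [← hXC, ← SetLike.mem_coe, coe_mul_of_left_le_normalizer_right _ _ hn1, Set.mem_mul] at hx
    obtain ⟨x₁, hx₁, c, hc, rfl⟩ := hx
    have hbc : b * c = c * b := mem_centralizer_iff.1 (mem_inf.1 hc).2 b hb
    have e : b * (x₁ * c) * b⁻¹ * (x₁ * c)⁻¹ = b * x₁ * b⁻¹ * x₁⁻¹ := by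
      calc b * (x₁ * c) * b⁻¹ * (x₁ * c)⁻¹ = b * x₁ * (c * b⁻¹) * c⁻¹ * x₁⁻¹ := by group
        _ = b * x₁ * (b⁻¹ * c) * c⁻¹ * x₁⁻¹ := by
          rw [show c * b⁻¹ = b⁻¹ * c by rw [eq_inv_mul_iff_mul_eq, ← mul_assoc, hbc, mul_inv_cancel_right]]
        _ = b * x₁ * b⁻¹ * x₁⁻¹ := by group
    rw [e, ← h.eig_E hy₁ hy₁E]
    exact hl2 x₁ hx₁
  -- the contradiction on `X₂`
  set X₂ := cj y₂ U0' with hX₂
  obtain ⟨hX₂U, hX₂W, hzX₂⟩ := h.pair.nb_mem (h.nb hy₂.1)
  have hbX₂ : b ∉ normalizer (X₂ : Set G) := fun e => hb2 ((h.W_fix_iff hb hy₂.1).1 e)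
  have hzb : z' ∈ cj b X₂ := by
    have := conj_mem_cj (g := b) hzX₂
    rwa [h.z_comm (h.pair.le hb), mul_inv_cancel_right] at this
  have hK : Nat.card (X₂ ⊓ cj b X₂ : Subgroup G) ≤ 4 := by
    refine h.pair.fam.card_le_four hX₂U inf_le_left fun e he he1 => ?_
    by_contra heF
    apply hbX₂
    rw [mem_normalizer_iff_cj]
    exact (h.pair.fam.inter X₂ hX₂U (cj b X₂) (h.pair.fam.cjU b X₂ hX₂U) e (mem_inf.1 he).1
      (mem_inf.1 he).2 he1 heF).symm
  have hmemK : ∀ u ∈ X₂, (b * u * b⁻¹ * u⁻¹ = 1 ∨ b * u * b⁻¹ * u⁻¹ = z') → u ∈ X₂ ⊓ cj b X₂ := by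
    intro u hu hcase
    have hm := conj_mem_cj (g := b) hu
    refine mem_inf.2 ⟨hu, ?_⟩
    rcases hcase with e | e
    · rw [mul_inv_eq_one] at e
      rwa [e] at hm
    · have e2 : u = (b * u * b⁻¹ * u⁻¹)⁻¹ * (b * u * b⁻¹) := by group
      rw [e2, e]
      exact mul_mem (inv_mem hzb) hm
  have hcard := card_le_two_mul (K := X₂ ⊓ cj b X₂) (X := X₂) inf_le_left (by
    intro u hu u' hu' huK hu'K
    refine hmemK _ (mul_mem hu hu') ?_
    have e : b * (u * u') * b⁻¹ * (u * u')⁻¹ = (b * u * b⁻¹ * u⁻¹) * (b * u' * b⁻¹ * u'⁻¹) := by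
      have hc := hWW' u (hX₂W hu) (b * u' * b⁻¹ * u'⁻¹) (h.pair.comm_mem hb (hX₂W hu')).2
      calc b * (u * u') * b⁻¹ * (u * u')⁻¹ = (b * u * b⁻¹) * ((b * u' * b⁻¹ * u'⁻¹) * u⁻¹) := by group
        _ = (b * u * b⁻¹) * (u⁻¹ * (b * u' * b⁻¹ * u'⁻¹)) := by
          rw [show (b * u' * b⁻¹ * u'⁻¹) * u⁻¹ = u⁻¹ * (b * u' * b⁻¹ * u'⁻¹) by
            rw [eq_inv_mul_iff_mul_eq, ← mul_assoc, hc, mul_inv_cancel_right]]
        _ = _ := by group
    rw [e]
    refine h.l1.two h.z_sq h.z_ne (hbW u (hX₂W hu)) (hbW u' (hX₂W hu')) ?_ ?_ ?_ ?_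
    · exact fun e => huK (hmemK u hu (Or.inl e))
    · exact fun e => huK (hmemK u hu (Or.inr e))
    · exact fun e => hu'K (hmemK u' hu' (Or.inl e))
    · exact fun e => hu'K (hmemK u' hu' (Or.inr e)))
  rw [h.pair.fam.card_eq hX₂U] at hcard
  omega

/-- if there is an eigenvector in `rr N' E₁` then `W` centralises `rr N' E₂` modulo `Q'` -/
theorem fix_rr [Finite G] {y₁ : G} (hy₁ : Eig W N' Q' y₁) (hy₁E : y₁ ∈ rr N' E₁) :
    ∀ w ∈ W, ∀ g ∈ rr N' E₂, w * g * w⁻¹ * g⁻¹ ∈ Q' := by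
  by_contra hcon
  push Not at hcon
  obtain ⟨w, hw, g, hg, hwg⟩ := hcon
  obtain ⟨y₂, hy₂, hy₂E, -⟩ := h.pair.exists_eig h.symm.Q_le_rr inf_le_left
    (fun w' hw' y hy => h.symm.W_rr hw' hy) hw ⟨g, hg, hwg⟩
  exact h.not_both hy₁ hy₁E hy₂ hy₂E

end Sg

/-- Step 6 -/
theorem Pair.exists_sg [Finite G] {UU VV : Set (Subgroup G)} {F : Set G}
    {D N Q U0 W : Subgroup G} {z : G} {p : ℕ} {D' N' Q' U0' W' : Subgroup G} {z' : G} {p' : ℕ}
    (h : Pair 2 UU VV F D N Q U0 W z p D' N' Q' U0' W' z' p') :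
    ∃ E₁ E₂, Sg UU VV F D N Q U0 W z p D' N' Q' U0' W' z' p' E₁ E₂ ∧ (∃ y, Eig W N' Q' y ∧ y ∈ rr N' E₁) ∧
      ∀ w ∈ W, ∀ g ∈ rr N' E₂, w * g * w⁻¹ * g⁻¹ ∈ Q' := by
  obtain ⟨E₁, E₂, hl1, hl2, hne, -⟩ := h.fam.exists_lines h.v'.U0_mem h.v'.z_mem h.v'.z_F
  have hs : Sg UU VV F D N Q U0 W z p D' N' Q' U0' W' z' p' E₁ E₂ := ⟨h, hl1, hl2, hne⟩
  obtain ⟨y, hy⟩ := hs.exists_Eig
  rcases hs.eig_cases hy with e | e
  · exact ⟨E₁, E₂, hs, ⟨y, hy, e⟩, hs.fix_rr hy e⟩
  · exact ⟨E₂, E₁, hs.symm, ⟨y, hy, e⟩, hs.symm.fix_rr hy e⟩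

end Cfsg.Agent.MinSimple.OmPair
end

-- part: MinSimple/OmPairD
section
/-!
# The case (Omega) is empty: Step 7

Row 4061 of the blackboard (helper12), Step 7, with helper839's simplifications.
-/

set_option autoImplicit false
set_option linter.dupNamespace false
set_option linter.unusedSectionVars false
set_option linter.unusedVariables false

namespace Cfsg.Agent.MinSimple.OmPairD

open Subgroup
open Cfsg.Agent.MinSimple.OmPair
open Cfsg.Agent.MinSimple.Geo (cj mem_cj conj_mem_cj cj_cj cj_mono cj_one cj_inv_cj cj_cj_inv cj_le_iff card_cj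
  mem_normalizer_iff_cj cj_eq_of_mem_normalizer cj_inf)

universe u

variable {G : Type u} [Group G] [Finite G] {UU VV : Set (Subgroup G)} {F : Set G}
  {D N Q U0 W : Subgroup G} {z : G} {p : ℕ} {D' N' Q' U0' W' : Subgroup G} {z' : G} {p' : ℕ}

/-! ### one vertex -/

section Vert

variable (hv : Vert UU VV F D N Q U0 W z p)
include hv

theorem z_comm {d : G} (hd : d ∈ D) : d * z = z * d :=
  mem_centralizer_singleton_iff.1 (hv.D_le hd)

theorem Q_le_D : Q ≤ D := hv.Q_le.trans hv.N_le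

theorem conj_Q_iff {d q : G} (hd : d ∈ D) : d * q * d⁻¹ ∈ Q ↔ q ∈ Q := by
  refine ⟨fun h => ?_, hv.Q_norm d hd q⟩
  have h1 := hv.Q_norm d⁻¹ (inv_mem hd) _ h
  have e : d⁻¹ * (d * q * d⁻¹) * d⁻¹⁻¹ = q := by group
  rwa [e] at h1

theorem comm_mem_W {d w : G} (hd : d ∈ D) (hw : w ∈ W) : d * w * d⁻¹ * w⁻¹ ∈ W :=
  W.mul_mem (hv.conj_W hd hw) (W.inv_mem hw)

/-- `w ↦ [s, w]` is multiplicative on `W` -/
theorem mul_comm' {a w w' : G} (ha : a ∈ D) (hw : w ∈ W) (hw' : w' ∈ W) :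
    a * (w * w') * a⁻¹ * (w * w')⁻¹ = a * w * a⁻¹ * w⁻¹ * (a * w' * a⁻¹ * w'⁻¹) := by
  have h1 := hv.W_comm (a * w' * a⁻¹ * w'⁻¹) (comm_mem_W hv ha hw') w⁻¹ (W.inv_mem hw)
  calc a * (w * w') * a⁻¹ * (w * w')⁻¹ = a * w * a⁻¹ * ((a * w' * a⁻¹ * w'⁻¹) * w⁻¹) := by group
    _ = a * w * a⁻¹ * (w⁻¹ * (a * w' * a⁻¹ * w'⁻¹)) := by rw [h1]
    _ = _ := by group

theorem W_inv (hf : Fam 2 UU VV F) {w : G} (hw : w ∈ W) : w⁻¹ = w :=
  inv_eq_of_mul_eq_one_left (hv.W_sq hf hw)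

/-- an element of odd order modulo `Q` whose square is in `Q` is in `Q` -/
theorem mem_of_sq {n : G} (hn : n ∈ N) (h : n * n ∈ Q) : n ∈ Q := by
  have hodd : ∃ k : ℕ, p = 2 * k + 1 := hv.prime.odd_of_ne_two hv.odd
  obtain ⟨k, hk⟩ := hodd
  have h1 := hv.N_pow n hn
  rw [hk, pow_succ, pow_mul, pow_two] at h1
  have h2 : (n * n) ^ k ∈ Q := Q.pow_mem h k
  have h3 := Q.mul_mem (Q.inv_mem h2) h1
  rwa [inv_mul_cancel_left] at h3

/-- the neighbours are the `U0 ^ n`, `n ∈ N` -/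
theorem exists_n {X : Subgroup G} (hX : X ∈ Nb D U0) : ∃ n ∈ N, X = cj n U0 := by
  obtain ⟨d, hd, rfl⟩ := hX
  obtain ⟨n, hn, m, -, hm', rfl⟩ := hv.trans d hd
  refine ⟨n, hn, ?_⟩
  rw [← cj_cj, cj_eq_of_mem_normalizer hm']

theorem nb {d : G} (hd : d ∈ D) : cj d U0 ∈ Nb D U0 := ⟨d, hd, rfl⟩

/-- a line, moved by an element of `D` -/
theorem ln_conj (hf : Fam 2 UU VV F) {X E : Subgroup G} (hE : IsLn F z X E) {d : G} (hd : d ∈ D) :
    IsLn F z (cj d X) (cj d E) where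
  le := cj_mono hE.le
  card := by rw [card_cj, hE.card]
  mem := by
    rw [mem_cj, mul_assoc, ← z_comm hv hd, inv_mul_cancel_left]
    exact hE.mem
  full := by
    intro e he he1
    have h1 : d⁻¹ * e * d ∈ E := mem_cj.1 he
    have h2 : d⁻¹ * e * d ≠ 1 := by
      intro h3
      apply he1
      calc e = d * (d⁻¹ * e * d) * d⁻¹ := by group
        _ = 1 := by rw [h3]; group
    have h3 := hf.cjF d _ (hE.full _ h1 h2)
    have e1 : d * (d⁻¹ * e * d) * d⁻¹ = e := by group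
    rwa [e1] at h3

end Vert

/-! ### the pair -/

section Pair

variable (h : Pair 2 UU VV F D N Q U0 W z p D' N' Q' U0' W' z' p')
include h

theorem Q_cj {E : Subgroup G} (hE : IsLn F z' U0' E) {q : G} (hq : q ∈ Q') : cj q E = E :=
  cj_eq_of_mem_normalizer (h.Q_line ⟨1, one_mem _, (cj_one _).symm⟩ hE hq)

theorem cj_line_eq {E : Subgroup G} (hE : IsLn F z' U0' E) {n m : G} (hnm : n⁻¹ * m ∈ Q') :
    cj n E = cj m E := by
  have e : m = n * (n⁻¹ * m) := by group
  rw [e, ← cj_cj, Q_cj h hE hnm]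

theorem cj_U_eq {n m : G} (hnm : n⁻¹ * m ∈ Q') : cj n U0' = cj m U0' := by
  have e : m = n * (n⁻¹ * m) := by group
  rw [e, ← cj_cj, cj_eq_of_mem_normalizer (h.v'.Q_fix _ hnm)]

/-- `w ∈ W` moves the block `n` to the block `w n w⁻¹` -/
theorem cj_W {w n : G} (hw : w ∈ W) : cj w (cj n U0') = cj (w * n * w⁻¹) U0' := by
  have h1 : cj w⁻¹ U0' = U0' := by
    rw [← mem_normalizer_iff_cj]
    exact centralizer_le_normalizer _ (mem_centralizer_iff.2 fun u hu => (h.fix w⁻¹ (inv_mem hw) u hu).symm)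
  rw [cj_cj, ← cj_cj (w * n) w⁻¹, h1]

theorem W_fix_iff {w n : G} (hw : w ∈ W) (hn : n ∈ N') :
    w ∈ normalizer ((cj n U0' : Subgroup G) : Set G) ↔ w * n * w⁻¹ * n⁻¹ ∈ Q' := by
  rw [mem_normalizer_iff_cj, cj_W h hw]
  have hnD := h.v'.N_le hn
  have hwn : w * n * w⁻¹ ∈ N' := h.v'.N_norm w (h.le hw) n hn
  have e1 : w * n * w⁻¹ * n⁻¹ = n * (n⁻¹ * (w * n * w⁻¹)) * n⁻¹ := by group
  rw [e1, conj_Q_iff h.v' hnD]
  constructor
  · intro e
    apply h.v'.N_fix _ (mul_mem (inv_mem hn) hwn)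
    rw [mem_normalizer_iff_cj, ← cj_cj, e, cj_inv_cj]
  · intro e
    exact (cj_U_eq h e).symm

/-! ### Step 6, in the form used here -/

theorem sgn_ne {E₁ E₂ : Subgroup G} (h1 : IsLn F z' U0' E₁) (h2 : IsLn F z' U0' E₂) (hne : E₁ ≠ E₂) :
    ∃ g ∈ N', g ∈ normalizer (E₂ : Set G) ∧ g ∉ Q' := by
  have hs : Sg UU VV F D N Q U0 W z p D' N' Q' U0' W' z' p' E₁ E₂ := ⟨h, h1, h2, hne⟩
  obtain ⟨g, hg, hgQ⟩ := hs.exists_rr
  exact ⟨g, (mem_inf.1 hg).1, (mem_inf.1 hg).2, hgQ⟩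

theorem sgn_63 {E₁ E₂ : Subgroup G} (h1 : IsLn F z' U0' E₁) (h2 : IsLn F z' U0' E₂) (hne : E₁ ≠ E₂)
    {w n g : G} (hw : w ∈ W) (hn : n ∈ N') (hwn : w ∈ normalizer (cj n U0' : Set G))
    (hwne : ∃ x ∈ cj n U0', w * x ≠ x * w) (hc : ∀ w' ∈ W, ∀ x ∈ cj n E₁, w' * x = x * w')
    (hg : g ∈ N') (hg2 : g ∈ normalizer (E₂ : Set G)) (hwg : w * g * w⁻¹ * g⁻¹ ∈ Q') :
    (∃ x ∈ cj (g * n) U0', w * x ≠ x * w) ∧
      cj (g * n) U0' ⊓ centralizer (W : Set G) = cj (g * n) E₁ ∧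
      ∀ w' ∈ W, w' * g * w'⁻¹ * g⁻¹ ∈ Q' := by
  have hs : Sg UU VV F D N Q U0 W z p D' N' Q' U0' W' z' p' E₁ E₂ := ⟨h, h1, h2, hne⟩
  have hwn' : w * n * w⁻¹ * n⁻¹ ∈ Q' := (hs.W_fix_iff hw hn).1 hwn
  have hE : cj n U0' ⊓ centralizer (W : Set G) = cj n E₁ := by
    rcases hs.line_cases hn hw hwn' hwne with e | e
    · exact e
    · exfalso
      have hle : cj n E₁ ≤ cj n E₂ := by
        rw [← e]
        exact fun x hx => mem_inf.2 ⟨(hs.ln hn).le hx, mem_centralizer_iff.2 fun w' hw' => hc w' hw' x hx⟩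
      have := eq_of_le_of_card_ge hle (by rw [card_cj, card_cj, h1.card, h2.card])
      exact hs.ln_ne n this
  obtain ⟨ha, hb, hc'⟩ := hs.step hn (mem_inf.2 ⟨hg, hg2⟩) hw hwn' hwne hE hwg
  have e0 : (n * g)⁻¹ * (g * n) ∈ Q' := by
    have h3 := h.v'.N_comm g⁻¹ (inv_mem hg) n⁻¹ (inv_mem hn)
    have e : (n * g)⁻¹ * (g * n) = g⁻¹ * n⁻¹ * g⁻¹⁻¹ * n⁻¹⁻¹ := by group
    rw [e]; exact h3
  rw [cj_U_eq h e0] at ha hb
  rw [cj_line_eq h h1 e0] at hb
  exact ⟨ha, hb, hc'⟩

/-- an eigenvector is not centralised by `W` -/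
theorem eig_not {y : G} (hy : Eig W N' Q' y) : ∃ w ∈ W, w * y * w⁻¹ * y⁻¹ ∉ Q' := by
  obtain ⟨hyN, hyQ, -, w, hw, hwy⟩ := hy
  refine ⟨w, hw, fun h1 => hyQ (mem_of_sq h.v' hyN ?_)⟩
  have e : y * y = (w * y * w⁻¹ * y⁻¹)⁻¹ * (w * y * w⁻¹ * y) := by group
  rw [e]
  exact mul_mem (inv_mem h1) hwy

end Pair

/-! ### Step 7 -/

section Seven

variable (h : Pair 2 UU VV F D N Q U0 W z p D' N' Q' U0' W' z' p')
include h

/-- an element `v` of `V₁^μ`, `μ` special -/
theorem exists_v : ∃ v ∈ W, (W' ⊓ centralizer ({v} : Set G)).relIndex W' = 4 ∧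
    ∃ w ∈ W', v * w ≠ w * v := by
  obtain ⟨X, hX, hi, w, hw, hne⟩ := h.exists_special
  have hX' := h.v.nb_mem h.fam hX
  obtain ⟨V, hV, hVX, v, hv, hne'⟩ := h.fam.exists_V hX'.1 hne
  have hv1 : v ≠ 1 := by
    rintro rfl
    apply hne'
    rw [mul_one, one_mul]
  have h1 : W' ⊓ centralizer ({v} : Set G) = W' ⊓ centralizer (X : Set G) := by
    apply le_antisymm
    · rintro x ⟨hx, hxv⟩
      refine ⟨hx, mem_centralizer_iff.2 fun u hu => ?_⟩
      exact (h.symm.comm_of_comm hX ⟨w, hw, hne⟩ (hVX hv) hv1 (h.fam.not_F hX'.1 hV hVX hv) hx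
        (mem_centralizer_singleton_iff.1 hxv) u hu).symm
    · rintro x ⟨hx, hxX⟩
      refine ⟨hx, mem_centralizer_singleton_iff.2 ?_⟩
      exact (mem_centralizer_iff.1 hxX v (hVX hv)).symm
  refine ⟨v, hX'.2.1 (hVX hv), by rw [h1, hi], w, hw, fun e => hne' e.symm⟩

omit h in
/-- the commutators with an element normalising the abelian group `W` -/
theorem exists_range (hv' : Vert UU VV F D N Q U0 W z p) {v : G} (hv : v ∈ D) :
    ∃ I : Subgroup G, (∀ x, x ∈ I ↔ ∃ w ∈ W, v * w * v⁻¹ * w⁻¹ = x) ∧ I ≤ W ∧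
      Nat.card I = (W ⊓ centralizer ({v} : Set G)).relIndex W := by
  let φ : W →* G := {
    toFun := fun w => v * w * v⁻¹ * (w : G)⁻¹
    map_one' := by simp
    map_mul' := fun a b => by
      exact mul_comm' hv' hv a.2 b.2 }
  refine ⟨φ.range, ?_, ?_, ?_⟩
  · intro x
    constructor
    · rintro ⟨w, rfl⟩; exact ⟨w, w.2, rfl⟩
    · rintro ⟨w, hw, rfl⟩; exact ⟨⟨w, hw⟩, rfl⟩
  · rintro _ ⟨w, rfl⟩
    exact comm_mem_W hv' hv w.2
  · rw [← Subgroup.index_ker]
    rw [relIndex]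
    congr 1
    ext w
    rw [MonoidHom.mem_ker, mem_subgroupOf, mem_inf, mem_centralizer_singleton_iff]
    change v * w * v⁻¹ * (w : G)⁻¹ = 1 ↔ _
    rw [mul_inv_eq_one, mul_inv_eq_iff_eq_mul]
    exact ⟨fun e => ⟨w.2, e.symm⟩, fun e => e.2.symm⟩


theorem comm_Q_mem {q w : G} (hq : q ∈ Q') (hw : w ∈ W') : q * w * q⁻¹ * w⁻¹ ∈ ⁅Q', W'⁆ :=
  commutator_mem_commutator hq hw

theorem W1_conj_iff {d x : G} (hd : d ∈ D') : d * x * d⁻¹ ∈ ⁅Q', W'⁆ ↔ x ∈ ⁅Q', W'⁆ := by
  refine ⟨fun h1 => ?_, fun h1 => h.W1_conj hd h1⟩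
  have h2 := h.W1_conj (inv_mem hd) h1
  have e : d⁻¹ * (d * x * d⁻¹) * d⁻¹⁻¹ = x := by group
  rwa [e] at h2

theorem K_W1 {g m : G} (hg : g ∈ D') (hm : m ∈ ⁅Q', W'⁆) : g * m * g⁻¹ * m⁻¹ ∈ ⁅Q', W'⁆ :=
  mul_mem (h.W1_conj hg hm) (inv_mem hm)

theorem K_mul {g m m' : G} (hg : g ∈ D') (hm : m ∈ W') (hm' : m' ∈ W')
    (h1 : g * m * g⁻¹ * m⁻¹ ∈ ⁅Q', W'⁆) (h2 : g * m' * g⁻¹ * m'⁻¹ ∈ ⁅Q', W'⁆) :
    g * (m * m') * g⁻¹ * (m * m')⁻¹ ∈ ⁅Q', W'⁆ := by
  rw [mul_comm' h.v' hg hm hm']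
  exact mul_mem h1 h2

theorem K_conj {g n m : G} (hg : g ∈ D') (hn : n ∈ D') (hgn : g⁻¹ * n⁻¹ * g * n ∈ Q') (hm : m ∈ W')
    (h1 : g * m * g⁻¹ * m⁻¹ ∈ ⁅Q', W'⁆) :
    g * (n * m * n⁻¹) * g⁻¹ * (n * m * n⁻¹)⁻¹ ∈ ⁅Q', W'⁆ := by
  have e : g * (n * m * n⁻¹) * g⁻¹ * (n * m * n⁻¹)⁻¹ =
      n * (g * ((g⁻¹ * n⁻¹ * g * n) * m * (g⁻¹ * n⁻¹ * g * n)⁻¹ * m⁻¹) * g⁻¹ * (g * m * g⁻¹ * m⁻¹)) * n⁻¹ := by
    group
  rw [e]
  exact h.W1_conj hn (mul_mem (h.W1_conj hg (comm_Q_mem h hgn hm)) h1)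

/-- `v` moves some element of `W'1` -/
theorem exists_moved {v : G} (hv : v ∈ W) (hne : ∃ w ∈ W', v * w ≠ w * v) :
    ∃ u ∈ ⁅Q', W'⁆, u ∈ W' ∧ v * u ≠ u * v := by
  obtain ⟨w, hw, hne⟩ := hne
  obtain ⟨X, hX, V, hV, hVX, a, ha, hav⟩ := h.v'.exists_V h.fam (g := v) ⟨w, hw, fun e => hne e.symm⟩
  have hX' := h.nb_mem hX
  obtain ⟨E, E', hE, hE', hEE, -⟩ := h.fam.exists_lines hX'.1 hX'.2.2 h.v'.z_F
  obtain ⟨-, ⟨u, hu, hu1, huF⟩, -⟩ := h.fam.line_sup hX'.1 h.v'.z_F hE hE' hEE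
  have h1 : u ∈ X ⊓ ⁅Q', W'⁆ := by rw [h.W1_inf hX hE hE' hEE]; exact hu
  refine ⟨u, h1.2, hX'.2.1 h1.1, fun e => hav ?_⟩
  exact (h.comm_of_comm hX ⟨v, hv, a, hVX ha, fun e => hav e.symm⟩ h1.1 hu1 huF hv e a (hVX ha)).symm

/-- `g` fixes `[W', v]` modulo `W'1` -/
theorem K_v {v g : G} (hv : v ∈ W) (hi : (W' ⊓ centralizer ({v} : Set G)).relIndex W' = 4)
    (hne : ∃ w ∈ W', v * w ≠ w * v) (hg : g ∈ D') (hvg : v * g * v⁻¹ * g⁻¹ ∈ Q') {w : G} (hw : w ∈ W') :
    g * (v * w * v⁻¹ * w⁻¹) * g⁻¹ * (v * w * v⁻¹ * w⁻¹)⁻¹ ∈ ⁅Q', W'⁆ := by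
  have hvD : v ∈ D' := h.le hv
  obtain ⟨I, hI, hIW, hcI⟩ := exists_range h.v' hvD
  rw [hi] at hcI
  obtain ⟨u, hu1, huW, huv⟩ := exists_moved h hv hne
  set m₁ := v * u * v⁻¹ * u⁻¹ with hm₁
  have hm₁I : m₁ ∈ I := (hI _).2 ⟨u, huW, rfl⟩
  have hm₁W : m₁ ∈ ⁅Q', W'⁆ := mul_mem (h.W1_conj hvD hu1) (inv_mem hu1)
  have hm₁1 : m₁ ≠ 1 := by
    intro e
    apply huv
    rw [hm₁, mul_inv_eq_one, mul_inv_eq_iff_eq_mul] at e
    exact e
  set K := I ⊓ ⁅Q', W'⁆ with hK
  have hcK : 2 ≤ Nat.card K := by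
    have h1 : K ≠ ⊥ := by
      intro e
      have h2 : m₁ ∈ K := ⟨hm₁I, hm₁W⟩
      rw [e, mem_bot] at h2
      exact hm₁1 h2
    exact (Subgroup.one_lt_card_iff_ne_bot K).2 h1
  have hcard := Cfsg.Agent.ZN.Block.card_mul_relIndex' (K := K) (L := I) inf_le_left
  rw [hcI] at hcard
  by_cases hwW : v * w * v⁻¹ * w⁻¹ ∈ ⁅Q', W'⁆
  · exact K_W1 h hg hwW
  set m := v * w * v⁻¹ * w⁻¹ with hm
  have hmI : m ∈ I := (hI _).2 ⟨w, hw, rfl⟩
  have hmW' : m ∈ W' := hIW hmI
  have hr : K.relIndex I = 2 := by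
    have h1 : K.relIndex I ≠ 1 := by
      rw [Ne, relIndex_eq_one]
      intro e
      exact hwW (e hmI).2
    have h2 : K.relIndex I ≠ 0 := by
      intro e; rw [e] at hcard; omega
    have h3 : K.relIndex I ≤ 2 := by
      by_contra hcon
      have h4 : 3 ≤ K.relIndex I := by omega
      have h5 := Nat.mul_le_mul hcK h4
      omega
    omega
  -- the conjugate by `g`
  set w' := g * w * g⁻¹ with hw'
  have hw'W : w' ∈ W' := h.v'.conj_W hg hw
  set q := g * v * g⁻¹ * v⁻¹ with hq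
  have hqQ : q ∈ Q' := by
    have e : q = (v * g * v⁻¹ * g⁻¹)⁻¹ * 1 * 1 := by rw [hq]; group
    have e2 : g * v * g⁻¹ * v⁻¹ = (v * g * v⁻¹ * g⁻¹)⁻¹ := by group
    rw [hq, e2]
    exact inv_mem hvg
  have e1 : g * m * g⁻¹ = (q * (v * w' * v⁻¹) * q⁻¹ * (v * w' * v⁻¹)⁻¹) * (v * w' * v⁻¹ * w'⁻¹) := by
    rw [hm, hq, hw']; group
  have h1 : q * (v * w' * v⁻¹) * q⁻¹ * (v * w' * v⁻¹)⁻¹ ∈ ⁅Q', W'⁆ :=
    comm_Q_mem h hqQ (h.v'.conj_W hvD hw'W)
  set b := v * w' * v⁻¹ * w'⁻¹ with hb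
  have hbI : b ∈ I := (hI _).2 ⟨w', hw'W, rfl⟩
  have hbW : b ∉ ⁅Q', W'⁆ := by
    intro h2
    apply hwW
    rw [← W1_conj_iff h hg, e1]
    exact mul_mem h1 h2
  have h3 : b * m ∈ K := Cfsg.Agent.ZN.Block.mul_mem_of_relIndex_two hr hbI hmI
    (fun h' => hbW h'.2) (fun h' => hwW h'.2)
  have hm2 : m⁻¹ = m := W_inv h.v' h.fam hmW'
  rw [e1, mul_assoc, hm2]
  exact mul_mem h1 h3.2

/-- `g` fixes `[W', y⁻²]` modulo `W'1` -/
theorem K_y {v g y : G} (hv : v ∈ W) (hi : (W' ⊓ centralizer ({v} : Set G)).relIndex W' = 4)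
    (hne : ∃ w ∈ W', v * w ≠ w * v) (hg : g ∈ N') (hvg : v * g * v⁻¹ * g⁻¹ ∈ Q') (hy : y ∈ N')
    (hvy : v * y * v⁻¹ * y ∈ Q') {w : G} (hw : w ∈ W') :
    g * (y⁻¹ * y⁻¹ * w * (y⁻¹ * y⁻¹)⁻¹ * w⁻¹) * g⁻¹ * (y⁻¹ * y⁻¹ * w * (y⁻¹ * y⁻¹)⁻¹ * w⁻¹)⁻¹ ∈ ⁅Q', W'⁆ := by
  have hvD : v ∈ D' := h.le hv
  have hgD : g ∈ D' := h.v'.N_le hg
  have hyD : y ∈ D' := h.v'.N_le hy
  have hvv : v * v = 1 := h.v.W_sq h.fam hv
  have hvi : v⁻¹ = v := inv_eq_of_mul_eq_one_left hvv
  -- the conjugate `v' = y v y⁻¹`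
  have hv'D : y * v * y⁻¹ ∈ D' := mul_mem (mul_mem hyD hvD) (inv_mem hyD)
  have hB : ∀ w ∈ W', g * (y * v * y⁻¹ * w * (y * v * y⁻¹)⁻¹ * w⁻¹) * g⁻¹ *
      (y * v * y⁻¹ * w * (y * v * y⁻¹)⁻¹ * w⁻¹)⁻¹ ∈ ⁅Q', W'⁆ := by
    intro w hw
    have hw' : y⁻¹ * w * y⁻¹⁻¹ ∈ W' := h.v'.conj_W (inv_mem hyD) hw
    have h1 := K_v h hv hi hne hgD hvg hw'
    have h2 : g⁻¹ * y⁻¹ * g * y ∈ Q' := by
      have := h.v'.N_comm g⁻¹ (inv_mem hg) y⁻¹ (inv_mem hy)
      rwa [inv_inv, inv_inv] at this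
    have h3 := K_conj h hgD hyD h2 (comm_mem_W h.v' hvD hw') h1
    have e : y * (v * (y⁻¹ * w * y⁻¹⁻¹) * v⁻¹ * (y⁻¹ * w * y⁻¹⁻¹)⁻¹) * y⁻¹ =
      y * v * y⁻¹ * w * (y * v * y⁻¹)⁻¹ * w⁻¹ := by group
    rwa [e] at h3
  -- `y⁻² = q⁻¹ v v'`
  set q := v * y * v⁻¹ * y with hq
  have e0 : y⁻¹ * y⁻¹ = q⁻¹ * (v * (y * v * y⁻¹)) := by
    rw [hq]
    calc y⁻¹ * y⁻¹ = y⁻¹ * v * (v⁻¹ * v) * v⁻¹ * y⁻¹ := by group
      _ = y⁻¹ * v * y⁻¹ * (v⁻¹ * v) * y * v⁻¹ * y⁻¹ := by group
      _ = y⁻¹ * v * y⁻¹ * (v⁻¹ * v) * y * v * y⁻¹ := by rw [hvi]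
      _ = _ := by group
  set v' := y * v * y⁻¹ with hv'
  have hvv'D : v * v' ∈ D' := mul_mem hvD hv'D
  have hqD : q⁻¹ ∈ D' := Q_le_D h.v' (inv_mem hvy)
  have e1 : y⁻¹ * y⁻¹ * w * (y⁻¹ * y⁻¹)⁻¹ * w⁻¹ =
      (q⁻¹ * (v * v' * w * (v * v')⁻¹) * q⁻¹⁻¹ * (v * v' * w * (v * v')⁻¹)⁻¹) *
        ((v * (v' * w * v'⁻¹ * w⁻¹) * v⁻¹ * (v' * w * v'⁻¹ * w⁻¹)⁻¹) * (v' * w * v'⁻¹ * w⁻¹) *
          (v * w * v⁻¹ * w⁻¹)) := by
    rw [e0]; group
  have m1 : v * v' * w * (v * v')⁻¹ ∈ W' := h.v'.conj_W hvv'D hw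
  have m2 : v' * w * v'⁻¹ * w⁻¹ ∈ W' := comm_mem_W h.v' hv'D hw
  have m3 : v * w * v⁻¹ * w⁻¹ ∈ W' := comm_mem_W h.v' hvD hw
  have m4 : v * (v' * w * v'⁻¹ * w⁻¹) * v⁻¹ * (v' * w * v'⁻¹ * w⁻¹)⁻¹ ∈ W' := comm_mem_W h.v' hvD m2
  have m5 : q⁻¹ * (v * v' * w * (v * v')⁻¹) * q⁻¹⁻¹ * (v * v' * w * (v * v')⁻¹)⁻¹ ∈ W' :=
    comm_mem_W h.v' hqD m1
  rw [e1]
  refine K_mul h hgD m5 (mul_mem (mul_mem m4 m2) m3) (K_W1 h hgD (comm_Q_mem h (inv_mem hvy) m1)) ?_
  refine K_mul h hgD (mul_mem m4 m2) m3 ?_ (K_v h hv hi hne hgD hvg hw)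
  exact K_mul h hgD m4 m2 (K_v h hv hi hne hgD hvg m2) (hB w hw)


/-! #### the action of single elements on a block -/

omit h in
/-- `s` has commutator group `E` on `X` -/
def Typ (s : G) (X E : Subgroup G) : Prop :=
  (∀ x ∈ X, s * x * s⁻¹ * x⁻¹ ∈ E) ∧ ∀ e ∈ E, ∃ x ∈ X, s * x * s⁻¹ * x⁻¹ = e

omit h in
def Tri (s : G) (X : Subgroup G) : Prop := ∀ x ∈ X, s * x = x * s

omit h in
theorem Tri.conj {s y : G} {X : Subgroup G} (hs : Tri s X) : Tri (y * s * y⁻¹) (cj y X) := by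
  intro x hx
  have h1 := hs _ (mem_cj.1 hx)
  calc y * s * y⁻¹ * x = y * (s * (y⁻¹ * x * y)) * y⁻¹ := by group
    _ = y * (y⁻¹ * x * y * s) * y⁻¹ := by rw [h1]
    _ = _ := by group

omit h in
theorem Typ.conj {s y : G} {X E : Subgroup G} (hs : Typ s X E) : Typ (y * s * y⁻¹) (cj y X) (cj y E) := by
  constructor
  · intro x hx
    have h1 := hs.1 _ (mem_cj.1 hx)
    rw [mem_cj]
    have e : y⁻¹ * (y * s * y⁻¹ * x * (y * s * y⁻¹)⁻¹ * x⁻¹) * y =
      s * (y⁻¹ * x * y) * s⁻¹ * (y⁻¹ * x * y)⁻¹ := by group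
    rw [e]; exact h1
  · intro e he
    obtain ⟨x, hx, hxe⟩ := hs.2 _ (mem_cj.1 he)
    refine ⟨y * x * y⁻¹, conj_mem_cj hx, ?_⟩
    calc y * s * y⁻¹ * (y * x * y⁻¹) * (y * s * y⁻¹)⁻¹ * (y * x * y⁻¹)⁻¹ = y * (s * x * s⁻¹ * x⁻¹) * y⁻¹ := by group
      _ = y * (y⁻¹ * e * y) * y⁻¹ := by rw [hxe]
      _ = e := by group

omit h in
theorem Typ.not_tri {s : G} {X E : Subgroup G} (hs : Typ s X E) (hE : Nat.card E = 4) : ¬ Tri s X := by
  intro ht
  have h1 : E = ⊥ := by
    rw [eq_bot_iff]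
    intro e he
    obtain ⟨x, hx, rfl⟩ := hs.2 e he
    rw [mem_bot, ht x hx, mul_inv_cancel_right, mul_inv_cancel]
  rw [h1, Subgroup.card_bot] at hE
  omega

/-- if `w ∈ W` normalises and moves the block `n`, and centralises modulo `Q'` the eigenvector `y ∈ R⁺`, its line
is the plus line -/
theorem plus {E₁ E₂ : Subgroup G} (h1 : IsLn F z' U0' E₁) (h2 : IsLn F z' U0' E₂) (hne : E₁ ≠ E₂)
    {y : G} (hy : Eig W N' Q' y) (hyE : y ∈ normalizer (E₁ : Set G)) {w n : G} (hw : w ∈ W) (hn : n ∈ N')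
    (hwy : w * y * w⁻¹ * y⁻¹ ∈ Q') (hwn : w * n * w⁻¹ * n⁻¹ ∈ Q') (ht : ¬ Tri w (cj n U0')) :
    cj n U0' ⊓ centralizer (W : Set G) = cj n E₁ ∧ Typ w (cj n U0') (cj n E₁) := by
  have hX : cj n U0' ∈ Nb D' U0' := nb h.v' (h.v'.N_le hn)
  have hwX : w ∈ normalizer ((cj n U0' : Subgroup G) : Set G) := (W_fix_iff h hw hn).2 hwn
  have ht' : ∃ x ∈ cj n U0', w * x ≠ x * w := by
    unfold Tri at ht
    push Not at ht
    exact ht
  obtain ⟨l1, l2, l3, l4⟩ := h.line rfl hX hw hwX ht'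
  have e1 := ln_conj h.v' h.fam h1 (h.v'.N_le hn)
  have e2 := ln_conj h.v' h.fam h2 (h.v'.N_le hn)
  have hne' : cj n E₁ ≠ cj n E₂ := by
    intro e
    apply hne
    have := congrArg (cj n⁻¹) e
    rwa [cj_inv_cj, cj_inv_cj] at this
  rcases h.fam.line_cases (h.nb_mem hX).1 h.v'.z_F e1 e2 hne' l1 with e | e
  · rw [e] at l2 l4
    exact ⟨e, l2, l4⟩
  · exfalso
    obtain ⟨w', hw', hne''⟩ := eig_not h hy
    apply hne''
    refine (sgn_63 h h2 h1 hne.symm hw hn hwX ht' ?_ hy.1 hyE hwy).2.2 w' hw'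
    intro w' hw' x hx
    rw [← e] at hx
    exact mem_centralizer_iff.1 hx.2 w' hw'

/-- passing from the block `n` to the block `g n`, `g ∈ R⁻` -/
theorem tri_iff {E₁ E₂ : Subgroup G} (h1 : IsLn F z' U0' E₁) (h2 : IsLn F z' U0' E₂) (hne : E₁ ≠ E₂)
    {y : G} (hy : Eig W N' Q' y) (hyE : y ∈ normalizer (E₁ : Set G)) {w n g : G} (hw : w ∈ W) (hn : n ∈ N')
    (hwy : w * y * w⁻¹ * y⁻¹ ∈ Q') (hwn : w * n * w⁻¹ * n⁻¹ ∈ Q') (hg : g ∈ N')
    (hgE : g ∈ normalizer (E₂ : Set G)) (hwg : w * g * w⁻¹ * g⁻¹ ∈ Q') :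
    Tri w (cj (g * n) U0') → Tri w (cj n U0') := by
  intro ht
  by_contra hcon
  have hp := plus h h1 h2 hne hy hyE hw hn hwy hwn hcon
  have hwX : w ∈ normalizer ((cj n U0' : Subgroup G) : Set G) := (W_fix_iff h hw hn).2 hwn
  obtain ⟨⟨x, hx, hxne⟩, -, -⟩ := sgn_63 h h1 h2 hne hw hn hwX (by
    unfold Tri at hcon
    push Not at hcon
    exact hcon) (by
      intro w' hw' x hx
      rw [← hp.1] at hx
      exact mem_centralizer_iff.1 hx.2 w' hw') hg hgE hwg
  exact hxne (ht x hx)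


/-- the action of `q = w⁻¹ w^y` on the block `n` -/
theorem q_act {E₁ E₂ : Subgroup G} (h1 : IsLn F z' U0' E₁) (h2 : IsLn F z' U0' E₂) (hne : E₁ ≠ E₂)
    {y : G} (hy : Eig W N' Q' y) (hyE : y ∈ normalizer (E₁ : Set G)) {w n m : G} (hw : w ∈ W) (hn : n ∈ N')
    (hm : m ∈ N') (hmn : (y * m)⁻¹ * n ∈ Q')
    (hwy : w * y * w⁻¹ * y⁻¹ ∈ Q') (hwn : w * n * w⁻¹ * n⁻¹ ∈ Q') (hwm : w * m * w⁻¹ * m⁻¹ ∈ Q') :
    ((Tri w (cj n U0') ↔ Tri w (cj m U0')) → Tri (w⁻¹ * (y * w * y⁻¹)) (cj n U0')) ∧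
      (¬ (Tri w (cj n U0') ↔ Tri w (cj m U0')) → Typ (w⁻¹ * (y * w * y⁻¹)) (cj n U0') (cj n E₁)) := by
  have hww : w * w = 1 := h.v.W_sq h.fam hw
  have hwi : w⁻¹ = w := inv_eq_of_mul_eq_one_left hww
  have hX : cj n U0' ∈ Nb D' U0' := nb h.v' (h.v'.N_le hn)
  have hXU := (h.nb_mem hX).1
  have hwX : w ∈ normalizer ((cj n U0' : Subgroup G) : Set G) := (W_fix_iff h hw hn).2 hwn
  have hwm' : w ∈ normalizer ((cj m U0' : Subgroup G) : Set G) := (W_fix_iff h hw hm).2 hwm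
  have eU : cj y (cj m U0') = cj n U0' := by rw [cj_cj]; exact cj_U_eq h hmn
  have eE : cj y (cj m E₁) = cj n E₁ := by rw [cj_cj]; exact cj_line_eq h h1 hmn
  have hsX : y * w * y⁻¹ ∈ normalizer ((cj n U0' : Subgroup G) : Set G) := by
    rw [mem_normalizer_iff_cj, ← eU, cj_cj, show y * w * y⁻¹ * y = y * w by group, ← cj_cj,
      mem_normalizer_iff_cj.1 hwm']
  -- the action of `w ^ y`
  have hs1 : Tri w (cj m U0') → Tri (y * w * y⁻¹) (cj n U0') := fun ht => by
    rw [← eU]; exact ht.conj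
  have hs2 : ¬ Tri w (cj m U0') → Typ (y * w * y⁻¹) (cj n U0') (cj n E₁) := fun ht => by
    rw [← eU, ← eE]; exact (plus h h1 h2 hne hy hyE hw hm hwy hwm ht).2.conj
  have hw2 : ¬ Tri w (cj n U0') → Typ w (cj n U0') (cj n E₁) := fun ht =>
    (plus h h1 h2 hne hy hyE hw hn hwy hwn ht).2
  have hconj : ∀ x ∈ cj n U0', y * w * y⁻¹ * x * (y * w * y⁻¹)⁻¹ ∈ cj n U0' := by
    intro x hx
    have h3 := conj_mem_cj (g := y * w * y⁻¹) hx
    rwa [mem_normalizer_iff_cj.1 hsX] at h3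
  have hconjw : ∀ x ∈ cj n U0', w * x * w⁻¹ ∈ cj n U0' := by
    intro x hx
    have h3 := conj_mem_cj (g := w) hx
    rwa [mem_normalizer_iff_cj.1 hwX] at h3
  have hln := ln_conj h.v' h.fam h1 (h.v'.N_le hn)
  by_cases hA : Tri w (cj n U0')
  · -- `w` trivial: `q` acts as `w ^ y`
    have hq : ∀ x ∈ cj n U0', w⁻¹ * (y * w * y⁻¹) * x * (w⁻¹ * (y * w * y⁻¹))⁻¹ =
        y * w * y⁻¹ * x * (y * w * y⁻¹)⁻¹ := by
      intro x hx
      have h3 := hA _ (hconj x hx)
      have e : w⁻¹ * (y * w * y⁻¹) * x * (w⁻¹ * (y * w * y⁻¹))⁻¹ =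
        w⁻¹ * ((y * w * y⁻¹ * x * (y * w * y⁻¹)⁻¹) * w) := by group
      rw [e, ← h3, inv_mul_cancel_left]
    refine ⟨fun hiff => ?_, fun hiff => ?_⟩
    · have h3 := hs1 (hiff.1 hA)
      intro x hx
      have h4 := hq x hx
      rw [h3 x hx, mul_inv_cancel_right, mul_inv_eq_iff_eq_mul] at h4
      exact h4
    · have hB : ¬ Tri w (cj m U0') := fun hB => hiff ⟨fun _ => hB, fun _ => hA⟩
      obtain ⟨h3, h4⟩ := hs2 hB
      constructor
      · intro x hx
        rw [hq x hx]; exact h3 x hx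
      · intro e he
        obtain ⟨x, hx, hxe⟩ := h4 e he
        exact ⟨x, hx, by rw [hq x hx]; exact hxe⟩
  · by_cases hB : Tri w (cj m U0')
    · -- `w ^ y` trivial: `q` acts as `w`
      have h3 := hs1 hB
      have hq : ∀ x ∈ cj n U0', w⁻¹ * (y * w * y⁻¹) * x * (w⁻¹ * (y * w * y⁻¹))⁻¹ = w * x * w⁻¹ := by
        intro x hx
        have e : w⁻¹ * (y * w * y⁻¹) * x * (w⁻¹ * (y * w * y⁻¹))⁻¹ =
          w⁻¹ * ((y * w * y⁻¹ * x) * (y * w * y⁻¹)⁻¹) * w := by group
        rw [e, h3 x hx, mul_inv_cancel_right, hwi]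
      refine ⟨fun hiff => absurd (hiff.2 hB) hA, fun _ => ?_⟩
      obtain ⟨h4, h5⟩ := hw2 hA
      constructor
      · intro x hx
        rw [hq x hx]; exact h4 x hx
      · intro e he
        obtain ⟨x, hx, hxe⟩ := h5 e he
        exact ⟨x, hx, by rw [hq x hx]; exact hxe⟩
    · refine ⟨fun _ => ?_, fun hiff => absurd ⟨fun h' => absurd h' hA, fun h' => absurd h' hB⟩ hiff⟩
      have h3 := hs2 hB
      have h4 := hw2 hA
      have n3 := h3.not_tri hln.card
      have n4 := hA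
      unfold Tri at n3 n4
      push Not at n3 n4
      have h5 := h.fam.unique_act hXU hln hwX hsX h4.1 h3.1 n4 n3
      intro x hx
      have h6 := h5 x hx
      have e : w⁻¹ * (y * w * y⁻¹) * x = w⁻¹ * (y * w * y⁻¹ * x * (y * w * y⁻¹)⁻¹) * (y * w * y⁻¹) := by group
      rw [e, ← h6]
      group

/-- `q ∈ Q'` nontrivial on a block: `[q, u] ∉ ⟨z'⟩` for `u` outside `W'1` -/
theorem typ_not {q n u L : G} {E : Subgroup G} (hq : q ∈ Q') {X : Subgroup G} (hX : X ∈ Nb D' U0')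
    (ht : Typ q X E) (hE : IsLn F z' X E) (hu : u ∈ X) (huW : u ∉ ⁅Q', W'⁆) :
    q * u * q⁻¹ * u⁻¹ ≠ 1 ∧ q * u * q⁻¹ * u⁻¹ ≠ z' := by
  have hX' := h.nb_mem hX
  have hzz : z' * z' = 1 := h.fam.sq _ hX'.1 _ hX'.2.2
  have hqD : q ∈ D' := Q_le_D h.v' hq
  obtain ⟨e, he, he1, hez⟩ := hE.exists_mem
  obtain ⟨x, hx, hxe⟩ := ht.2 e he
  obtain ⟨A, B, hA, hB, hAB, -⟩ := h.fam.exists_lines hX'.1 hX'.2.2 h.v'.z_F
  have hinf := h.W1_inf hX hA hB hAB
  obtain ⟨-, -, hmul⟩ := h.fam.line_sup hX'.1 h.v'.z_F hA hB hAB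
  have hxW : x ∉ A ⊔ B := by
    intro h1
    rw [← hinf] at h1
    rcases h.W1_comm hq h1.2 with h2 | h2
    · exact he1 (hxe ▸ h2)
    · exact hez (hxe ▸ h2)
  have huW' : u ∉ A ⊔ B := by
    intro h1
    rw [← hinf] at h1
    exact huW h1.2
  have h3 := hmul x hx u hu hxW huW'
  rw [← hinf] at h3
  have h4 := h.W1_comm hq h3.2
  rw [mul_comm' h.v' hqD (hX'.2.1 hx) (hX'.2.1 hu), hxe] at h4
  constructor
  · intro h5
    rw [h5, mul_one] at h4
    exact h4.elim he1 hez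
  · intro h5
    rw [h5] at h4
    rcases h4 with h4 | h4
    · apply hez
      calc e = e * z' * z' := by rw [mul_assoc, hzz, mul_one]
        _ = z' := by rw [h4, one_mul]
    · apply he1
      calc e = e * z' * z' := by rw [mul_assoc, hzz, mul_one]
        _ = 1 := by rw [h4, hzz]

/-- `E₁ ∩ E₁^g = ⟨z'⟩` for `g ∈ R⁻ - Q'` -/
theorem not_mem_both {E₁ E₂ : Subgroup G} (h1 : IsLn F z' U0' E₁) (h2 : IsLn F z' U0' E₂) (hne : E₁ ≠ E₂)
    {g e : G} (hg : g ∈ N') (hgE : g ∈ normalizer (E₂ : Set G)) (hgQ : g ∉ Q') (he : e ∈ E₁)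
    (he' : e ∈ cj g E₁) (he1 : e ≠ 1) (hez : e ≠ z') : False := by
  have hU : U0' ∈ UU := h.v'.U0_mem
  set R := U0' ⊓ cj g U0' with hR
  have hER : E₂ ≤ R := by
    refine le_inf h2.le ?_
    rw [← mem_normalizer_iff_cj.1 hgE]
    exact cj_mono h2.le
  have heR : e ∈ R := ⟨h1.le he, cj_mono h1.le he'⟩
  have hall : ∀ r ∈ R, r ≠ 1 → r ∈ F := by
    intro r hr hr1
    by_contra hrF
    apply hgQ
    apply h.v'.N_fix g hg
    rw [mem_normalizer_iff_cj]
    exact (h.fam.inter _ hU _ (h.fam.cjU g _ hU) r hr.1 hr.2 hr1 hrF).symm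
  have hc := h.fam.card_le_four hU (inf_le_left : R ≤ U0') hall
  have hEq : E₂ = R := Subgroup.eq_of_le_of_card_ge hER (by rw [h2.card]; exact hc)
  have heE : e ∈ E₂ := by rw [hEq]; exact heR
  rcases h.fam.line_inf hU h.v'.z_F h1 h2 hne he heE with h3 | h3
  · exact he1 h3
  · exact hez h3

/-- the final contradiction -/
theorem fin {E₁ E₂ : Subgroup G} (h1 : IsLn F z' U0' E₁) (h2 : IsLn F z' U0' E₂) (hne : E₁ ≠ E₂)
    {g a b q ua ub : G} (hg : g ∈ N') (hgE : g ∈ normalizer (E₂ : Set G)) (hgQ : g ∉ Q') (hq : q ∈ Q')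
    (ha : a ∈ N') (hb : b ∈ N') (haE : a ∈ normalizer (E₁ : Set G))
    (hta : Typ q (cj a U0') (cj a E₁)) (htga : Typ q (cj (g * a) U0') (cj (g * a) E₁))
    (htb : Tri q (cj b U0')) (htgb : Tri q (cj (g * b) U0'))
    (hua : ua ∈ cj a U0') (huaW : ua ∉ ⁅Q', W'⁆) (hub : ub ∈ cj b U0')
    (hfix : g * (ua * ub) * g⁻¹ * (ua * ub)⁻¹ ∈ ⁅Q', W'⁆) : False := by
  have hgD := h.v'.N_le hg
  have haD := h.v'.N_le ha
  have hbD := h.v'.N_le hb
  have hqD : q ∈ D' := Q_le_D h.v' hq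
  have hXa : cj a U0' ∈ Nb D' U0' := nb h.v' haD
  have hXb : cj b U0' ∈ Nb D' U0' := nb h.v' hbD
  have huaW' : ua ∈ W' := (h.nb_mem hXa).2.1 hua
  have hubW' : ub ∈ W' := (h.nb_mem hXb).2.1 hub
  have hzz : z' * z' = 1 := h.fam.sq _ h.v'.U0_mem _ h.v'.z_mem
  have hua2 : ua⁻¹ = ua := W_inv h.v' h.fam huaW'
  have hub2 : ub⁻¹ = ub := W_inv h.v' h.fam hubW'
  have mga : g * ua * g⁻¹ ∈ W' := h.v'.conj_W hgD huaW'
  have mgb : g * ub * g⁻¹ ∈ W' := h.v'.conj_W hgD hubW'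
  -- the product
  have e1 : g * (ua * ub) * g⁻¹ * (ua * ub)⁻¹ = (g * ua * g⁻¹ * ua) * (g * ub * g⁻¹ * ub) := by
    have hc := h.v'.W_comm (g * ub * g⁻¹ * ub) (W'.mul_mem mgb hubW') ua huaW'
    calc g * (ua * ub) * g⁻¹ * (ua * ub)⁻¹ = g * ua * g⁻¹ * (g * ub * g⁻¹ * ub⁻¹ * ua⁻¹) := by group
      _ = g * ua * g⁻¹ * (g * ub * g⁻¹ * ub * ua) := by rw [hua2, hub2]
      _ = g * ua * g⁻¹ * (ua * (g * ub * g⁻¹ * ub)) := by rw [hc]
      _ = _ := by group
  rw [e1] at hfix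
  have h3 := h.W1_comm hq hfix
  rw [mul_comm' h.v' hqD (W'.mul_mem mga huaW') (W'.mul_mem mgb hubW'),
    mul_comm' h.v' hqD mga huaW', mul_comm' h.v' hqD mgb hubW'] at h3
  -- the trivial factors
  have t1 : q * ub * q⁻¹ * ub⁻¹ = 1 := by
    rw [htb ub hub, mul_inv_cancel_right, mul_inv_cancel]
  have t2 : q * (g * ub * g⁻¹) * q⁻¹ * (g * ub * g⁻¹)⁻¹ = 1 := by
    have h4 : g * ub * g⁻¹ ∈ cj (g * b) U0' := by
      rw [← cj_cj]; exact conj_mem_cj hub
    rw [htgb _ h4, mul_inv_cancel_right, mul_inv_cancel]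
  rw [t1, t2, mul_one, mul_one] at h3
  set e := q * ua * q⁻¹ * ua⁻¹ with he
  set f := q * (g * ua * g⁻¹) * q⁻¹ * (g * ua * g⁻¹)⁻¹ with hf
  have hln := ln_conj h.v' h.fam h1 haD
  obtain ⟨n1, n2⟩ := typ_not (n := q) (L := q) h hq hXa hta hln hua huaW
  have heE : e ∈ cj a E₁ := hta.1 ua hua
  rw [mem_normalizer_iff_cj.1 haE] at heE
  have h4 : g * ua * g⁻¹ ∈ cj (g * a) U0' := by
    rw [← cj_cj]; exact conj_mem_cj hua
  have hfE : f ∈ cj (g * a) E₁ := htga.1 _ h4
  have eE : cj (g * a) E₁ = cj g E₁ := by rw [← cj_cj, mem_normalizer_iff_cj.1 haE]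
  rw [eE] at hfE
  have hzg : z' ∈ cj g E₁ := (ln_conj h.v' h.fam h1 hgD).mem
  have hee : e ∈ cj g E₁ := by
    have e2 : e = f⁻¹ * (f * e) := by group
    rw [e2]
    refine (cj g E₁).mul_mem ((cj g E₁).inv_mem hfE) ?_
    rcases h3 with h3 | h3
    · rw [h3]; exact one_mem _
    · rw [h3]; exact hzg
  exact not_mem_both h h1 h2 hne hg hgE hgQ heE hee n1 n2


/-- all eigenvectors are in `R⁺` -/
theorem eig_plus {E₁ E₂ : Subgroup G} (h1 : IsLn F z' U0' E₁) (h2 : IsLn F z' U0' E₂) (hne : E₁ ≠ E₂)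
    (hR : ∀ n ∈ N', n ∈ normalizer (E₂ : Set G) → ∀ w ∈ W, w * n * w⁻¹ * n⁻¹ ∈ Q')
    {y : G} (hy : Eig W N' Q' y) : y ∈ normalizer (E₁ : Set G) := by
  obtain ⟨hl, -, hcj, -⟩ := h.eig_line hy
  rcases h.fam.line_cases h.v'.U0_mem h.v'.z_F h1 h2 hne hl with e | e
  · rw [e] at hcj
    rw [mem_normalizer_iff_cj]; exact hcj
  · exfalso
    rw [e] at hcj
    obtain ⟨w, hw, hne'⟩ := eig_not h hy
    exact hne' (hR y hy.1 (mem_normalizer_iff_cj.2 hcj) w hw)

/-- (7.1) -/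
theorem not_mem_Q {E₁ E₂ : Subgroup G} (h1 : IsLn F z' U0' E₁) (h2 : IsLn F z' U0' E₂) (hne : E₁ ≠ E₂)
    (hR : ∀ n ∈ N', n ∈ normalizer (E₂ : Set G) → ∀ w ∈ W, w * n * w⁻¹ * n⁻¹ ∈ Q')
    {v : G} (hv : v ∈ W) (hi : (W' ⊓ centralizer ({v} : Set G)).relIndex W' = 4)
    (hvne : ∃ w ∈ W', v * w ≠ w * v) : v ∉ Q' := by
  intro hvQ
  obtain ⟨w₀, hw₀, hw₀Q⟩ := SetLike.not_le_iff_exists.1 h.not_le
  obtain ⟨y, hy, -⟩ := h.exists_eig_of hw₀ hw₀Q
  have hyE := eig_plus h h1 h2 hne hR hy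
  have hvD : v ∈ D' := h.le hv
  have hfix : ∀ n ∈ N', v * n * v⁻¹ * n⁻¹ ∈ Q' := by
    intro n hn
    have e : v * n * v⁻¹ * n⁻¹ = v * (n * v⁻¹ * n⁻¹) := by group
    rw [e]
    exact mul_mem hvQ (h.v'.Q_norm n (h.v'.N_le hn) _ (inv_mem hvQ))
  obtain ⟨w, hw, hvne⟩ := hvne
  obtain ⟨X, hX, V, hV, hVX, a, ha, hav⟩ := h.v'.exists_V h.fam (g := v) ⟨w, hw, fun e => hvne e.symm⟩
  obtain ⟨n, hn, rfl⟩ := exists_n h.v' hX
  have ht : ¬ Tri v (cj n U0') := fun ht => hav (ht a (hVX ha)).symm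
  obtain ⟨p1, p2⟩ := plus h h1 h2 hne hy hyE hv hn (hfix y hy.1) (hfix n hn) ht
  obtain ⟨g, hg, hgE, hgQ⟩ := sgn_ne h h1 h2 hne
  have hgn : g * n ∈ N' := mul_mem hg hn
  have ht' : ¬ Tri v (cj (g * n) U0') := fun ht' =>
    ht (tri_iff h h1 h2 hne hy hyE hv hn (hfix y hy.1) (hfix n hn) hg hgE (hfix g hg) ht')
  obtain ⟨p3, p4⟩ := plus h h1 h2 hne hy hyE hv hgn (hfix y hy.1) (hfix _ hgn) ht'
  obtain ⟨I, hI, -, hcI⟩ := exists_range h.v' hvD
  rw [hi] at hcI
  have key : ∀ m ∈ N', Typ v (cj m U0') (cj m E₁) → cj m E₁ = I := by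
    intro m hm ht
    apply Subgroup.eq_of_le_of_card_ge
    · intro e he
      obtain ⟨x, hx, hxe⟩ := ht.2 e he
      exact (hI e).2 ⟨x, (h.nb_mem (nb h.v' (h.v'.N_le hm))).2.1 hx, hxe⟩
    · rw [hcI, card_cj, h1.card]
  have e1 : cj n E₁ = cj (g * n) E₁ := by rw [key n hn p2, key _ hgn p4]
  have e2 : cj (g * n) E₁ = cj (n * g) E₁ := by
    apply cj_line_eq h h1
    have h3 := h.v'.N_comm n⁻¹ (inv_mem hn) g⁻¹ (inv_mem hg)
    have e : (g * n)⁻¹ * (n * g) = n⁻¹ * g⁻¹ * n⁻¹⁻¹ * g⁻¹⁻¹ := by group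
    rw [e]; exact h3
  have e3 : E₁ = cj g E₁ := by
    rw [e2, ← cj_cj] at e1
    have := congrArg (cj n⁻¹) e1
    rwa [cj_inv_cj, cj_inv_cj] at this
  obtain ⟨e, he, he1, hez⟩ := h1.exists_mem
  exact not_mem_both h h1 h2 hne hg hgE hgQ he (e3 ▸ he) he1 hez

/-- Step 7 -/
theorem false_of_sign {E₁ E₂ : Subgroup G} (h1 : IsLn F z' U0' E₁) (h2 : IsLn F z' U0' E₂) (hne : E₁ ≠ E₂)
    (hR : ∀ n ∈ N', n ∈ normalizer (E₂ : Set G) → ∀ w ∈ W, w * n * w⁻¹ * n⁻¹ ∈ Q') : False := by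
  obtain ⟨v, hv, hi, hvne⟩ := exists_v h
  have hvQ := not_mem_Q h h1 h2 hne hR hv hi hvne
  obtain ⟨y, hy, hvy⟩ := h.exists_eig_of hv hvQ
  have hyE := eig_plus h h1 h2 hne hR hy
  obtain ⟨g, hg, hgE, hgQ⟩ := sgn_ne h h1 h2 hne
  have hyN : y ∈ N' := hy.1
  have hyD := h.v'.N_le hyN
  have hgD := h.v'.N_le hg
  have hvD := h.le hv
  have hiN : y⁻¹ ∈ N' := inv_mem hyN
  have hiiN : y⁻¹ * y⁻¹ ∈ N' := mul_mem hiN hiN
  have hiiD : y⁻¹ * y⁻¹ ∈ D' := h.v'.N_le hiiN
  -- `y⁻²` is an eigenvector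
  have hiiQ : y⁻¹ * y⁻¹ ∉ Q' := fun h3 => hy.2.1 (by
    have := inv_mem (mem_of_sq h.v' hiN h3)
    rwa [inv_inv] at this)
  have cent_mul : ∀ {w a b : G}, a ∈ D' → w * a * w⁻¹ * a⁻¹ ∈ Q' → w * b * w⁻¹ * b⁻¹ ∈ Q' →
      w * (a * b) * w⁻¹ * (a * b)⁻¹ ∈ Q' := by
    intro w a b ha h3 h4
    have e : w * (a * b) * w⁻¹ * (a * b)⁻¹ = (w * a * w⁻¹ * a⁻¹) * (a * (w * b * w⁻¹ * b⁻¹) * a⁻¹) := by group
    rw [e]
    exact mul_mem h3 (h.v'.Q_norm a ha _ h4)
  have cent_inv : ∀ {w a : G}, a ∈ D' → w * a * w⁻¹ * a⁻¹ ∈ Q' → w * a⁻¹ * w⁻¹ * a⁻¹⁻¹ ∈ Q' := by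
    intro w a ha h3
    have e : w * a⁻¹ * w⁻¹ * a⁻¹⁻¹ = a⁻¹ * (w * a * w⁻¹ * a⁻¹)⁻¹ * a⁻¹⁻¹ := by group
    rw [e]
    exact h.v'.Q_norm _ (inv_mem ha) _ (inv_mem h3)
  have inv_mul' : ∀ {w : G}, w ∈ D' → w * y * w⁻¹ * y ∈ Q' → w * (y⁻¹ * y⁻¹) * w⁻¹ * (y⁻¹ * y⁻¹) ∈ Q' := by
    intro w hw h3
    have e : w * (y⁻¹ * y⁻¹) * w⁻¹ * (y⁻¹ * y⁻¹) =
      (y * (w * y * w⁻¹ * y)⁻¹ * y⁻¹) * ((y * y) * (w * y * w⁻¹ * y)⁻¹ * (y * y)⁻¹) := by group
    rw [e]
    exact mul_mem (h.v'.Q_norm y hyD _ (inv_mem h3)) (h.v'.Q_norm _ (mul_mem hyD hyD) _ (inv_mem h3))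
  have hyy : Eig W N' Q' (y⁻¹ * y⁻¹) := by
    refine ⟨hiiN, hiiQ, fun w hw => ?_, v, hv, inv_mul' hvD hvy⟩
    rcases hy.2.2.1 w hw with h3 | h3
    · exact Or.inl (cent_mul (inv_mem hyD) (cent_inv hyD h3) (cent_inv hyD h3))
    · exact Or.inr (inv_mul' (h.le hw) h3)
  obtain ⟨w, hw, hwyy, hwnorm, hwne⟩ := h.eig_exists hyy
  have hwD := h.le hw
  -- `w` centralises `y` modulo `Q'`
  have hwy : w * y * w⁻¹ * y⁻¹ ∈ Q' := by
    rcases hy.2.2.1 w hw with h3 | h3
    · exact h3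
    · exfalso
      have h4 := inv_mul' hwD h3
      apply hiiQ
      apply mem_of_sq h.v' hiiN
      have e : y⁻¹ * y⁻¹ * (y⁻¹ * y⁻¹) = (w * (y⁻¹ * y⁻¹) * w⁻¹ * (y⁻¹ * y⁻¹)⁻¹)⁻¹ *
        (w * (y⁻¹ * y⁻¹) * w⁻¹ * (y⁻¹ * y⁻¹)) := by group
      rw [e]
      exact mul_mem (inv_mem hwyy) h4
  have hwi : w * y⁻¹ * w⁻¹ * y⁻¹⁻¹ ∈ Q' := cent_inv hyD hwy
  have hwg : w * g * w⁻¹ * g⁻¹ ∈ Q' := hR g hg hgE w hw
  have hw1 : w * 1 * w⁻¹ * (1 : G)⁻¹ ∈ Q' := by
    have e : w * 1 * w⁻¹ * (1 : G)⁻¹ = 1 := by group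
    rw [e]; exact one_mem _
  have hgyN : g * y ∈ N' := mul_mem hg hyN
  have hgiN : g * y⁻¹ ∈ N' := mul_mem hg hiN
  have hgiiN : g * (y⁻¹ * y⁻¹) ∈ N' := mul_mem hg hiiN
  have hwgy := cent_mul hgD hwg hwy
  have hwgi := cent_mul hgD hwg hwi
  have hwgii := cent_mul hgD hwg hwyy
  -- the element `q`
  have hqQ : w⁻¹ * (y * w * y⁻¹) ∈ Q' := by
    have e : w⁻¹ * (y * w * y⁻¹) = w⁻¹ * (w * y * w⁻¹ * y⁻¹)⁻¹ * w⁻¹⁻¹ := by group
    rw [e]
    exact h.v'.Q_norm _ (inv_mem hwD) _ (inv_mem hwy)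
  -- the trivial action on the blocks
  have s1 : Tri w (cj 1 U0') := by
    rw [cj_one]
    exact h.fix w hw
  have sii : ¬ Tri w (cj (y⁻¹ * y⁻¹) U0') := by
    obtain ⟨x, hx, hne'⟩ := hwne
    exact fun ht => hne' (ht x hx)
  have sg : ∀ n ∈ N', w * n * w⁻¹ * n⁻¹ ∈ Q' → (Tri w (cj (g * n) U0') ↔ Tri w (cj n U0')) := by
    intro n hn hwn
    refine ⟨tri_iff h h1 h2 hne hy hyE hw hn hwy hwn hg hgE hwg, fun ht => ?_⟩
    refine tri_iff h h1 h2 hne hy hyE hw (mul_mem hg hn) hwy (cent_mul hgD hwg hwn) (inv_mem hg) (inv_mem hgE)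
      (cent_inv hgD hwg) ?_
    rwa [inv_mul_cancel_left]
  have hvw : v * w * v⁻¹ = w := by
    rw [h.v.W_comm v hv w hw, mul_inv_cancel_right]
  have sy1 : Tri w (cj y U0') → Tri w (cj y⁻¹ U0') := by
    intro ht
    have h3 := ht.conj (y := v)
    rw [hvw, cj_W h hv] at h3
    have e : cj (v * y * v⁻¹) U0' = cj y⁻¹ U0' := by
      apply cj_U_eq h
      have e1 : (v * y * v⁻¹)⁻¹ * y⁻¹ = (y * (v * y * v⁻¹ * y) * y⁻¹)⁻¹ := by group
      rw [e1]
      exact inv_mem (h.v'.Q_norm y hyD _ hvy)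
    rwa [e] at h3
  have sy2 : Tri w (cj y⁻¹ U0') → Tri w (cj y U0') := by
    intro ht
    have h3 := ht.conj (y := v)
    rw [hvw, cj_W h hv] at h3
    have e : cj (v * y⁻¹ * v⁻¹) U0' = cj y U0' := by
      apply cj_U_eq h
      have e1 : (v * y⁻¹ * v⁻¹)⁻¹ * y = v * y * v⁻¹ * y := by group
      rw [e1]
      exact hvy
    rwa [e] at h3
  -- the action of `q` on the four blocks
  have qy := q_act h h1 h2 hne hy hyE (n := y) (m := 1) hw hyN (one_mem _)
    (by rw [mul_one, inv_mul_cancel]; exact one_mem _) hwy hwy hw1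
  have qi := q_act h h1 h2 hne hy hyE (n := y⁻¹) (m := y⁻¹ * y⁻¹) hw hiN hiiN
    (by rw [mul_inv_cancel_left, inv_mul_cancel]; exact one_mem _) hwy hwi hwyy
  have qgy := q_act h h1 h2 hne hy hyE (n := g * y) (m := g) hw hgyN hg (by
    have h3 := h.v'.N_comm g⁻¹ (inv_mem hg) y⁻¹ (inv_mem hyN)
    have e : (y * g)⁻¹ * (g * y) = g⁻¹ * y⁻¹ * g⁻¹⁻¹ * y⁻¹⁻¹ := by group
    rw [e]; exact h3) hwy hwgy hwg
  have qgi := q_act h h1 h2 hne hy hyE (n := g * y⁻¹) (m := g * (y⁻¹ * y⁻¹)) hw hgiN hgiiN (by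
    have h3 := h.v'.N_comm g⁻¹ (inv_mem hg) y⁻¹ (inv_mem hyN)
    have e : (y * (g * (y⁻¹ * y⁻¹)))⁻¹ * (g * y⁻¹) =
      (y * y) * (g⁻¹ * y⁻¹ * g⁻¹⁻¹ * y⁻¹⁻¹) * (y * y)⁻¹ := by
      simp only [mul_inv_rev, inv_inv, mul_assoc, mul_inv_cancel_left]
    rw [e]
    exact h.v'.Q_norm _ (mul_mem hyD hyD) _ h3) hwy hwgi hwgii
  have sgy := sg y hyN hwy
  have sgi := sg y⁻¹ hiN hwi
  have sgii := sg _ hiiN hwyy
  have sg1 : Tri w (cj g U0') := by
    have := (sg 1 (one_mem _) hw1).2 s1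
    rwa [mul_one] at this
  -- the elements
  have hU := h.v'.U0_mem
  obtain ⟨u, hu, huW⟩ : ∃ u ∈ U0', u ∉ ⁅Q', W'⁆ := by
    by_contra hcon
    push Not at hcon
    have h3 := h.W1_inf (X := U0') ⟨1, one_mem _, (cj_one _).symm⟩ h1 h2 hne
    rw [inf_eq_left.2 hcon] at h3
    have h4 := (h.fam.line_sup hU h.v'.z_F h1 h2 hne).1
    rw [← h3, h.fam.card_eq hU] at h4
    omega
  set ua := y * u * y⁻¹ with hua
  set ub := y⁻¹ * y⁻¹ * ua * (y⁻¹ * y⁻¹)⁻¹ with hub
  have huaX : ua ∈ cj y U0' := conj_mem_cj hu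
  have hubX : ub ∈ cj y⁻¹ U0' := by
    have h3 := conj_mem_cj (g := y⁻¹ * y⁻¹) huaX
    rw [cj_cj, inv_mul_cancel_right] at h3
    exact h3
  have huaW : ua ∉ ⁅Q', W'⁆ := by
    rw [hua, W1_conj_iff h hyD]; exact huW
  have hubW : ub ∉ ⁅Q', W'⁆ := by
    rw [hub, W1_conj_iff h hiiD]; exact huaW
  have hua' : ua ∈ W' := (h.nb_mem (nb h.v' hyD)).2.1 huaX
  have hub' : ub ∈ W' := (h.nb_mem (nb h.v' (inv_mem hyD))).2.1 hubX
  have hua2 : ua⁻¹ = ua := W_inv h.v' h.fam hua'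
  have hfix := K_y h hv hi hvne hg (hR g hg hgE v hv) hyN hvy hua'
  have efix : y⁻¹ * y⁻¹ * ua * (y⁻¹ * y⁻¹)⁻¹ * ua⁻¹ = ub * ua := by rw [hua2]
  rw [efix] at hfix
  have hiE : y⁻¹ ∈ normalizer (E₁ : Set G) := inv_mem hyE
  by_cases hs : Tri w (cj y U0')
  · -- `q` is nontrivial on `y⁻¹`
    have a1 := qy.1 ⟨fun _ => s1, fun _ => hs⟩
    have a2 := qi.2 (fun e => sii (e.1 (sy1 hs)))
    have a3 := qgy.1 ⟨fun _ => sg1, fun _ => sgy.2 hs⟩
    have a4 := qgi.2 (fun e => sii (sgii.1 (e.1 (sgi.2 (sy1 hs)))))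
    exact fin h h1 h2 hne hg hgE hgQ hqQ hiN hyN hiE a2 a4 a1 a3 hubX hubW huaX hfix
  · have hsi : ¬ Tri w (cj y⁻¹ U0') := fun h3 => hs (sy2 h3)
    have a1 := qy.2 (fun e => hs (e.2 s1))
    have a2 := qi.1 ⟨fun h3 => absurd h3 hsi, fun h3 => absurd h3 sii⟩
    have a3 := qgy.2 (fun e => hs (sgy.1 (e.2 sg1)))
    have a4 := qgi.1 ⟨fun h3 => absurd (sgi.1 h3) hsi, fun h3 => absurd (sgii.1 h3) sii⟩
    rw [h.v'.W_comm ub hub' ua hua'] at hfix
    exact fin h h1 h2 hne hg hgE hgQ hqQ hyN hiN hyE a1 a3 a2 a4 huaX huaW hubX hfix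

end Seven

/-- **There is no pair.** -/
theorem false_of_pair {k : ℕ} (h : Pair k UU VV F D N Q U0 W z p D' N' Q' U0' W' z' p') : False := by
  obtain rfl : k = 2 := h.k_eq
  obtain ⟨E₁, E₂, hs, -, hR⟩ := h.exists_sg
  exact false_of_sign h hs.l1 hs.l2 hs.ne fun n hn hn2 w hw => hR w hw n (mem_inf.2 ⟨hn, hn2⟩)

end Cfsg.Agent.MinSimple.OmPairD
end

private theorem dce_b96214e0e035 : _root_.True := by
  try have : _root_.True := by simp only [_root_.Cfsg.Agent.MinSimple.OmPair.four.congr_simp]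
  try have : _root_.True := by simp only [_root_.Cfsg.Agent.MinSimple.OmPair.rr.eq_1]
  exact _root_.True.intro
end

-- part: MinSimple/EmptyE/SmallX
section
set_option linter.all false
open scoped Cfsg.Agent.FastGrp

/-!
# Theorem E, Steps 3 and 5: the case (X) with the decomposition `V = V₁ × V₂`

* `CaseX2 Γ T V₁ V₂ z` : as `Small.CaseO`, but `T` elementary abelian of order at most 4 without transvections;
* `main2` : `SmallC.main` with `CaseX2` in place of `CaseX`.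
-/

set_option autoImplicit false

namespace Cfsg.Agent.MinSimple.EmptyE.SmallX

open Subgroup Cfsg Cfsg.Agent.ZN Cfsg.Agent.ZN.ChoiceBase Cfsg.Agent.ZN.ChoiceSit
open Cfsg.Agent.MinSimple.EmptyMod Cfsg.Agent.MinSimple.EmptyE.Small
open Cfsg.Agent.MinSimple.EmptyE.SmallB Cfsg.Agent.MinSimple.EmptyE.SmallC

universe u

variable {V : Type u} [CommGroup V]

/-- **(X)** : `V = V₁ × V₂`, `Γ` permutes `{V₁, V₂}`, `|T| ≤ 4`, `T` elementary abelian, no transvections in `T`. -/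
structure CaseX2 (Γ T : Subgroup (MulAut V)) (V₁ V₂ : Subgroup V) (z : V) : Prop where
  ne : z ≠ 1
  fixT : ∀ v : V, v ∈ fxG T ↔ v = 1 ∨ v = z
  card₁ : Nat.card V₁ = 4
  card₂ : Nat.card V₂ = 4
  inf : V₁ ⊓ V₂ = ⊥
  sup : V₁ ⊔ V₂ = ⊤
  perm : ∀ g ∈ Γ, ((∀ v ∈ V₁, g v ∈ V₁) ∧ ∀ v ∈ V₂, g v ∈ V₂) ∨
    ((∀ v ∈ V₁, g v ∈ V₂) ∧ ∀ v ∈ V₂, g v ∈ V₁)
  d₁ : ∃ d ∈ Γ, (∀ v ∈ V₁, d v = v → v = 1) ∧ (∀ v ∈ V₁, d v ∈ V₁) ∧ ∀ v ∈ V₂, d v = v
  d₂ : ∃ d ∈ Γ, (∀ v ∈ V₂, d v = v → v = 1) ∧ (∀ v ∈ V₂, d v ∈ V₂) ∧ ∀ v ∈ V₁, d v = v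
  not₁ : z ∉ V₁
  not₂ : z ∉ V₂
  cardT : Nat.card T ≤ 4
  sqT : ∀ t ∈ T, t * t = 1
  ntv : ∀ t ∈ T, t ≠ 1 → Nat.card (fx t) ≤ 4

variable [Finite V]

variable {Γ T E : Subgroup (MulAut V)} {H : Subgroup V} {d₁ d₂ : MulAut V}

/-- **(X)** -/
theorem caseX2 (h : Hyp Γ T E H) (p : Pr Γ d₁ d₂) {A : Subgroup (MulAut V)} (hA : A ≤ T)
    (hA4 : Nat.card A = 4) (hAsq : ∀ a ∈ A, a * a = 1)
    (hno : ∀ t ∈ T, Inv t (fx d₂) → (∃ v ∈ fx d₂, t v ≠ v) → ¬ ∀ v ∈ fx d₁, t v = v) :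
    ∃ z, CaseX2 Γ T (fx d₂) (fx d₁) z := by
  obtain ⟨s, hs, hs₁, hs₂⟩ := exists_swap h p
  have hsi : ∀ v, s (s⁻¹ v) = v := fun v => by
    rw [← MulAut.mul_apply, mul_inv_cancel, MulAut.one_apply]
  have hsi' : ∀ v, s⁻¹ (s v) = v := fun v => by
    rw [← MulAut.mul_apply, inv_mul_cancel, MulAut.one_apply]
  -- `s⁻¹` swaps
  have hsw : (∀ v ∈ fx d₂, s⁻¹ v ∈ fx d₁) ∧ ∀ v ∈ fx d₁, s⁻¹ v ∈ fx d₂ := by
    rcases p.perm (inv_mem (h.syl.1 hs)) with h1 | h1
    · exfalso
      obtain ⟨⟨w, hw⟩, hw1⟩ := ne_bot_iff_exists_ne_one.1 (ne_bot₁ p)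
      have h2 : s (s⁻¹ w) ∈ fx d₁ := hs₁ _ (h1.1 w hw)
      rw [hsi] at h2
      have h3 : w ∈ fx d₂ ⊓ fx d₁ := ⟨hw, h2⟩
      rw [p.inf', mem_bot] at h3
      exact hw1 (Subtype.ext h3)
    · exact h1
  -- (N)
  have hN : ∀ t ∈ T, Inv t (fx d₂) → (∀ v ∈ fx d₂, t v = v) → t = 1 := by
    intro t ht ht₁ htr
    by_contra ht1
    have ht₂ := inv₂ p (h.syl.1 ht) ht₁
    -- `t` is not trivial on `V₂`
    have h1 : ∃ v ∈ fx d₁, t v ≠ v := by
      by_contra h0
      push Not at h0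
      exact ht1 (p.ext' (fun v hv => by rw [htr v hv, MulAut.one_apply])
        (fun v hv => by rw [h0 v hv, MulAut.one_apply]))
    refine hno (s * t * s⁻¹) (mul_mem (mul_mem hs ht) (inv_mem hs)) ?_ ?_ ?_
    · intro v hv
      rw [MulAut.mul_apply, MulAut.mul_apply]
      exact hs₂ _ (ht₂ _ (hsw.1 v hv))
    · obtain ⟨v, hv, hv'⟩ := h1
      refine ⟨s v, hs₂ v hv, fun h0 => hv' ?_⟩
      rw [MulAut.mul_apply, MulAut.mul_apply, hsi'] at h0
      exact s.injective h0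
    · intro v hv
      rw [MulAut.mul_apply, MulAut.mul_apply, htr _ (hsw.2 v hv), hsi]
  -- `T₀` and its fixed point `a`
  set T₀ := T ⊓ stb (fx d₂) with hT₀
  have hT₀inv : ∀ t ∈ T₀, Inv t (fx d₂) := fun t ht v hv => (ht.2 v).2 hv
  obtain ⟨a, ha, ha1, hTa⟩ := exists_fixed h.sq (h.syl.2.1.to_le (inf_le_left : T₀ ≤ T)) hT₀inv (ne_bot₁ p)
  obtain ⟨b, hb, hb1, hba⟩ : ∃ b ∈ fx d₂, b ≠ 1 ∧ b ≠ a := by
    refine ⟨d₁ a, p.d₁_inv₁ a ha, Pr.map_ne_one d₁ ha1, fun h0 => ?_⟩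
    have h3 : a ∈ fx d₂ ⊓ fx d₁ := ⟨ha, h0⟩
    rw [p.inf', mem_bot] at h3
    exact ha1 h3
  have hall := four_cases h.sq p.r₂ ha hb ha1 hb1 hba.symm
  have hT₀fix : ∀ t ∈ T₀, t b = b → t = 1 := by
    intro t ht htb
    refine hN t ht.1 (hT₀inv t ht) fun v hv => ?_
    rcases hall v hv with rfl | rfl | rfl | rfl
    · exact map_one t
    · exact hTa t ht
    · exact htb
    · rw [map_mul, hTa t ht, htb]
  have hT₀b : ∀ t ∈ T₀, t ≠ 1 → t b = a * b := by
    intro t ht ht1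
    rcases hall (t b) (hT₀inv t ht b hb) with h1 | h1 | h1 | h1
    · exact absurd h1 (Pr.map_ne_one t hb1)
    · exact absurd (t.injective (h1.trans (hTa t ht).symm)) hba
    · exact absurd (hT₀fix t ht h1) ht1
    · exact h1
  have hT₀eq : ∀ t ∈ T₀, ∀ t' ∈ T₀, t ≠ 1 → t' ≠ 1 → t = t' := by
    intro t ht t' ht' h1 h1'
    have h2 : (t⁻¹ * t') b = b := by
      rw [MulAut.mul_apply, hT₀b t' ht' h1', ← hT₀b t ht h1, ← MulAut.mul_apply, inv_mul_cancel,
        MulAut.one_apply]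
    exact inv_mul_eq_one.1 (hT₀fix _ (mul_mem (inv_mem ht) ht') h2)
  -- the elements of `T`
  have hTcases : ∀ t ∈ T, t ∈ T₀ ∨ s⁻¹ * t ∈ T₀ := by
    intro t ht
    rcases p.perm (h.syl.1 ht) with h1 | h1
    · exact Or.inl ⟨ht, mem_stb_of_inv h1.1⟩
    · right
      refine mem_inf.2 ⟨mul_mem (inv_mem hs) ht, mem_stb_of_inv fun v hv => ?_⟩
      rw [MulAut.mul_apply]
      exact hsw.2 _ (h1.1 v hv)
  obtain ⟨τ, hτ, hτ1⟩ : ∃ τ ∈ T₀, τ ≠ 1 := by
    by_contra h0
    push Not at h0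
    have hsub : (T : Set (MulAut V)) ⊆ {1, s} := by
      intro t ht
      rcases hTcases t ht with h1 | h1
      · exact Or.inl (h0 t h1)
      · exact Or.inr (inv_mul_eq_one.1 (h0 _ h1)).symm
    have h5 : Nat.card T ≤ 2 := by
      calc Nat.card T = Set.ncard (T : Set (MulAut V)) := Nat.card_coe_set_eq _
        _ ≤ Set.ncard ({1, s} : Set (MulAut V)) := Set.ncard_le_ncard hsub (Set.toFinite _)
        _ ≤ 2 := ncard_pair_le _ _
    have h6 : Nat.card A ≤ Nat.card T := Nat.le_of_dvd Nat.card_pos (card_dvd_of_le hA)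
    omega
  have hsub : (T : Set (MulAut V)) ⊆ {1, τ, s, s * τ} := by
    intro t ht
    rcases hTcases t ht with h1 | h1
    · by_cases ht1 : t = 1
      · exact Or.inl ht1
      · exact Or.inr (Or.inl (hT₀eq t h1 τ hτ ht1 hτ1))
    · by_cases ht1 : s⁻¹ * t = 1
      · exact Or.inr (Or.inr (Or.inl (inv_mul_eq_one.1 ht1).symm))
      · refine Or.inr (Or.inr (Or.inr ?_))
        have := hT₀eq _ h1 τ hτ ht1 hτ1
        rw [Set.mem_singleton_iff, ← this]
        group
  have hTA : A = T := by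
    refine eq_of_le_of_card_ge hA ?_
    rw [hA4]
    calc Nat.card T = Set.ncard (T : Set (MulAut V)) := Nat.card_coe_set_eq _
      _ ≤ Set.ncard ({1, τ, s, s * τ} : Set (MulAut V)) := Set.ncard_le_ncard hsub (Set.toFinite _)
      _ ≤ 4 := by
        refine (Set.ncard_insert_le _ _).trans ?_
        have := Set.ncard_insert_le τ ({s, s * τ} : Set (MulAut V))
        have := ncard_pair_le s (s * τ)
        omega
  have hTsq : ∀ t ∈ T, t * t = 1 := fun t ht => hAsq t (hTA ▸ ht)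
  have hTc : ∀ t ∈ T, ∀ r ∈ T, t * r = r * t := by
    intro t ht r hr
    have h1 := hTsq _ (mul_mem ht hr)
    have h2 : t⁻¹ = t := inv_eq_of_mul_eq_one_left (hTsq t ht)
    have h3 : r⁻¹ = r := inv_eq_of_mul_eq_one_left (hTsq r hr)
    calc t * r = (t * r)⁻¹ := (inv_eq_of_mul_eq_one_left h1).symm
      _ = r * t := by rw [mul_inv_rev, h2, h3]
  have hτT : τ ∈ T := hτ.1
  have hτ₁ := hT₀inv τ hτ
  have hτ₂ := inv₂ p (h.syl.1 hτT) hτ₁
  have hτb : τ b ≠ b := by
    rw [hT₀b τ hτ hτ1]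
    exact fun h0 => ha1 (mul_eq_right.1 h0)
  obtain ⟨z, hz1, hz₁, hz₂, hz⟩ := exists_z h p hs hs₁ hs₂ hτT hτ₁ hτ₂ ⟨b, hb, hτb⟩
  have hcard : ∀ W : Subgroup V, rk W = 2 → Nat.card W = 4 := fun W hW => by
    rw [card_eq h.sq, hW]; norm_num
  have hle4 : ∀ W : Subgroup V, rk W ≤ 2 → Nat.card W ≤ 4 := fun W hW => by
    rw [card_eq h.sq]
    exact Nat.pow_le_pow_right (n := 2) (by norm_num) hW
  refine ⟨z, hz1, hz, hcard _ p.r₂, hcard _ p.r₁, p.inf', by rw [sup_comm]; exact p.sup, ?_, ?_, ?_,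
    hz₁, hz₂, ?_, hTsq, ?_⟩
  · intro g hg
    exact p.perm hg
  · refine ⟨d₁, o3_le Γ p.m₁, fun v hv hdv => ?_, p.d₁_inv₁, fun v hv => hv⟩
    have h1 : v ∈ fx d₁ ⊓ fx d₂ := ⟨hdv, hv⟩
    rwa [p.inf, mem_bot] at h1
  · refine ⟨d₂, o3_le Γ p.m₂, fun v hv hdv => ?_, p.symm.d₁_inv₁, fun v hv => hv⟩
    have h1 : v ∈ fx d₁ ⊓ fx d₂ := ⟨hv, hdv⟩
    rwa [p.inf, mem_bot] at h1
  · rw [← hTA, hA4]
  · intro t ht ht1
    refine hle4 _ ?_
    rcases p.perm (h.syl.1 ht) with h1 | h1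
    · -- `t` acts nontrivially on both factors
      have e1 : ¬ ∀ v ∈ fx d₂, t v = v := fun h0 => ht1 (hN t ht h1.1 h0)
      have e2 : ¬ ∀ v ∈ fx d₁, t v = v := by
        push Not at e1
        exact hno t ht h1.1 e1
      have e3 : ∀ W : Subgroup V, rk W = 2 → (¬ ∀ v ∈ W, t v = v) → rk (W ⊓ fx t) ≤ 1 := by
        intro W hW h0
        have h2 : rk (W ⊓ fx t) ≤ rk W := rk_mono inf_le_left
        have h3 : rk (W ⊓ fx t) ≠ 2 := by
          intro h4
          have h5 : W ⊓ fx t = W := eq_of_rk h.sq inf_le_left (by rw [hW, h4])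
          exact h0 fun v hv => by
            rw [← h5] at hv
            exact hv.2
        omega
      have e4 : fx t ≤ (fx d₂ ⊓ fx t) ⊔ (fx d₁ ⊓ fx t) := by
        intro v hv
        obtain ⟨x, hx, y, hy, hxy⟩ := decomp p v
        have h2 : t v = v := hv
        rw [← hxy, map_mul] at h2
        obtain ⟨h3, h4⟩ := uniq p (h1.1 x hx) hx (h1.2 y hy) hy h2
        rw [← hxy]
        exact mul_mem (mem_sup_left ⟨hx, h3⟩) (mem_sup_right ⟨hy, h4⟩)
      have e5 := rk_mono e4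
      have e6 := rk_sup h.sq (fx d₂ ⊓ fx t) (fx d₁ ⊓ fx t)
      have e7 := e3 _ p.r₂ e1
      have e8 := e3 _ p.r₁ e2
      omega
    · -- `t` swaps
      have e1 : fx t ⊓ fx d₂ = ⊥ := by
        rw [eq_bot_iff, ← p.inf']
        rintro v ⟨hv, hv₁⟩
        refine ⟨hv₁, ?_⟩
        have h2 : t v ∈ fx d₁ := h1.1 v hv₁
        have h3 : t v = v := hv
        rwa [h3] at h2
      have e2 := rk_sup h.sq (fx t) (fx d₂)
      have e3 : rk (fx t ⊔ fx d₂) ≤ rk (⊤ : Subgroup V) := rk_mono le_top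
      rw [e1, rk_bot, p.r₂] at e2
      have e4 := p.rt
      omega

/-- **Steps 3 and 5.** -/
theorem main2 (h : Hyp Γ T E H) : Nat.card V = 4 ∨ (Nat.card V = 16 ∧
    ((∃ e, CaseY T H e) ∨ (∃ V₁ V₂ z, CaseX2 Γ T V₁ V₂ z) ∨ ∃ V₁ V₂ z, CaseO Γ T V₁ V₂ z)) := by
  have hcardV : Nat.card V = 2 ^ rk (⊤ : Subgroup V) := by rw [← card_eq h.sq, card_top]
  obtain ⟨n, e₀, y₀, -, -, -, -, -, -, -, -, -, -, hcases⟩ := h.dims
  have hrk : rk (⊤ : Subgroup V) = 2 ∨ rk (⊤ : Subgroup V) = 3 ∨ rk (⊤ : Subgroup V) = 4 := by omega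
  rcases hrk with h2 | h3 | h4
  · left; rw [hcardV, h2]; norm_num
  · exact (h.not_three h3).elim
  right
  refine ⟨by rw [hcardV, h4]; norm_num, ?_⟩
  -- a central involution of `T`
  have hT : T ≠ ⊥ := fun h0 => h.Ene (le_bot_iff.1 (h.le.trans h0.le))
  obtain ⟨⟨c, hc⟩, hc1'⟩ := ne_bot_iff_exists_ne_one.1 (Basic.zc_ne_bot h.syl.2.1 hT)
  have hc1 : c ≠ 1 := fun h0 => hc1' (Subtype.ext h0)
  have hc' := ChoiceBase.mem_zc.1 hc
  have hcc : c * c = 1 := by rw [← pow_two]; exact hc'.2.1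
  by_cases huniq : ∀ t ∈ T, t * t = 1 → t = 1 ∨ t = c
  · exact Or.inl ⟨c, h.caseY h4 hcc hc1 huniq⟩
  right
  push Not at huniq
  obtain ⟨t, ht, htt, ht1, htc⟩ := huniq
  have hct : t * c = c * t := hc'.2.2 t ht
  -- the four-group
  set A : Subgroup (MulAut V) := zpowers c ⊔ zpowers t with hA
  have hAT : A ≤ T := sup_le (by rw [zpowers_le]; exact hc'.1) (by rw [zpowers_le]; exact ht)
  have hsq : ∀ x : MulAut V, x * x = 1 → ∀ y ∈ zpowers x, y = 1 ∨ y = x := by
    intro x hx y hy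
    rw [← mem_powers_iff_mem_zpowers] at hy
    obtain ⟨k, rfl⟩ := hy
    rcases Nat.even_or_odd' k with ⟨m, rfl | rfl⟩
    · left
      change x ^ (2 * m) = 1
      rw [pow_mul, pow_two, hx, one_pow]
    · right
      change x ^ (2 * m + 1) = x
      rw [pow_succ, pow_mul, pow_two, hx, one_pow, one_mul]
  have hnorm : zpowers c ≤ normalizer (zpowers t : Set (MulAut V)) := by
    rw [zpowers_le]
    have h1 : c ∈ centralizer (zpowers t : Set (MulAut V)) := by
      rw [mem_centralizer_iff]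
      intro y hy
      rcases hsq t htt y hy with rfl | rfl
      · rw [one_mul, mul_one]
      · exact hct
    exact centralizer_le_normalizer _ h1
  have hcardz : ∀ x : MulAut V, x * x = 1 → x ≠ 1 → Nat.card (zpowers x) = 2 := by
    intro x hx hx1
    rw [Nat.card_zpowers]
    exact orderOf_eq_prime (by rw [pow_two]; exact hx) hx1
  have hA4 : Nat.card A = 4 := by
    have h1 := ZN.Block.card_sup_mul_card_inf hnorm
    have h2 : zpowers c ⊓ zpowers t = ⊥ := by
      rw [eq_bot_iff]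
      rintro x ⟨hx, hx'⟩
      rw [mem_bot]
      rcases hsq c hcc x hx with h3 | h3
      · exact h3
      · rcases hsq t htt x hx' with h5 | h5
        · exact h5
        · exact absurd (h5.symm.trans h3) htc
    rw [h2, card_bot, mul_one, hcardz c hcc hc1, hcardz t htt ht1] at h1
    exact h1
  have hAsq : ∀ a ∈ A, a * a = 1 := by
    intro a ha
    have ha' : a ∈ T := hAT ha
    have h1 : A ≤ (centralizer (A : Set (MulAut V))) := by
      refine sup_le ?_ ?_ <;> rw [zpowers_le, mem_centralizer_iff]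
      · intro y hy
        exact hc'.2.2 y (hAT hy)
      · intro y hy
        have h3 : A ≤ centralizer ({t} : Set (MulAut V)) := by
          refine sup_le ?_ ?_ <;> rw [zpowers_le, mem_centralizer_singleton_iff]
          exact hct.symm
        exact mem_centralizer_singleton_iff.1 (h3 hy)
    have key : A ≤ { carrier := {x | x ∈ A ∧ x * x = 1}
                     one_mem' := ⟨one_mem A, one_mul 1⟩
                     mul_mem' := by
                      rintro x y ⟨hx, hx'⟩ ⟨hy, hy'⟩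
                      refine ⟨mul_mem hx hy, ?_⟩
                      have h5 : y * x = x * y := mem_centralizer_iff.1 (h1 hx) y hy
                      calc x * y * (x * y) = x * (y * x) * y := by group
                        _ = (x * x) * (y * y) := by rw [h5]; group
                        _ = 1 := by rw [hx', hy', one_mul]
                     inv_mem' := by
                      rintro x ⟨hx, hx'⟩
                      refine ⟨inv_mem hx, ?_⟩
                      rw [← mul_inv_rev, hx', inv_one] } := by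
      refine sup_le ?_ ?_ <;> rw [zpowers_le]
      · exact ⟨mem_sup_left (mem_zpowers c), hcc⟩
      · exact ⟨mem_sup_right (mem_zpowers t), htt⟩
    exact (key ha).2
  obtain ⟨m, e, y, hcard, -, he, hy, hp, hD⟩ := exists_dih h.solv h.o2 (hAT.trans h.syl.1) hAsq
  have hm : m = 2 := by
    rw [hA4] at hcard
    have : 2 ^ 2 = 2 ^ m := hcard
    exact (Nat.pow_right_injective (le_refl 2) this).symm
  subst hm
  obtain ⟨d₁, d₂, p⟩ := exists_pr h h4 hD hy hp
  by_cases hno : ∀ t ∈ T, Inv t (fx d₂) → (∃ v ∈ fx d₂, t v ≠ v) → ¬ ∀ v ∈ fx d₁, t v = v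
  · obtain ⟨z, hz⟩ := caseX2 h p hAT hA4 hAsq hno
    exact Or.inl ⟨_, _, z, hz⟩
  · push Not at hno
    obtain ⟨r, hr, hr₁, hr2, hr3⟩ := hno
    obtain ⟨z, hz⟩ := caseO h p hr hr₁ hr2 hr3
    exact Or.inr ⟨_, _, z, hz⟩
end Cfsg.Agent.MinSimple.EmptyE.SmallX
end

-- part: MinSimple/ThompsonLineC
section
prune_inst 0xc0102604532200000000000020003c5292000000002f0001e140020006888d4180400f20b02013020100ae24003e806003dc00494030000020008200411c01a0040262c29248b00021000040c800000000000000000000000000000000000000000000000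
set_option linter.all false
open scoped Cfsg.Agent.FastGrp

/-!
# (E1)(b): two blocks of order 4 and `|dd V| = 8` are impossible (the derived length argument)

Step (6) of helper424's row 4406.

* `exists_dual`: a group of transvections with centre `z` and trivial annihilator induces the full dual;
* `Beta T V z P Q`: `ws V z / ⟨z⟩ = P / ⟨z⟩ × Q / ⟨z⟩`, both factors of order 4, permuted by `C_G(z)`, each of them
  moved by an element of `C_G(z)` centralizing the other one, and `dd V ⊆ V ∪ P ∪ Q`;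
* `exists_core`: for `u ∈ dd V \ V` a normal subgroup `D` of `C_G(u)` which induces a 3-cycle but no
  transposition on `V` (a term of the derived series);
* `Beta.false`: there is no `Beta` with `dd V ≠ V`.
-/

set_option autoImplicit false
set_option linter.unusedSectionVars false

namespace Cfsg.Agent.MinSimple.ThompsonLineC

open Subgroup Cfsg Cfsg.Agent.ZN Cfsg.Agent.MinSimple.Geo Cfsg.Agent.MinSimple.BTwoA
  Cfsg.Agent.MinSimple.BTwoB Cfsg.Agent.MinSimple.OddLine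
open Cfsg.Agent.ZN.Block (conj_mem_of_normalizer conj_mem_of_normalizer' le_normalizer_of_forall
  mem_normalizer_of)
open scoped commutatorElement

universe u

variable {G : Type u} [Group G]

/-! ### the full dual -/

theorem comm_iff_conj {a b : G} : a * b * a⁻¹ = b ↔ a * b = b * a := by
  rw [mul_inv_eq_iff_eq_mul]

/-- If `K` acts on the elementary abelian group `W` by `w ↦ w` or `z * w` and only `1`, `z` are centralized by
`K`, then `K` induces all functionals. -/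
theorem mem_of_forall_comm {W K : Subgroup G} {z : G} (hab : ∀ a ∈ W, ∀ b ∈ W, a * b = b * a)
    (hsq : ∀ a ∈ W, a * a = 1) (hz : z ∈ W)
    (hK : ∀ k ∈ K, ∀ w ∈ W, k * w * k⁻¹ = w ∨ k * w * k⁻¹ = z * w) (hKz : ∀ k ∈ K, k * z = z * k)
    (hann : ∀ w ∈ W, (∀ k ∈ K, k * w = w * k) → w = 1 ∨ w = z) (s : Set G) (hfin : s.Finite)
    (hs : s ⊆ W) : ∀ w ∈ W, (∀ k ∈ K, (∀ a ∈ s, k * a = a * k) → k * w = w * k) →
      w ∈ closure (insert z s) := by
  induction s, hfin using Set.Finite.induction_on with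
  | empty =>
    intro w hw h
    rcases hann w hw (fun k hk => h k hk (fun a ha => ha.elim)) with rfl | rfl
    · exact one_mem _
    · exact subset_closure (Set.mem_insert _ _)
  | @insert a s has hfin ih =>
    intro w hw h
    have hsW : s ⊆ W := fun x hx => hs (Set.mem_insert_of_mem _ hx)
    have haW : a ∈ W := hs (Set.mem_insert _ _)
    have hmono : closure (insert z s) ≤ closure (insert z (insert a s)) :=
      closure_mono (Set.insert_subset_insert (Set.subset_insert _ _))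
    by_cases hall : ∀ k ∈ K, (∀ a ∈ s, k * a = a * k) → k * w = w * k
    · exact hmono (ih hsW w hw hall)
    push Not at hall
    obtain ⟨k₀, hk₀, hk₀s, hk₀w⟩ := hall
    -- `k₀` moves `w`, so it moves `a`
    have h0w : k₀ * w * k₀⁻¹ = z * w := by
      rcases hK k₀ hk₀ w hw with e | e
      · exact absurd (comm_iff_conj.mp e) hk₀w
      · exact e
    have h0a : k₀ * a * k₀⁻¹ = z * a := by
      rcases hK k₀ hk₀ a haW with e | e
      · exfalso
        apply hk₀w
        refine h k₀ hk₀ (fun b hb => ?_)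
        rcases hb with rfl | hb
        · exact comm_iff_conj.mp e
        · exact hk₀s b hb
      · exact e
    -- `w * a` is centralized by the stabilizer of `s`
    have hwa : w * a ∈ closure (insert z s) := by
      refine ih hsW (w * a) (W.mul_mem hw haW) (fun k hk hks => ?_)
      have hzz : z * z = 1 := hsq z hz
      rcases hK k hk a haW with e | e
      · have h1 : k * w = w * k := h k hk (fun b hb => by
          rcases hb with rfl | hb
          · exact comm_iff_conj.mp e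
          · exact hks b hb)
        have h2 := comm_iff_conj.mp e
        rw [← mul_assoc, h1, mul_assoc, h2, ← mul_assoc]
      · -- `k₀⁻¹ * k` centralizes `a`
        have h3 : (k₀⁻¹ * k) * w = w * (k₀⁻¹ * k) := by
          refine h _ (K.mul_mem (K.inv_mem hk₀) hk) (fun b hb => ?_)
          rcases hb with rfl | hb
          · rw [← comm_iff_conj]
            have e1 : k₀⁻¹ * k * b * (k₀⁻¹ * k)⁻¹ = k₀⁻¹ * (k * b * k⁻¹) * k₀ := by group
            rw [e1, e, ← h0a]; group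
          · have hk₀b : k₀⁻¹ * b = b * k₀⁻¹ := by
              have := hk₀s b hb
              calc k₀⁻¹ * b = k₀⁻¹ * (b * k₀) * k₀⁻¹ := by group
                _ = k₀⁻¹ * (k₀ * b) * k₀⁻¹ := by rw [this]
                _ = b * k₀⁻¹ := by group
            rw [mul_assoc, hks b hb, ← mul_assoc, hk₀b, mul_assoc]
        have h4 : k * w * k⁻¹ = z * w := by
          have e1 : k * w * k⁻¹ = k₀ * ((k₀⁻¹ * k) * w * (k₀⁻¹ * k)⁻¹) * k₀⁻¹ := by group
          rw [e1, comm_iff_conj.mpr h3, h0w]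
        rw [← comm_iff_conj]
        calc k * (w * a) * k⁻¹ = (k * w * k⁻¹) * (k * a * k⁻¹) := by group
          _ = (z * w) * (z * a) := by rw [h4, e]
          _ = (z * z) * (w * a) := by
            rw [mul_assoc, ← mul_assoc w z a, hab w hw z hz]; group
          _ = w * a := by rw [hzz, one_mul]
    have h5 : w = (w * a) * a := by rw [mul_assoc, hsq a haW, mul_one]
    rw [h5]
    exact mul_mem (hmono hwa) (subset_closure (Set.mem_insert_of_mem _ (Set.mem_insert _ _)))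

/-- **The full dual.** -/
theorem exists_dual [Finite G] {W K : Subgroup G} {z : G} (hab : ∀ a ∈ W, ∀ b ∈ W, a * b = b * a)
    (hsq : ∀ a ∈ W, a * a = 1) (hz : z ∈ W)
    (hK : ∀ k ∈ K, ∀ w ∈ W, k * w * k⁻¹ = w ∨ k * w * k⁻¹ = z * w) (hKz : ∀ k ∈ K, k * z = z * k)
    (hann : ∀ w ∈ W, (∀ k ∈ K, k * w = w * k) → w = 1 ∨ w = z) {A : Subgroup G} (hA : A ≤ W)
    (hzA : z ∈ A) {w : G} (hw : w ∈ W) (hwA : w ∉ A) :
    ∃ k ∈ K, (∀ a ∈ A, k * a = a * k) ∧ k * w * k⁻¹ = z * w := by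
  by_contra hcon
  push Not at hcon
  apply hwA
  have h1 : w ∈ closure (insert z (A : Set G)) := by
    refine mem_of_forall_comm hab hsq hz hK hKz hann (A : Set G) (Set.toFinite _) hA w hw
      (fun k hk hka => ?_)
    rcases hK k hk w hw with e | e
    · exact comm_iff_conj.mp e
    · exact absurd e (hcon k hk hka)
  have h2 : closure (insert z (A : Set G)) ≤ A := by
    rw [closure_le]
    rintro x (rfl | hx)
    · exact hzA
    · exact hx
  exact h2 h1

/-! ### the term of the derived series -/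

/-- `C_G(u)` for `u ∈ dd V \ V` has a normal subgroup which induces a 3-cycle but no transposition on `V`. -/
theorem exists_core [Finite G] {T V : Subgroup G} {z : G} (h : Odd T V z) {t : G} (ht : t ∈ dd V)
    (htV : t ∉ V) : ∃ D : Subgroup G, D ≤ centralizer ({t} : Set G) ∧
      centralizer ({t} : Set G) ≤ normalizer (D : Set G) ∧
      (∀ q ∈ V, q ≠ 1 → ∀ g ∈ D, g ∈ normalizer (V : Set G) → g * q = q * g →
        g ∈ centralizer (V : Set G)) ∧
      ∃ d ∈ D, d ∈ normalizer (V : Set G) ∧ ∀ q ∈ V, q ≠ 1 → d * q * d⁻¹ ≠ q := by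
  set J : Subgroup G := centralizer ({t} : Set G) with hJ
  have ht1 : t ≠ 1 := fun e => htV (e ▸ V.one_mem)
  have hsol : Group.IsSolvable J := h.solv J (isTwoLocal_centralizer (h.dd_sq ht) ht1)
  let S : ℕ → Subgroup G := fun n => (derivedSeries J n).map J.subtype
  have hSJ : ∀ n, S n ≤ J := fun n => map_subtype_le _
  have hSn : ∀ n, J ≤ normalizer (S n : Set G) := by
    intro n
    refine le_normalizer_of_forall fun g hg x hx => ?_
    obtain ⟨y, hy, rfl⟩ := hx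
    have := (derivedSeries_normal J n).conj_mem y hy ⟨g, hg⟩
    exact ⟨_, this, rfl⟩
  have hSs : ∀ n, S (n + 1) = ⁅S n, S n⁆ := by
    intro n
    change (derivedSeries J (n + 1)).map J.subtype = _
    rw [derivedSeries_succ, map_commutator]
  -- transpositions
  let Tr : ℕ → Prop := fun n => ∃ q ∈ V, q ≠ 1 ∧ ∃ g ∈ S n, g ∈ normalizer (V : Set G) ∧ g * q = q * g ∧
    g ∉ centralizer (V : Set G)
  have hT0 : Tr 0 := by
    obtain ⟨k, hk, hkt, hkm⟩ := h.exists_swap_comm ht htV h.z_mem h.z_ne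
    obtain ⟨y, hy, hy1, hyz⟩ := h.exists_y
    refine ⟨z, h.z_mem, h.z_ne, k, ?_, kq_le_normalizer h.toGeo hk, ?_, ?_⟩
    · refine ⟨⟨k, mem_centralizer_singleton_iff.mpr hkt⟩, ?_, rfl⟩
      rw [derivedSeries_zero]; trivial
    · exact mem_centralizer_singleton_iff.mp (kq_le V z hk)
    · intro hc
      have h1 := hkm y hy hy1 hyz
      rw [comm_iff_conj.mpr (mem_centralizer_iff.mp hc y hy).symm] at h1
      exact h.z_ne (by simpa using h1.symm)
  have hTn : ∃ n, ¬ Tr n := by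
    obtain ⟨n, hn⟩ := hsol
    refine ⟨n, ?_⟩
    rintro ⟨q, -, -, g, hg, -, -, hgc⟩
    apply hgc
    obtain ⟨x, hx, rfl⟩ := hg
    rw [hn] at hx
    have hx1 : x = 1 := mem_bot.mp hx
    rw [hx1]
    exact one_mem _
  classical
  obtain ⟨m, hm, hmin⟩ : ∃ m, Tr m ∧ ¬ Tr (m + 1) := by
    by_contra hcon
    push Not at hcon
    obtain ⟨n, hn⟩ := hTn
    exact hn (Nat.rec hT0 (fun k hk => hcon k hk) n)
  refine ⟨S (m + 1), hSJ _, hSn _, ?_, ?_⟩
  · intro q hq hq1 g hg hgn hgq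
    by_contra hgc
    exact hmin ⟨q, hq, hq1, g, hg, hgn, hgq, hgc⟩
  · obtain ⟨q, hq, hq1, g, hg, hgn, hgq, hgc⟩ := hm
    -- `g` fixes `q` and swaps `p`, `q * p`
    obtain ⟨T', h'⟩ := h.point hq hq1
    obtain ⟨p, hp, hp1, hpq⟩ := h'.exists_y
    have hgm : ∀ r ∈ V, r ≠ 1 → r ≠ q → g * r * g⁻¹ = q * r := fun r hr hr1 hrq =>
      move h'.toGeo (mem_centralizer_singleton_iff.mpr hgq) hgn hgc hr hr1 hrq
    -- `k ∈ J` fixes `p` and swaps `q`, `p * q`
    obtain ⟨k, hk, hkt, hkm⟩ := h.exists_swap_comm ht htV hp hp1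
    have hkV : k ∈ normalizer (V : Set G) := by
      obtain ⟨T'', h''⟩ := h.point hp hp1
      exact kq_le_normalizer h''.toGeo hk
    have hkJ : k ∈ J := mem_centralizer_singleton_iff.mpr hkt
    set g' := k * g * k⁻¹ with hg'
    have hg'S : g' ∈ S m := conj_mem_of_normalizer (hSn m) hkJ hg
    have hgg : g' * g * g'⁻¹ * g⁻¹ ∈ S (m + 1) := by
      rw [hSs]
      exact commutator_mem_commutator hg'S hg
    refine ⟨_, hgg, ?_, ?_⟩
    · have h1 : g' ∈ normalizer (V : Set G) := mul_mem (mul_mem hkV hgn) (inv_mem hkV)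
      exact mul_mem (mul_mem (mul_mem h1 hgn) (inv_mem h1)) (inv_mem hgn)
    · -- action on `V`
      have hpqV : q * p ∈ V := mul_mem hq hp
      have hpq1 : q * p ≠ 1 := fun e => hpq (by
        rw [mul_eq_one_iff_eq_inv.mp e, h.inv_eq hp])
      have hcm : q * p = p * q := h.comm hq hp
      have hqq : q * q = 1 := h.sq q hq
      have hpp : p * p = 1 := h.sq p hp
      have g1 : g * q * g⁻¹ = q := comm_iff_conj.mpr hgq
      have g2 : g * p * g⁻¹ = q * p := hgm p hp hp1 hpq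
      have g3 : g * (q * p) * g⁻¹ = p := by
        calc g * (q * p) * g⁻¹ = (g * q * g⁻¹) * (g * p * g⁻¹) := by group
          _ = (q * q) * p := by rw [g1, g2]; group
          _ = p := by rw [hqq, one_mul]
      have k1 : k * p * k⁻¹ = p := h.kq_conj hk
      have k2 : k * q * k⁻¹ = p * q := hkm q hq hq1 (Ne.symm hpq)
      have k3 : k * (q * p) * k⁻¹ = q := by
        calc k * (q * p) * k⁻¹ = (k * q * k⁻¹) * (k * p * k⁻¹) := by group
          _ = p * (q * p) := by rw [k1, k2]; group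
          _ = p * (p * q) := by rw [hcm]
          _ = q := by rw [← mul_assoc, hpp, one_mul]
      have inv_of : ∀ {a x y : G}, a * x * a⁻¹ = y → a⁻¹ * y * a = x := by
        intro a x y e
        rw [← e]; group
      have g1' := inv_of g1
      have g2' := inv_of g2
      have g3' := inv_of g3
      have k1' := inv_of k1
      have k2' := inv_of k2
      have k3' := inv_of k3
      rw [← hcm] at k2 k2'
      -- `g'`: fixes `q * p`, swaps `p`, `q`
      have e1 : g' * p * g'⁻¹ = q := by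
        calc g' * p * g'⁻¹ = k * (g * (k⁻¹ * p * k) * g⁻¹) * k⁻¹ := by rw [hg']; group
          _ = q := by rw [k1', g2, k3]
      have e2 : g' * q * g'⁻¹ = p := by
        calc g' * q * g'⁻¹ = k * (g * (k⁻¹ * q * k) * g⁻¹) * k⁻¹ := by rw [hg']; group
          _ = p := by rw [k3', g3, k1]
      have e3 : g' * (q * p) * g'⁻¹ = q * p := by
        calc g' * (q * p) * g'⁻¹ = k * (g * (k⁻¹ * (q * p) * k) * g⁻¹) * k⁻¹ := by rw [hg']; group
          _ = q * p := by rw [k2', g1, k2]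
      have e1' := inv_of e1
      have e2' := inv_of e2
      have e3' := inv_of e3
      -- the commutator
      have c1 : ∀ x, (g' * g * g'⁻¹ * g⁻¹) * x * (g' * g * g'⁻¹ * g⁻¹)⁻¹ =
          g' * (g * (g'⁻¹ * (g⁻¹ * x * g) * g') * g⁻¹) * g'⁻¹ := by
        intro x; group
      have hne1 : q * p ≠ q := fun e => hp1 (by simpa using e)
      have hne2 : q * p ≠ p := fun e => hq1 (by simpa using e)
      intro r hr hr1
      rcases h.four hq hp hq1 hp1 (Ne.symm hpq) hr with rfl | rfl | rfl | rfl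
      · exact absurd rfl hr1
      · rw [c1, g1', e1', g2, e3]; exact hne1
      · rw [c1, g3', e3', g3, e1]; exact Ne.symm hpq
      · rw [c1, g2', e2', g1, e2]; exact Ne.symm hne2

/-! ### two blocks -/

/-- `ws V z / ⟨z⟩ = P / ⟨z⟩ × Q / ⟨z⟩`, both factors of order 4, permuted by `C_G(z)`; each of them is moved by an
element of `C_G(z)` centralizing the other one, and `dd V ⊆ V ∪ P ∪ Q`. -/
structure Beta (T V : Subgroup G) (z : G) (P Q : Subgroup G) : Prop extends Odd T V z where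
  P_le : P ≤ ws V z
  Q_le : Q ≤ ws V z
  z_P : z ∈ P
  z_Q : z ∈ Q
  inf : ∀ x ∈ P, x ∈ Q → x = 1 ∨ x = z
  card_P : Nat.card P = 8
  card_Q : Nat.card Q = 8
  perm : ∀ c ∈ centralizer ({z} : Set G), (cj c P = P ∧ cj c Q = Q) ∨ (cj c P = Q ∧ cj c Q = P)
  dd_cases : ∀ d ∈ dd V, d ∉ V → d ∈ P ∨ d ∈ Q
  V_P : ∀ v ∈ V, v ∈ P → v = 1 ∨ v = z
  V_Q : ∀ v ∈ V, v ∈ Q → v = 1 ∨ v = z
  mov_P : ∃ y ∈ centralizer ({z} : Set G), (∀ a ∈ Q, y * a = a * y) ∧
    ∀ w ∈ P, w ≠ 1 → w ≠ z → y * w * y⁻¹ ≠ w ∧ y * w * y⁻¹ ≠ z * w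
  mov_Q : ∃ y ∈ centralizer ({z} : Set G), (∀ a ∈ P, y * a = a * y) ∧
    ∀ w ∈ Q, w ≠ 1 → w ≠ z → y * w * y⁻¹ ≠ w ∧ y * w * y⁻¹ ≠ z * w
  ann : ∀ w ∈ ws V z, (∀ k ∈ kq V z, k * w = w * k) → w = 1 ∨ w = z

/-- a set generating the block over `u` and the whole of the other block -/
def ee (z : G) (P Q : Subgroup G) (q u : G) : Set G :=
  {x | x = u ∨ ∃ g : G, g * z * g⁻¹ = q ∧ ((u ∉ cj g P ∧ x ∈ cj g P) ∨ (u ∉ cj g Q ∧ x ∈ cj g Q))}

theorem ee_conj {z : G} {P Q : Subgroup G} {q u x : G} (h : x ∈ ee z P Q q u) (k : G) :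
    k * x * k⁻¹ ∈ ee z P Q (k * q * k⁻¹) (k * u * k⁻¹) := by
  have key : ∀ (g : G) (X : Subgroup G) (x : G), k * x * k⁻¹ ∈ cj (k * g) X ↔ x ∈ cj g X := by
    intro g X x
    rw [mem_cj, mem_cj]
    have : (k * g)⁻¹ * (k * x * k⁻¹) * (k * g) = g⁻¹ * x * g := by group
    rw [this]
  rcases h with rfl | ⟨g, rfl, h⟩
  · exact Or.inl rfl
  · refine Or.inr ⟨k * g, by group, ?_⟩
    rw [key, key, key, key]
    exact h

theorem ee_swap (z : G) (P Q : Subgroup G) (q u : G) : ee z Q P q u = ee z P Q q u := by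
  ext x
  unfold ee
  simp only [Set.mem_ofPred_eq]
  refine or_congr_right (exists_congr fun g => and_congr_right fun _ => or_comm)

theorem ee_cj (z : G) (P Q : Subgroup G) (g q u : G) :
    ee (g * z * g⁻¹) (cj g P) (cj g Q) q u = ee z P Q q u := by
  ext x
  unfold ee
  simp only [Set.mem_ofPred_eq, cj_cj]
  refine or_congr_right ⟨?_, ?_⟩
  · rintro ⟨k, hk, h⟩
    exact ⟨k * g, by rw [← hk]; group, h⟩
  · rintro ⟨k, hk, h⟩
    refine ⟨k * g⁻¹, by rw [← hk]; group, ?_⟩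
    rw [inv_mul_cancel_right]
    exact h

namespace Beta

variable {T V : Subgroup G} {z : G} {P Q : Subgroup G}

theorem symm (h : Beta T V z P Q) : Beta T V z Q P where
  toOdd := h.toOdd
  P_le := h.Q_le
  Q_le := h.P_le
  z_P := h.z_Q
  z_Q := h.z_P
  inf := fun x hx hx' => h.inf x hx' hx
  card_P := h.card_Q
  card_Q := h.card_P
  perm := fun c hc => by
    rcases h.perm c hc with ⟨h1, h2⟩ | ⟨h1, h2⟩
    · exact Or.inl ⟨h2, h1⟩
    · exact Or.inr ⟨h2, h1⟩
  dd_cases := fun d hd hdV => (h.dd_cases d hd hdV).symm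
  V_P := h.V_Q
  V_Q := h.V_P
  mov_P := h.mov_Q
  mov_Q := h.mov_P
  ann := h.ann

variable [Finite G]

/-- conjugation by an element of `N_G(V)` -/
theorem move (h : Beta T V z P Q) {g : G} (hg : g ∈ normalizer (V : Set G)) :
    Beta (cj g T) V (g * z * g⁻¹) (cj g P) (cj g Q) := by
  have hconj : ∀ {c : G}, c ∈ centralizer ({g * z * g⁻¹} : Set G) →
      g⁻¹ * c * g ∈ centralizer ({z} : Set G) := by
    intro c hc
    rw [← cj_centralizer_singleton, mem_cj] at hc
    exact hc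
  have hinV : ∀ {v : G}, v ∈ V → g⁻¹ * v * g ∈ V := by
    intro v hv
    have := (mem_normalizer_iff.mp (inv_mem hg) v).mp hv
    rwa [inv_inv] at this
  have hback : ∀ {v x : G}, g⁻¹ * v * g = x → v = g * x * g⁻¹ := by
    intro v x e
    rw [← e]; group
  have mv : ∀ {P Q : Subgroup G}, (∃ y ∈ centralizer ({z} : Set G), (∀ a ∈ Q, y * a = a * y) ∧
      ∀ w ∈ P, w ≠ 1 → w ≠ z → y * w * y⁻¹ ≠ w ∧ y * w * y⁻¹ ≠ z * w) →
      ∃ y ∈ centralizer ({g * z * g⁻¹} : Set G), (∀ a ∈ cj g Q, y * a = a * y) ∧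
      ∀ w ∈ cj g P, w ≠ 1 → w ≠ g * z * g⁻¹ → y * w * y⁻¹ ≠ w ∧ y * w * y⁻¹ ≠ (g * z * g⁻¹) * w := by
    rintro P Q ⟨y, hy, hyQ, hyP⟩
    refine ⟨g * y * g⁻¹, ?_, ?_, ?_⟩
    · rw [← cj_centralizer_singleton]
      exact conj_mem_cj hy
    · rintro _ ⟨a, ha, rfl⟩
      change g * y * g⁻¹ * (g * a * g⁻¹) = g * a * g⁻¹ * (g * y * g⁻¹)
      calc g * y * g⁻¹ * (g * a * g⁻¹) = g * (y * a) * g⁻¹ := by group
        _ = g * (a * y) * g⁻¹ := by rw [hyQ a ha]
        _ = _ := by group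
    · rintro _ ⟨w, hw, rfl⟩ hw1 hwz
      change g * w * g⁻¹ ≠ 1 at hw1
      change g * w * g⁻¹ ≠ g * z * g⁻¹ at hwz
      obtain ⟨h1, h2⟩ := hyP w hw (fun e => hw1 (by rw [e]; group)) (fun e => hwz (by rw [e]))
      constructor
      · intro e
        apply h1
        change g * y * g⁻¹ * (g * w * g⁻¹) * (g * y * g⁻¹)⁻¹ = g * w * g⁻¹ at e
        calc y * w * y⁻¹ = g⁻¹ * (g * y * g⁻¹ * (g * w * g⁻¹) * (g * y * g⁻¹)⁻¹) * g := by group
          _ = w := by rw [e]; group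
      · intro e
        apply h2
        change g * y * g⁻¹ * (g * w * g⁻¹) * (g * y * g⁻¹)⁻¹ = g * z * g⁻¹ * (g * w * g⁻¹) at e
        calc y * w * y⁻¹ = g⁻¹ * (g * y * g⁻¹ * (g * w * g⁻¹) * (g * y * g⁻¹)⁻¹) * g := by group
          _ = z * w := by rw [e]; group
  have hodd : Odd (cj g T) V (g * z * g⁻¹) := by
    have := h.toOdd.conj g
    rwa [cj_eq_of_mem_normalizer hg] at this
  exact
  { toOdd := hodd
    P_le := by rw [← cj_ws]; exact cj_mono h.P_le
    Q_le := by rw [← cj_ws]; exact cj_mono h.Q_le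
    z_P := conj_mem_cj h.z_P
    z_Q := conj_mem_cj h.z_Q
    inf := by
      intro x hx hx'
      rw [mem_cj] at hx hx'
      rcases h.inf _ hx hx' with e | e
      · left; rw [hback e]; group
      · right; exact hback e
    card_P := by rw [card_cj]; exact h.card_P
    card_Q := by rw [card_cj]; exact h.card_Q
    perm := by
      intro c hc
      have e : ∀ X : Subgroup G, cj c (cj g X) = cj g (cj (g⁻¹ * c * g) X) := by
        intro X
        rw [cj_cj, cj_cj]
        congr 1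
        group
      rw [e, e]
      rcases h.perm _ (hconj hc) with ⟨h1, h2⟩ | ⟨h1, h2⟩
      · left; rw [h1, h2]; exact ⟨rfl, rfl⟩
      · right; rw [h1, h2]; exact ⟨rfl, rfl⟩
    dd_cases := by
      intro d hd hdV
      rw [mem_cj, mem_cj]
      have h1 : g⁻¹ * d * g ∈ dd V := by
        have := conj_mem_dd (inv_mem hg) hd
        rwa [inv_inv] at this
      refine h.dd_cases _ h1 (fun hv => hdV ?_)
      have := (mem_normalizer_iff.mp hg _).mp hv
      have e : g * (g⁻¹ * d * g) * g⁻¹ = d := by group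
      rwa [e] at this
    V_P := by
      intro v hv hvP
      rw [mem_cj] at hvP
      rcases h.V_P _ (hinV hv) hvP with e | e
      · left; rw [hback e]; group
      · right; exact hback e
    V_Q := by
      intro v hv hvQ
      rw [mem_cj] at hvQ
      rcases h.V_Q _ (hinV hv) hvQ with e | e
      · left; rw [hback e]; group
      · right; exact hback e
    mov_P := mv h.mov_P
    mov_Q := mv h.mov_Q
    ann := by
      intro w hw hk
      rw [← cj_ws, mem_cj] at hw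
      have h9 : ∀ k ∈ kq V z, k * (g⁻¹ * w * g) = g⁻¹ * w * g * k := by
        intro k hkk
        have h1 : g * k * g⁻¹ ∈ kq V (g * z * g⁻¹) := by
          rw [← cj_kq]; exact conj_mem_cj hkk
        have h2 := hk _ h1
        calc k * (g⁻¹ * w * g) = g⁻¹ * (g * k * g⁻¹ * w) * g := by group
          _ = g⁻¹ * (w * (g * k * g⁻¹)) * g := by rw [h2]
          _ = g⁻¹ * w * g * k := by group
      rcases h.ann _ hw h9 with e | e
      · left; rw [hback e]; group
      · right; exact hback e }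

/-- the structure at an arbitrary point of `V` -/
theorem at_point (h : Beta T V z P Q) {q : G} (hq : q ∈ V) (hq1 : q ≠ 1) :
    ∃ (T' P' Q' : Subgroup G), Beta T' V q P' Q' ∧ ∀ r u, ee q P' Q' r u = ee z P Q r u := by
  obtain ⟨g, hg, rfl⟩ := h.trans q hq hq1
  exact ⟨_, _, _, h.move hg, fun r u => ee_cj z P Q g r u⟩

/-- a subgroup containing `z`, `w` and a third element contains `Q` -/
theorem le_of_mem (h : Beta T V z P Q) {C : Subgroup G} {w w' : G} (hw : w ∈ Q) (hw' : w' ∈ Q)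
    (hw1 : w ≠ 1) (hwz : w ≠ z) (h1 : w' ≠ 1) (h2 : w' ≠ z) (h3 : w' ≠ w) (h4 : w' ≠ z * w)
    (hzC : z ∈ C) (hwC : w ∈ C) (hwC' : w' ∈ C) : Q ≤ C := by
  classical
  have hz1 := h.z_ne
  have hzw1 : z * w ≠ 1 := fun e => hwz (by
    rw [mul_eq_one_iff_eq_inv.mp e, inv_eq_self (h.ws_sq (h.Q_le hw))])
  have hzwz : z * w ≠ z := fun e => hw1 (by simpa using e)
  have hzww : z * w ≠ w := fun e => hz1 (by simpa using e)
  have hsub : ({1, z, w, z * w, w'} : Set G) ⊆ ((Q ⊓ C : Subgroup G) : Set G) := by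
    rintro x (rfl | rfl | rfl | rfl | rfl)
    · exact one_mem _
    · exact ⟨h.z_Q, hzC⟩
    · exact ⟨hw, hwC⟩
    · exact ⟨mul_mem h.z_Q hw, mul_mem hzC hwC⟩
    · exact ⟨hw', hwC'⟩
  have hcard : ({1, z, w, z * w, w'} : Set G).ncard = 5 := by
    rw [Set.ncard_insert_of_notMem, Set.ncard_insert_of_notMem, Set.ncard_insert_of_notMem,
      Set.ncard_pair (Ne.symm h4)]
    · rintro (e | e)
      · exact hzww e.symm
      · exact h3 e.symm
    · rintro (e | e | e)
      · exact hwz e.symm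
      · exact hzwz e.symm
      · exact h2 e.symm
    · rintro (e | e | e | e)
      · exact hz1 e.symm
      · exact hw1 e.symm
      · exact hzw1 e.symm
      · exact h1 e.symm
  have h5 : 5 ≤ Nat.card (Q ⊓ C : Subgroup G) := by
    rw [← hcard]
    exact Set.ncard_le_ncard hsub (Set.toFinite _)
  have h6 : Nat.card (Q ⊓ C : Subgroup G) ∣ 8 := by
    rw [← h.card_Q]
    exact card_dvd_of_le inf_le_left
  have h7 : Nat.card (Q ⊓ C : Subgroup G) = 8 := by
    have : Nat.card (Q ⊓ C : Subgroup G) ≤ 8 := Nat.le_of_dvd (by norm_num) h6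
    interval_cases hh : Nat.card (Q ⊓ C : Subgroup G) <;> omega
  have h8 : Q ⊓ C = Q := Subgroup.eq_of_le_of_card_ge inf_le_left (by rw [h7, h.card_Q])
  rw [← h8]
  exact inf_le_right

/-- a normal subgroup `D` of `C_G(u)` inducing no transposition with centre `z` on `V`: the elements of `D`
fixing `z` centralize the other block -/
theorem comm_Q (h : Beta T V z P Q) {u : G} (hu : u ∈ P) (hud : u ∈ dd V) (huV : u ∉ V)
    {D : Subgroup G} (hDJ : D ≤ centralizer ({u} : Set G))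
    (hDn : centralizer ({u} : Set G) ≤ normalizer (D : Set G))
    (hD : ∀ g ∈ D, g ∈ normalizer (V : Set G) → g * z = z * g → g ∈ centralizer (V : Set G)) :
    ∀ g ∈ D, g * z = z * g → ∀ m ∈ Q, g * m = m * g := by
  obtain ⟨y, hy, hyP, hym⟩ := h.mov_Q
  obtain ⟨q, hq, hq1, hqz⟩ := h.exists_y
  have hzz := h.zz
  have hyz : y * z = z * y := mem_centralizer_singleton_iff.mp hy
  have huu : u * u = 1 := h.dd_sq hud
  have huz : u ≠ z := fun e => huV (e ▸ h.z_mem)
  have hu1 : u ≠ 1 := fun e => huV (e ▸ V.one_mem)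
  have huQ : u ∉ Q := fun hQ => (h.inf u hu hQ).elim hu1 huz
  set w := u * q with hw
  have hquw : q = u * w := by rw [hw, ← mul_assoc, huu, one_mul]
  have hwd : w ∈ dd V := mul_mem hud (h.V_le_dd hq)
  have hwV : w ∉ V := fun hwV => huV (by
    have e : u = w * q⁻¹ := by rw [hw]; group
    rw [e]; exact mul_mem hwV (inv_mem hq))
  have hw1 : w ≠ 1 := fun e => hwV (e ▸ V.one_mem)
  have hwz : w ≠ z := fun e => hwV (e ▸ h.z_mem)
  have hwQ : w ∈ Q := by
    rcases h.dd_cases w hwd hwV with hwP | hwQ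
    · exfalso
      have hqP : q ∈ P := by rw [hquw]; exact mul_mem hu hwP
      exact (h.V_P q hq hqP).elim hq1 hqz
    · exact hwQ
  have hyJ : y ∈ centralizer ({u} : Set G) := mem_centralizer_singleton_iff.mpr (hyP u hu)
  have hyQ : cj y Q = Q := by
    rcases h.perm y hy with ⟨-, h2⟩ | ⟨h1, -⟩
    · exact h2
    · exfalso
      apply huQ
      rw [← h1, mem_cj]
      have : y⁻¹ * u * y = u := by rw [mul_assoc, ← hyP u hu]; group
      rw [this]; exact hu
  set w' := y * w * y⁻¹ with hw'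
  have hw'Q : w' ∈ Q := by
    rw [← hyQ]; exact conj_mem_cj hwQ
  have hw'1 : w' ≠ 1 := fun e => hw1 (by
    have : w = y⁻¹ * w' * y := by rw [hw']; group
    rw [this, e]; group)
  have hw'z : w' ≠ z := fun e => hwz (by
    have : w = y⁻¹ * w' * y := by rw [hw']; group
    rw [this, e, mul_assoc, ← hyz]; group)
  obtain ⟨hw'w, hw'zw⟩ := hym w hwQ hw1 hwz
  -- a subgroup containing `z`, `w`, `w'` contains `Q`
  have gen : ∀ C : Subgroup G, z ∈ C → w ∈ C → w' ∈ C → Q ≤ C := fun C h1 h2 h3 =>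
    h.le_of_mem hwQ hw'Q hw1 hwz hw'1 hw'z hw'w hw'zw h1 h2 h3
  -- from commuting with `w` to commuting with `Q`
  have step : ∀ g ∈ D, g * z = z * g → g * w = w * g → (y⁻¹ * g * y) * w = w * (y⁻¹ * g * y) →
      ∀ m ∈ Q, g * m = m * g := by
    intro g _ hgz hgw hgw' m hm
    have hm' := gen (centralizer ({g} : Set G)) (mem_centralizer_singleton_iff.mpr hgz.symm)
      (mem_centralizer_singleton_iff.mpr hgw.symm) (mem_centralizer_singleton_iff.mpr (by
        calc w' * g = y * (w * (y⁻¹ * g * y)) * y⁻¹ := by rw [hw']; group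
          _ = y * ((y⁻¹ * g * y) * w) * y⁻¹ := by rw [hgw']
          _ = g * w' := by rw [hw']; group)) hm
    exact (mem_centralizer_singleton_iff.mp hm').symm
  have hyD : ∀ g ∈ D, y⁻¹ * g * y ∈ D := fun g hg => conj_mem_of_normalizer' hDn hyJ hg
  have hyC : ∀ g, g * z = z * g → (y⁻¹ * g * y) * z = z * (y⁻¹ * g * y) := by
    intro g hg
    calc (y⁻¹ * g * y) * z = y⁻¹ * g * (y * z) := by group
      _ = y⁻¹ * (g * z) * y := by rw [hyz]; group
      _ = (y⁻¹ * z) * g * y := by rw [hg]; group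
      _ = z * (y⁻¹ * g * y) := by
        have : y⁻¹ * z = z * y⁻¹ := by
          calc y⁻¹ * z = y⁻¹ * (z * y) * y⁻¹ := by group
            _ = y⁻¹ * (y * z) * y⁻¹ := by rw [hyz]
            _ = z * y⁻¹ := by group
        rw [this]; group
  -- elements of `D` centralizing `V` centralize `w`
  have comm_w : ∀ g ∈ D, g ∈ centralizer (V : Set G) → g * w = w * g := by
    intro g hg hgV
    have h1 : g * u = u * g := mem_centralizer_singleton_iff.mp (hDJ hg)
    have h2 : g * q = q * g := (mem_centralizer_iff.mp hgV q hq).symm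
    rw [hw, ← mul_assoc, h1, mul_assoc, h2, ← mul_assoc]
  -- `D ∩ K_z` centralizes `Q`
  have key3 : ∀ g ∈ D, g ∈ kq V z → ∀ m ∈ Q, g * m = m * g := by
    have aux : ∀ g ∈ D, g ∈ kq V z → g * w = w * g := fun g hg hk =>
      comm_w g hg (hD g hg (kq_le_normalizer h.toGeo hk) (mem_centralizer_singleton_iff.mp (kq_le V z hk)))
    intro g hg hk
    exact step g hg (mem_centralizer_singleton_iff.mp (kq_le V z hk)) (aux g hg hk)
      (aux _ (hyD g hg) (conj_mem_of_normalizer' (centralizer_le_normalizer_kq V z) hy hk))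
  -- `D ∩ C(z)` moves elements of `Q` at most by `z`
  have key4 : ∀ g ∈ D, g * z = z * g → ∀ m ∈ Q, g * m * g⁻¹ = m ∨ g * m * g⁻¹ = z * m := by
    intro g hg hgz m hm
    have hgu : g * u = u * g := mem_centralizer_singleton_iff.mp (hDJ hg)
    have hgc : g ∈ centralizer ({z} : Set G) := mem_centralizer_singleton_iff.mpr hgz
    have hgQ : cj g Q = Q := by
      rcases h.perm g hgc with ⟨-, h2⟩ | ⟨h1, -⟩
      · exact h2
      · exfalso
        apply huQ
        rw [← h1, mem_cj]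
        have : g⁻¹ * u * g = u := by rw [mul_assoc, ← hgu]; group
        rw [this]; exact hu
    set n := g⁻¹ * m * g with hn
    have hnQ : n ∈ Q := by
      rw [hn, ← mem_cj, hgQ]; exact hm
    have hgn : g * n * g⁻¹ = m := by rw [hn]; group
    have hmm : m * m = 1 := h.ws_sq (h.Q_le hm)
    have hnmQ : n * m ∈ Q := mul_mem hnQ hm
    by_cases hnm1 : n * m = 1
    · left
      have e : n = m := by rw [mul_eq_one_iff_eq_inv.mp hnm1, inv_eq_self hmm]
      rw [e] at hgn; exact hgn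
    by_cases hnmz : n * m = z
    · right
      have e : n = z * m := by rw [← hnmz, mul_assoc, hmm, mul_one]
      rw [e] at hgn
      have e2 : z * (g * m * g⁻¹) = m := by
        calc z * (g * m * g⁻¹) = (z * g) * m * g⁻¹ := by group
          _ = g * (z * m) * g⁻¹ := by rw [← hgz]; group
          _ = m := hgn
      calc g * m * g⁻¹ = (z * z) * (g * m * g⁻¹) := by rw [hzz, one_mul]
        _ = z * (z * (g * m * g⁻¹)) := by rw [mul_assoc]
        _ = z * m := by rw [e2]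
    exfalso
    have hnmP : n * m ∉ P := fun hP => (h.inf _ hP hnmQ).elim hnm1 hnmz
    have hKz : ∀ k ∈ kq V z, k * z = z * k := fun k hk => mem_centralizer_singleton_iff.mp (kq_le V z hk)
    obtain ⟨k, hk, hkP, hknm⟩ := exists_dual (W := ws V z) (K := kq V z) (z := z) h.ab
      (fun a ha => h.ws_sq ha) (h.V_le_ws h.z_mem) (fun k hk w hw => kq_ws h.toGeo hk hw) hKz h.ann
      h.P_le h.z_P (h.Q_le hnmQ) hnmP
    have hkJ : k ∈ centralizer ({u} : Set G) := mem_centralizer_singleton_iff.mpr (hkP u hu)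
    have heD : g * (k * g⁻¹ * k⁻¹) ∈ D := mul_mem hg (conj_mem_of_normalizer hDn hkJ (inv_mem hg))
    have heK : g * k * g⁻¹ * k⁻¹ ∈ kq V z :=
      mul_mem (conj_mem_of_normalizer (centralizer_le_normalizer_kq V z) hgc hk) (inv_mem hk)
    have hassoc : g * (k * g⁻¹ * k⁻¹) = g * k * g⁻¹ * k⁻¹ := by group
    rw [hassoc] at heD
    have hem := key3 _ heD heK m hm
    have hem2 : g * (k * (g⁻¹ * (k⁻¹ * m * k) * g) * k⁻¹) * g⁻¹ = m := by
      calc g * (k * (g⁻¹ * (k⁻¹ * m * k) * g) * k⁻¹) * g⁻¹ =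
          (g * k * g⁻¹ * k⁻¹) * m * (g * k * g⁻¹ * k⁻¹)⁻¹ := by group
        _ = m := by rw [hem]; group
    have hkz := hKz k hk
    have hzinv : z⁻¹ = z := inv_eq_self hzz
    have hgz' : g⁻¹ * z * g = z := by rw [mul_assoc, ← hgz]; group
    have hgz'' : g * z * g⁻¹ = z := by rw [hgz]; group
    have hkz'' : k * z * k⁻¹ = z := by rw [hkz]; group
    have hkz' : k⁻¹ * z * k = z := by rw [mul_assoc, ← hkz]; group
    -- exactly one of `m`, `n` is moved by `k`
    have hfin : z * m = m := by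
      rcases kq_ws h.toGeo hk (h.Q_le hm) with em | em
      · -- `k` fixes `m`, moves `n`
        have en : k * n * k⁻¹ = z * n := by
          calc k * n * k⁻¹ = (k * (n * m) * k⁻¹) * (k * m * k⁻¹)⁻¹ := by group
            _ = z * n := by rw [hknm, em]; group
        have em' : k⁻¹ * m * k = m := by
          rw [mul_assoc, ← comm_iff_conj.mp em]; group
        rw [em', ← hn, en] at hem2
        calc z * m = (g * z * g⁻¹) * (g * n * g⁻¹) := by rw [hgz'', hgn]
          _ = g * (z * n) * g⁻¹ := by group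
          _ = m := hem2
      · -- `k` moves `m`, fixes `n`
        have en : k * n * k⁻¹ = n := by
          calc k * n * k⁻¹ = (k * (n * m) * k⁻¹) * (k * m * k⁻¹)⁻¹ := by group
            _ = z * (n * z⁻¹) := by rw [hknm, em]; group
            _ = n := by
              rw [h.ab n (h.Q_le hnQ) z⁻¹ (inv_mem (h.V_le_ws h.z_mem)), ← mul_assoc, mul_inv_cancel, one_mul]
        have em' : k⁻¹ * m * k = z * m := by
          have e1 : k * (z * m) * k⁻¹ = m := by
            calc k * (z * m) * k⁻¹ = (k * z * k⁻¹) * (k * m * k⁻¹) := by group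
              _ = (z * z) * m := by rw [hkz'', em, mul_assoc]
              _ = m := by rw [hzz, one_mul]
          rw [← e1]
          calc k⁻¹ * (k * (z * m) * k⁻¹) * k = z * m := by group
            _ = z * (k * (z * m) * k⁻¹) := by rw [e1]
        rw [em'] at hem2
        have e2 : g⁻¹ * (z * m) * g = z * n := by
          calc g⁻¹ * (z * m) * g = (g⁻¹ * z * g) * (g⁻¹ * m * g) := by group
            _ = z * n := by rw [hgz', hn]
        have e3 : k * (z * n) * k⁻¹ = z * n := by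
          calc k * (z * n) * k⁻¹ = (k * z * k⁻¹) * (k * n * k⁻¹) := by group
            _ = z * n := by rw [hkz'', en]
        rw [e2, e3] at hem2
        calc z * m = (g * z * g⁻¹) * (g * n * g⁻¹) := by rw [hgz'', hgn]
          _ = g * (z * n) * g⁻¹ := by group
          _ = m := hem2
    exact h.z_ne (by simpa using hfin)
  -- `D ∩ C(z)` centralizes `w`
  have key5 : ∀ g ∈ D, g * z = z * g → g * w = w * g := by
    intro g hg hgz
    have hgu : g * u = u * g := mem_centralizer_singleton_iff.mp (hDJ hg)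
    have hguu : g * u * g⁻¹ = u := comm_iff_conj.mpr hgu
    have hgq : g * q * g⁻¹ = q ∨ g * q * g⁻¹ = z * q := by
      have e : g * q * g⁻¹ = u * (g * w * g⁻¹) := by
        conv_lhs => rw [hquw]
        calc g * (u * w) * g⁻¹ = (g * u * g⁻¹) * (g * w * g⁻¹) := by group
          _ = u * (g * w * g⁻¹) := by rw [hguu]
      rcases key4 g hg hgz w hwQ with e1 | e1
      · left; rw [e, e1, ← hquw]
      · right
        rw [e, e1]
        calc u * (z * w) = (u * z) * w := by group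
          _ = (z * u) * w := by rw [h.ab u (h.P_le hu) z (h.V_le_ws h.z_mem)]
          _ = z * q := by rw [mul_assoc, ← hquw]
    have hgV : g ∈ normalizer (V : Set G) := by
      have hV : ∀ g, g * z = z * g → (g * q * g⁻¹ = q ∨ g * q * g⁻¹ = z * q) → ∀ v ∈ V, g * v * g⁻¹ ∈ V := by
        intro g hgz hgq v hv
        have hgz' : g * z * g⁻¹ = z := comm_iff_conj.mpr hgz
        have hqV : g * q * g⁻¹ ∈ V := by
          rcases hgq with e | e
          · rw [e]; exact hq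
          · rw [e]; exact mul_mem h.z_mem hq
        rcases h.four h.z_mem hq h.z_ne hq1 (Ne.symm hqz) hv with rfl | rfl | rfl | rfl
        · simp
        · rw [hgz']; exact h.z_mem
        · exact hqV
        · have e : g * (z * q) * g⁻¹ = (g * z * g⁻¹) * (g * q * g⁻¹) := by group
          rw [e, hgz']; exact mul_mem h.z_mem hqV
      refine mem_normalizer_of (hV g hgz hgq) ?_
      intro v hv
      have hgz2 : g⁻¹ * z = z * g⁻¹ := by
        calc g⁻¹ * z = g⁻¹ * (z * g) * g⁻¹ := by group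
          _ = g⁻¹ * (g * z) * g⁻¹ := by rw [hgz]
          _ = z * g⁻¹ := by group
      have hgq2 : g⁻¹ * q * g⁻¹⁻¹ = q ∨ g⁻¹ * q * g⁻¹⁻¹ = z * q := by
        rw [inv_inv]
        rcases hgq with e | e
        · left
          calc g⁻¹ * q * g = g⁻¹ * (g * q * g⁻¹) * g := by rw [e]
            _ = q := by group
        · right
          have e1 : g * (z * q) * g⁻¹ = q := by
            calc g * (z * q) * g⁻¹ = (g * z * g⁻¹) * (g * q * g⁻¹) := by group
              _ = (z * z) * q := by rw [comm_iff_conj.mpr hgz, e, mul_assoc]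
              _ = q := by rw [hzz, one_mul]
          calc g⁻¹ * q * g = g⁻¹ * (g * (z * q) * g⁻¹) * g := by rw [e1]
            _ = z * q := by group
      have := hV g⁻¹ hgz2 hgq2 v hv
      rwa [inv_inv] at this
    exact comm_w g hg (hD g hg hgV hgz)
  intro g hg hgz
  exact step g hg hgz (key5 g hg hgz) (key5 _ (hyD g hg) (hyC g hgz))

/-- the centralizer of the block over `u` and of the other block, `u ∈ P` -/
theorem mem_cent (h : Beta T V z P Q) {u : G} (hu : u ∈ P) (hu1 : u ≠ 1) (huz : u ≠ z) {c : G} :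
    c ∈ centralizer (ee z P Q z u) ↔ c * u = u * c ∧ ∀ m ∈ Q, c * m = m * c := by
  have huQ : u ∉ Q := fun hQ => (h.inf u hu hQ).elim hu1 huz
  rw [mem_centralizer_iff]
  constructor
  · intro hc
    refine ⟨(hc u (Or.inl rfl)).symm, fun m hm => (hc m (Or.inr ⟨1, by group, Or.inr ?_⟩)).symm⟩
    rw [cj_one]
    exact ⟨huQ, hm⟩
  · rintro ⟨h1, h2⟩ x (rfl | ⟨g, hg, hx⟩)
    · exact h1.symm
    · have hgz : g * z = z * g := comm_iff_conj.mp hg
      rcases h.perm g (mem_centralizer_singleton_iff.mpr hgz) with ⟨e1, e2⟩ | ⟨e1, e2⟩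
      · rw [e1, e2] at hx
        rcases hx with hx | hx
        · exact absurd hu hx.1
        · exact (h2 x hx.2).symm
      · rw [e1, e2] at hx
        rcases hx with hx | hx
        · exact (h2 x hx.2).symm
        · exact absurd hu hx.1

theorem ne_one (_ : Beta T V z P Q) {u : G} (huV : u ∉ V) : u ≠ 1 := fun e => huV (e ▸ V.one_mem)

theorem ne_z (h : Beta T V z P Q) {u : G} (huV : u ∉ V) : u ≠ z := fun e => huV (e ▸ h.z_mem)

/-- multiplying an element of `dd V \ V` by an element of `V` different from `1`, `z` changes the block -/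
theorem mul_mem_Q (h : Beta T V z P Q) {u q : G} (hu : u ∈ P) (hud : u ∈ dd V) (huV : u ∉ V) (hq : q ∈ V)
    (hq1 : q ≠ 1) (hqz : q ≠ z) : u * q ∈ Q := by
  have huu : u * u = 1 := h.dd_sq hud
  have hwd : u * q ∈ dd V := mul_mem hud (h.V_le_dd hq)
  have hwV : u * q ∉ V := fun hwV => huV (by
    have e : u = u * q * q⁻¹ := by group
    rw [e]; exact mul_mem hwV (inv_mem hq))
  rcases h.dd_cases _ hwd hwV with hwP | hwQ
  · exfalso
    have hqP : q ∈ P := by
      have e : q = u⁻¹ * (u * q) := by group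
      rw [e]; exact mul_mem (inv_mem hu) hwP
    exact (h.V_P q hq hqP).elim hq1 hqz
  · exact hwQ

/-- facts about `ee` at `z`: centralizing `V` and multiplying `u` by `z` -/
theorem cent_z (h : Beta T V z P Q) {u : G} (hud : u ∈ dd V) (huV : u ∉ V) {c : G}
    (hc : c ∈ centralizer (ee z P Q z u)) :
    c ∈ centralizer (V : Set G) ∧ c ∈ centralizer (ee z P Q z (u * z)) := by
  have key : ∀ {P Q : Subgroup G}, Beta T V z P Q → u ∈ P → c ∈ centralizer (ee z P Q z u) →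
      c ∈ centralizer (V : Set G) ∧ c ∈ centralizer (ee z P Q z (u * z)) := by
    intro P Q h hu hc
    have hu1 := h.ne_one huV
    have huz := h.ne_z huV
    obtain ⟨h1, h2⟩ := (h.mem_cent hu hu1 huz).mp hc
    have hcz : c * z = z * c := h2 z h.z_Q
    have huzP : u * z ∈ P := mul_mem hu h.z_P
    have huz1 : u * z ≠ 1 := fun e => huz (by
      rw [mul_eq_one_iff_eq_inv.mp e, h.inv_eq h.z_mem])
    have huzz : u * z ≠ z := fun e => hu1 (by simpa using e)
    refine ⟨?_, ?_⟩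
    · rw [mem_centralizer_iff]
      intro v hv
      by_cases hv1 : v = 1
      · rw [hv1]; simp
      by_cases hvz : v = z
      · rw [hvz]; exact hcz.symm
      have h3 := h2 _ (h.mul_mem_Q hu hud huV hv hv1 hvz)
      have h4 : u * (c * v) = u * (v * c) := by
        calc u * (c * v) = (u * c) * v := by group
          _ = (c * u) * v := by rw [h1]
          _ = c * (u * v) := by group
          _ = (u * v) * c := h3
          _ = u * (v * c) := by group
      exact (mul_left_cancel h4).symm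
    · rw [h.mem_cent huzP huz1 huzz]
      refine ⟨?_, h2⟩
      rw [← mul_assoc, h1, mul_assoc, hcz, ← mul_assoc]
  rcases h.dd_cases u hud huV with hu | hu
  · exact key h hu hc
  · have h3 := key h.symm hu (by rw [ee_swap]; exact hc)
    rw [ee_swap] at h3
    exact h3

/-- the same facts at an arbitrary point of `V` -/
theorem cent_q (h : Beta T V z P Q) {u q : G} (hud : u ∈ dd V) (huV : u ∉ V) (hq : q ∈ V) (hq1 : q ≠ 1)
    {c : G} (hc : c ∈ centralizer (ee z P Q q u)) :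
    c ∈ centralizer (V : Set G) ∧ c ∈ centralizer (ee z P Q q (u * q)) := by
  obtain ⟨T', P', Q', h', he⟩ := h.at_point hq hq1
  rw [← he] at hc
  rw [← he]
  exact h'.cent_z hud huV hc

/-- the elements of `D` fixing `q` are in the centralizer of `ee` -/
theorem comm_ee (h : Beta T V z P Q) {u q : G} (hud : u ∈ dd V) (huV : u ∉ V) (hq : q ∈ V) (hq1 : q ≠ 1)
    {D : Subgroup G} (hDJ : D ≤ centralizer ({u} : Set G))
    (hDn : centralizer ({u} : Set G) ≤ normalizer (D : Set G))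
    (hD : ∀ g ∈ D, g ∈ normalizer (V : Set G) → g * q = q * g → g ∈ centralizer (V : Set G)) :
    ∀ g ∈ D, g * q = q * g → g ∈ centralizer (ee z P Q q u) := by
  intro g hg hgq
  obtain ⟨T', P', Q', h', he⟩ := h.at_point hq hq1
  rw [← he]
  have hgu : g * u = u * g := mem_centralizer_singleton_iff.mp (hDJ hg)
  have hu1 := h'.ne_one huV
  have huq := h'.ne_z huV
  rcases h'.dd_cases u hud huV with hu | hu
  · rw [h'.mem_cent hu hu1 huq]
    exact ⟨hgu, h'.comm_Q hu hud huV hDJ hDn hD g hg hgq⟩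
  · rw [← ee_swap, h'.symm.mem_cent hu hu1 huq]
    exact ⟨hgu, h'.symm.comm_Q hu hud huV hDJ hDn hD g hg hgq⟩

/-- **the centralizer of `ee` does not depend on the point of `V`** -/
theorem cent_le (h : Beta T V z P Q) {u : G} (hud : u ∈ dd V) (huV : u ∉ V) {q q' : G} (hq : q ∈ V)
    (hq1 : q ≠ 1) (hq' : q' ∈ V) (hq'1 : q' ≠ 1) :
    centralizer (ee z P Q q u) ≤ centralizer (ee z P Q q' u) := by
  obtain ⟨D, hDJ, hDn, hD, d, hd, hdn, hdm⟩ := exists_core h.toOdd hud huV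
  have hdu : d * u = u * d := mem_centralizer_singleton_iff.mp (hDJ hd)
  have hduu : d * u * d⁻¹ = u := comm_iff_conj.mpr hdu
  have hdV : ∀ {v : G}, v ∈ V → d⁻¹ * v * d ∈ V := by
    intro v hv
    have := (mem_normalizer_iff.mp (inv_mem hdn) v).mp hv
    rwa [inv_inv] at this
  have hdne : ∀ {v : G}, v ≠ 1 → d⁻¹ * v * d ≠ 1 := fun {v} hv e => hv (by
    have : v = d * (d⁻¹ * v * d) * d⁻¹ := by group
    rw [this, e]; group)
  have step : ∀ q ∈ V, q ≠ 1 → centralizer (ee z P Q q u) ≤ centralizer (ee z P Q (d⁻¹ * q * d) u) := by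
    intro q hq hq1 c hc
    have hcV := (h.cent_q hud huV hq hq1 hc).1
    have hcu : c * u = u * c := (mem_centralizer_iff.mp hc u (Or.inl rfl)).symm
    have hcJ : c ∈ centralizer ({u} : Set G) := mem_centralizer_singleton_iff.mpr hcu
    have h1 : d * (c * d⁻¹ * c⁻¹) ∈ D := mul_mem hd (conj_mem_of_normalizer hDn hcJ (inv_mem hd))
    have h2 : d * (c * d⁻¹ * c⁻¹) ∈ centralizer (V : Set G) := by
      have e : d * (c * d⁻¹ * c⁻¹) = (d * c * d⁻¹) * c⁻¹ := by group
      rw [e]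
      refine mul_mem ?_ (inv_mem hcV)
      rw [mem_centralizer_iff] at hcV ⊢
      intro v hv
      have h3 := hcV _ (hdV hv)
      calc v * (d * c * d⁻¹) = d * ((d⁻¹ * v * d) * c) * d⁻¹ := by group
        _ = d * (c * (d⁻¹ * v * d)) * d⁻¹ := by rw [h3]
        _ = d * c * d⁻¹ * v := by group
    have h3 := h.comm_ee hud huV hq hq1 hDJ hDn (fun g hg hgn hgq => hD q hq hq1 g hg hgn hgq) _ h1
      ((mem_centralizer_iff.mp h2 q hq).symm)
    have h4 : d * c * d⁻¹ ∈ centralizer (ee z P Q q u) := by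
      have e : d * c * d⁻¹ = d * (c * d⁻¹ * c⁻¹) * c := by group
      rw [e]; exact mul_mem h3 hc
    rw [mem_centralizer_iff]
    intro x hx
    have h5 := ee_conj hx d
    have e1 : d * (d⁻¹ * q * d) * d⁻¹ = q := by group
    rw [e1, hduu] at h5
    have h6 := mem_centralizer_iff.mp h4 _ h5
    calc x * c = d⁻¹ * ((d * x * d⁻¹) * (d * c * d⁻¹)) * d := by group
      _ = d⁻¹ * ((d * c * d⁻¹) * (d * x * d⁻¹)) * d := by rw [h6]
      _ = c * x := by group
  obtain ⟨T', h'⟩ := h.toOdd.point hq hq1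
  set a := d⁻¹ * q * d with ha
  have haV : a ∈ V := hdV hq
  have ha1 : a ≠ 1 := hdne hq1
  have haq : a ≠ q := fun e => hdm q hq hq1 (by
    have : q = d * (d⁻¹ * q * d) * d⁻¹ := by group
    rw [← ha, e] at this
    exact this.symm)
  set b := d⁻¹ * a * d with hb
  have hbV : b ∈ V := hdV haV
  have hb1 : b ≠ 1 := hdne ha1
  have hba : b ≠ a := fun e => hdm a haV ha1 (by
    have : a = d * (d⁻¹ * a * d) * d⁻¹ := by group
    rw [← hb, e] at this
    exact this.symm)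
  have hqa1 : q * a ≠ 1 := fun e => haq (by
    rw [← mul_right_inj q, e, h.sq q hq])
  have hbqa : b = q * a := by
    rcases h.four hq haV hq1 ha1 (Ne.symm haq) hbV with e | e | e | e
    · exact absurd e hb1
    · exfalso
      apply hdm (q * a) (mul_mem hq haV) hqa1
      have e1 : d⁻¹ * (q * a) * d = q * a := by
        calc d⁻¹ * (q * a) * d = (d⁻¹ * q * d) * (d⁻¹ * a * d) := by group
          _ = a * b := by rw [← ha, ← hb]
          _ = a * q := by rw [e]
          _ = q * a := h.comm haV hq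
      calc d * (q * a) * d⁻¹ = d * (d⁻¹ * (q * a) * d) * d⁻¹ := by rw [e1]
        _ = q * a := by group
    · exact absurd e hba
    · exact e
  have s1 := step q hq hq1
  have s2 := step a haV ha1
  rw [← ha] at s1
  rw [← hb] at s2
  rcases h.four hq haV hq1 ha1 (Ne.symm haq) hq' with rfl | rfl | rfl | rfl
  · exact absurd rfl hq'1
  · exact le_rfl
  · exact s1
  · rw [← hbqa]; exact s1.trans s2

/-- **There is no `Beta` with `dd V ≠ V`.** -/
theorem false (h : Beta T V z P Q) (hne : ∃ u ∈ dd V, u ∉ V) : False := by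
  have key : ∀ {P Q : Subgroup G}, Beta T V z P Q → ∀ u ∈ dd V, u ∉ V → u ∈ P → False := by
    intro P Q h u hud huV hu
    obtain ⟨q, hq, hq1, hqz⟩ := h.exists_y
    have hzV := h.z_mem
    have huz1 := h.ne_one huV
    have huzz := h.ne_z huV
    have huu : u * u = 1 := h.dd_sq hud
    obtain ⟨y, hy, hyQ, hym⟩ := h.mov_P
    have hyz : y * z = z * y := mem_centralizer_singleton_iff.mp hy
    -- a subgroup containing `u` and `Q`
    have hAc : ∀ x ∈ Q, u * x = x * u := fun x hx => h.ab u (h.P_le hu) x (h.Q_le hx)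
    let A : Subgroup G :=
      { carrier := {x | x ∈ Q ∨ u * x ∈ Q}
        mul_mem' := by
          rintro a b (ha | ha) (hb | hb)
          · exact Or.inl (mul_mem ha hb)
          · right
            have e : u * (a * b) = a * (u * b) := by rw [← mul_assoc, hAc a ha, mul_assoc]
            rw [e]; exact mul_mem ha hb
          · right
            rw [← mul_assoc]; exact mul_mem ha hb
          · left
            have e : a * b = (u * a) * (u * b) := by
              rw [mul_assoc, ← mul_assoc a u b]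
              have : a * u = u * a := by
                have h1 := hAc _ ha
                calc a * u = (u * u) * a * u := by rw [huu, one_mul]
                  _ = u * ((u * a) * u) := by group
                  _ = u * (u * (u * a)) := by rw [h1]
                  _ = (u * u) * (u * a) := by group
                  _ = u * a := by rw [huu, one_mul]
              rw [this]
              calc a * b = (u * u) * (a * b) := by rw [huu, one_mul]
                _ = u * (u * a * b) := by group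
            rw [e]; exact mul_mem ha hb
        one_mem' := Or.inl (one_mem _)
        inv_mem' := by
          rintro a (ha | ha)
          · exact Or.inl (inv_mem ha)
          · right
            have h1 : (u * a)⁻¹ ∈ Q := inv_mem ha
            have h2 := hAc _ h1
            have e : u * a⁻¹ = (u * a)⁻¹ := by
              have h3 : u * (u * a)⁻¹ = a⁻¹ * (u⁻¹ * u) := by
                rw [h2]; group
              rw [inv_mul_cancel, mul_one] at h3
              calc u * a⁻¹ = u * (u * (u * a)⁻¹) := by rw [h3]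
                _ = (u * u) * (u * a)⁻¹ := by rw [mul_assoc]
                _ = (u * a)⁻¹ := by rw [huu, one_mul]
            rw [e]; exact h1 }
    have hAW : A ≤ ws V z := by
      rintro x (hx | hx)
      · exact h.Q_le hx
      · have e : x = u * (u * x) := by rw [← mul_assoc, huu, one_mul]
        rw [e]; exact mul_mem (h.P_le hu) (h.Q_le hx)
    set w := y * u * y⁻¹ with hw
    have hwP : w ∈ P := by
      have hyP : cj y P = P := by
        rcases h.perm y hy with ⟨h1, -⟩ | ⟨h1, h2⟩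
        · exact h1
        · exfalso
          -- `cj y Q = Q`
          have h3 : cj y Q ≤ Q := by
            rintro _ ⟨x, hx, rfl⟩
            change y * x * y⁻¹ ∈ Q
            rw [comm_iff_conj.mpr (hyQ x hx)]; exact hx
          rw [h2] at h3
          exact (h.inf u hu (h3 hu)).elim huz1 huzz
      rw [← hyP]; exact conj_mem_cj hu
    obtain ⟨hwu, hwzu⟩ := hym u hu huz1 huzz
    have hw1 : w ≠ 1 := fun e => huz1 (by
      have : u = y⁻¹ * w * y := by rw [hw]; group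
      rw [this, e]; group)
    have hwz : w ≠ z := fun e => huzz (by
      have : u = y⁻¹ * w * y := by rw [hw]; group
      rw [this, e, mul_assoc, ← hyz]; group)
    have hwA : w ∉ A := by
      rintro (hx | hx)
      · exact (h.inf w hwP hx).elim hw1 hwz
      · rcases h.inf _ (mul_mem hu hwP) hx with e | e
        · apply hwu
          calc w = (u * u) * w := by rw [huu, one_mul]
            _ = u * (u * w) := by rw [mul_assoc]
            _ = u := by rw [e, mul_one]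
        · apply hwzu
          calc w = (u * u) * w := by rw [huu, one_mul]
            _ = u * (u * w) := by rw [mul_assoc]
            _ = u * z := by rw [e]
            _ = z * u := h.ab u (h.P_le hu) z (h.V_le_ws h.z_mem)
    have hKz : ∀ k ∈ kq V z, k * z = z * k := fun k hk => mem_centralizer_singleton_iff.mp (kq_le V z hk)
    obtain ⟨k, hk, hkA, hkw⟩ := exists_dual (W := ws V z) (K := kq V z) (z := z) h.ab
      (fun a ha => h.ws_sq ha) (h.V_le_ws h.z_mem) (fun k hk w hw => kq_ws h.toGeo hk hw) hKz h.ann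
      hAW (Or.inl h.z_Q) (h.P_le hwP) hwA
    have hk0 : k ∈ centralizer (ee z P Q z u) := by
      rw [h.mem_cent hu huz1 huzz]
      refine ⟨hkA u (Or.inr ?_), fun m hm => hkA m (Or.inl hm)⟩
      rw [huu]; exact one_mem _
    -- `u z`
    have hmemV : ∀ {a v : G}, a ∉ V → v ∈ V → a * v ∉ V := by
      intro a v ha hv hav
      apply ha
      have e : a = a * v * v⁻¹ := by group
      rw [e]; exact mul_mem hav (inv_mem hv)
    have h1 := (h.cent_z hud huV hk0).2
    have hd1 : u * z ∈ dd V := mul_mem hud (h.V_le_dd hzV)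
    have hV1 : u * z ∉ V := hmemV huV hzV
    have h2 := h.cent_le hd1 hV1 hzV h.z_ne hq hq1 h1
    have h3 := (h.cent_q hd1 hV1 hq hq1 h2).2
    have hd2 : u * z * q ∈ dd V := mul_mem hd1 (h.V_le_dd hq)
    have hV2 : u * z * q ∉ V := hmemV hV1 hq
    have h4 := h.cent_le hd2 hV2 hq hq1 hzV h.z_ne h3
    have hQ2 : u * z * q ∈ Q := h.mul_mem_Q (mul_mem hu h.z_P) hd1 hV1 hq hq1 hqz
    rw [← ee_swap, h.symm.mem_cent hQ2 (h.ne_one hV2) (h.ne_z hV2)] at h4
    have h5 := h4.2 w hwP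
    rw [comm_iff_conj.mpr h5] at hkw
    exact h.z_ne (by simpa using hkw.symm)
  obtain ⟨u, hud, huV⟩ := hne
  rcases h.dd_cases u hud huV with hu | hu
  · exact key h u hud huV hu
  · exact key h.symm u hud huV hu

end Beta

end Cfsg.Agent.MinSimple.ThompsonLineC
end

-- part: MinSimple/BTwoEndC
section
prune_inst 0xc0002204530000000000000020003c1292000000002f0001c100020006888d0000000f20802013020000aa0400340060039800400010000000000000411801a0000242021240a000210000008000000000000000000000000000000000000000000000000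
set_option linter.all false
open scoped Cfsg.Agent.FastGrp

-- part: MinSimple/BTwoEnd
section
/-!
# (E1) with `|V| = 4`, `b = 2`: the case `ws V z ≅ 4 ∘ Q₈`, part A

`One T V z`: the situation `BTwo T V z` with `dd V = V` and `|us V z : V| = 2`.

* `One.exists_frame`: `ws V z` is generated by `V`, an involution `t` (conjugate to `z`) and a central element `u`
  with `u * u = z`;
* `One.centralizer_xx`: `C_G(xx V) = 1`;
* `One.cent_cases`, `One.mem_centralizer_ws`: `C_G(ws V z) = ⟨u⟩`.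
-/

set_option autoImplicit false
set_option linter.dupNamespace false
set_option linter.unusedSectionVars false

namespace Cfsg.Agent.MinSimple.BTwoEnd

open Subgroup Cfsg Cfsg.Agent.ZN Cfsg.Agent.MinSimple.Geo Cfsg.Agent.MinSimple.BTwoA
  Cfsg.Agent.MinSimple.BTwoB
open Cfsg.Agent.ZN.Block (conj_mem_of_normalizer conj_mem_of_normalizer' le_normalizer_of_forall
  mem_normalizer_of)

universe u

variable {G : Type u} [Group G]

/-- The situation `BTwo T V z` with `dd V = V` and `|us V z : V| = 2`. -/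
structure One (T V : Subgroup G) (z : G) : Prop extends BTwo T V z where
  dd_le : dd V ≤ V
  idx : V.relIndex (us V z) = 2

namespace One

variable [Finite G] {T V : Subgroup G} {z : G}

theorem V_le_us (h : One T V z) : V ≤ us V z := h.V_le_dd.trans (h.dd_le_us h.z_mem h.z_ne)

theorem card_us_eq (h : One T V z) : Nat.card (us V z) = 8 := by
  have h1 := relIndex_mul_relIndex (⊥ : Subgroup G) V (us V z) bot_le h.V_le_us
  rw [relIndex_bot_left, relIndex_bot_left, h.idx, h.card_V] at h1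
  exact h1.symm

theorem point (h : One T V z) {p : G} (hp : p ∈ V) (hp1 : p ≠ 1) : ∃ T' : Subgroup G, One T' V p := by
  obtain ⟨T', h'⟩ := h.toBTwo.point hp hp1
  refine ⟨T', h', h.dd_le, ?_⟩
  have hle : V ≤ us V p := h'.V_le_dd.trans (h'.dd_le_us h'.z_mem h'.z_ne)
  have h1 := relIndex_mul_relIndex (⊥ : Subgroup G) V (us V p) bot_le hle
  rw [relIndex_bot_left, relIndex_bot_left, h.card_V, h.card_us hp hp1, h.card_us_eq] at h1
  omega

theorem mul_mem_V (h : One T V z) {a b : G} (ha : a ∈ us V z) (hb : b ∈ us V z) (haV : a ∉ V)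
    (hbV : b ∉ V) : a * b ∈ V := by
  have hi : (V.subgroupOf (us V z)).index = 2 := h.idx
  have h1 := Subgroup.mul_mem_iff_of_index_two hi (a := ⟨a, ha⟩) (b := ⟨b, hb⟩)
  rw [mem_subgroupOf, mem_subgroupOf, mem_subgroupOf] at h1
  exact h1.mpr ⟨fun h => absurd h haV, fun h => absurd h hbV⟩

theorem us_comm (h : One T V z) {a b : G} (ha : a ∈ us V z) (hb : b ∈ us V z) : a * b = b * a := by
  by_cases haV : a ∈ V
  · exact (comm_V hb.2 haV).symm
  by_cases hbV : b ∈ V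
  · exact comm_V ha.2 hbV
  have h1 := h.mul_mem_V (inv_mem ha) hb (fun e => haV ((inv_mem_iff).mp e)) hbV
  have h2 := comm_V ha.2 h1
  calc a * b = a * (a * (a⁻¹ * b)) := by group
    _ = a * ((a⁻¹ * b) * a) := by rw [h2]
    _ = b * a := by group

/-- a line of `us V z` has the same centralizer in `ws V z` as `V` -/
theorem cj_us_eq (h : One T V z) {c : G} (hc : c ∈ centralizer ({z} : Set G))
    (hcV : cj c V ≤ centralizer (V : Set G)) : cj c (us V z) = us V z := by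
  have hL : cj c V ≤ us V z := le_inf (le_ws (h.cj_mem_lines hc)) hcV
  have hws := Geo.centralizer_le_normalizer_ws V z
  symm
  apply Subgroup.eq_of_le_of_card_ge
  · intro x hx
    rw [mem_cj]
    refine ⟨conj_mem_of_normalizer' hws hc hx.1, mem_centralizer_iff.mpr fun v hv => ?_⟩
    have h1 : c * v * c⁻¹ ∈ us V z := hL (conj_mem_cj hv)
    have h2 := h.us_comm h1 hx
    calc v * (c⁻¹ * x * c) = c⁻¹ * ((c * v * c⁻¹) * x) * c := by group
      _ = c⁻¹ * (x * (c * v * c⁻¹)) * c := by rw [h2]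
      _ = c⁻¹ * x * c * v := by group
  · rw [card_cj]

/-- three pairwise non-commuting lines through `z` -/
theorem exists_three (h : One T V z) : ∃ t ∈ ws V z, ∃ s ∈ ws V z, t * t = 1 ∧ s * s = 1 ∧
    t ∉ centralizer (V : Set G) ∧ s ∉ centralizer (V : Set G) ∧ t * s ≠ s * t ∧
    (∃ g : G, g * z * g⁻¹ = t) ∧ ∃ g : G, g * z * g⁻¹ = s := by
  set C := centralizer ({z} : Set G) with hC
  have hws := Geo.centralizer_le_normalizer_ws V z
  -- a line not commuting with `V`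
  obtain ⟨a, haC, ha⟩ : ∃ a ∈ C, ¬ cj a V ≤ centralizer (V : Set G) := by
    by_contra hcon
    push Not at hcon
    obtain ⟨w, hw, hwV⟩ := h.exists_w
    apply hwV
    refine (ws_le (U := centralizer (V : Set G)) fun L hL => ?_) hw
    obtain ⟨c, hc, rfl⟩ := h.exists_of_mem_lines hL
    exact hcon c hc
  -- elements of lines
  have hline : ∀ c ∈ C, ¬ cj c V ≤ centralizer (V : Set G) → ∃ t ∈ cj c V, t ∈ ws V z ∧ t * t = 1 ∧
      t ∉ centralizer (V : Set G) ∧ ∃ g : G, g * z * g⁻¹ = t := by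
    intro c hc hn
    obtain ⟨t, ht, htV⟩ := SetLike.not_le_iff_exists.mp hn
    have ht' := mem_cj.mp ht
    have ht1 : c⁻¹ * t * c ≠ 1 := by
      intro e
      apply htV
      have : t = c * (c⁻¹ * t * c) * c⁻¹ := by group
      rw [this, e]
      simp
    obtain ⟨g, hg, hg2⟩ := h.trans _ ht' ht1
    refine ⟨t, ht, le_ws (h.cj_mem_lines hc) ht, ?_, htV, c * g, ?_⟩
    · have h1 := h.sq _ ht'
      calc t * t = c * ((c⁻¹ * t * c) * (c⁻¹ * t * c)) * c⁻¹ := by group
        _ = 1 := by rw [h1]; group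
    · calc c * g * z * (c * g)⁻¹ = c * (g * z * g⁻¹) * c⁻¹ := by group
        _ = t := by rw [hg2]; group
  by_contra hcon
  -- otherwise every line commutes with `V` or with `cj a V`
  have hdich : ∀ c ∈ C, ¬ cj c V ≤ centralizer (V : Set G) →
      cj c V ≤ centralizer ((cj a V : Subgroup G) : Set G) := by
    intro c hc hn
    obtain ⟨t, ht, htw, ht2, htV, htg⟩ := hline a haC ha
    obtain ⟨s, hs, hsw, hs2, hsV, hsg⟩ := hline c hc hn
    have hts : t * s = s * t := by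
      by_contra hts
      exact hcon ⟨t, htw, s, hsw, ht2, hs2, htV, hsV, hts, htg, hsg⟩
    -- elements of `cj c V` are `1, z, s, z s`
    have hfour : ∀ c ∈ C, ∀ s ∈ cj c V, s ∉ centralizer (V : Set G) → ∀ x ∈ cj c V,
        x = 1 ∨ x = z ∨ x = s ∨ x = z * s := by
      intro c hc s hs hsV x hx
      have hz' : c⁻¹ * z * c = z := by
        rw [mul_assoc, ← h.z_comm hc, inv_mul_cancel_left]
      have hs1 : c⁻¹ * s * c ≠ 1 := by
        intro e
        apply hsV
        have : s = c * (c⁻¹ * s * c) * c⁻¹ := by group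
        rw [this, e]; simp
      have hsz : z ≠ c⁻¹ * s * c := by
        intro e
        apply hsV
        have : s = c * (c⁻¹ * s * c) * c⁻¹ := by group
        rw [this, ← e, h.z_comm hc, mul_inv_cancel_right, mem_centralizer_iff]
        intro v hv
        exact h.comm hv h.z_mem
      have hconj : ∀ y y' : G, c⁻¹ * y * c = y' → y = c * y' * c⁻¹ := by
        rintro y y' rfl; group
      rcases h.four h.z_mem (mem_cj.mp hs) h.z_ne hs1 hsz (mem_cj.mp hx) with e | e | e | e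
      · left; rw [hconj _ _ e]; group
      · right; left; rw [hconj _ _ e, h.z_comm hc]; group
      · right; right; left; rw [hconj _ _ e]; group
      · right; right; right
        rw [hconj _ _ e]
        calc c * (z * (c⁻¹ * s * c)) * c⁻¹ = (c * z) * c⁻¹ * s := by group
          _ = z * s := by rw [h.z_comm hc]; group
    have hzt : z * t = t * z := (h.z_comm (h.ws_le_centralizer htw)).symm
    have hzs : z * s = s * z := (h.z_comm (h.ws_le_centralizer hsw)).symm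
    intro x hx
    rw [mem_centralizer_iff]
    intro y hy
    have cx : Commute y x := by
      have c1 : Commute z t := hzt
      have c2 : Commute z s := hzs
      have c3 : Commute t s := hts
      rcases hfour c hc s hs hsV x hx with rfl | rfl | rfl | rfl <;>
        rcases hfour a haC t ht htV y hy with rfl | rfl | rfl | rfl
      · exact Commute.refl _
      · exact Commute.one_right _
      · exact Commute.one_right _
      · exact Commute.one_right _
      · exact Commute.one_left _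
      · exact Commute.refl _
      · exact c1.symm
      · exact (Commute.refl _).mul_left c1.symm
      · exact Commute.one_left _
      · exact c2
      · exact c3
      · exact c2.mul_left c3
      · exact Commute.one_left _
      · exact (Commute.refl _).mul_right c2
      · exact c1.symm.mul_right c3
      · exact ((Commute.refl _).mul_right c2).mul_left (c1.symm.mul_right c3)
    exact cx.eq
  -- the stabilizer of `us V z`
  set N : Subgroup G := C ⊓ normalizer ((us V z : Subgroup G) : Set G) with hN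
  have hNiff : ∀ c ∈ C, (c ∈ N ↔ cj c V ≤ centralizer (V : Set G)) := by
    intro c hc
    constructor
    · rintro ⟨-, hcn⟩
      have h1 := cj_mono (g := c) h.V_le_us
      rw [mem_normalizer_iff_cj.mp hcn] at h1
      exact h1.trans inf_le_right
    · intro h1
      exact ⟨hc, mem_normalizer_iff_cj.mpr (h.cj_us_eq hc h1)⟩
  have hkey : ∀ c ∈ C, c ∉ N → a⁻¹ * c ∈ N := by
    intro c hc hcN
    have h1 := hdich c hc (fun e => hcN ((hNiff c hc).mpr e))
    have hac : a⁻¹ * c ∈ C := mul_mem (inv_mem haC) hc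
    rw [hNiff _ hac]
    intro x hx
    rw [mem_cj] at hx
    rw [mem_centralizer_iff]
    intro v hv
    have h2 : a * x * a⁻¹ ∈ cj c V := by
      rw [mem_cj]
      have : c⁻¹ * (a * x * a⁻¹) * c = (a⁻¹ * c)⁻¹ * x * (a⁻¹ * c) := by group
      rw [this]; exact hx
    have h3 := mem_centralizer_iff.mp (h1 h2) (a * v * a⁻¹) (conj_mem_cj hv)
    calc v * x = a⁻¹ * ((a * v * a⁻¹) * (a * x * a⁻¹)) * a := by group
      _ = a⁻¹ * ((a * x * a⁻¹) * (a * v * a⁻¹)) * a := by rw [h3]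
      _ = x * v := by group
  have hidx : N.relIndex C = 2 := by
    rw [relIndex_eq_two_iff_exists_notMem_and']
    refine ⟨a⁻¹, inv_mem haC, fun e => ha ((hNiff a haC).mp (inv_mem_iff.mp e)), fun b hb => ?_⟩
    by_cases hbN : b ∈ N
    · exact Or.inr hbN
    · exact Or.inl (hkey b hb hbN)
  have hTN : T ≤ N := by
    intro x hx
    have hxC : x ∈ C := h.T_le hx
    rw [hNiff x hxC, cj_eq_of_mem_normalizer (h.T_norm hx)]
    intro v hv
    rw [mem_centralizer_iff]
    intro w hw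
    exact h.comm hw hv
  apply h.T_syl
  have := relIndex_mul_relIndex T N C hTN inf_le_left
  rw [← hC, ← this, hidx]
  exact dvd_mul_left _ _

/-- a frame of `ws V z` -/
theorem exists_frame (h : One T V z) : ∃ t ∈ ws V z, ∃ u ∈ ws V z, t * t = 1 ∧
    t ∉ centralizer (V : Set G) ∧ (∃ g : G, g * z * g⁻¹ = t) ∧ u * u = z ∧
    (∀ w ∈ ws V z, u * w = w * u) := by
  obtain ⟨t, ht, s, hs, ht2, hs2, htV, hsV, hts, htg, hsg⟩ := h.exists_three
  obtain ⟨v, hv, hv1, hvz⟩ := h.exists_y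
  have hvw : v ∈ ws V z := h.V_le_ws hv
  have hz : ∀ w ∈ ws V z, Commute z w := fun w hw => (h.z_comm (h.ws_le_centralizer hw)).symm
  have hcase : ∀ a ∈ ws V z, ∀ b ∈ ws V z, a * b ≠ b * a → a * b = z * (b * a) := by
    intro a ha b hb hab
    exact (h.comm_cases ha (h.ws_le_o2 hb)).resolve_left hab
  have hnv : ∀ w ∈ ws V z, w ∉ centralizer (V : Set G) → w * v ≠ v * w := by
    intro w hw hwV e
    have := h.w_move hw hwV hv hv1 hvz
    rw [e, mul_inv_cancel_right] at this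
    exact h.z_ne (by simpa using this.symm)
  have e1 : t * v = z * (v * t) := hcase t ht v hvw (hnv t ht htV)
  have e2 : s * v = z * (v * s) := hcase s hs v hvw (hnv s hs hsV)
  have e3 : t * s = z * (s * t) := hcase t ht s hs hts
  have ez := h.zz
  have ev := h.sq v hv
  have cv := hz v hvw
  have ct := hz t ht
  have cs := hz s hs
  set u : G := v * t * s with hu
  have huw : u ∈ ws V z := mul_mem (mul_mem hvw ht) hs
  have e1' : v * t = z * (t * v) := by rw [e1, ← mul_assoc, ez, one_mul]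
  have e2' : v * s = z * (s * v) := by rw [e2, ← mul_assoc, ez, one_mul]
  have e3' : s * t = z * (t * s) := by rw [e3, ← mul_assoc, ez, one_mul]
  -- `u` commutes with `v`, `t`, `s`
  have cuv : Commute u v := by
    change v * t * s * v = v * (v * t * s)
    calc v * t * s * v = v * t * (s * v) := by group
      _ = v * t * (z * (v * s)) := by rw [e2]
      _ = v * (t * z) * v * s := by group
      _ = v * (z * t) * v * s := by rw [ct.eq]
      _ = v * z * (t * v) * s := by group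
      _ = v * z * (z * (v * t)) * s := by rw [e1]
      _ = v * (z * z) * (v * t) * s := by group
      _ = v * (v * t * s) := by rw [ez]; group
  have cut : Commute u t := by
    change v * t * s * t = t * (v * t * s)
    calc v * t * s * t = v * t * (s * t) := by group
      _ = v * t * (z * (t * s)) := by rw [e3']
      _ = v * (t * z) * t * s := by group
      _ = (v * z) * t * t * s := by rw [← ct.eq]; group
      _ = z * (v * t) * t * s := by rw [← cv.eq]; group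
      _ = z * (z * (t * v)) * t * s := by rw [e1']
      _ = (z * z) * (t * (v * t * s)) := by group
      _ = t * (v * t * s) := by rw [ez, one_mul]
  have cus : Commute u s := by
    change v * t * s * s = s * (v * t * s)
    have : s * (v * t * s) = v * t * s * s := by
      calc s * (v * t * s) = (s * v) * t * s := by group
        _ = z * (v * s) * t * s := by rw [e2]
        _ = z * v * (s * t) * s := by group
        _ = z * v * (z * (t * s)) * s := by rw [e3']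
        _ = z * (v * z) * t * s * s := by group
        _ = z * (z * v) * t * s * s := by rw [← cv.eq]
        _ = (z * z) * (v * t * s * s) := by group
        _ = v * t * s * s := by rw [ez, one_mul]
    exact this.symm
  have huu : u * u = z := by
    calc u * u = (u * v) * (t * s) := by rw [hu]; group
      _ = (v * u) * (t * s) := by rw [cuv.eq]
      _ = v * (u * t) * s := by group
      _ = v * (t * u) * s := by rw [cut.eq]
      _ = v * t * (v * t * s) * s := by rw [hu]; group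
      _ = v * (t * v) * t * (s * s) := by group
      _ = v * (z * (v * t)) * t * 1 := by rw [e1, hs2]
      _ = (v * z) * v * (t * t) := by group
      _ = (z * v) * v * 1 := by rw [← cv.eq, ht2]
      _ = z * (v * v) := by group
      _ = z := by rw [ev, mul_one]
  refine ⟨t, ht, u, huw, ht2, htV, htg, huu, ?_⟩
  -- `u` is central
  have huV : u ∈ us V z := by
    refine ⟨huw, mem_centralizer_iff.mpr fun x hx => ?_⟩
    rcases h.four h.z_mem hv h.z_ne hv1 (Ne.symm hvz) hx with rfl | rfl | rfl | rfl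
    · simp
    · exact (hz _ huw).eq
    · exact cuv.symm.eq
    · exact ((hz _ huw).mul_left cuv.symm).eq
  have huus : ∀ a ∈ us V z, Commute u a := fun a ha => h.us_comm huV ha
  intro w hw
  by_cases hwV : w ∈ centralizer (V : Set G)
  · exact (huus w ⟨hw, hwV⟩).eq
  · have h1 := h.us_two (inv_mem ht) (fun hh => htV ((inv_mem_iff).mp hh)) hw hwV
    have h2 := huus _ h1
    have : w = t * (t⁻¹ * w) := by group
    rw [this]
    exact (cut.mul_right h2).eq

/-- a normal subgroup of `N_G(V)` meeting `T` trivially is trivial -/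
theorem eq_bot_of_normal (h : One T V z) {N : Subgroup G} (hN : N ≤ normalizer (V : Set G))
    (hn : normalizer (V : Set G) ≤ normalizer (N : Set G)) (hT : T ⊓ N = ⊥) : N = ⊥ := by
  set M := normalizer (V : Set G) with hM
  have hVT : V ≤ T := h.V_le
  have hV2 : IsPGroup 2 V := h.two.to_le hVT
  have hV1 : V ≠ ⊥ := by
    intro e
    have := h.z_mem
    rw [e, mem_bot] at this
    exact h.z_ne this
  have hloc : IsTwoLocal M := ⟨V, hV2, hV1, rfl⟩
  have ho : o2 M ≤ T := o2_le_of_sylow h.T_norm h.two h.T_syl'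
  have hNo : N ≤ M ⊓ centralizer (o2 M : Set G) := by
    intro n hn'
    refine mem_inf.mpr ⟨hN hn', mem_centralizer_iff.mpr fun q hq => ?_⟩
    have h1 : n * q * n⁻¹ * q⁻¹ ∈ T ⊓ N := by
      refine ⟨ho ((o2 M).mul_mem (conj_mem_of_normalizer (le_normalizer_o2 M) (hN hn') hq)
        ((o2 M).inv_mem hq)), ?_⟩
      have h2 := conj_mem_of_normalizer hn (o2_le M hq) (N.inv_mem hn')
      have e : n * q * n⁻¹ * q⁻¹ = n * (q * n⁻¹ * q⁻¹) := by group
      rw [e]; exact N.mul_mem hn' h2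
    rw [hT, mem_bot] at h1
    have : q * n = (n * q * n⁻¹ * q⁻¹)⁻¹ * (n * q) := by group
    rw [this, h1, inv_one, one_mul]
  have hNo2 := hNo.trans (inf_centralizer_o2_le h.charTwo hloc)
  rw [eq_bot_iff, ← hT]
  exact le_inf (hNo2.trans ho) le_rfl

theorem normalizer_le_normalizer_xx (V : Subgroup G) :
    normalizer (V : Set G) ≤ normalizer ((xx V : Subgroup G) : Set G) := by
  intro g hg
  rw [mem_normalizer_iff_cj]
  have key : ∀ g ∈ normalizer (V : Set G), cj g (xx V) ≤ xx V := by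
    intro g hg
    rw [cj_le_iff]
    refine iSup_le fun p => ?_
    rw [← cj_le_iff, cj_ws]
    refine ws_le_xx ((mem_normalizer_iff.mp hg _).mp p.2.1) (fun e => p.2.2 ?_)
    have : (p : G) = g⁻¹ * (g * p * g⁻¹) * g := by group
    rw [this, e]; group
  refine le_antisymm (key g hg) ?_
  have := key g⁻¹ (inv_mem hg)
  rwa [cj_le_iff, inv_inv] at this

theorem V_le_xx (h : One T V z) : V ≤ xx V := h.V_le_ws.trans (ws_le_xx h.z_mem h.z_ne)

/-- `C_G(xx V) = 1` -/
theorem centralizer_xx (h : One T V z) : centralizer (xx V : Set G) = ⊥ := by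
  apply h.eq_bot_of_normal
  · refine (centralizer_le h.V_le_xx).trans ?_
    exact centralizer_le_normalizer _
  · refine (normalizer_le_normalizer_xx V).trans ?_
    refine le_normalizer_of_forall fun g hg c hc => mem_centralizer_iff.mpr fun x hx => ?_
    have h2 := mem_centralizer_iff.mp hc _ (conj_mem_of_normalizer' le_rfl hg hx)
    calc x * (g * c * g⁻¹) = g * ((g⁻¹ * x * g) * c) * g⁻¹ := by group
      _ = g * (c * (g⁻¹ * x * g)) * g⁻¹ := by rw [h2]
      _ = g * c * g⁻¹ * x := by group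
  · exact BTwoB.BTwo.T_inf_centralizer_xx h.toBTwo

/-- an element centralizing `ws V q` and an element of `ws V z` outside `C(V)` is trivial -/
theorem eq_one_of_comm (h : One T V z) {q t x : G} (hq : q ∈ V) (hq1 : q ≠ 1) (hqz : q ≠ z)
    (ht : t ∈ ws V z) (htV : t ∉ centralizer (V : Set G))
    (hx : ∀ w ∈ ws V q, x * w = w * x) (hxt : x * t = t * x) : x = 1 := by
  obtain ⟨T', h'⟩ := h.point hq hq1
  obtain ⟨w2, hw2, hw2V⟩ := h'.exists_w
  have m1 : t * q * t⁻¹ = z * q := h.w_move ht htV hq hq1 hqz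
  have m2 : w2 * z * w2⁻¹ = q * z := h'.w_move hw2 hw2V h.z_mem h.z_ne (Ne.symm hqz)
  have ct : Commute x t := hxt
  have cw2 : Commute x w2 := hx w2 hw2
  -- `x` centralizes `ws V (z * q)`
  have c3 : ∀ w ∈ ws V (z * q), Commute x w := by
    intro w hw
    have h1 : t⁻¹ * w * t ∈ ws V q := by
      have h2 := conj_mem_ws (g := t⁻¹) hw
      rw [← m1, inv_inv] at h2
      have e : t⁻¹ * (t * q * t⁻¹) * t = q := by group
      rwa [e] at h2
    have h2 : Commute x (t⁻¹ * w * t) := hx _ h1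
    have e : w = t * (t⁻¹ * w * t) * t⁻¹ := by group
    rw [e]
    exact (ct.mul_right h2).mul_right ct.inv_right
  have c1 : ∀ w ∈ ws V z, Commute x w := by
    intro w hw
    have h1 : w2 * w * w2⁻¹ ∈ ws V (z * q) := by
      have h2 := conj_mem_ws (g := w2) hw
      rw [m2, h.comm hq h.z_mem] at h2
      exact h2
    have h2 := c3 _ h1
    have e : w = w2⁻¹ * (w2 * w * w2⁻¹) * w2 := by group
    rw [e]
    exact (cw2.inv_right.mul_right h2).mul_right cw2
  have hxx : xx V ≤ centralizer ({x} : Set G) := by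
    refine iSup_le fun p w hw => ?_
    rw [mem_centralizer_singleton_iff]
    rcases h.four h.z_mem hq h.z_ne hq1 (Ne.symm hqz) p.2.1 with h1 | h1 | h1 | h1
    · exact absurd h1 p.2.2
    · rw [h1] at hw; exact (c1 w hw).symm.eq
    · rw [h1] at hw; exact (hx w hw).symm
    · rw [h1] at hw; exact (c3 w hw).symm.eq
  have h1 : x ∈ centralizer (xx V : Set G) := mem_centralizer_iff.mpr fun y hy =>
    mem_centralizer_singleton_iff.mp (hxx hy)
  rw [h.centralizer_xx, mem_bot] at h1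
  exact h1

/-- an element centralizing `ws V q` and, modulo `z`, an element of `ws V z` outside `C(V)` is `1` or `q` -/
theorem eq_of_comm (h : One T V z) {q t x : G} (hq : q ∈ V) (hq1 : q ≠ 1) (hqz : q ≠ z)
    (ht : t ∈ ws V z) (htV : t ∉ centralizer (V : Set G))
    (hx : ∀ w ∈ ws V q, x * w = w * x) (hxt : x * t * x⁻¹ = t ∨ x * t * x⁻¹ = z * t) :
    x = 1 ∨ x = q := by
  rcases hxt with e | e
  · left
    refine h.eq_one_of_comm hq hq1 hqz ht htV hx ?_
    calc x * t = (x * t * x⁻¹) * x := by group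
      _ = t * x := by rw [e]
  · right
    obtain ⟨T', h'⟩ := h.point hq hq1
    have hqw : ∀ w ∈ ws V q, q * w = w * q := fun w hw =>
      (h'.z_comm (h'.ws_le_centralizer hw)).symm
    have m1 : t * q * t⁻¹ = z * q := h.w_move ht htV hq hq1 hqz
    have hzt : z * t = t * z := (h.z_comm (h.ws_le_centralizer ht)).symm
    have hqt : q * t = z * (t * q) := by
      have e1 : t * q = z * (q * t) := by
        calc t * q = (t * q * t⁻¹) * t := by group
          _ = z * (q * t) := by rw [m1, mul_assoc]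
      rw [e1, ← mul_assoc, h.zz, one_mul]
    have hxz : x * z = z * x := by
      obtain ⟨T', h'⟩ := h.point hq hq1
      exact hx z (h'.V_le_ws h.z_mem)
    have h1 : x * q = 1 := by
      refine h.eq_one_of_comm hq hq1 hqz ht htV ?_ ?_
      · intro w hw
        calc x * q * w = x * (q * w) := by group
          _ = (x * w) * q := by rw [hqw w hw]; group
          _ = w * (x * q) := by rw [hx w hw]; group
      · calc x * q * t = x * (q * t) := by group
          _ = (x * z) * t * q := by rw [hqt]; group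
          _ = z * (x * t * x⁻¹) * x * q := by rw [hxz]; group
          _ = (z * z) * t * x * q := by rw [e]; group
          _ = t * (x * q) := by rw [h.zz]; group
    have h2 : x = q⁻¹ := eq_inv_of_mul_eq_one_left h1
    rw [h2, h.inv_eq hq]

end One

end Cfsg.Agent.MinSimple.BTwoEnd
end

-- part: MinSimple/BTwoEndB
section
/-!
# (E1) with `|V| = 4`, `b = 2`: the case `ws V z ≅ 4 ∘ Q₈`, part B

`Fr T V z q t u`: a frame for the situation `One T V z`: `V = {1, z, q, z q}`, `ws V z = ⟨V, t, u⟩` with an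
involution `t` and a central element `u`, `u * u = z`.

* `Fr.cent`: `C_G(ws V z) = ⟨u⟩`;
* `Fr.rr_cases`: `rr V = ⟨u⟩ × ⟨u'⟩` for frames at `z` and `q`; its involutions are in `V`;
* `Fr.dichotomy`: `C_G(V) = rr V`, or there is `e ∈ C_G(V) ∩ kq V z` with `e u e⁻¹ = z u` and
  `C_G(V) = rr V ∪ e rr V`.
-/

set_option autoImplicit false
set_option linter.dupNamespace false
set_option linter.unusedSectionVars false

namespace Cfsg.Agent.MinSimple.BTwoEndB

open Subgroup Cfsg Cfsg.Agent.ZN Cfsg.Agent.MinSimple.Geo Cfsg.Agent.MinSimple.BTwoA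
  Cfsg.Agent.MinSimple.BTwoB Cfsg.Agent.MinSimple.BTwoEnd
open Cfsg.Agent.ZN.Block (conj_mem_of_normalizer conj_mem_of_normalizer' le_normalizer_of_forall
  mem_normalizer_of)

universe u

variable {G : Type u} [Group G]

/-- A frame for the situation `One T V z`. -/
structure Fr (T V : Subgroup G) (z q t u : G) : Prop extends One T V z where
  q_mem : q ∈ V
  q_ne : q ≠ 1
  q_nz : q ≠ z
  t_mem : t ∈ ws V z
  tt : t * t = 1
  tV : t ∉ centralizer (V : Set G)
  tz : ∃ g : G, g * z * g⁻¹ = t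
  u_mem : u ∈ ws V z
  uu : u * u = z
  uc : ∀ w ∈ ws V z, u * w = w * u

variable [Finite G] {T V : Subgroup G} {z q t u : G}

theorem exists_fr (h : One T V z) {q : G} (hq : q ∈ V) (hq1 : q ≠ 1) (hqz : q ≠ z) :
    ∃ t u : G, Fr T V z q t u := by
  obtain ⟨t, ht, u, hu, h1, h2, h3, h4, h5⟩ := h.exists_frame
  exact ⟨t, u, ⟨h, hq, hq1, hqz, ht, h1, h2, h3, hu, h4, h5⟩⟩

namespace Fr

/-- the frame at the other point -/
theorem other (h : Fr T V z q t u) : ∃ (T' : Subgroup G) (t' u' : G), Fr T' V q z t' u' := by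
  obtain ⟨T', h'⟩ := h.point h.q_mem h.q_ne
  obtain ⟨t', u', h''⟩ := exists_fr h' h.z_mem h.z_ne (Ne.symm h.q_nz)
  exact ⟨T', t', u', h''⟩

theorem qq (h : Fr T V z q t u) : q * q = 1 := h.sq q h.q_mem

theorem zq (h : Fr T V z q t u) : z * q = q * z := h.comm h.z_mem h.q_mem

theorem z_ws (h : Fr T V z q t u) {w : G} (hw : w ∈ ws V z) : Commute z w :=
  (h.z_comm (h.ws_le_centralizer hw)).symm

theorem cz (h : Fr T V z q t u) {g : G} (hg : g ∈ centralizer (V : Set G)) : Commute g z :=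
  comm_V hg h.z_mem

theorem cq (h : Fr T V z q t u) {g : G} (hg : g ∈ centralizer (V : Set G)) : Commute g q :=
  comm_V hg h.q_mem

theorem four' (h : Fr T V z q t u) {v : G} (hv : v ∈ V) : v = 1 ∨ v = z ∨ v = q ∨ v = z * q :=
  h.four h.z_mem h.q_mem h.z_ne h.q_ne (Ne.symm h.q_nz) hv

theorem mem_cent (h : Fr T V z q t u) {g : G} (h1 : Commute g z) (h2 : Commute g q) :
    g ∈ centralizer (V : Set G) := by
  rw [mem_centralizer_iff]
  intro v hv
  rcases h.four' hv with rfl | rfl | rfl | rfl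
  · simp
  · exact h1.symm.eq
  · exact h2.symm.eq
  · exact (h1.mul_right h2).symm.eq

theorem t_ne (h : Fr T V z q t u) : t ≠ 1 := by
  intro e
  apply h.tV
  rw [e]; exact one_mem _

theorem tq (h : Fr T V z q t u) : t * q = z * (q * t) := by
  have m1 : t * q * t⁻¹ = z * q := h.w_move h.t_mem h.tV h.q_mem h.q_ne h.q_nz
  calc t * q = (t * q * t⁻¹) * t := by group
    _ = z * (q * t) := by rw [m1, mul_assoc]

theorem qt (h : Fr T V z q t u) : q * t = z * (t * q) := by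
  rw [h.tq, ← mul_assoc, h.zz, one_mul]

theorem ut (h : Fr T V z q t u) : Commute u t := h.uc t h.t_mem

theorem uz (h : Fr T V z q t u) : Commute u z := h.uc z (h.V_le_ws h.z_mem)

theorem uq (h : Fr T V z q t u) : Commute u q := h.uc q (h.V_le_ws h.q_mem)

theorem zt (h : Fr T V z q t u) : Commute z t := h.z_ws h.t_mem

theorem u_cent (h : Fr T V z q t u) : u ∈ centralizer (V : Set G) := h.mem_cent h.uz h.uq

theorem u_us (h : Fr T V z q t u) : u ∈ us V z := ⟨h.u_mem, h.u_cent⟩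

theorem u_inv (h : Fr T V z q t u) : u⁻¹ = z * u := by
  apply inv_eq_of_mul_eq_one_left
  rw [mul_assoc, h.uu, h.zz]

theorem u_notMem (h : Fr T V z q t u) : u ∉ V := by
  intro hu
  have := h.sq u hu
  rw [h.uu] at this
  exact h.z_ne this

theorem us_cases (h : Fr T V z q t u) {a : G} (ha : a ∈ us V z) :
    a ∈ V ∨ ∃ v ∈ V, a = u * v := by
  by_cases haV : a ∈ V
  · exact Or.inl haV
  · refine Or.inr ⟨u⁻¹ * a, h.mul_mem_V (inv_mem h.u_us) ha
      (fun e => h.u_notMem (inv_mem_iff.mp e)) haV, by group⟩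

/-- commuting with `t` inside `V` -/
theorem V_comm_t (h : Fr T V z q t u) {v : G} (hv : v ∈ V) (hvt : v * t = t * v) : v = 1 ∨ v = z := by
  rcases h.four' hv with rfl | rfl | rfl | rfl
  · exact Or.inl rfl
  · exact Or.inr rfl
  · exfalso
    rw [h.qt] at hvt
    exact h.z_ne (by simpa using hvt)
  · exfalso
    have h1 : z * q * t = z * (t * (z * q)) := by
      rw [mul_assoc, h.qt]
      calc z * (z * (t * q)) = z * ((z * t) * q) := by group
        _ = z * ((t * z) * q) := by rw [h.zt.eq]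
        _ = z * (t * (z * q)) := by group
    rw [h1] at hvt
    exact h.z_ne (by simpa using hvt)

theorem conj_u (h : Fr T V z q t u) {g : G} (hg : g ∈ centralizer (V : Set G)) :
    g * u * g⁻¹ = u ∨ g * u * g⁻¹ = z * u := by
  have hgz : g ∈ centralizer ({z} : Set G) := centralizer_le_of_mem h.z_mem hg
  have hws := Geo.centralizer_le_normalizer_ws V z
  have h1 : g * u * g⁻¹ ∈ us V z := by
    refine ⟨conj_mem_of_normalizer hws hgz h.u_mem, ?_⟩
    exact (centralizer (V : Set G)).mul_mem ((centralizer (V : Set G)).mul_mem hg h.u_cent)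
      ((centralizer (V : Set G)).inv_mem hg)
  have h2 : ∀ w ∈ ws V z, Commute (g * u * g⁻¹) w := by
    intro w hw
    have h3 := h.uc _ (conj_mem_of_normalizer' hws hgz hw)
    change g * u * g⁻¹ * w = w * (g * u * g⁻¹)
    calc g * u * g⁻¹ * w = g * (u * (g⁻¹ * w * g)) * g⁻¹ := by group
      _ = g * ((g⁻¹ * w * g) * u) * g⁻¹ := by rw [h3]
      _ = w * (g * u * g⁻¹) := by group
  rcases h.us_cases h1 with h3 | ⟨v, hv, e⟩
  · exfalso
    have h4 := h.sq _ h3
    have h5 : g * u * g⁻¹ * (g * u * g⁻¹) = g * (u * u) * g⁻¹ := by group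
    rw [h5, h.uu, (h.cz hg).eq, mul_inv_cancel_right] at h4
    exact h.z_ne h4
  · have h3 : Commute v t := by
      have e' : v = u⁻¹ * (g * u * g⁻¹) := by rw [e]; group
      rw [e']
      exact h.ut.inv_left.mul_left (h2 t h.t_mem)
    rcases h.V_comm_t hv h3.eq with rfl | rfl
    · left; rw [e, mul_one]
    · right; rw [e, h.uz.eq]

theorem conj_t (h : Fr T V z q t u) {g : G} (hg : g ∈ centralizer (V : Set G)) :
    g * t * g⁻¹ = t ∨ g * t * g⁻¹ = z * t ∨ g * t * g⁻¹ = t * (u * q) ∨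
      g * t * g⁻¹ = z * (t * (u * q)) := by
  have hgz : g ∈ centralizer ({z} : Set G) := centralizer_le_of_mem h.z_mem hg
  have hws := Geo.centralizer_le_normalizer_ws V z
  have h1 : g * t * g⁻¹ ∈ ws V z := conj_mem_of_normalizer hws hgz h.t_mem
  have h1V : g * t * g⁻¹ ∉ centralizer (V : Set G) := by
    intro e
    apply h.tV
    have := (centralizer (V : Set G)).mul_mem ((centralizer (V : Set G)).mul_mem
      ((centralizer (V : Set G)).inv_mem hg) e) hg
    have e2 : g⁻¹ * (g * t * g⁻¹) * g = t := by group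
    rwa [e2] at this
  have htV' : t⁻¹ ∉ centralizer (V : Set G) := fun e => h.tV (inv_mem_iff.mp e)
  have h2 : t⁻¹ * (g * t * g⁻¹) ∈ us V z :=
    h.us_two (inv_mem h.t_mem) htV' h1 h1V
  have h3 : g * t * g⁻¹ * (g * t * g⁻¹) = 1 := by
    have : g * t * g⁻¹ * (g * t * g⁻¹) = g * (t * t) * g⁻¹ := by group
    rw [this, h.tt]; group
  have hz := h.z_ne
  rcases h.us_cases h2 with h4 | ⟨v, hv, e⟩
  · set v := t⁻¹ * (g * t * g⁻¹) with hv
    have e : g * t * g⁻¹ = t * v := by rw [hv]; group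
    have h5 : v * t = t * v := by
      rw [e] at h3
      have h6 : t * v = (t * v)⁻¹ := eq_inv_of_mul_eq_one_left h3
      have h7 : (t * v)⁻¹ = v * t := by
        rw [mul_inv_rev, h.inv_eq h4, inv_eq_self h.tt]
      rw [← h7, ← h6]
    rcases h.V_comm_t h4 h5 with e1 | e1
    · left; rw [e, e1, mul_one]
    · right; left; rw [e, e1, h.zt.eq]
  · have e' : g * t * g⁻¹ = t * (u * v) := by rw [← e]; group
    rcases h.four' hv with rfl | rfl | rfl | rfl
    · exfalso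
      rw [e', mul_one] at h3
      have : t * u * (t * u) = t * (u * t) * u := by group
      rw [this, h.ut.eq] at h3
      have : t * (t * u) * u = (t * t) * (u * u) := by group
      rw [this, h.tt, h.uu, one_mul] at h3
      exact hz h3
    · exfalso
      rw [e'] at h3
      have c1 : Commute (t * (u * v)) (u * v) :=
        ((h.ut.symm.mul_right h.zt.symm)).mul_left (Commute.refl _)
      have : t * (u * v) * (t * (u * v)) = t * (t * (u * v)) * (u * v) := by
        rw [mul_assoc t (u * v), ← c1.eq]; group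
      rw [this] at h3
      have : t * (t * (u * v)) * (u * v) = (t * t) * (u * (v * u) * v) := by group
      rw [this, h.tt, one_mul, ← h.uz.eq] at h3
      have : u * (u * v) * v = (u * u) * (v * v) := by group
      rw [this, h.uu, h.zz, mul_one] at h3
      exact hz h3
    · right; right; left; exact e'
    · right; right; right
      rw [e']
      calc t * (u * (z * q)) = t * ((u * z) * q) := by group
        _ = (t * z) * (u * q) := by rw [h.uz.eq]; group
        _ = z * (t * (u * q)) := by rw [← h.zt.eq]; group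

/-- product of two elements of the second kind -/
theorem type_mul (h : Fr T V z q t u) {g g' : G} (hg : g ∈ centralizer (V : Set G))
    (hg' : g' ∈ centralizer (V : Set G)) (h1 : ¬ (g * t * g⁻¹ = t ∨ g * t * g⁻¹ = z * t))
    (h2 : ¬ (g' * t * g'⁻¹ = t ∨ g' * t * g'⁻¹ = z * t)) :
    g * g' * t * (g * g')⁻¹ = t ∨ g * g' * t * (g * g')⁻¹ = z * t := by
  push Not at h1 h2
  have c1 := h.cz hg
  have c2 := h.cq hg
  have cuq := h.uq
  have cuz := h.uz
  have czt := h.zt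
  have e0 : g * g' * t * (g * g')⁻¹ = g * (g' * t * g'⁻¹) * g⁻¹ := by group
  -- conjugates of `t * (u * q)`
  have e1 : g * (t * (u * q)) * g⁻¹ = t ∨ g * (t * (u * q)) * g⁻¹ = z * t := by
    have e2 : g * (t * (u * q)) * g⁻¹ = (g * t * g⁻¹) * ((g * u * g⁻¹) * (g * q * g⁻¹)) := by group
    have e3 : g * q * g⁻¹ = q := by rw [c2.eq, mul_inv_cancel_right]
    rw [e2, e3]
    have e4 : t * (u * q) * (u * q) = z * t := by
      calc t * (u * q) * (u * q) = t * (u * (q * u) * q) := by group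
        _ = t * (u * (u * q) * q) := by rw [cuq.eq]
        _ = t * ((u * u) * (q * q)) := by group
        _ = z * t := by rw [h.uu, h.qq, mul_one, ← czt.eq]
    have e5 : t * (u * q) * (z * u * q) = t := by
      have : z * u * q = u * q * z := by
        rw [mul_assoc, (h.uz.symm.mul_right h.zq).eq]
      rw [this, ← mul_assoc, e4, mul_assoc, ← czt.eq, ← mul_assoc, h.zz, one_mul]
    rcases h.conj_t hg with f | f | f | f
    · exact absurd f h1.1
    · exact absurd f h1.2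
    · rcases h.conj_u hg with k | k
      · right; rw [f, k, e4]
      · left; rw [f, k, e5]
    · rcases h.conj_u hg with k | k
      · left; rw [f, k, mul_assoc, e4, ← mul_assoc, h.zz, one_mul]
      · right; rw [f, k, mul_assoc, e5]
  rw [e0]
  rcases h.conj_t hg' with f | f | f | f
  · exact absurd f h2.1
  · exact absurd f h2.2
  · rw [f]; exact e1
  · rw [f]
    have e2 : g * (z * (t * (u * q))) * g⁻¹ = z * (g * (t * (u * q)) * g⁻¹) := by
      rw [← mul_assoc, c1.eq]; group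
    rw [e2]
    rcases e1 with k | k
    · right; rw [k]
    · left; rw [k, ← mul_assoc, h.zz, one_mul]

/-- `C_G(ws V z) = ⟨u⟩` -/
theorem cent (h : Fr T V z q t u) {x : G} (hx : ∀ w ∈ ws V z, x * w = w * x) :
    x = 1 ∨ x = z ∨ x = u ∨ x = z * u := by
  obtain ⟨T', t', u', h'⟩ := h.other
  have hxV : x ∈ centralizer (V : Set G) := mem_centralizer_iff.mpr fun v hv =>
    (hx v (h.V_le_ws hv)).symm
  have key : ∀ x : G, (∀ w ∈ ws V z, x * w = w * x) →
      (x * t' * x⁻¹ = t' ∨ x * t' * x⁻¹ = q * t') → x = 1 ∨ x = z := fun x hx hxt =>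
    h'.eq_of_comm h.z_mem h.z_ne (Ne.symm h.q_nz) h'.t_mem h'.tV hx hxt
  by_cases h1 : x * t' * x⁻¹ = t' ∨ x * t' * x⁻¹ = q * t'
  · rcases key x hx h1 with e | e
    · exact Or.inl e
    · exact Or.inr (Or.inl e)
  · have h2 : ¬ (u * t' * u⁻¹ = t' ∨ u * t' * u⁻¹ = q * t') := by
      intro h3
      rcases key u h.uc h3 with e | e
      · apply h.z_ne; rw [← h.uu, e, one_mul]
      · apply h.z_ne
        have := h.uu
        rw [e, h.zz] at this
        exact this.symm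
    have h3 := h'.type_mul hxV h.u_cent h1 h2
    have h4 : ∀ w ∈ ws V z, x * u * w = w * (x * u) := fun w hw =>
      (Commute.mul_left (hx w hw : Commute x w) (h.uc w hw)).eq
    rcases key _ h4 h3 with e | e
    · right; right; right
      rw [← h.u_inv]; exact eq_inv_of_mul_eq_one_left e
    · right; right; left
      have : x = z * u⁻¹ := by rw [← e]; group
      rw [this, h.u_inv, ← mul_assoc, h.zz, one_mul]

theorem centralizer_ws_le (h : Fr T V z q t u) {x : G} (hx : ∀ w ∈ ws V z, x * w = w * x) :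
    x ∈ us V z := by
  have hz : z ∈ us V z := h.V_le_us h.z_mem
  rcases h.cent hx with rfl | rfl | rfl | rfl
  · exact one_mem _
  · exact hz
  · exact h.u_us
  · exact mul_mem hz h.u_us

/-- an element centralizing `V`, `u`, and `t` modulo `z` is in `us V z` -/
theorem mem_us (h : Fr T V z q t u) {g : G} (hg : g ∈ centralizer (V : Set G)) (hgu : g * u = u * g)
    (h1 : g * t * g⁻¹ = t ∨ g * t * g⁻¹ = z * t) : g ∈ us V z := by
  have hq : q ∈ us V z := h.V_le_us h.q_mem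
  have key : ∀ g : G, g ∈ centralizer (V : Set G) → Commute g u → Commute g t → g ∈ us V z := by
    intro g hg c1 c2
    apply h.centralizer_ws_le
    have hus : ∀ a ∈ us V z, Commute g a := by
      intro a ha
      rcases h.us_cases ha with h3 | ⟨v, hv, rfl⟩
      · exact comm_V hg h3
      · exact c1.mul_right (comm_V hg hv)
    intro w hw
    by_cases hwV : w ∈ centralizer (V : Set G)
    · exact (hus w ⟨hw, hwV⟩).eq
    · have htV' : t⁻¹ ∉ centralizer (V : Set G) := fun e => h.tV (inv_mem_iff.mp e)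
      have h3 := hus _ (h.us_two (inv_mem h.t_mem) htV' hw hwV)
      have : w = t * (t⁻¹ * w) := by group
      rw [this]
      exact (c2.mul_right h3).eq
  rcases h1 with e | e
  · refine key g hg hgu ?_
    change g * t = t * g
    calc g * t = (g * t * g⁻¹) * g := by group
      _ = t * g := by rw [e]
  · have h2 : g * q ∈ us V z := by
      refine key _ ((centralizer (V : Set G)).mul_mem hg hq.2) ?_ ?_
      · exact Commute.mul_left hgu h.uq.symm
      · change g * q * t = t * (g * q)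
        have c1 := h.cz hg
        calc g * q * t = g * (q * t) := by group
          _ = g * (z * (t * q)) := by rw [h.qt]
          _ = (g * z) * t * q := by group
          _ = z * (g * t * g⁻¹) * g * q := by rw [c1.eq]; group
          _ = (z * z) * t * g * q := by rw [e]; group
          _ = t * (g * q) := by rw [h.zz]; group
    have : g = (g * q) * q⁻¹ := by group
    rw [this]
    exact mul_mem h2 (inv_mem hq)

/-- membership in `kq` -/
theorem mem_kq (h : Fr T V z q t u) {g : G} (hg : g ∈ centralizer (V : Set G))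
    (h1 : g * t * g⁻¹ = t ∨ g * t * g⁻¹ = z * t) : g ∈ kq V z := by
  have key : ∀ g : G, g ∈ centralizer (V : Set G) → (g * t * g⁻¹ = t ∨ g * t * g⁻¹ = z * t) →
      ∀ w ∈ ws V z, g * w * g⁻¹ * w⁻¹ ∈ zpowers z := by
    intro g hg h1
    have hgz : g ∈ centralizer ({z} : Set G) := centralizer_le_of_mem h.z_mem hg
    let A : Subgroup G :=
      { carrier := {w | w ∈ ws V z ∧ g * w * g⁻¹ * w⁻¹ ∈ zpowers z}
        mul_mem' := by
          rintro a b ⟨ha, ha1⟩ ⟨hb, hb1⟩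
          refine ⟨mul_mem ha hb, ?_⟩
          have e : g * (a * b) * g⁻¹ * (a * b)⁻¹ =
              (g * a * g⁻¹ * a⁻¹) * (a * (g * b * g⁻¹ * b⁻¹) * a⁻¹) := by group
          rw [e, zpowers_conj (h.ws_le_centralizer ha) hb1]
          exact mul_mem ha1 hb1
        one_mem' := ⟨one_mem _, by simp⟩
        inv_mem' := by
          rintro a ⟨ha, ha1⟩
          refine ⟨inv_mem ha, ?_⟩
          have h1 := inv_mem ha1
          have h2 := zpowers_conj (h.ws_le_centralizer (inv_mem ha)) h1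
          have e : g * a⁻¹ * g⁻¹ * a⁻¹⁻¹ = a⁻¹ * (g * a * g⁻¹ * a⁻¹)⁻¹ * a⁻¹⁻¹ := by group
          rw [e, h2]; exact h1 }
    have hVA : ∀ v ∈ V, v ∈ A := by
      intro v hv
      refine ⟨h.V_le_ws hv, ?_⟩
      rw [comm_V hg hv, mul_inv_cancel_right, mul_inv_cancel]; exact one_mem _
    have huA : u ∈ A := by
      refine ⟨h.u_mem, ?_⟩
      rcases h.conj_u hg with e | e
      · rw [e, mul_inv_cancel]; exact one_mem _
      · rw [e, mul_inv_cancel_right]; exact mem_zpowers z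
    have htA : t ∈ A := by
      refine ⟨h.t_mem, ?_⟩
      rcases h1 with e | e
      · rw [e, mul_inv_cancel]; exact one_mem _
      · rw [e, mul_inv_cancel_right]; exact mem_zpowers z
    have husA : ∀ a ∈ us V z, a ∈ A := by
      intro a ha
      rcases h.us_cases ha with h3 | ⟨v, hv, rfl⟩
      · exact hVA a h3
      · exact mul_mem huA (hVA v hv)
    intro w hw
    by_cases hwV : w ∈ centralizer (V : Set G)
    · exact (husA w ⟨hw, hwV⟩).2
    · have htV' : t⁻¹ ∉ centralizer (V : Set G) := fun e => h.tV (inv_mem_iff.mp e)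
      have h3 := husA _ (h.us_two (inv_mem h.t_mem) htV' hw hwV)
      have : w = t * (t⁻¹ * w) := by group
      rw [this]
      exact (mul_mem htA h3).2
  have hginv : g⁻¹ * t * g⁻¹⁻¹ = t ∨ g⁻¹ * t * g⁻¹⁻¹ = z * t := by
    have c1 : Commute g⁻¹ z := (h.cz hg).inv_left
    rcases h1 with e | e
    · left
      calc g⁻¹ * t * g⁻¹⁻¹ = g⁻¹ * (g * t * g⁻¹) * g := by rw [e]; group
        _ = t := by group
    · right
      have h2 : t = z * (g * t * g⁻¹) := by rw [e, ← mul_assoc, h.zz, one_mul]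
      calc g⁻¹ * t * g⁻¹⁻¹ = g⁻¹ * (z * (g * t * g⁻¹)) * g := by rw [← h2]; group
        _ = (g⁻¹ * z) * g * t := by group
        _ = z * t := by rw [c1.eq]; group
  rw [BTwoB.mem_kq]
  refine ⟨centralizer_le_of_mem h.z_mem hg, key g hg h1, fun w hw => ?_⟩
  have := key g⁻¹ ((centralizer (V : Set G)).inv_mem hg) hginv w hw
  rwa [inv_inv] at this

theorem type_of_mem_kq (h : Fr T V z q t u) {g : G} (hg : g ∈ kq V z) :
    g * t * g⁻¹ = t ∨ g * t * g⁻¹ = z * t := by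
  have h1 := (BTwoB.mem_kq.mp hg).2.1 t h.t_mem
  rcases (mem_zpowers_iff_of_mul_self h.zz).mp h1 with e | e
  · left
    calc g * t * g⁻¹ = (g * t * g⁻¹ * t⁻¹) * t := by group
      _ = t := by rw [e, one_mul]
  · right
    calc g * t * g⁻¹ = (g * t * g⁻¹ * t⁻¹) * t := by group
      _ = z * t := by rw [e]

theorem comm_ws (h : Fr T V z q t u) {g : G} (hg : g ∈ centralizer (V : Set G)) (c1 : Commute g u)
    (c2 : Commute g t) : ∀ w ∈ ws V z, g * w = w * g := by
  have hus : ∀ a ∈ us V z, Commute g a := by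
    intro a ha
    rcases h.us_cases ha with h3 | ⟨v, hv, rfl⟩
    · exact comm_V hg h3
    · exact c1.mul_right (comm_V hg hv)
  intro w hw
  by_cases hwV : w ∈ centralizer (V : Set G)
  · exact (hus w ⟨hw, hwV⟩).eq
  · have htV' : t⁻¹ ∉ centralizer (V : Set G) := fun e => h.tV (inv_mem_iff.mp e)
    have h3 := hus _ (h.us_two (inv_mem h.t_mem) htV' hw hwV)
    have : w = t * (t⁻¹ * w) := by group
    rw [this]
    exact (c2.mul_right h3).eq

theorem type_mul_type (h : Fr T V z q t u) {g g' : G} (hg : g ∈ centralizer (V : Set G))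
    (h1 : g * t * g⁻¹ = t ∨ g * t * g⁻¹ = z * t) (h2 : g' * t * g'⁻¹ = t ∨ g' * t * g'⁻¹ = z * t) :
    g * g' * t * (g * g')⁻¹ = t ∨ g * g' * t * (g * g')⁻¹ = z * t := by
  have e0 : g * g' * t * (g * g')⁻¹ = g * (g' * t * g'⁻¹) * g⁻¹ := by group
  have c1 := h.cz hg
  rw [e0]
  rcases h2 with e | e
  · rw [e]; exact h1
  · rw [e]
    have e2 : g * (z * t) * g⁻¹ = z * (g * t * g⁻¹) := by
      rw [← mul_assoc, c1.eq]; group
    rw [e2]
    rcases h1 with k | k
    · right; rw [k]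
    · left; rw [k, ← mul_assoc, h.zz, one_mul]

/-- the element `u'` of the other frame is not of the first kind -/
theorem not_type (h : Fr T V z q t u) {T' : Subgroup G} {t' u' : G} (h' : Fr T' V q z t' u') :
    ¬ (u' * t * u'⁻¹ = t ∨ u' * t * u'⁻¹ = z * t) := by
  intro h3
  rcases h.eq_of_comm h.q_mem h.q_ne h.q_nz h.t_mem h.tV h'.uc h3 with e | e
  · apply h.q_ne; rw [← h'.uu, e, one_mul]
  · apply h.q_ne
    have := h'.uu
    rw [e, h.qq] at this
    exact this.symm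

theorem comm_uu (h : Fr T V z q t u) {T' : Subgroup G} {t' u' : G} (h' : Fr T' V q z t' u') :
    Commute u u' := by
  have cq := h.uq
  rcases h'.conj_u h.u_cent with e | e
  · change u * u' = u' * u
    calc u * u' = (u * u' * u⁻¹) * u := by group
      _ = u' * u := by rw [e]
  · exfalso
    have e1 : u * u' = q * (u' * u) := by
      calc u * u' = (u * u' * u⁻¹) * u := by group
        _ = q * (u' * u) := by rw [e]; group
    have e2 : u' * u * u'⁻¹ = q * u := by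
      have e3 : u' * u = q * (u * u') := by rw [e1, ← mul_assoc, h.qq, one_mul]
      rw [e3]; group
    rcases h.conj_u h'.u_cent with f | f
    · rw [e2] at f
      exact h.q_ne (by simpa using f)
    · rw [e2] at f
      exact h.q_nz (mul_right_cancel f)

theorem centralizer_le_normalizer_us {V : Subgroup G} {p : G} (hp : p ∈ V) :
    centralizer (V : Set G) ≤ normalizer ((us V p : Subgroup G) : Set G) := by
  refine le_normalizer_of_forall fun g hg a ha => ?_
  have h1 := conj_mem_us (centralizer_le_normalizer _ hg) ha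
  have h2 : g * p * g⁻¹ = p := by rw [comm_V hg hp, mul_inv_cancel_right]
  rwa [h2] at h1

/-- the elements of `rr V` -/
theorem rr_cases (h : Fr T V z q t u) {T' : Subgroup G} {t' u' : G} (h' : Fr T' V q z t' u') {x : G}
    (hx : x ∈ rr V) : ∃ v ∈ V, x = v ∨ x = u * v ∨ x = u' * v ∨ x = u * u' * v := by
  rw [BTwoB.BTwo.rr_eq h.toBTwo h.q_mem h.q_ne h.q_nz, ← SetLike.mem_coe,
    coe_mul_of_right_le_normalizer_left _ _
      ((us_le_centralizer V q).trans (centralizer_le_normalizer_us h.z_mem))] at hx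
  obtain ⟨a, ha, b, hb, rfl⟩ := hx
  simp only
  have hv : ∀ {v v' : G}, v ∈ V → v' ∈ V → v * v' ∈ V := fun hv hv' => mul_mem hv hv'
  rcases h.us_cases ha with h1 | ⟨v1, hv1, rfl⟩ <;> rcases h'.us_cases hb with h2 | ⟨v2, hv2, rfl⟩
  · exact ⟨a * b, hv h1 h2, Or.inl rfl⟩
  · refine ⟨a * v2, hv h1 hv2, Or.inr (Or.inr (Or.inl ?_))⟩
    rw [← mul_assoc, ← comm_V h'.u_cent h1, mul_assoc]
  · exact ⟨v1 * b, hv hv1 h2, Or.inr (Or.inl (mul_assoc _ _ _))⟩
  · refine ⟨v1 * v2, hv hv1 hv2, Or.inr (Or.inr (Or.inr ?_))⟩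
    have := comm_V h'.u_cent hv1
    calc u * v1 * (u' * v2) = u * (v1 * u') * v2 := by group
      _ = u * u' * (v1 * v2) := by rw [← this]; group

/-- squares of the elements `u v`, `u' v`, `u u' v` -/
theorem sq_uv (h : Fr T V z q t u) {v : G} (hv : v ∈ V) : u * v * (u * v) = z := by
  have := comm_V h.u_cent hv
  calc u * v * (u * v) = u * (v * u) * v := by group
    _ = (u * u) * (v * v) := by rw [← this]; group
    _ = z := by rw [h.uu, h.sq v hv, mul_one]

theorem sq_uuv (h : Fr T V z q t u) {T' : Subgroup G} {t' u' : G} (h' : Fr T' V q z t' u') {v : G}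
    (hv : v ∈ V) : u * u' * v * (u * u' * v) = z * q := by
  have c1 := comm_V h.u_cent hv
  have c2 := comm_V h'.u_cent hv
  have c3 := h.comm_uu h'
  calc u * u' * v * (u * u' * v) = u * u' * (v * u) * u' * v := by group
    _ = u * (u' * u) * (v * u') * v := by rw [← c1]; group
    _ = (u * u) * (u' * u') * (v * v) := by rw [← c2, ← c3.eq]; group
    _ = z * q := by rw [h.uu, h'.uu, h.sq v hv, mul_one]

theorem zq_ne (h : Fr T V z q t u) : z * q ≠ 1 := fun e => h.q_nz (by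
  have := mul_eq_one_iff_eq_inv.mp e
  rw [h.inv_eq h.q_mem] at this; exact this.symm)

/-- the involutions of `rr V` are in `V` -/
theorem mem_V_of_sq (h : Fr T V z q t u) {x : G} (hx : x ∈ rr V) (h2 : x * x = 1) : x ∈ V := by
  obtain ⟨T', t', u', h'⟩ := h.other
  obtain ⟨v, hv, rfl | rfl | rfl | rfl⟩ := h.rr_cases h' hx
  · exact hv
  · rw [h.sq_uv hv] at h2; exact absurd h2 h.z_ne
  · rw [h'.sq_uv hv] at h2; exact absurd h2 h.q_ne
  · rw [h.sq_uuv h' hv] at h2; exact absurd h2 h.zq_ne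

/-- `C_G(V) = rr V ∪ …` -/
theorem type_cases (h : Fr T V z q t u) {T' : Subgroup G} {t' u' : G} (h' : Fr T' V q z t' u') {g : G}
    (hg : g ∈ centralizer (V : Set G)) : (g * t * g⁻¹ = t ∨ g * t * g⁻¹ = z * t) ∨
      (g * u' * t * (g * u')⁻¹ = t ∨ g * u' * t * (g * u')⁻¹ = z * t) := by
  by_cases h1 : g * t * g⁻¹ = t ∨ g * t * g⁻¹ = z * t
  · exact Or.inl h1
  · exact Or.inr (h.type_mul hg h'.u_cent h1 (h.not_type h'))

theorem us_le_rr' (h : Fr T V z q t u) : us V z ≤ rr V := us_le_rr h.z_mem h.z_ne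

theorem u_rr (h : Fr T V z q t u) : u ∈ rr V := h.us_le_rr' h.u_us

/-- either `C_G(V) = rr V` or there is an additional element `e` -/
theorem dichotomy (h : Fr T V z q t u) : centralizer (V : Set G) ≤ rr V ∨
    ∃ e ∈ centralizer (V : Set G), (e * t * e⁻¹ = t ∨ e * t * e⁻¹ = z * t) ∧ e * u * e⁻¹ = z * u ∧
      (∀ g ∈ centralizer (V : Set G), g ∈ rr V ∨ e * g ∈ rr V) ∧
      ∀ g ∈ centralizer (V : Set G), (g * t * g⁻¹ = t ∨ g * t * g⁻¹ = z * t) →
        g ∈ us V z ∨ e * g ∈ us V z := by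
  obtain ⟨T', t', u', h'⟩ := h.other
  by_cases hcon : ∀ g ∈ centralizer (V : Set G), (g * t * g⁻¹ = t ∨ g * t * g⁻¹ = z * t) →
      g * u = u * g
  · left
    intro g hg
    rcases h.type_cases h' hg with h1 | h1
    · exact h.us_le_rr' (h.mem_us hg (hcon g hg h1) h1)
    · have hgu : g * u' ∈ centralizer (V : Set G) := (centralizer (V : Set G)).mul_mem hg h'.u_cent
      have h2 := h.us_le_rr' (h.mem_us hgu (hcon _ hgu h1) h1)
      have : g = g * u' * u'⁻¹ := by group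
      rw [this]
      exact mul_mem h2 (inv_mem h'.u_rr)
  · right
    push Not at hcon
    obtain ⟨e, he, he1, he2⟩ := hcon
    have heu : e * u * e⁻¹ = z * u := by
      refine (h.conj_u he).resolve_left fun f => he2 ?_
      calc e * u = (e * u * e⁻¹) * e := by group
        _ = u * e := by rw [f]
    have key : ∀ g ∈ centralizer (V : Set G), (g * t * g⁻¹ = t ∨ g * t * g⁻¹ = z * t) →
        g ∈ us V z ∨ e * g ∈ us V z := by
      intro g hg h1
      rcases h.conj_u hg with f | f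
      · left
        refine h.mem_us hg ?_ h1
        calc g * u = (g * u * g⁻¹) * g := by group
          _ = u * g := by rw [f]
      · right
        have heg : e * g ∈ centralizer (V : Set G) := (centralizer (V : Set G)).mul_mem he hg
        refine h.mem_us heg ?_ (h.type_mul_type he he1 h1)
        have c1 := h.cz he
        calc e * g * u = e * (g * u * g⁻¹) * g := by group
          _ = (e * z) * u * g := by rw [f]; group
          _ = z * (e * u * e⁻¹) * e * g := by rw [c1.eq]; group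
          _ = (z * z) * (u * (e * g)) := by rw [heu]; group
          _ = u * (e * g) := by rw [h.zz, one_mul]
    refine ⟨e, he, he1, heu, ?_, key⟩
    intro g hg
    rcases h.type_cases h' hg with h1 | h1
    · rcases key g hg h1 with f | f
      · exact Or.inl (h.us_le_rr' f)
      · exact Or.inr (h.us_le_rr' f)
    · have hgu : g * u' ∈ centralizer (V : Set G) := (centralizer (V : Set G)).mul_mem hg h'.u_cent
      rcases key _ hgu h1 with f | f
      · left
        have : g = g * u' * u'⁻¹ := by group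
        rw [this]
        exact mul_mem (h.us_le_rr' f) (inv_mem h'.u_rr)
      · right
        have : e * g = e * (g * u') * u'⁻¹ := by group
        rw [this]
        exact mul_mem (h.us_le_rr' f) (inv_mem h'.u_rr)

/-- `rr V` is abelian -/
theorem rr_comm (h : Fr T V z q t u) {x y : G} (hx : x ∈ rr V) (hy : y ∈ rr V) : Commute x y := by
  obtain ⟨T', t', u', h'⟩ := h.other
  have cV : ∀ v ∈ V, ∀ v' ∈ V, Commute v v' := fun v hv v' hv' => h.comm hv hv'
  have c1 : ∀ v ∈ V, Commute u v := fun v hv => comm_V h.u_cent hv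
  have c2 : ∀ v ∈ V, Commute u' v := fun v hv => comm_V h'.u_cent hv
  have c3 := h.comm_uu h'
  obtain ⟨v, hv, hx'⟩ := h.rr_cases h' hx
  obtain ⟨v', hv', hy'⟩ := h.rr_cases h' hy
  have hu : ∀ y, (y = v' ∨ y = u * v' ∨ y = u' * v' ∨ y = u * u' * v') → Commute u y := by
    rintro y (rfl | rfl | rfl | rfl)
    · exact c1 _ hv'
    · exact (Commute.refl u).mul_right (c1 _ hv')
    · exact c3.mul_right (c1 _ hv')
    · exact ((Commute.refl u).mul_right c3).mul_right (c1 _ hv')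
  have hu' : ∀ y, (y = v' ∨ y = u * v' ∨ y = u' * v' ∨ y = u * u' * v') → Commute u' y := by
    rintro y (rfl | rfl | rfl | rfl)
    · exact c2 _ hv'
    · exact c3.symm.mul_right (c2 _ hv')
    · exact (Commute.refl u').mul_right (c2 _ hv')
    · exact (c3.symm.mul_right (Commute.refl u')).mul_right (c2 _ hv')
  have hvy : ∀ y, (y = v' ∨ y = u * v' ∨ y = u' * v' ∨ y = u * u' * v') → Commute v y := by
    rintro y (rfl | rfl | rfl | rfl)
    · exact cV _ hv _ hv'
    · exact (c1 v hv).symm.mul_right (cV _ hv _ hv')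
    · exact (c2 v hv).symm.mul_right (cV _ hv _ hv')
    · exact ((c1 v hv).symm.mul_right (c2 v hv).symm).mul_right (cV _ hv _ hv')
  rcases hx' with rfl | rfl | rfl | rfl
  · exact hvy y hy'
  · exact (hu y hy').mul_left (hvy y hy')
  · exact (hu' y hy').mul_left (hvy y hy')
  · exact ((hu y hy').mul_left (hu' y hy')).mul_left (hvy y hy')

end Fr

end Cfsg.Agent.MinSimple.BTwoEndB
end

-- part: MinSimple/BTwoEndC
section
/-!
# (E1) with `|V| = 4`, `b = 2`: the case `ws V z ≅ 4 ∘ Q₈`, part C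

* `exists_sylow`: `T` is a Sylow 2-subgroup of `G`;
* `Fr.pRankLE`: if `C_G(V) = rr V`, then `G` has 2-rank at most 2;
* `Fr.exists_index_two`: if `C_G(V) ≠ rr V`, then `G` has a normal subgroup of index 2;
* `One.main`: the conclusion.
-/

set_option autoImplicit false
set_option linter.dupNamespace false
set_option linter.unusedSectionVars false
set_option linter.style.haveILetI false

namespace Cfsg.Agent.MinSimple.BTwoEndC

open Subgroup Cfsg Cfsg.Agent.ZN Cfsg.Agent.MinSimple.Geo Cfsg.Agent.MinSimple.BTwoA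
  Cfsg.Agent.MinSimple.BTwoB Cfsg.Agent.MinSimple.BTwoEnd Cfsg.Agent.MinSimple.BTwoEndB
open Cfsg.Agent.ZN.Block (conj_mem_of_normalizer conj_mem_of_normalizer' le_normalizer_of_forall
  mem_normalizer_of)

universe u

variable {G : Type u} [Group G] [Finite G] {T V : Subgroup G} {z q t u : G}

/-- `T` is a Sylow 2-subgroup of `G` -/
theorem exists_sylow (h : Geo T V z) : ∃ P : Sylow 2 G, (P : Subgroup G) = T := by
  haveI : Fact (Nat.Prime 2) := ⟨Nat.prime_two⟩
  obtain ⟨P, hP⟩ := h.two.exists_le_sylow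
  refine ⟨P, ?_⟩
  set C := centralizer ({z} : Set G) with hC
  -- `P ∩ C_G(z) = T`
  have hPC : (P : Subgroup G) ⊓ C ≤ T := by
    have h1 : T ≤ (P : Subgroup G) ⊓ C := le_inf hP h.T_le
    have h2 := relIndex_mul_relIndex T ((P : Subgroup G) ⊓ C) C h1 inf_le_right
    have h3 : IsPGroup 2 ((P : Subgroup G) ⊓ C : Subgroup G) := P.isPGroup'.to_le inf_le_left
    obtain ⟨n, hn⟩ := h3.index (T.subgroupOf ((P : Subgroup G) ⊓ C))
    have h4 : T.relIndex ((P : Subgroup G) ⊓ C) = 2 ^ n := hn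
    have hn0 : n = 0 := by
      by_contra hn0
      apply h.T_syl
      rw [← hC, ← h2, h4]
      exact (dvd_pow_self 2 hn0).mul_right _
    rw [hn0, pow_zero, relIndex_eq_one] at h4
    exact h4
  by_contra hne
  have hlt : (T.subgroupOf (P : Subgroup G)) < ⊤ := by
    refine lt_of_le_of_ne le_top fun e => hne ?_
    rw [subgroupOf_eq_top] at e
    exact le_antisymm e hP
  haveI : Group.IsNilpotent (P : Subgroup G) := P.isPGroup'.isNilpotent
  obtain ⟨g, hg, hgT⟩ := SetLike.exists_of_lt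
    (Group.normalizerCondition_of_isNilpotent (G := (P : Subgroup G)) _ hlt)
  apply hgT
  rw [mem_subgroupOf]
  have hgn : ∀ s ∈ T, (g : G) * s * (g : G)⁻¹ ∈ T := by
    intro s hs
    have h1 := (mem_normalizer_iff.mp hg ⟨s, hP hs⟩).mp (mem_subgroupOf.mpr hs)
    exact mem_subgroupOf.mp h1
  have hgn' : ∀ s ∈ T, (g : G)⁻¹ * s * (g : G) ∈ T := by
    intro s hs
    have h1 := (mem_normalizer_iff.mp (inv_mem hg) ⟨s, hP hs⟩).mp (mem_subgroupOf.mpr hs)
    rw [inv_inv] at h1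
    exact mem_subgroupOf.mp h1
  have hzT : z ∈ T := h.V_le h.z_mem
  apply hPC
  refine ⟨g.2, ?_⟩
  have h1 : (g : G) * z * (g : G)⁻¹ * ((g : G) * z * (g : G)⁻¹) = 1 := by
    calc (g : G) * z * (g : G)⁻¹ * ((g : G) * z * (g : G)⁻¹) = g * (z * z) * (g : G)⁻¹ := by group
      _ = 1 := by rw [h.zz]; group
  rcases h.soc _ (hgn z hzT) h1 (fun s hs => by
    have h2 := h.T_le (hgn' s hs)
    have h3 : ((g : G)⁻¹ * s * g) * z = z * ((g : G)⁻¹ * s * g) := mem_centralizer_singleton_iff.mp h2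
    calc s * (g * z * (g : G)⁻¹) = g * (((g : G)⁻¹ * s * g) * z) * (g : G)⁻¹ := by group
      _ = g * (z * ((g : G)⁻¹ * s * g)) * (g : G)⁻¹ := by rw [h3]
      _ = g * z * (g : G)⁻¹ * s := by group) with e | e
  · exfalso
    apply h.z_ne
    have : z = (g : G)⁻¹ * (g * z * (g : G)⁻¹) * g := by group
    rw [this, e]; group
  · change (g : G) ∈ centralizer ({z} : Set G)
    rw [mem_centralizer_singleton_iff]
    calc (g : G) * z = (g * z * (g : G)⁻¹) * g := by group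
      _ = z * g := by rw [e]

/-- a 2-subgroup of `G` has a conjugate in `T` -/
theorem exists_cj_le (h : Geo T V z) {A : Subgroup G} (hA : IsPGroup 2 A) : ∃ g : G, cj g A ≤ T := by
  haveI : Fact (Nat.Prime 2) := ⟨Nat.prime_two⟩
  obtain ⟨P, hP⟩ := exists_sylow h
  obtain ⟨Q, hQ⟩ := hA.exists_le_sylow
  obtain ⟨g, hg⟩ := MulAction.exists_smul_eq G Q P
  refine ⟨g, ?_⟩
  rw [← hP, ← hg]
  rintro _ ⟨x, hx, rfl⟩
  change (MulAut.conj g) x ∈ ((g • Q : Sylow 2 G) : Subgroup G)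
  rw [Sylow.smul_def]
  exact Subgroup.smul_mem_pointwise_smul x (MulAut.conj g) _ (hQ hx)

namespace Fr

/-- the elements of `T` -/
theorem T_cases (h : Fr T V z q t u) {g : G} (hg : g ∈ T) :
    g ∈ centralizer (V : Set G) ∨ t * g ∈ centralizer (V : Set G) := by
  have cz : Commute g z := h.z_comm (h.T_le hg)
  rcases h.conj_cases h.z_mem h.q_mem h.z_ne (h.z_comm (h.T_le hg)) (h.T_norm hg) with e | e
  · left
    refine h.mem_cent cz ?_
    change g * q = q * g
    calc g * q = (g * q * g⁻¹) * g := by group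
      _ = q * g := by rw [e]
  · right
    refine h.mem_cent (h.zt.symm.mul_left cz) ?_
    have e1 : g * q = z * q * g := by
      calc g * q = (g * q * g⁻¹) * g := by group
        _ = z * q * g := by rw [e]
    change t * g * q = q * (t * g)
    calc t * g * q = t * (g * q) := by group
      _ = (t * z) * q * g := by rw [e1]; group
      _ = z * (t * q) * g := by rw [← h.zt.eq]; group
      _ = z * (z * (q * t)) * g := by rw [h.tq]
      _ = (z * z) * (q * (t * g)) := by group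
      _ = q * (t * g) := by rw [h.zz, one_mul]

/-- **the case `C_G(V) = rr V`** -/
theorem pRankLE (h : Fr T V z q t u) (hr : centralizer (V : Set G) ≤ rr V) : PRankLE 2 2 G := by
  -- subgroups of `T`
  have key : ∀ A : Subgroup G, A ≤ T → (∀ a ∈ A, ∀ b ∈ A, a * b = b * a) → (∀ a ∈ A, a * a = 1) →
      Nat.card A ≤ 4 := by
    intro A hAT hc hs
    have hcV : ∀ a ∈ A, a ∈ centralizer (V : Set G) → a ∈ V := fun a ha haV =>
      h.mem_V_of_sq (hr haV) (hs a ha)
    by_cases hAV : A ≤ centralizer (V : Set G)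
    · have h1 : A ≤ V := fun a ha => hcV a ha (hAV ha)
      rw [← h.card_V]
      exact Nat.card_le_card_of_injective (inclusion h1) (inclusion_injective h1)
    · obtain ⟨a, ha, haV⟩ := SetLike.not_le_iff_exists.mp hAV
      have hta : t * a ∈ centralizer (V : Set G) := (T_cases h (hAT ha)).resolve_left haV
      -- `a` moves `q`
      have haq : a * q = z * (q * a) := by
        have c1 := h.cq hta
        have c2 : t * (a * q) = t * (z * (q * a)) := by
          calc t * (a * q) = t * a * q := by group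
            _ = q * (t * a) := c1.eq
            _ = (q * t) * a := by group
            _ = z * (t * q) * a := by rw [h.qt]
            _ = (z * t) * (q * a) := by group
            _ = t * (z * (q * a)) := by rw [h.zt.eq]; group
        exact mul_left_cancel c2
      have hsub : ∀ b ∈ A, b ∈ centralizer (V : Set G) → b = 1 ∨ b = z := by
        intro b hb hbV
        have hab := hc a ha b hb
        rcases h.four' (hcV b hb hbV) with rfl | rfl | rfl | rfl
        · exact Or.inl rfl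
        · exact Or.inr rfl
        · exfalso
          rw [haq] at hab
          exact h.z_ne (by simpa using hab)
        · exfalso
          have h1 : a * (z * q) = z * (z * q * a) := by
            have : a * z = z * a := h.z_comm (h.T_le (hAT ha))
            calc a * (z * q) = (a * z) * q := by group
              _ = z * (a * q) := by rw [this]; group
              _ = z * (z * q * a) := by rw [haq]; group
          rw [h1] at hab
          exact h.z_ne (by simpa using hab)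
      have hset : (A : Set G) ⊆ {1, z, a⁻¹ * 1, a⁻¹ * z} := by
        intro b hb
        rcases T_cases h (hAT hb) with hbV | hbV
        · rcases hsub b hb hbV with e | e
          · exact Or.inl e
          · exact Or.inr (Or.inl e)
        · have h1 : a * b ∈ centralizer (V : Set G) := by
            have h2 := (centralizer (V : Set G)).mul_mem ((centralizer (V : Set G)).inv_mem hta) hbV
            have h3 : (t * a)⁻¹ * (t * b) = a * b := by
              rw [show (t * a)⁻¹ * (t * b) = a⁻¹ * b by group, inv_eq_self (hs a ha)]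
            rwa [h3] at h2
          rcases hsub _ (mul_mem ha hb) h1 with e | e
          · right; right; left
            rw [← e]; group
          · right; right; right
            change b = a⁻¹ * z
            rw [← e]; group
      have h1 := Set.ncard_le_ncard hset (Set.toFinite _)
      have h2 : ({1, z, a⁻¹ * 1, a⁻¹ * z} : Set G).ncard ≤ 4 := by
        refine (Set.ncard_insert_le _ _).trans ?_
        refine Nat.succ_le_succ ((Set.ncard_insert_le _ _).trans ?_)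
        refine Nat.succ_le_succ ((Set.ncard_insert_le _ _).trans ?_)
        rw [Set.ncard_singleton]
      exact h1.trans h2
  intro A hc hs
  have hs' : ∀ a ∈ A, a * a = 1 := fun a ha => by rw [← pow_two]; exact hs a ha
  have hA2 : IsPGroup 2 A := by
    intro a
    exact ⟨1, Subtype.ext (by simpa using hs a a.2)⟩
  obtain ⟨g, hg⟩ := exists_cj_le h.toGeo hA2
  rw [← card_cj g A]
  refine key _ hg ?_ ?_
  · rintro _ ⟨a, ha, rfl⟩ _ ⟨b, hb, rfl⟩
    rw [← map_mul, ← map_mul]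
    congr 1
    have := hc.is_comm.comm ⟨a, ha⟩ ⟨b, hb⟩
    exact congrArg Subtype.val this
  · rintro _ ⟨a, ha, rfl⟩
    rw [← map_mul, hs' a ha, map_one]

end Fr

/-! ### the case `C_G(V) ≠ rr V` -/

/-- an additional element `e` of `C_G(V)` -/
structure Ex (T V : Subgroup G) (z q t u e : G) : Prop extends Fr T V z q t u where
  e_cent : e ∈ centralizer (V : Set G)
  e_t : e * t * e⁻¹ = t ∨ e * t * e⁻¹ = z * t
  e_u : e * u * e⁻¹ = z * u
  cover : ∀ g ∈ centralizer (V : Set G), g ∈ rr V ∨ e * g ∈ rr V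
  cover' : ∀ g ∈ centralizer (V : Set G), (g * t * g⁻¹ = t ∨ g * t * g⁻¹ = z * t) →
    g ∈ us V z ∨ e * g ∈ us V z

namespace Ex

variable {e : G}

theorem e_notMem (h : Ex T V z q t u e) : e ∉ rr V := by
  intro he
  have h1 := h.e_u
  rw [(h.rr_comm he h.u_rr).eq, mul_inv_cancel_right] at h1
  exact h.z_ne (by simpa using h1.symm)

/-- the element at the other point -/
theorem other' (h : Ex T V z q t u e) : ∃ (T' : Subgroup G) (t' u' e' : G), Ex T' V q z t' u' e' := by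
  obtain ⟨T', t', u', h'⟩ := h.other
  rcases h'.dichotomy with h1 | ⟨e', a1, a2, a3, a4, a5⟩
  · exact absurd (h1 h.e_cent) h.e_notMem
  · exact ⟨T', t', u', e', ⟨h', a1, a2, a3, a4, a5⟩⟩

/-- `e²` is `1` or `z` -/
theorem e_sq (h : Ex T V z q t u e) : e * e = 1 ∨ e * e = z := by
  have c1 := h.cz h.e_cent
  have h1 : Commute (e * e) u := by
    change e * e * u = u * (e * e)
    calc e * e * u = e * (e * u * e⁻¹) * e := by group
      _ = (e * z) * u * e := by rw [h.e_u]; group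
      _ = z * (e * u * e⁻¹) * e * e := by rw [c1.eq]; group
      _ = (z * z) * (u * (e * e)) := by rw [h.e_u]; group
      _ = u * (e * e) := by rw [h.zz, one_mul]
  have h2 : Commute (e * e) t := by
    change e * e * t = t * (e * e)
    rcases h.e_t with f | f
    · calc e * e * t = e * (e * t * e⁻¹) * e := by group
        _ = e * t * e := by rw [f]
        _ = (e * t * e⁻¹) * (e * e) := by group
        _ = t * (e * e) := by rw [f]
    · calc e * e * t = e * (e * t * e⁻¹) * e := by group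
        _ = (e * z) * t * e := by rw [f]; group
        _ = z * (e * t * e⁻¹) * e * e := by rw [c1.eq]; group
        _ = (z * z) * (t * (e * e)) := by rw [f]; group
        _ = t * (e * e) := by rw [h.zz, one_mul]
  have h3 := h.comm_ws ((centralizer (V : Set G)).mul_mem h.e_cent h.e_cent) h1 h2
  have hne : ¬ Commute e u := by
    intro hc
    have h4 := h.e_u
    rw [hc.eq, mul_inv_cancel_right] at h4
    exact h.z_ne (by simpa using h4.symm)
  rcases h.cent h3 with f | f | f | f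
  · exact Or.inl f
  · exact Or.inr f
  · exfalso
    apply hne
    rw [← f]
    exact (Commute.refl e).mul_right (Commute.refl e)
  · exfalso
    apply hne
    have h4 : u = z * (e * e) := by rw [f, ← mul_assoc, h.zz, one_mul]
    rw [h4]
    exact c1.mul_right ((Commute.refl e).mul_right (Commute.refl e))

/-- `e` inverts the element `u'` of the other frame -/
theorem conj_u' (h : Ex T V z q t u e) {T' : Subgroup G} {t' u' : G} (h' : Fr T' V q z t' u') :
    e * u' * e⁻¹ = q * u' := by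
  refine (h'.conj_u h.e_cent).resolve_left fun f => ?_
  have htn : t ∈ normalizer (V : Set G) := h.ws_le_normalizer h.t_mem
  have m1 : t * q * t⁻¹ = z * q := h.w_move h.t_mem h.tV h.q_mem h.q_ne h.q_nz
  -- the element `t u' t⁻¹` of the third point
  have hr : t * u' * t⁻¹ ∈ rr V :=
    conj_mem_of_normalizer (BTwoD.normalizer_le_normalizer_rr V) htn h'.u_rr
  have hrr : t * u' * t⁻¹ * (t * u' * t⁻¹) = z * q := by
    calc t * u' * t⁻¹ * (t * u' * t⁻¹) = t * (u' * u') * t⁻¹ := by group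
      _ = z * q := by rw [h'.uu, m1]
  obtain ⟨v, hv, k⟩ := h.rr_cases h' hr
  have hform : t * u' * t⁻¹ = u * u' * v := by
    rcases k with k | k | k | k
    · exfalso
      rw [k, h.sq v hv] at hrr
      exact h.zq_ne hrr.symm
    · exfalso
      rw [k, h.sq_uv hv] at hrr
      exact h.q_ne (by simpa using hrr.symm)
    · exfalso
      rw [k, h'.sq_uv hv] at hrr
      exact h.z_ne (by simpa using hrr.symm)
    · exact k
  -- conjugation by `e`
  have hte : t⁻¹ * e * t ∈ centralizer (V : Set G) := by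
    have := conj_mem_centralizer (inv_mem htn) h.e_cent
    rwa [inv_inv] at this
  have h1 : e * (t * u' * t⁻¹) * e⁻¹ = t * ((t⁻¹ * e * t) * u' * (t⁻¹ * e * t)⁻¹) * t⁻¹ := by group
  have h2 : e * (t * u' * t⁻¹) * e⁻¹ = t * u' * t⁻¹ ∨
      e * (t * u' * t⁻¹) * e⁻¹ = z * q * (t * u' * t⁻¹) := by
    rw [h1]
    rcases h'.conj_u hte with g | g
    · left; rw [g]
    · right; rw [g, ← m1]; group
  have h3 : e * (t * u' * t⁻¹) * e⁻¹ = z * (t * u' * t⁻¹) := by
    rw [hform]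
    have : e * (u * u' * v) * e⁻¹ = (e * u * e⁻¹) * (e * u' * e⁻¹) * (e * v * e⁻¹) := by group
    rw [this, h.e_u, f, comm_V h.e_cent hv]
    group
  rcases h2 with g | g
  · rw [g] at h3
    exact h.z_ne (by simpa using h3.symm)
  · rw [h3] at g
    have := mul_right_cancel g
    exact h.q_ne (by simpa using this.symm)

/-- `e` inverts `rr V` -/
theorem conj_rr (h : Ex T V z q t u e) {w : G} (hw : w ∈ rr V) : e * w * e⁻¹ = w⁻¹ := by
  obtain ⟨T', t', u', h'⟩ := h.other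
  have hc := h.conj_u' h'
  have hcV : ∀ v ∈ V, e * v * e⁻¹ = v := fun v hv => by
    rw [comm_V h.e_cent hv, mul_inv_cancel_right]
  have hcomm : ∀ x ∈ rr V, ∀ y ∈ rr V, e * x * e⁻¹ = x⁻¹ → e * y * e⁻¹ = y⁻¹ →
      e * (x * y) * e⁻¹ = (x * y)⁻¹ := by
    intro x hx y hy h1 h2
    have : e * (x * y) * e⁻¹ = (e * x * e⁻¹) * (e * y * e⁻¹) := by group
    rw [this, h1, h2, mul_inv_rev]
    have c : Commute x y := h.rr_comm hx hy
    exact c.inv_inv.eq
  have hVr : ∀ v ∈ V, v ∈ rr V := fun v hv => h.us_le_rr' (h.V_le_us hv)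
  have hV : ∀ v ∈ V, e * v * e⁻¹ = v⁻¹ := fun v hv => by rw [hcV v hv, h.inv_eq hv]
  have hu : e * u * e⁻¹ = u⁻¹ := by rw [h.e_u, h.u_inv]
  have hu' : e * u' * e⁻¹ = u'⁻¹ := by rw [hc, h'.u_inv]
  obtain ⟨v, hv, rfl | rfl | rfl | rfl⟩ := h.rr_cases h' hw
  · exact hV _ hv
  · exact hcomm _ h.u_rr _ (hVr v hv) hu (hV v hv)
  · exact hcomm _ h'.u_rr _ (hVr v hv) hu' (hV v hv)
  · exact hcomm _ (mul_mem h.u_rr h'.u_rr) _ (hVr v hv) (hcomm _ h.u_rr _ h'.u_rr hu hu') (hV v hv)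

/-- all elements of `C_G(V)` outside `rr V` have the same square -/
theorem sq_eq (h : Ex T V z q t u e) {g : G} (hg : g ∈ centralizer (V : Set G)) (hgr : g ∉ rr V) :
    g * g = e * e := by
  have h1 := (h.cover g hg).resolve_left hgr
  set w := e * g with hw
  have h2 : e * w * e⁻¹ = w⁻¹ := h.conj_rr h1
  have h3 : e⁻¹ * w * e = w⁻¹ := by
    calc e⁻¹ * w * e = (e⁻¹ * w⁻¹ * e)⁻¹ := by group
      _ = (e⁻¹ * (e * w * e⁻¹) * e)⁻¹ := by rw [h2]
      _ = w⁻¹ := by group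
  have hg' : g = e⁻¹ * w := by rw [hw]; group
  have h4 : g * g = w⁻¹ * (e * e)⁻¹ * w := by
    rw [hg', ← h3]; group
  rw [h4]
  rcases h.e_sq with f | f
  · rw [f]; group
  · rw [f, inv_eq_self h.zz]
    have c : Commute w z := h.cz (rr_le_centralizer V h1)
    rw [mul_assoc, ← c.eq]; group

/-- all elements of `C_G(V)` outside `rr V` are involutions -/
theorem sq_one (h : Ex T V z q t u e) {g : G} (hg : g ∈ centralizer (V : Set G)) (hgr : g ∉ rr V) :
    g * g = 1 := by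
  obtain ⟨T', t', u', e', h'⟩ := h.other'
  have h1 := h.sq_eq h'.e_cent h'.e_notMem
  rw [h.sq_eq hg hgr]
  rcases h.e_sq with f | f
  · exact f
  · rcases h'.e_sq with f' | f'
    · rw [← h1]; exact f'
    · exfalso
      apply h.q_nz
      rw [← f', h1, f]

/-- `C_G(V)` is a 2-group -/
theorem isPGroup_centralizer (h : Ex T V z q t u e) : IsPGroup 2 (centralizer (V : Set G)) := by
  obtain ⟨T', t', u', h'⟩ := h.other
  intro g
  refine ⟨2, ?_⟩
  have key : ∀ g ∈ centralizer (V : Set G), g ^ 4 = 1 := by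
    intro g hg
    have e4 : g ^ 4 = (g * g) * (g * g) := by rw [show (4 : ℕ) = 2 * 2 from rfl, pow_mul, pow_two, pow_two]
    rw [e4]
    by_cases hgr : g ∈ rr V
    · obtain ⟨v, hv, rfl | rfl | rfl | rfl⟩ := h.rr_cases h' hgr
      · rw [h.sq _ hv, mul_one]
      · rw [h.sq_uv hv, h.zz]
      · rw [h'.sq_uv hv, h.qq]
      · rw [h.sq_uuv h' hv]; exact h.sq _ (mul_mem h.z_mem h.q_mem)
    · rw [h.sq_one hg hgr, mul_one]
  ext
  simpa using key g g.2

theorem centralizer_le_T (h : Ex T V z q t u e) : centralizer (V : Set G) ≤ T := by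
  have h1 : centralizer (V : Set G) ≤ o2 (normalizer (V : Set G)) := by
    refine Block.le_o2 h.isPGroup_centralizer (centralizer_le_normalizer _) ?_
    exact le_normalizer_of_forall fun g hg c hc => conj_mem_centralizer hg hc
  exact h1.trans (o2_le_of_sylow h.T_norm h.two h.T_syl')

/-- the subgroup `rr V ∪ t rr V` of index 2 of `T` -/
def sub (h : Ex T V z q t u e) : Subgroup G where
  carrier := {x | x ∈ rr V ∨ t * x ∈ rr V}
  mul_mem' := by
    have htn : t ∈ normalizer (V : Set G) := h.ws_le_normalizer h.t_mem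
    have hrn := BTwoD.normalizer_le_normalizer_rr V htn
    rintro a b (ha | ha) (hb | hb)
    · exact Or.inl (mul_mem ha hb)
    · right
      have : t * (a * b) = (t * a * t⁻¹) * (t * b) := by group
      rw [this]
      exact mul_mem ((mem_normalizer_iff.mp hrn a).mp ha) hb
    · right
      rw [← mul_assoc]; exact mul_mem ha hb
    · left
      have h1 : a * b = (t⁻¹ * (t * a) * t) * (t⁻¹ * t⁻¹ * (t * b)) := by group
      have h2 : t⁻¹ * t⁻¹ = 1 := by rw [← mul_inv_rev, h.tt, inv_one]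
      rw [h1, h2, one_mul]
      refine mul_mem ?_ hb
      have := (mem_normalizer_iff.mp (inv_mem hrn) _).mp ha
      rwa [inv_inv] at this
  one_mem' := Or.inl (one_mem _)
  inv_mem' := by
    have htn : t ∈ normalizer (V : Set G) := h.ws_le_normalizer h.t_mem
    have hrn := BTwoD.normalizer_le_normalizer_rr V htn
    rintro a (ha | ha)
    · exact Or.inl (inv_mem ha)
    · right
      have h1 : t * a⁻¹ = t * (t * a)⁻¹ * t⁻¹ * (t * t) := by group
      rw [h1, h.tt, mul_one]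
      exact (mem_normalizer_iff.mp hrn _).mp (inv_mem ha)

theorem sub_le_T (h : Ex T V z q t u e) : h.sub ≤ T := by
  have hr : rr V ≤ T := (rr_le_centralizer V).trans h.centralizer_le_T
  rintro x (hx | hx)
  · exact hr hx
  · have : x = t⁻¹ * (t * x) := by group
    rw [this]
    exact mul_mem (inv_mem (h.ws_le_T h.t_mem)) (hr hx)

theorem notMem_sub (h : Ex T V z q t u e) {g : G} (hg : g ∈ centralizer (V : Set G)) (hgr : g ∉ rr V) :
    g ∉ h.sub := by
  rintro (hx | hx)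
  · exact hgr hx
  · apply h.tV
    have := (centralizer (V : Set G)).mul_mem (rr_le_centralizer V hx)
      ((centralizer (V : Set G)).inv_mem hg)
    rwa [mul_inv_cancel_right] at this

theorem relIndex_sub (h : Ex T V z q t u e) : h.sub.relIndex T = 2 := by
  rw [relIndex_eq_two_iff_exists_notMem_and']
  refine ⟨e, h.centralizer_le_T h.e_cent, h.notMem_sub h.e_cent h.e_notMem, fun b hb => ?_⟩
  rcases BTwoEndC.Fr.T_cases h.toFr hb with h1 | h1
  · rcases h.cover b h1 with h2 | h2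
    · exact Or.inr (Or.inl h2)
    · exact Or.inl (Or.inl h2)
  · rcases h.cover _ h1 with h2 | h2
    · exact Or.inr (Or.inr h2)
    · left; right
      have hzr : z ∈ rr V := h.us_le_rr' (h.V_le_us h.z_mem)
      rcases h.e_t with f | f
      · have : t * (e * b) = e * (t * b) := by
          calc t * (e * b) = (e * t * e⁻¹) * (e * b) := by rw [f]
            _ = e * (t * b) := by group
        rw [this]; exact h2
      · have h3 : t = z * (e * t * e⁻¹) := by rw [f, ← mul_assoc, h.zz, one_mul]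
        have : t * (e * b) = z * (e * (t * b)) := by
          calc t * (e * b) = (z * (e * t * e⁻¹)) * (e * b) := by rw [← h3]
            _ = z * (e * (t * b)) := by group
        rw [this]; exact mul_mem hzr h2

/-- the involutions of `sub` are conjugate to `z` -/
theorem exists_conj_of_mem_sub (h : Ex T V z q t u e) {x : G} (hx : x ∈ h.sub) (hx2 : x * x = 1)
    (hx1 : x ≠ 1) : ∃ g : G, g * z * g⁻¹ = x := by
  rcases hx with hx | hx
  · obtain ⟨g, -, hg⟩ := h.trans x (h.mem_V_of_sq hx hx2) hx1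
    exact ⟨g, hg⟩
  · obtain ⟨T', t', u', h'⟩ := h.other
    have htn : t ∈ normalizer (V : Set G) := h.ws_le_normalizer h.t_mem
    have m1 : t * q * t⁻¹ = z * q := h.w_move h.t_mem h.tV h.q_mem h.q_ne h.q_nz
    obtain ⟨g0, hg0⟩ := h.tz
    have hq1 : q * t * q⁻¹ = z * t := by rw [h.qt]; group
    -- it is enough to find `x` in a list
    have hlist : x = t ∨ x = z * t ∨ x = u' * t * u'⁻¹ ∨ x = z * (u' * t * u'⁻¹) →
        ∃ g : G, g * z * g⁻¹ = x := by
      rintro (rfl | rfl | rfl | rfl)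
      · exact ⟨g0, hg0⟩
      · refine ⟨q * g0, ?_⟩
        rw [← hq1, ← hg0]; group
      · refine ⟨u' * g0, ?_⟩
        rw [← hg0]; group
      · refine ⟨q * u' * g0, ?_⟩
        have c1 : Commute q u' := h'.uz.symm
        have c2 : Commute z u' := (h'.uq).symm
        calc q * u' * g0 * z * (q * u' * g0)⁻¹ = (q * u') * (g0 * z * g0⁻¹) * (q * u')⁻¹ := by group
          _ = (u' * q) * t * (u' * q)⁻¹ := by rw [hg0, c1.eq]
          _ = u' * (q * t * q⁻¹) * u'⁻¹ := by group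
          _ = (u' * z) * t * u'⁻¹ := by rw [hq1]; group
          _ = z * (u' * t * u'⁻¹) := by rw [← c2.eq]; group
    apply hlist
    have hxw : x = t * (t * x) := by rw [← mul_assoc, h.tt, one_mul]
    set w := t * x with hw
    have h3 : t * w * t⁻¹ = w⁻¹ := by
      rw [hxw] at hx2
      have : t * w * t⁻¹ = (t * w * (t * w)) * w⁻¹ * (t * t)⁻¹ := by group
      rw [this, hx2, h.tt]; group
    -- `t u' t⁻¹`
    have hr : t * u' * t⁻¹ ∈ rr V :=
      conj_mem_of_normalizer (BTwoD.normalizer_le_normalizer_rr V) htn h'.u_rr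
    have hrr : t * u' * t⁻¹ * (t * u' * t⁻¹) = z * q := by
      calc t * u' * t⁻¹ * (t * u' * t⁻¹) = t * (u' * u') * t⁻¹ := by group
        _ = z * q := by rw [h'.uu, m1]
    have hzV : z ∈ V := h.z_mem
    have cV : ∀ v ∈ V, ∀ v' ∈ V, v * v' = v' * v := fun v hv v' hv' => h.comm hv hv'
    have htw : t * w * t⁻¹ * w = 1 := by rw [h3, inv_mul_cancel]
    obtain ⟨v, hv, k⟩ := h.rr_cases h' hx
    have hvt : t * v * t⁻¹ ∈ V := (mem_normalizer_iff.mp htn v).mp hv
    rcases k with k | k | k | k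
    · -- `w = v`
      have h4 : v * t = t * v := by
        rw [← k]
        have h5 : w⁻¹ = w := by rw [k]; exact h.inv_eq hv
        calc w * t = w⁻¹ * t := by rw [h5]
          _ = t * w := by rw [← h3]; group
      rcases h.V_comm_t hv h4 with f | f
      · left; rw [hxw, k, f, mul_one]
      · right; left; rw [hxw, k, f, h.zt.eq]
    · -- `w = u v`
      have h4 : t * w * t⁻¹ = u * (t * v * t⁻¹) := by
        rw [k]
        calc t * (u * v) * t⁻¹ = (t * u) * v * t⁻¹ := by group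
          _ = u * (t * v * t⁻¹) := by rw [← h.ut.eq]; group
      rw [h4, k] at htw
      have h5 : (t * v * t⁻¹) * v = z := by
        have h6 : u * (t * v * t⁻¹) * (u * v) = (u * u) * ((t * v * t⁻¹) * v) := by
          have := comm_V h.u_cent hvt
          calc u * (t * v * t⁻¹) * (u * v) = u * ((t * v * t⁻¹) * u) * v := by group
            _ = (u * u) * ((t * v * t⁻¹) * v) := by rw [← this]; group
        rw [h6, h.uu] at htw
        have := eq_inv_of_mul_eq_one_right htw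
        rw [this, h.inv_eq hzV]
      have hvq : v = q ∨ v = z * q := by
        rcases h.four' hv with f | f | f | f
        · exfalso; rw [f] at h5
          apply h.z_ne; rw [← h5]; group
        · exfalso
          rw [f, ← h.zt.eq, mul_inv_cancel_right, h.zz] at h5
          exact h.z_ne h5.symm
        · exact Or.inl f
        · exact Or.inr f
      have hxx : x = t * (u * q) ∨ x = z * (t * (u * q)) := by
        rcases hvq with f | f
        · left; rw [hxw, k, f]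
        · right
          rw [hxw, k, f]
          calc t * (u * (z * q)) = t * (u * z) * q := by group
            _ = (t * z) * (u * q) := by rw [h.uz.eq]; group
            _ = z * (t * (u * q)) := by rw [← h.zt.eq]; group
      -- compare with `u' t u'⁻¹`
      have hnt := h.not_type h'
      rcases h.conj_t h'.u_cent with f | f | f | f
      · exact absurd (Or.inl f) hnt
      · exact absurd (Or.inr f) hnt
      · rcases hxx with g | g
        · right; right; left; rw [f, g]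
        · right; right; right; rw [f, g]
      · rcases hxx with g | g
        · right; right; right; rw [f, g, ← mul_assoc z z, h.zz, one_mul]
        · right; right; left; rw [f, g]
    · -- `w = u' v`
      exfalso
      obtain ⟨v0, hv0, k0⟩ := h.rr_cases h' hr
      have h4 : t * w * t⁻¹ = (t * u' * t⁻¹) * (t * v * t⁻¹) := by rw [k]; group
      rw [h4, k] at htw
      have h5 : (t * u' * t⁻¹) = (u' * v)⁻¹ * (t * v * t⁻¹)⁻¹ := by
        have := eq_inv_of_mul_eq_one_left htw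
        rw [← this]; group
      have h6 : (t * u' * t⁻¹) * (t * u' * t⁻¹) = q := by
        rw [h5]
        have c1 : Commute (u' * v)⁻¹ (t * v * t⁻¹)⁻¹ := by
          have : Commute (u' * v) (t * v * t⁻¹) :=
            Commute.mul_left (comm_V h'.u_cent hvt) (cV _ hv _ hvt)
          exact this.inv_inv
        have : (u' * v)⁻¹ * (t * v * t⁻¹)⁻¹ * ((u' * v)⁻¹ * (t * v * t⁻¹)⁻¹) =
            ((u' * v) * (u' * v))⁻¹ * ((t * v * t⁻¹) * (t * v * t⁻¹))⁻¹ := by
          calc (u' * v)⁻¹ * (t * v * t⁻¹)⁻¹ * ((u' * v)⁻¹ * (t * v * t⁻¹)⁻¹) =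
              (u' * v)⁻¹ * ((t * v * t⁻¹)⁻¹ * (u' * v)⁻¹) * (t * v * t⁻¹)⁻¹ := by group
            _ = (u' * v)⁻¹ * ((u' * v)⁻¹ * (t * v * t⁻¹)⁻¹) * (t * v * t⁻¹)⁻¹ := by rw [c1.eq]
            _ = _ := by group
        rw [this, h'.sq_uv hv, h.sq _ hvt, inv_one, mul_one, h.inv_eq h.q_mem]
      rw [hrr] at h6
      exact h.z_ne (by simpa using h6)
    · -- `w = u u' v`
      exfalso
      have h4 : t * w * t⁻¹ = u * (t * u' * t⁻¹) * (t * v * t⁻¹) := by
        rw [k]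
        calc t * (u * u' * v) * t⁻¹ = (t * u) * u' * v * t⁻¹ := by group
          _ = u * (t * u' * t⁻¹) * (t * v * t⁻¹) := by rw [← h.ut.eq]; group
      have hVr : ∀ v ∈ V, v ∈ rr V := fun v hv => h.us_le_rr' (h.V_le_us hv)
      -- squares: `(t w t⁻¹)² = t w² t⁻¹ = t (z q) t⁻¹ = q`, `w⁻² = z q`
      have h5 : t * w * t⁻¹ * (t * w * t⁻¹) = q := by
        have : t * w * t⁻¹ * (t * w * t⁻¹) = t * (w * w) * t⁻¹ := by group
        rw [this, k, h.sq_uuv h' hv]
        calc t * (z * q) * t⁻¹ = (t * z) * q * t⁻¹ := by group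
          _ = z * (t * q * t⁻¹) := by rw [← h.zt.eq]; group
          _ = q := by rw [m1, ← mul_assoc, h.zz, one_mul]
      rw [h3] at h5
      have h6 : w⁻¹ * w⁻¹ = (w * w)⁻¹ := by group
      rw [h6, k, h.sq_uuv h' hv, h.inv_eq (mul_mem h.z_mem h.q_mem)] at h5
      exact h.z_ne (by simpa using h5)

theorem ws_le_kq (h : Fr T V z q t u) : ws V z ≤ kq V z := by
  intro w hw
  have key : ∀ w ∈ ws V z, ∀ w' ∈ ws V z, w * w' * w⁻¹ * w'⁻¹ ∈ zpowers z := fun w hw w' hw' =>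
    h.comm_mem hw (h.ws_le_o2 hw')
  rw [BTwoB.mem_kq]
  refine ⟨h.ws_le_centralizer hw, key w hw, fun w' hw' => ?_⟩
  have := key w⁻¹ (inv_mem hw) w' hw'
  rwa [inv_inv] at this

theorem T_kq (h : Fr T V z q t u) {T' : Subgroup G} {t' u' : G} (h' : Fr T' V q z t' u') {g : G}
    (hg : g ∈ T) : g ∈ kq V z ∨ g * u' ∈ kq V z := by
  have ht := ws_le_kq h h.t_mem
  have key : ∀ g ∈ centralizer (V : Set G), g ∈ kq V z ∨ g * u' ∈ kq V z := by
    intro g hg
    rcases h.type_cases h' hg with h1 | h1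
    · exact Or.inl (h.mem_kq hg h1)
    · exact Or.inr (h.mem_kq ((centralizer (V : Set G)).mul_mem hg h'.u_cent) h1)
  rcases Fr.T_cases h hg with h1 | h1
  · exact key g h1
  · have e1 : g = t⁻¹ * (t * g) := by group
    have e2 : g * u' = t⁻¹ * (t * g * u') := by group
    rcases key _ h1 with h2 | h2
    · left; rw [e1]; exact mul_mem (inv_mem ht) h2
    · right; rw [e2]; exact mul_mem (inv_mem ht) h2

theorem kq_cases (h : Ex T V z q t u e) {g : G} (hg : g ∈ kq V z) : g ∈ ws V z ∨ e * g ∈ ws V z := by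
  have ht := ws_le_kq h.toFr h.t_mem
  have hus : us V z ≤ ws V z := us_le_ws V z
  have key : ∀ g ∈ kq V z, g ∈ centralizer (V : Set G) → g ∈ us V z ∨ e * g ∈ us V z := fun g hg hgV =>
    h.cover' g hgV (h.type_of_mem_kq hg)
  -- `g` centralizes `V` or `t * g` does
  have hgq := (BTwoB.mem_kq.mp hg).2.1 q (h.V_le_ws h.q_mem)
  have hgz : Commute g z := h.z_comm (BTwoB.mem_kq.mp hg).1
  rcases (mem_zpowers_iff_of_mul_self h.zz).mp hgq with f | f
  · have hgV : g ∈ centralizer (V : Set G) := by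
      refine h.mem_cent hgz ?_
      change g * q = q * g
      calc g * q = (g * q * g⁻¹ * q⁻¹) * (q * g) := by group
        _ = q * g := by rw [f, one_mul]
    rcases key g hg hgV with k | k
    · exact Or.inl (hus k)
    · exact Or.inr (hus k)
  · have hgV : t * g ∈ centralizer (V : Set G) := by
      refine h.mem_cent (h.zt.symm.mul_left hgz) ?_
      change t * g * q = q * (t * g)
      calc t * g * q = t * ((g * q * g⁻¹ * q⁻¹) * (q * g)) := by group
        _ = (t * z) * q * g := by rw [f]; group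
        _ = z * (t * q) * g := by rw [← h.zt.eq]; group
        _ = (z * z) * (q * (t * g)) := by rw [h.tq]; group
        _ = q * (t * g) := by rw [h.zz, one_mul]
    rcases key _ (mul_mem ht hg) hgV with k | k
    · left
      have e1 : g = t⁻¹ * (t * g) := by group
      rw [e1]; exact mul_mem (inv_mem h.t_mem) (hus k)
    · right
      have hzw : z ∈ ws V z := h.V_le_ws h.z_mem
      have e1 : e * g = (e * t⁻¹ * e⁻¹) * (e * (t * g)) := by group
      have e2 : e * t⁻¹ * e⁻¹ ∈ ws V z := by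
        have e3 : e * t⁻¹ * e⁻¹ = (e * t * e⁻¹)⁻¹ := by group
        rw [e3]
        rcases h.e_t with f | f
        · rw [f]; exact inv_mem h.t_mem
        · rw [f]; exact inv_mem (mul_mem hzw h.t_mem)
      rw [e1]; exact mul_mem e2 (hus k)

/-- a conjugate in a Sylow 2-subgroup -/
theorem exists_cj_le_of_sylow {C T A : Subgroup G} (_ : T ≤ C) (hT : IsPGroup 2 T)
    (hs : ¬ 2 ∣ T.relIndex C) (hAC : A ≤ C) (hA : IsPGroup 2 A) : ∃ c ∈ C, cj c A ≤ T := by
  haveI : Fact (Nat.Prime 2) := ⟨Nat.prime_two⟩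
  have hT' : IsPGroup 2 (T.subgroupOf C) := hT.comap_of_injective _ C.subtype_injective
  have hA' : IsPGroup 2 (A.subgroupOf C) := hA.comap_of_injective _ C.subtype_injective
  obtain ⟨Q, hQ⟩ := hA'.exists_le_sylow
  obtain ⟨g, hg⟩ := MulAction.exists_smul_eq C Q (hT'.toSylow hs)
  refine ⟨g, g.2, ?_⟩
  rintro _ ⟨x, hx, rfl⟩
  have h1 : (⟨x, hAC hx⟩ : C) ∈ (Q : Subgroup C) := hQ (mem_subgroupOf.mpr hx)
  have h2 : (MulAut.conj g) ⟨x, hAC hx⟩ ∈ ((g • Q : Sylow 2 C) : Subgroup C) := by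
    rw [Sylow.smul_def]
    exact Subgroup.smul_mem_pointwise_smul _ (MulAut.conj g) _ h1
  rw [hg] at h2
  exact mem_subgroupOf.mp h2

/-- the group `C_G(z)` has no four-subgroup on which an element of `C_G(z)` acts fixed-point-freely -/
theorem no_four (h : Ex T V z q t u e) {F : Subgroup G} {y : G} (hF : F ≤ centralizer ({z} : Set G))
    (hF4 : Nat.card F = 4) (hF2 : ∀ f ∈ F, f * f = 1) (hy : y ∈ centralizer ({z} : Set G))
    (hyF : ∀ f ∈ F, y * f * y⁻¹ ∈ F) (hfix : ∀ f ∈ F, f ≠ 1 → y * f * y⁻¹ ≠ f) : False := by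
  -- reduce to `F ≤ T`
  have key : ∀ (F : Subgroup G) (y : G), F ≤ T → Nat.card F = 4 → (∀ f ∈ F, f * f = 1) →
      y ∈ centralizer ({z} : Set G) → (∀ f ∈ F, y * f * y⁻¹ ∈ F) →
      (∀ f ∈ F, f ≠ 1 → y * f * y⁻¹ ≠ f) → False := by
    clear hF hF4 hF2 hy hyF hfix y F
    intro F y hF hF4 hF2 hy hyF hfix
    have hcomm : ∀ f ∈ F, ∀ f' ∈ F, f * f' = f' * f := by
      intro f hf f' hf'
      have h1 := hF2 _ (mul_mem hf hf')
      calc f * f' = (f * f')⁻¹ := (inv_eq_self h1).symm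
        _ = f'⁻¹ * f⁻¹ := by group
        _ = f' * f := by rw [inv_eq_self (hF2 f hf), inv_eq_self (hF2 f' hf')]
    have hy1 : ∀ f : G, f ≠ 1 → y * f * y⁻¹ ≠ 1 := by
      intro f hf e1
      apply hf
      have : f = y⁻¹ * (y * f * y⁻¹) * y := by group
      rw [this, e1]; group
    have hne : ∃ f ∈ F, f ≠ 1 := by
      by_contra hcon
      push Not at hcon
      have : F = ⊥ := by
        rw [eq_bot_iff]; intro f hf; exact mem_bot.mpr (hcon f hf)
      rw [this, card_bot] at hF4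
      omega
    -- a subgroup covering `F` up to index 2 contains a nontrivial element of `F`
    have hex : ∀ K : Subgroup G, (∀ f ∈ F, ∀ f' ∈ F, f ∉ K → f' ∉ K → f * f' ∈ K) →
        ∃ f ∈ F, f ≠ 1 ∧ f ∈ K := by
      intro K hK
      obtain ⟨f, hf, hf1⟩ := hne
      by_cases h1 : f ∈ K
      · exact ⟨f, hf, hf1, h1⟩
      by_cases h2 : y * f * y⁻¹ ∈ K
      · exact ⟨_, hyF f hf, hy1 f hf1, h2⟩
      · refine ⟨f * (y * f * y⁻¹), mul_mem hf (hyF f hf), ?_, hK f hf _ (hyF f hf) h1 h2⟩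
        intro e1
        apply hfix f hf hf1
        have := eq_inv_of_mul_eq_one_right e1
        rw [this, inv_eq_self (hF2 f hf)]
    have hle : ∀ K : Subgroup G, (∀ k ∈ K, y * k * y⁻¹ ∈ K) →
        (∀ f ∈ F, ∀ f' ∈ F, f ∉ K → f' ∉ K → f * f' ∈ K) → F ≤ K := by
      intro K hyK hK
      obtain ⟨f, hf, hf1, hfK⟩ := hex K hK
      have hsub : ({1, f, y * f * y⁻¹} : Set G) ⊆ ((F ⊓ K : Subgroup G) : Set G) := by
        rintro x (rfl | rfl | rfl)
        · exact one_mem _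
        · exact ⟨hf, hfK⟩
        · exact ⟨hyF f hf, hyK f hfK⟩
      have h3 : ({1, f, y * f * y⁻¹} : Set G).ncard = 3 := by
        rw [Set.ncard_insert_of_notMem, Set.ncard_pair]
        · exact Ne.symm (hfix f hf hf1)
        · rintro (e1 | e1)
          · exact hf1 e1.symm
          · exact hy1 f hf1 e1.symm
      have h4 := Set.ncard_le_ncard hsub (Set.toFinite _)
      rw [h3] at h4
      have h5 : ((F ⊓ K : Subgroup G) : Set G).ncard = Nat.card (F ⊓ K : Subgroup G) := rfl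
      have h6 : Nat.card (F ⊓ K : Subgroup G) ∣ Nat.card F := card_dvd_of_le inf_le_left
      rw [hF4] at h6
      have h7 := Nat.le_of_dvd (by norm_num) h6
      have h8 : Nat.card (F ⊓ K : Subgroup G) = Nat.card F := by
        rw [hF4]
        rw [h5] at h4
        interval_cases hc : Nat.card (F ⊓ K : Subgroup G)
        · norm_num at h6
        · rfl
      have h9 := Subgroup.eq_of_le_of_card_ge (inf_le_left : F ⊓ K ≤ F) h8.ge
      rw [← h9]; exact inf_le_right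
    obtain ⟨T', t', u', h'⟩ := h.other
    -- `F ≤ kq V z`
    have hkq : F ≤ kq V z := by
      refine hle _ (fun k hk => conj_mem_of_normalizer (centralizer_le_normalizer_kq V z) hy hk) ?_
      intro f hf f' hf' h1 h2
      have h3 := (T_kq h.toFr h' (hF hf)).resolve_left h1
      have h4 := (T_kq h.toFr h' (hF hf')).resolve_left h2
      have h5 := mul_mem h3 (inv_mem h4)
      have h6 : f * u' * (f' * u')⁻¹ = f * f'⁻¹ := by group
      rwa [h6, inv_eq_self (hF2 f' hf')] at h5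
    have hws : F ≤ ws V z := by
      refine hle _ (fun k hk => conj_mem_of_normalizer (Geo.centralizer_le_normalizer_ws V z) hy hk) ?_
      intro f hf f' hf' h1 h2
      have h3 := (h.kq_cases (hkq hf)).resolve_left h1
      have h4 := (h.kq_cases (hkq hf')).resolve_left h2
      have h5 := mul_mem (inv_mem h3) h4
      have h6 : (e * f)⁻¹ * (e * f') = f⁻¹ * f' := by group
      rwa [h6, inv_eq_self (hF2 f hf)] at h5
    obtain ⟨f1, hf1, hf11, hf1u⟩ := hex (us V z) (fun f hf f' hf' h1 h2 =>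
      h.us_two (hws hf) (fun h3 => h1 ⟨hws hf, h3⟩) (hws hf') (fun h3 => h2 ⟨hws hf', h3⟩))
    have hf1V : f1 ∈ V := h.mem_V_of_sq (h.us_le_rr' hf1u) (hF2 _ hf1)
    have hyz : y * z * y⁻¹ = z := by rw [h.z_comm hy, mul_inv_cancel_right]
    have hzF : z ∉ F := fun hz => hfix z hz h.z_ne hyz
    have hf1z : f1 ≠ z := fun e1 => hzF (e1 ▸ hf1)
    set f2 := y * f1 * y⁻¹ with hf2
    have hf2F : f2 ∈ F := hyF _ hf1
    have hf2z : f2 ≠ z := fun e1 => hzF (e1 ▸ hf2F)
    have hf21 : f2 ≠ 1 := hy1 _ hf11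
    have hf2f1 : f2 ≠ f1 := hfix _ hf1 hf11
    have hf2c : f2 ∈ centralizer (V : Set G) := by
      have c1 : Commute f2 z := (h.z_comm (h.ws_le_centralizer (hws hf2F)))
      have c2 : Commute f2 f1 := hcomm _ hf2F _ hf1
      refine h.mem_cent c1 ?_
      rcases h.four' hf1V with k | k | k | k
      · exact absurd k hf11
      · exact absurd k hf1z
      · rw [← k]; exact c2
      · have : q = z * f1 := by rw [k, ← mul_assoc, h.zz, one_mul]
        rw [this]; exact c1.mul_right c2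
    have hf2V : f2 ∈ V := h.mem_V_of_sq (h.us_le_rr' ⟨hws hf2F, hf2c⟩) (hF2 _ hf2F)
    apply hzF
    have hz12 : f1 * f2 = z := by
      rcases h.four' hf1V with k | k | k | k <;> rcases h.four' hf2V with l | l | l | l
      · exact absurd k hf11
      · exact absurd k hf11
      · exact absurd k hf11
      · exact absurd k hf11
      · exact absurd k hf1z
      · exact absurd k hf1z
      · exact absurd k hf1z
      · exact absurd k hf1z
      · exact absurd l hf21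
      · exact absurd l hf2z
      · exact absurd (l.trans k.symm) hf2f1
      · rw [k, l, h.zq, ← mul_assoc, h.qq, one_mul]
      · exact absurd l hf21
      · exact absurd l hf2z
      · rw [k, l, mul_assoc, h.qq, mul_one]
      · exact absurd (l.trans k.symm) hf2f1
    rw [← hz12]
    exact mul_mem hf1 hf2F
  have hFp : IsPGroup 2 F := by
    intro f
    exact ⟨1, Subtype.ext (by simpa [pow_two] using hF2 f f.2)⟩
  obtain ⟨c, hc, hcT⟩ := exists_cj_le_of_sylow h.T_le h.two h.T_syl hF hFp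
  refine key (cj c F) (c * y * c⁻¹) hcT (by rw [card_cj, hF4]) ?_
    (mul_mem (mul_mem hc hy) (inv_mem hc)) ?_ ?_
  · rintro _ ⟨f, hf, rfl⟩
    rw [← map_mul, hF2 f hf, map_one]
  · intro f hf
    rw [mem_cj] at hf ⊢
    have := hyF _ hf
    have e1 : c⁻¹ * (c * y * c⁻¹ * f * (c * y * c⁻¹)⁻¹) * c = y * (c⁻¹ * f * c) * y⁻¹ := by group
    rw [e1]; exact this
  · intro f hf hf1 e1
    rw [mem_cj] at hf
    refine hfix _ hf (fun e2 => hf1 ?_) ?_
    · have : f = c * (c⁻¹ * f * c) * c⁻¹ := by group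
      rw [this, e2]; group
    · calc y * (c⁻¹ * f * c) * y⁻¹ = c⁻¹ * (c * y * c⁻¹ * f * (c * y * c⁻¹)⁻¹) * c := by group
        _ = c⁻¹ * f * c := by rw [e1]

/-- an element of `N_G(V)` acting fixed-point-freely on `V` with cube 1 -/
theorem exists_three (h : Ex T V z q t u e) : ∃ x ∈ normalizer (V : Set G), x ^ 3 = 1 ∧
    ∀ v ∈ V, v ≠ 1 → x * v * x⁻¹ ≠ v := by
  obtain ⟨T', t', u', h'⟩ := h.other
  -- a 3-cycle on the points
  obtain ⟨a, ha, ha1, ha2⟩ : ∃ a ∈ normalizer (V : Set G), a * z * a⁻¹ = q ∧ a * q * a⁻¹ = z * q := by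
    have htn : t ∈ normalizer (V : Set G) := h.ws_le_normalizer h.t_mem
    have htn' : t' ∈ normalizer (V : Set G) := h'.ws_le_normalizer h'.t_mem
    have m1 : t * q * t⁻¹ = z * q := h.w_move h.t_mem h.tV h.q_mem h.q_ne h.q_nz
    have m2 : t' * z * t'⁻¹ = q * z := h'.w_move h'.t_mem h'.tV h.z_mem h.z_ne (Ne.symm h.q_nz)
    have n1 : t * z * t⁻¹ = z := by rw [← h.zt.eq, mul_inv_cancel_right]
    have n2 : t' * q * t'⁻¹ = q := by rw [← h'.zt.eq, mul_inv_cancel_right]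
    -- `t * t'`: `z ↦ q z ↦ (z q) z = q`, `q ↦ q ↦ z q`
    refine ⟨t * t', mul_mem htn htn', ?_, ?_⟩
    · calc t * t' * z * (t * t')⁻¹ = t * (t' * z * t'⁻¹) * t⁻¹ := by group
        _ = (t * q * t⁻¹) * (t * z * t⁻¹) := by rw [m2]; group
        _ = z * (q * z) := by rw [m1, n1]; group
        _ = q := by rw [← h.zq, ← mul_assoc, h.zz, one_mul]
    · calc t * t' * q * (t * t')⁻¹ = t * (t' * q * t'⁻¹) * t⁻¹ := by group
        _ = z * q := by rw [n2, m1]
  have ha3 : a * (z * q) * a⁻¹ = z := by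
    calc a * (z * q) * a⁻¹ = (a * z * a⁻¹) * (a * q * a⁻¹) := by group
      _ = q * (z * q) := by rw [ha1, ha2]
      _ = z := by rw [h.zq, ← mul_assoc, h.qq, one_mul]
  -- `a ^ 3` centralizes `V`
  have ha4 : a ^ 3 ∈ centralizer (V : Set G) := by
    refine h.mem_cent ?_ ?_
    · change a ^ 3 * z = z * a ^ 3
      have : a ^ 3 * z = (a * (a * (a * z * a⁻¹) * a⁻¹) * a⁻¹) * a ^ 3 := by
        simp only [pow_succ, pow_zero]; group
      rw [this, ha1, ha2, ha3]
    · change a ^ 3 * q = q * a ^ 3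
      have : a ^ 3 * q = (a * (a * (a * q * a⁻¹) * a⁻¹) * a⁻¹) * a ^ 3 := by
        simp only [pow_succ, pow_zero]; group
      rw [this, ha2, ha3, ha1]
  obtain ⟨n, hn⟩ := h.isPGroup_centralizer ⟨_, ha4⟩
  have hn' : (a ^ 3) ^ 2 ^ n = 1 := by simpa using congrArg Subtype.val hn
  -- a power of `a` congruent to `± a` modulo `a ^ 3`
  have hpow : ∀ k : ℕ, a ^ (3 * k) ∈ centralizer (V : Set G) := by
    intro k; rw [pow_mul]; exact pow_mem ha4 k
  have hne3 : ∀ c ∈ centralizer (V : Set G), ∀ v ∈ V, v ≠ 1 →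
      (a * c) * v * (a * c)⁻¹ ≠ v ∧ (a * a * c) * v * (a * a * c)⁻¹ ≠ v := by
    intro c hc v hv hv1
    have e1 : c * v * c⁻¹ = v := by rw [comm_V hc hv, mul_inv_cancel_right]
    have e2 : (a * c) * v * (a * c)⁻¹ = a * v * a⁻¹ := by
      calc (a * c) * v * (a * c)⁻¹ = a * (c * v * c⁻¹) * a⁻¹ := by group
        _ = a * v * a⁻¹ := by rw [e1]
    have e3 : (a * a * c) * v * (a * a * c)⁻¹ = a * (a * v * a⁻¹) * a⁻¹ := by
      calc (a * a * c) * v * (a * a * c)⁻¹ = a * (a * (c * v * c⁻¹) * a⁻¹) * a⁻¹ := by group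
        _ = _ := by rw [e1]
    rw [e2, e3]
    have hzq1 : z * q ≠ q := fun e => h.z_ne (by simpa using e)
    have hzqz : z * q ≠ z := fun e => h.q_ne (by simpa using e)
    rcases h.four' hv with k | k | k | k
    · exact absurd k hv1
    · rw [k, ha1, ha2]; exact ⟨h.q_nz, hzqz⟩
    · rw [k, ha2, ha3]; exact ⟨hzq1, Ne.symm h.q_nz⟩
    · rw [k, ha3, ha1]; exact ⟨Ne.symm hzqz, Ne.symm hzq1⟩
  refine ⟨a ^ 2 ^ n, pow_mem ha _, ?_, ?_⟩
  · rw [← pow_mul, mul_comm, pow_mul]; exact hn'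
  · intro v hv hv1
    -- `2 ^ n` is `1` or `2` modulo `3`
    have hmod : 2 ^ n % 3 = 1 ∨ 2 ^ n % 3 = 2 := by
      have h3 : ¬ 3 ∣ 2 ^ n := fun hd => by
        have := (Nat.prime_three).dvd_of_dvd_pow hd
        omega
      omega
    have hdm := Nat.div_add_mod (2 ^ n) 3
    rcases hmod with h3 | h3
    · have e1 : a ^ 2 ^ n = a * a ^ (3 * (2 ^ n / 3)) := by
        rw [← pow_succ', ← h3, hdm]
      rw [e1]
      exact (hne3 _ (hpow _) v hv hv1).1
    · have e1 : a ^ 2 ^ n = a * a * a ^ (3 * (2 ^ n / 3)) := by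
        rw [mul_assoc, ← pow_succ', ← pow_succ']
        congr 1
        omega
      rw [e1]
      exact (hne3 _ (hpow _) v hv hv1).2

/-- **the case `C_G(V) ≠ rr V`** -/
theorem exists_index_two (h : Ex T V z q t u e) : ∃ M : Subgroup G, M.Normal ∧ M.index = 2 := by
  classical
  haveI : Fact (Nat.Prime 2) := ⟨Nat.prime_two⟩
  haveI : Fact (Nat.Prime 3) := ⟨Nat.prime_three⟩
  obtain ⟨x, hx, hx3, hxf⟩ := h.exists_three
  have hrn := BTwoD.normalizer_le_normalizer_rr V hx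
  have hcn : x ∈ normalizer ((centralizer (V : Set G) : Subgroup G) : Set G) :=
    mem_normalizer_of (fun c hc => conj_mem_centralizer hx hc) (fun c hc => by
      have := conj_mem_centralizer (inv_mem hx) hc
      rwa [inv_inv] at this)
  -- a fixed point `j` outside `rr V`
  obtain ⟨j, hj, hjr, hjx⟩ : ∃ j ∈ centralizer (V : Set G), j ∉ rr V ∧ x * j * x⁻¹ = j := by
    let Ω : Type u := {g : G // g ∈ centralizer (V : Set G) ∧ g ∉ rr V}
    haveI : Fintype Ω := Fintype.ofFinite _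
    have hp : ∀ g : G, (g ∈ centralizer (V : Set G) ∧ g ∉ rr V) ↔
        ((MulAut.conj x).toEquiv g ∈ centralizer (V : Set G) ∧ (MulAut.conj x).toEquiv g ∉ rr V) := by
      intro g
      have h1 := mem_normalizer_iff.mp hcn g
      have h2 := mem_normalizer_iff.mp hrn g
      exact and_congr h1 (not_congr h2)
    let σ : Equiv.Perm Ω := Equiv.Perm.subtypePerm (MulAut.conj x).toEquiv (fun g => (hp g).symm)
    have hσ : ∀ g : Ω, ((σ g : Ω) : G) = x * (g : G) * x⁻¹ := fun g => rfl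
    have hσ3 : σ ^ 3 ^ 1 = 1 := by
      ext g
      change ((σ (σ (σ g)) : Ω) : G) = g
      rw [hσ, hσ, hσ]
      have : x * (x * (x * (g : G) * x⁻¹) * x⁻¹) * x⁻¹ = x ^ 3 * g * (x ^ 3)⁻¹ := by
        simp only [pow_succ, pow_zero]; group
      rw [this, hx3]; simp
    have hcard : ¬ 3 ∣ Fintype.card Ω := by
      have h1 : Nat.card Ω = Nat.card (rr V) := by
        refine Nat.card_congr ⟨fun g => ⟨e * g.1, (h.cover g.1 g.2.1).resolve_left g.2.2⟩,
          fun w => ⟨e⁻¹ * w.1, ?_, ?_⟩, ?_, ?_⟩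
        · exact (centralizer (V : Set G)).mul_mem ((centralizer (V : Set G)).inv_mem h.e_cent)
            (rr_le_centralizer V w.2)
        · intro hw
          apply h.e_notMem
          have h2 := mul_mem w.2 (inv_mem hw)
          have h3 : (w : G) * (e⁻¹ * w)⁻¹ = e := by group
          rwa [h3] at h2
        · intro g
          apply Subtype.ext
          change e⁻¹ * (e * (g : G)) = g
          group
        · intro w
          apply Subtype.ext
          change e * (e⁻¹ * (w : G)) = w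
          group
      rw [← Nat.card_eq_fintype_card, h1]
      obtain ⟨n, hn⟩ := IsPGroup.iff_card.mp (h.isPGroup_centralizer.to_le (rr_le_centralizer V))
      rw [hn]
      intro hd
      have := (Nat.prime_three).dvd_of_dvd_pow hd
      omega
    obtain ⟨g, hg⟩ := Equiv.Perm.exists_fixed_point_of_prime hcard hσ3
    exact ⟨g, g.2.1, g.2.2, congrArg Subtype.val hg⟩
  have hjj := h.sq_one hj hjr
  have hj1 : j ≠ 1 := fun e1 => hjr (by rw [e1]; exact one_mem _)
  obtain ⟨P, hP⟩ := exists_sylow h.toGeo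
  rcases Transfer.ThompsonTransfer.thompson_transfer P h.sub (by rw [hP]; exact h.sub_le_T)
    (by rw [hP]; exact h.relIndex_sub) j (by rw [pow_two]; exact hjj) with ⟨M, h1, h2, -⟩ | ⟨g, hg⟩
  · exact ⟨M, h1, h2⟩
  · exfalso
    have h1 : g * j * g⁻¹ * (g * j * g⁻¹) = 1 := by
      calc g * j * g⁻¹ * (g * j * g⁻¹) = g * (j * j) * g⁻¹ := by group
        _ = 1 := by rw [hjj]; group
    have h2 : g * j * g⁻¹ ≠ 1 := by
      intro e1
      apply hj1
      have : j = g⁻¹ * (g * j * g⁻¹) * g := by group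
      rw [this, e1]; group
    obtain ⟨k0, hk0⟩ := h.exists_conj_of_mem_sub hg h1 h2
    set k := g⁻¹ * k0 with hk
    have hkz : k * z * k⁻¹ = j := by
      calc k * z * k⁻¹ = g⁻¹ * (k0 * z * k0⁻¹) * g := by rw [hk]; group
        _ = j := by rw [hk0]; group
    have hzk : k⁻¹ * j * k = z := by rw [← hkz]; group
    have hconj : ∀ c : G, c * j = j * c → k⁻¹ * c * k ∈ centralizer ({z} : Set G) := by
      intro c hc
      rw [mem_centralizer_singleton_iff]
      calc k⁻¹ * c * k * z = k⁻¹ * c * (k * z * k⁻¹) * k := by group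
        _ = k⁻¹ * (c * j) * k := by rw [hkz]; group
        _ = k⁻¹ * (j * c) * k := by rw [hc]
        _ = (k⁻¹ * j * k) * (k⁻¹ * c * k) := by group
        _ = z * (k⁻¹ * c * k) := by rw [hzk]
    refine h.no_four (F := cj k⁻¹ V) (y := k⁻¹ * x * k) ?_ (by rw [card_cj, h.card_V]) ?_ ?_ ?_ ?_
    · intro f hf
      rw [mem_cj, inv_inv] at hf
      have h3 := hconj _ (comm_V hj hf).symm
      have h4 : k⁻¹ * (k * f * k⁻¹) * k = f := by group
      rwa [h4] at h3
    · rintro _ ⟨f, hf, rfl⟩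
      rw [← map_mul, h.sq f hf, map_one]
    · refine hconj x ?_
      calc x * j = (x * j * x⁻¹) * x := by group
        _ = j * x := by rw [hjx]
    · intro f hf
      rw [mem_cj, inv_inv] at hf ⊢
      have h3 := (mem_normalizer_iff.mp hx _).mp hf
      have h4 : k * (k⁻¹ * x * k * f * (k⁻¹ * x * k)⁻¹) * k⁻¹ = x * (k * f * k⁻¹) * x⁻¹ := by group
      rw [h4]; exact h3
    · intro f hf hf1 e1
      rw [mem_cj, inv_inv] at hf
      refine hxf _ hf (fun e2 => hf1 ?_) ?_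
      · have : f = k⁻¹ * (k * f * k⁻¹) * k := by group
        rw [this, e2]; group
      · calc x * (k * f * k⁻¹) * x⁻¹ = k * (k⁻¹ * x * k * f * (k⁻¹ * x * k)⁻¹) * k⁻¹ := by group
          _ = k * f * k⁻¹ := by rw [e1]

end Ex

/-- **The case `ws V z ≅ 4 ∘ Q₈`.** -/
theorem One.main (h : One T V z) : PRankLE 2 2 G ∨ ∃ M : Subgroup G, M.Normal ∧ M.index = 2 := by
  obtain ⟨q, hq, hq1, hqz⟩ := h.exists_y
  obtain ⟨t, u, hf⟩ := exists_fr h hq hq1 hqz
  rcases hf.dichotomy with h1 | ⟨e, a1, a2, a3, a4, a5⟩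
  · exact Or.inl (Fr.pRankLE hf h1)
  · exact Or.inr (Ex.exists_index_two ⟨hf, a1, a2, a3, a4, a5⟩)

end Cfsg.Agent.MinSimple.BTwoEndC
end
end

-- part: MinSimple/OddTwoWeight
section
prune_inst 0xd0002304432200000018000020003c5282000002006f0001c100020006888d4020000f208000111200002a440034000003cc00400010000000000000011801a0000240021200a000200000000000000000000000000000000000000000000000000000000
set_option linter.all false
open scoped Cfsg.Agent.FastGrp

-- part: MinSimple/DihedralBasis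
section
/-!
# Thompson's dihedral lemma

An elementary abelian `2`-group `A` acting faithfully on an `r`-group `R` (`r` odd) has a basis `b i` such that there
are pairwise commuting elements `y i` of `R` with `b i` inverting `y i` and centralising `y j` for `j ≠ i`.
-/

set_option autoImplicit false

namespace Cfsg.Agent.MinSimple.DihedralBasis

open Subgroup Cfsg.Agent.Lib

variable {G : Type*} [Group G]

/-- every element of `A` centralises or inverts `y` -/
def IsWeight (A : Subgroup G) (y : G) : Prop := ∀ a ∈ A, a * y * a⁻¹ = y ∨ a * y * a⁻¹ = y⁻¹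

theorem mem_cs {s x : G} : x ∈ centralizer {s} ↔ s * x * s⁻¹ = x := by
  rw [mem_centralizer_singleton_iff, mul_inv_eq_iff_eq_mul]
  exact eq_comm

theorem comm_of_sq {A : Subgroup G} (hA : ∀ a ∈ A, a * a = 1) {a b : G} (ha : a ∈ A) (hb : b ∈ A) :
    a * b = b * a := by
  have h1 := hA _ (mul_mem ha hb)
  have h4 : a⁻¹ = a := inv_eq_of_mul_eq_one_left (hA a ha)
  have h5 : b⁻¹ = b := inv_eq_of_mul_eq_one_left (hA b hb)
  have h6 : (a * b)⁻¹ = a * b := inv_eq_of_mul_eq_one_left h1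
  rw [mul_inv_rev, h4, h5] at h6
  exact h6.symm

theorem mul_self_ne_one_of_odd [Finite G] {C : Subgroup G} (hC : Odd (Nat.card C)) {y : G} (hy : y ∈ C)
    (h1 : y ≠ 1) : y * y ≠ 1 := by
  intro h2
  apply h1
  exact KleinGen.eq_of_mul_self_eq hC hy (one_mem C) (by rw [h2, mul_one])

theorem exists_weight [Finite G] (A : Subgroup G) (hA : ∀ a ∈ A, a * a = 1) (n : ℕ) :
    ∀ C : Subgroup G, Nat.card C ≤ n → Odd (Nat.card C) → (∀ a ∈ A, ∀ x ∈ C, a * x * a⁻¹ ∈ C) →
    ∀ a0 ∈ A, (∃ x ∈ C, a0 * x * a0⁻¹ ≠ x) →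
    ∃ y ∈ C, IsWeight A y ∧ a0 * y * a0⁻¹ = y⁻¹ ∧ y * y ≠ 1 := by
  induction n with
  | zero =>
    intro C hC
    have := Nat.card_pos (α := C)
    omega
  | succ n ih =>
    intro C hCn hodd hinv a0 ha0 hnt
    by_cases hall : ∀ a ∈ A, (∀ x ∈ C, a * x * a⁻¹ = x) ∨ (∀ x ∈ C, a * x * a⁻¹ = a0 * x * a0⁻¹)
    · obtain ⟨x, hx, hne⟩ := hnt
      have hyC : x⁻¹ * (a0 * x * a0⁻¹) ∈ C := mul_mem (inv_mem hx) (hinv a0 ha0 x hx)
      have hy1 : x⁻¹ * (a0 * x * a0⁻¹) ≠ 1 := fun h => hne (inv_mul_eq_one.mp h).symm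
      have hinvy : a0 * (x⁻¹ * (a0 * x * a0⁻¹)) * a0⁻¹ = (x⁻¹ * (a0 * x * a0⁻¹))⁻¹ := by
        have h2 := hA a0 ha0
        calc a0 * (x⁻¹ * (a0 * x * a0⁻¹)) * a0⁻¹ = a0 * x⁻¹ * a0⁻¹ * (a0 * a0) * x * (a0 * a0)⁻¹ := by group
          _ = (x⁻¹ * (a0 * x * a0⁻¹))⁻¹ := by rw [h2]; group
      refine ⟨x⁻¹ * (a0 * x * a0⁻¹), hyC, ?_, hinvy, mul_self_ne_one_of_odd hodd hyC hy1⟩
      intro a ha
      rcases hall a ha with h1 | h1
      · exact Or.inl (h1 _ hyC)
      · exact Or.inr ((h1 _ hyC).trans hinvy)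
    · push Not at hall
      obtain ⟨a, ha, ⟨x1, hx1, hne1⟩, ⟨x2, hx2, hne2⟩⟩ := hall
      have hcomm := comm_of_sq hA ha0 ha
      -- general facts about `C ⊓ C(s)`, `s ∈ A`
      have hsub : ∀ s ∈ A, (∃ x ∈ C, s * x * s⁻¹ ≠ x) → (∃ x ∈ C ⊓ centralizer {s}, a0 * x * a0⁻¹ ≠ x) →
          ∃ y ∈ C, IsWeight A y ∧ a0 * y * a0⁻¹ = y⁻¹ ∧ y * y ≠ 1 := by
        intro s hs hns hnt'
        have hlt : Nat.card ↥(C ⊓ centralizer {s}) < Nat.card C := by
          by_contra hge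
          have heq : C ⊓ centralizer {s} = C := eq_of_le_of_card_ge inf_le_left (not_lt.mp hge)
          obtain ⟨x, hx, hne⟩ := hns
          rw [← heq] at hx
          exact hne (mem_cs.mp hx.2)
        obtain ⟨y, hy, h1, h2, h3⟩ := ih (C ⊓ centralizer {s}) (by omega)
          (hodd.of_dvd_nat (card_dvd_of_le inf_le_left))
          (fun b hb x hx => mem_inf.mpr ⟨hinv b hb x hx.1, by
            have h1 : s * x * s⁻¹ = x := mem_cs.mp hx.2
            have h2 := comm_of_sq hA hs hb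
            rw [mem_cs]
            calc s * (b * x * b⁻¹) * s⁻¹ = (s * b) * x * (s * b)⁻¹ := by group
              _ = (b * s) * x * (b * s)⁻¹ := by rw [h2]
              _ = b * (s * x * s⁻¹) * b⁻¹ := by group
              _ = b * x * b⁻¹ := by rw [h1]⟩) a0 ha0 hnt'
        exact ⟨y, hy.1, h1, h2, h3⟩
      by_cases c1 : ∃ x ∈ C ⊓ centralizer {a}, a0 * x * a0⁻¹ ≠ x
      · exact hsub a ha ⟨x1, hx1, hne1⟩ c1
      by_cases c2 : ∃ x ∈ C ⊓ centralizer {a0 * a}, a0 * x * a0⁻¹ ≠ x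
      · refine hsub (a0 * a) (mul_mem ha0 ha) ⟨x2, hx2, ?_⟩ c2
        intro h
        apply hne2
        have h2 := hA a0 ha0
        calc a * x2 * a⁻¹ = a0⁻¹ * (a0 * a * x2 * (a0 * a)⁻¹) * a0 := by group
          _ = a0⁻¹ * x2 * a0 := by rw [h]
          _ = a0⁻¹ * (a0 * a0) * x2 * (a0 * a0)⁻¹ * a0 := by rw [h2]; group
          _ = a0 * x2 * a0⁻¹ := by group
      · exfalso
        push Not at c1 c2
        obtain ⟨x, hx, hne⟩ := hnt
        apply hne
        have hinvol : ∀ s ∈ A, ∀ g : G, s * (s * g * s⁻¹) * s⁻¹ = g := by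
          intro s hs g
          have h2 := hA s hs
          calc s * (s * g * s⁻¹) * s⁻¹ = (s * s) * g * (s * s)⁻¹ := by group
            _ = g := by rw [h2]; group
        have key : C ≤ centralizer {a0} := by
          refine KleinGen.le_of_fixed_le C (centralizer {a0}) hodd (MulAut.conj a0).toMonoidHom
            (MulAut.conj a).toMonoidHom (hinvol a0 ha0) (hinvol a ha) ?_ (hinv a0 ha0) (hinv a ha) ?_ ?_ ?_
          · intro g
            show a0 * (a * g * a⁻¹) * a0⁻¹ = a * (a0 * g * a0⁻¹) * a⁻¹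
            calc a0 * (a * g * a⁻¹) * a0⁻¹ = (a0 * a) * g * (a0 * a)⁻¹ := by group
              _ = (a * a0) * g * (a * a0)⁻¹ := by rw [hcomm]
              _ = _ := by group
          · intro g hg h1
            exact mem_cs.mpr h1
          · intro g hg h1
            exact mem_cs.mpr (c1 g (mem_inf.mpr ⟨hg, mem_cs.mpr h1⟩))
          · intro g hg h1
            have h1' : a0 * (a * g * a⁻¹) * a0⁻¹ = g := h1
            refine mem_cs.mpr (c2 g (mem_inf.mpr ⟨hg, mem_cs.mpr ?_⟩))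
            calc a0 * a * g * (a0 * a)⁻¹ = a0 * (a * g * a⁻¹) * a0⁻¹ := by group
              _ = g := h1'
        exact mem_cs.mp (key hx)

end Cfsg.Agent.MinSimple.DihedralBasis
end

-- part: MinSimple/OddTwoWeight
section
/-!
# Weights in `C_G(x)/kq V x`

* `exists_weight`: a 2-subgroup `A` of `C_G(x)` with squares in `kq V x` and `a₀ ∈ A`, `a₀ ∉ kq V x`: there is
  `y ∈ C_G(x)` of odd order inverted by `a₀` modulo `kq V x` and centralized or inverted by each element of `A`.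
* elementary facts on the action of elements of odd order of `C_G(x)` on `ws V x`.
-/

set_option autoImplicit false
set_option linter.unusedSectionVars false

namespace Cfsg.Agent.MinSimple.OddTwoWeight

open Subgroup Cfsg Cfsg.Agent.ZN Cfsg.Agent.MinSimple.Geo Cfsg.Agent.MinSimple.BTwoA
  Cfsg.Agent.MinSimple.OddLine Cfsg.Agent.MinSimple.OddBase
open Cfsg.Agent.ZN.Block (conj_mem_of_normalizer conj_mem_of_normalizer' le_normalizer_of_forall
  mem_normalizer_of)

universe u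

variable {G : Type u} [Group G]

/-! ### general facts -/

/-- lifting elements of odd order -/
theorem exists_odd_lift {X Y : Type*} [Group X] [Finite X] [Group Y] (f : X →* Y) {g : X}
    (ho : _root_.Odd (orderOf (f g))) :
    ∃ y ∈ zpowers g, _root_.Odd (orderOf y) ∧ f y = f g := by
  obtain ⟨s, q, hq, hsq⟩ := Nat.exists_eq_two_pow_mul_odd (orderOf_pos g).ne'
  have hcop : Nat.Coprime (2 ^ s) q := Nat.Coprime.pow_left s (Nat.coprime_two_left.mpr hq)
  obtain ⟨e, he0, he1⟩ := Nat.chineseRemainder hcop 0 1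
  have h2 : 2 ^ s ∣ e := (Nat.modEq_zero_iff_dvd).mp he0
  refine ⟨g ^ e, pow_mem (mem_zpowers g) e, ?_, ?_⟩
  · refine hq.of_dvd_nat (orderOf_dvd_of_pow_eq_one ?_)
    rw [← pow_mul]
    obtain ⟨k, rfl⟩ := h2
    have : 2 ^ s * k * q = orderOf g * k := by rw [hsq]; ring
    rw [this, pow_mul, pow_orderOf_eq_one, one_pow]
  · rw [map_pow]
    have h3 : orderOf (f g) ∣ q := by
      have h4 : orderOf (f g) ∣ 2 ^ s * q := by rw [← hsq]; exact orderOf_map_dvd f g
      exact (Nat.Coprime.dvd_of_dvd_mul_left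
        (Nat.Coprime.pow_right s (Nat.coprime_two_right.mpr ho)) h4)
    have h5 : e ≡ 1 [MOD orderOf (f g)] := he1.of_dvd h3
    calc f g ^ e = f g ^ 1 := pow_eq_pow_iff_modEq.mpr h5
      _ = f g := pow_one _

/-- an element of odd order is a power of its square -/
theorem exists_sq_pow {g : G} (ho : _root_.Odd (orderOf g)) : ∃ n : ℕ, (g * g) ^ n = g := by
  obtain ⟨k, hk⟩ := ho
  refine ⟨k + 1, ?_⟩
  rw [← pow_two, ← pow_mul]
  have : 2 * (k + 1) = orderOf g + 1 := by omega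
  rw [this, pow_succ, pow_orderOf_eq_one, one_mul]

/-- an element of odd order which fixes `v` modulo a central involution fixes `v` -/
theorem comm_of_odd {y v x : G} (ho : _root_.Odd (orderOf y)) (hx : y * x = x * y)
    (h : y * v * y⁻¹ = v ∨ y * v * y⁻¹ = v * x) (hxx : x * x = 1) : y * v = v * y := by
  have key : y * v * y⁻¹ = v := by
    rcases h with h | h
    · exact h
    have hp : ∀ n : ℕ, y ^ n * v * (y ^ n)⁻¹ = v * x ^ n := by
      intro n
      induction n with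
      | zero => simp
      | succ n ih =>
        have hc : Commute y (x ^ n) := (show Commute y x from hx).pow_right n
        calc y ^ (n + 1) * v * (y ^ (n + 1))⁻¹ = y * (y ^ n * v * (y ^ n)⁻¹) * y⁻¹ := by
              rw [pow_succ']; group
          _ = y * v * (x ^ n * y⁻¹) := by rw [ih]; group
          _ = y * v * (y⁻¹ * x ^ n) := by rw [hc.inv_left.eq]
          _ = (y * v * y⁻¹) * x ^ n := by group
          _ = v * x ^ (n + 1) := by rw [h, pow_succ']; group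
    have h1 := hp (orderOf y)
    rw [pow_orderOf_eq_one] at h1
    obtain ⟨k, hk⟩ := ho
    rw [hk, pow_add, pow_mul, pow_two, hxx, one_pow, one_mul, pow_one, inv_one, mul_one,
      one_mul] at h1
    rw [h, ← h1]
  calc y * v = (y * v * y⁻¹) * y := by group
    _ = v * y := by rw [key]

theorem conj_eq_iff_comm {y v : G} : y * v * y⁻¹ = v ↔ y * v = v * y := mul_inv_eq_iff_eq_mul

/-! ### existence of weights -/

section weight

variable [Finite G] {T V : Subgroup G} {z : G}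

theorem kq_normal (V : Subgroup G) (x : G) :
    ((kq V x).subgroupOf (centralizer ({x} : Set G))).Normal :=
  normal_subgroupOf_of_le_normalizer (BTwoB.centralizer_le_normalizer_kq V x)

theorem exists_weight_z (h : Geo T V z) {A : Subgroup G} (hA : A ≤ centralizer ({z} : Set G))
    (hsq : ∀ a ∈ A, a * a ∈ kq V z) {a0 : G} (ha0 : a0 ∈ A) (hne : a0 ∉ kq V z) :
    ∃ y ∈ centralizer ({z} : Set G), _root_.Odd (orderOf y) ∧ y ∉ kq V z ∧
      a0 * y * a0⁻¹ * y ∈ kq V z ∧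
      ∀ a ∈ A, a * y * a⁻¹ * y⁻¹ ∈ kq V z ∨ a * y * a⁻¹ * y ∈ kq V z := by
  haveI : Fact (Nat.Prime 2) := ⟨Nat.prime_two⟩
  set C := centralizer ({z} : Set G) with hC
  set K : Subgroup C := (kq V z).subgroupOf C with hK
  haveI hKn : K.Normal := kq_normal V z
  haveI hCs : Group.IsSolvable C := h.solv _ (isTwoLocal_centralizer h.zz h.z_ne)
  haveI hHs : Group.IsSolvable (C ⧸ K) := inferInstance
  let π : C →* C ⧸ K := QuotientGroup.mk' K
  have hπ : ∀ c : C, π c = 1 ↔ (c : G) ∈ kq V z := by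
    intro c
    change (QuotientGroup.mk c : C ⧸ K) = 1 ↔ _
    rw [QuotientGroup.eq_one_iff, hK, mem_subgroupOf]
  -- no normal 2-subgroup
  have ho : pCore 2 (C ⧸ K) = ⊥ := by
    have hpn : (pCore 2 (C ⧸ K)).Normal := Lib.Cores.pCore_normal 2
    set N : Subgroup G := ((pCore 2 (C ⧸ K)).comap π).map C.subtype with hN
    have hNC : N ≤ C := map_subtype_le _
    have hNn : C ≤ normalizer (N : Set G) := by
      refine le_normalizer_of_forall ?_
      rintro c hc _ ⟨n, hn, rfl⟩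
      refine ⟨⟨c, hc⟩ * n * ⟨c, hc⟩⁻¹, ?_, rfl⟩
      exact (hpn.comap π).conj_mem n hn _
    have h2 : ∀ x ∈ N, ∃ k : ℕ, x ^ 2 ^ k ∈ kq V z := by
      rintro _ ⟨n, hn, rfl⟩
      obtain ⟨k, hk⟩ := Lib.Cores.pCore_isPGroup (G := C ⧸ K) 2 ⟨π n, hn⟩
      refine ⟨k, ?_⟩
      have h3 : π (n ^ 2 ^ k) = 1 := by
        rw [map_pow]; exact congrArg Subtype.val hk
      exact (hπ _).mp h3
    have h3 := BTwoB.le_kq h hNC hNn h2
    rw [eq_bot_iff]
    intro q hq
    obtain ⟨c, rfl⟩ := QuotientGroup.mk'_surjective K q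
    rw [mem_bot]
    exact (hπ c).mpr (h3 ⟨c, hq, rfl⟩)
  -- the Fitting subgroup
  set F := fittingSubgroup (C ⧸ K) with hF
  have htwo : ∀ x ∈ F, x * x = 1 → x = 1 := by
    intro x hx hxx
    have h1 : x ∈ pCore 2 (C ⧸ K) := Lib.GenFitting.mem_pCore_of_mem_nilpotent_normal
      Lib.Cores.fittingSubgroup_normal Lib.Cores.fittingSubgroup_isNilpotent (k := 1) hx
      (by rw [pow_one, pow_two]; exact hxx)
    rw [ho, mem_bot] at h1
    exact h1
  have hodd : _root_.Odd (Nat.card F) := by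
    rw [← Nat.not_even_iff_odd]
    intro he
    obtain ⟨x, hx⟩ := exists_prime_orderOf_dvd_card' 2 (even_iff_two_dvd.1 he)
    have h1 : (x : C ⧸ K) * x = 1 := by
      have := pow_orderOf_eq_one x
      rw [hx, pow_two] at this
      exact congrArg Subtype.val this
    have h2 := htwo x x.2 h1
    rw [Subtype.ext (a1 := x) (a2 := 1) h2, orderOf_one] at hx
    norm_num at hx
  have hFn : F.Normal := Lib.Cores.fittingSubgroup_normal
  -- the image of `A`
  set B : Subgroup (C ⧸ K) := (A.subgroupOf C).map π with hB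
  have hBsq : ∀ b ∈ B, b * b = 1 := by
    rintro _ ⟨a, ha, rfl⟩
    rw [← map_mul, hπ]
    exact hsq _ (mem_subgroupOf.mp ha)
  set b0 : C ⧸ K := π ⟨a0, hA ha0⟩ with hb0
  have hb0B : b0 ∈ B := ⟨⟨a0, hA ha0⟩, mem_subgroupOf.mpr ha0, rfl⟩
  have hb01 : b0 ≠ 1 := fun e => hne ((hπ _).mp e)
  have hnt : ∃ x ∈ F, b0 * x * b0⁻¹ ≠ x := by
    by_contra hcon
    push Not at hcon
    apply hb01
    refine htwo b0 (S0044.result ?_) (hBsq b0 hb0B)
    rw [mem_centralizer_iff]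
    intro x hx
    exact (conj_eq_iff_comm.mp (hcon x hx)).symm
  obtain ⟨y1, hy1F, hw, hinv, hyy⟩ := DihedralBasis.exists_weight B hBsq (Nat.card F) F le_rfl hodd
    (fun a _ x hx => hFn.conj_mem x hx a) b0 hb0B hnt
  obtain ⟨y2, hy2⟩ := QuotientGroup.mk'_surjective K y1
  have hy1o : _root_.Odd (orderOf (π y2)) := by
    have : π y2 = y1 := hy2
    rw [this]
    refine hodd.of_dvd_nat ?_
    have h1 : orderOf (⟨y1, hy1F⟩ : F) ∣ Nat.card F := orderOf_dvd_natCard _
    rwa [Subgroup.orderOf_mk] at h1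
  obtain ⟨y, -, hyo, hy⟩ := exists_odd_lift π hy1o
  have hy' : π y = y1 := hy.trans hy2
  refine ⟨y, y.2, by rwa [Subgroup.orderOf_coe], ?_, ?_, ?_⟩
  · intro hk
    apply hyy
    rw [← hy', (hπ y).mpr hk, mul_one]
  · have : π (⟨a0, hA ha0⟩ * y * ⟨a0, hA ha0⟩⁻¹ * y) = 1 := by
      rw [map_mul, map_mul, map_mul, map_inv, hy', ← hb0, hinv, inv_mul_cancel]
    exact (hπ _).mp this
  · intro a ha
    rcases hw (π ⟨a, hA ha⟩) ⟨⟨a, hA ha⟩, mem_subgroupOf.mpr ha, rfl⟩ with e | e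
    · left
      have : π (⟨a, hA ha⟩ * y * ⟨a, hA ha⟩⁻¹ * y⁻¹) = 1 := by
        rw [map_mul, map_mul, map_mul, map_inv, map_inv, hy', e, mul_inv_cancel]
      exact (hπ _).mp this
    · right
      have : π (⟨a, hA ha⟩ * y * ⟨a, hA ha⟩⁻¹ * y) = 1 := by
        rw [map_mul, map_mul, map_mul, map_inv, hy', e, inv_mul_cancel]
      exact (hπ _).mp this

/-- **weights** -/
theorem exists_weight (h : OddLine.Odd T V z) {x : G} (hx : Pt z x) {A : Subgroup G}
    (hA : A ≤ centralizer ({x} : Set G)) (hsq : ∀ a ∈ A, a * a ∈ kq V x) {a0 : G} (ha0 : a0 ∈ A)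
    (hne : a0 ∉ kq V x) :
    ∃ y ∈ centralizer ({x} : Set G), _root_.Odd (orderOf y) ∧ y ∉ kq V x ∧
      a0 * y * a0⁻¹ * y ∈ kq V x ∧
      ∀ a ∈ A, a * y * a⁻¹ * y⁻¹ ∈ kq V x ∨ a * y * a⁻¹ * y ∈ kq V x := by
  obtain ⟨g, -, h1⟩ := exists_odd h hx
  have := exists_weight_z h1.toGeo (A := A) hA (by rw [kq_cj_left]; exact hsq) ha0
    (by rw [kq_cj_left]; exact hne)
  rw [kq_cj_left] at this
  exact this

end weight

/-! ### the action of an element of odd order on an elementary abelian group -/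

section uu

/-- `[W, y]` -/
def uu (W : Subgroup G) (y : G) : Subgroup G := closure {u | ∃ v ∈ W, u = v * (y * v * y⁻¹)}

/-- an elementary abelian 2-subgroup `W` with an element `y` of odd order normalizing it -/
structure Act (W : Subgroup G) (y : G) : Prop where
  sq : ∀ w ∈ W, w * w = 1
  odd : _root_.Odd (orderOf y)
  conj : ∀ w ∈ W, y * w * y⁻¹ ∈ W

variable {W : Subgroup G} {y : G}

namespace Act

theorem inv_eq (h : Act W y) {w : G} (hw : w ∈ W) : w⁻¹ = w := inv_eq_self (h.sq w hw)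

theorem comm (h : Act W y) {a b : G} (ha : a ∈ W) (hb : b ∈ W) : a * b = b * a := by
  have h1 := h.inv_eq (mul_mem ha hb)
  rw [mul_inv_rev, h.inv_eq ha, h.inv_eq hb] at h1
  exact h1.symm

theorem conj_pow (h : Act W y) {w : G} (hw : w ∈ W) (n : ℕ) : y ^ n * w * (y ^ n)⁻¹ ∈ W := by
  induction n with
  | zero => simpa using hw
  | succ n ih =>
    have := h.conj _ ih
    have e : y ^ (n + 1) * w * (y ^ (n + 1))⁻¹ = y * (y ^ n * w * (y ^ n)⁻¹) * y⁻¹ := by
      rw [pow_succ']; group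
    rw [e]; exact this

variable [Finite G]

theorem exists_inv (y : G) : ∃ n : ℕ, y⁻¹ = y ^ n := by
  have h : y⁻¹ ∈ Submonoid.powers y := by
    rw [mem_powers_iff_mem_zpowers]
    exact inv_mem (mem_zpowers y)
  obtain ⟨n, hn⟩ := h
  exact ⟨n, hn.symm⟩

theorem conj' (h : Act W y) {w : G} (hw : w ∈ W) : y⁻¹ * w * y ∈ W := by
  obtain ⟨n, hn⟩ := exists_inv y
  have := h.conj_pow hw n
  rwa [← hn, inv_inv] at this

theorem mem_uu (h : Act W y) {u : G} : u ∈ uu W y ↔ ∃ v ∈ W, u = v * (y * v * y⁻¹) := by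
  constructor
  · intro hu
    let A : Subgroup G :=
      { carrier := {u | ∃ v ∈ W, u = v * (y * v * y⁻¹)}
        mul_mem' := by
          rintro _ _ ⟨a, ha, rfl⟩ ⟨b, hb, rfl⟩
          refine ⟨a * b, mul_mem ha hb, ?_⟩
          have hc := h.comm hb (h.conj a ha)
          calc a * (y * a * y⁻¹) * (b * (y * b * y⁻¹)) = a * ((y * a * y⁻¹) * b) * (y * b * y⁻¹) := by
                group
            _ = a * (b * (y * a * y⁻¹)) * (y * b * y⁻¹) := by rw [hc]
            _ = a * b * (y * (a * b) * y⁻¹) := by group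
        one_mem' := ⟨1, one_mem _, by group⟩
        inv_mem' := by
          rintro _ ⟨a, ha, rfl⟩
          refine ⟨a, ha, ?_⟩
          have hm : a * (y * a * y⁻¹) ∈ W := mul_mem ha (h.conj a ha)
          exact h.inv_eq hm }
    have hle : uu W y ≤ A := (closure_le A).mpr (fun _ hu => hu)
    exact hle hu
  · rintro ⟨v, hv, rfl⟩
    exact subset_closure ⟨v, hv, rfl⟩

theorem uu_le (h : Act W y) : uu W y ≤ W := by
  intro u hu
  obtain ⟨v, hv, rfl⟩ := h.mem_uu.mp hu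
  exact mul_mem hv (h.conj v hv)

theorem uu_conj (h : Act W y) {u : G} (hu : u ∈ uu W y) : y * u * y⁻¹ ∈ uu W y := by
  obtain ⟨v, hv, rfl⟩ := h.mem_uu.mp hu
  exact h.mem_uu.mpr ⟨y * v * y⁻¹, h.conj v hv, by group⟩

theorem uu_conj' (h : Act W y) {u : G} (hu : u ∈ uu W y) : y⁻¹ * u * y ∈ uu W y := by
  obtain ⟨v, hv, rfl⟩ := h.mem_uu.mp hu
  exact h.mem_uu.mpr ⟨y⁻¹ * v * y, h.conj' hv, by group⟩

/-- `y` has no fixed point on `[W, y]` -/
theorem eq_one (h : Act W y) {u : G} (hu : u ∈ uu W y) (hc : y * u = u * y) : u = 1 := by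
  obtain ⟨v, hv, rfl⟩ := h.mem_uu.mp hu
  set u := v * (y * v * y⁻¹) with hu'
  have huu := h.sq u (h.uu_le hu)
  have h1 : y * v * y⁻¹ = v * u := by
    rw [hu', ← mul_assoc, h.sq v hv, one_mul]
  have h2 := comm_of_odd h.odd hc (Or.inr h1) huu
  rw [hu']
  have h3 : y * v * y⁻¹ = v := conj_eq_iff_comm.mpr h2
  rw [h3, h.sq v hv]

/-- `W = [W, y] × C_W(y)` -/
theorem exists_decomp (h : Act W y) {v : G} (hv : v ∈ W) :
    ∃ u ∈ uu W y, ∃ c ∈ W, y * c = c * y ∧ v = u * c := by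
  let φ : uu W y → uu W y := fun u => ⟨u * (y * u * y⁻¹), mul_mem u.2 (h.uu_conj u.2)⟩
  have hinj : Function.Injective φ := by
    rintro ⟨a, ha⟩ ⟨b, hb⟩ hab
    have hab' : a * (y * a * y⁻¹) = b * (y * b * y⁻¹) := congrArg Subtype.val hab
    have haW := h.uu_le ha
    have hbW := h.uu_le hb
    have h1 : y * (a * b) * y⁻¹ = a * b := by
      have e1 : y * a * y⁻¹ = a * (b * (y * b * y⁻¹)) := by
        rw [← hab', ← mul_assoc, h.sq a haW, one_mul]
      calc y * (a * b) * y⁻¹ = (y * a * y⁻¹) * (y * b * y⁻¹) := by group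
        _ = a * b * ((y * b * y⁻¹) * (y * b * y⁻¹)) := by rw [e1]; group
        _ = a * b := by rw [h.sq _ (h.conj b hbW), mul_one]
    have h2 := h.eq_one (mul_mem ha hb) (conj_eq_iff_comm.mp h1)
    apply Subtype.ext
    change a = b
    rw [eq_inv_of_mul_eq_one_left h2, h.inv_eq hbW]
  have hsurj := Finite.surjective_of_injective hinj
  obtain ⟨⟨u, hu⟩, hφ⟩ := hsurj ⟨v * (y * v * y⁻¹), h.mem_uu.mpr ⟨v, hv, rfl⟩⟩
  have hφ' : u * (y * u * y⁻¹) = v * (y * v * y⁻¹) := congrArg Subtype.val hφ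
  have huW := h.uu_le hu
  refine ⟨u, hu, u * v, mul_mem huW hv, ?_, ?_⟩
  · apply conj_eq_iff_comm.mp
    have e1 : y * v * y⁻¹ = v * (u * (y * u * y⁻¹)) := by
      rw [hφ', ← mul_assoc, h.sq v hv, one_mul]
    have hc1 := h.comm (h.conj u huW) hv
    have hc2 := h.comm (h.conj u huW) huW
    calc y * (u * v) * y⁻¹ = (y * u * y⁻¹) * (y * v * y⁻¹) := by group
      _ = (y * u * y⁻¹) * v * (u * (y * u * y⁻¹)) := by rw [e1]; group
      _ = v * (y * u * y⁻¹) * (u * (y * u * y⁻¹)) := by rw [hc1]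
      _ = v * ((y * u * y⁻¹) * u) * (y * u * y⁻¹) := by group
      _ = v * (u * (y * u * y⁻¹)) * (y * u * y⁻¹) := by rw [hc2]
      _ = v * u * ((y * u * y⁻¹) * (y * u * y⁻¹)) := by group
      _ = u * v := by rw [h.sq _ (h.conj u huW), mul_one, h.comm hv huW]
  · rw [← mul_assoc, h.sq u huW, one_mul]

theorem comm_of_sq (h : Act W y) {u : G} (hc : y * y * u = u * (y * y)) : y * u = u * y := by
  obtain ⟨n, hn⟩ := exists_sq_pow h.odd
  have h1 : Commute (y * y) u := hc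
  have h2 := h1.pow_left n
  rw [hn] at h2
  exact h2

end Act

/-- the group `[W, y]` is a four-group -/
structure Four (W : Subgroup G) (y : G) : Prop extends Act W y where
  cases : ∀ u ∈ uu W y, u ≠ 1 → ∀ u' ∈ uu W y, u' = 1 ∨ u' = u ∨ u' = y * u * y⁻¹ ∨
    u' = u * (y * u * y⁻¹)

end uu

/-! ### the action of `C_G(x)` on `ws V x` modulo `kq V x` -/

section side

variable [Finite G] {T V : Subgroup G} {z x : G}

theorem kq_cases (h : OddLine.Odd T V z) (hx : Pt z x) {k v : G} (hk : k ∈ kq V x)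
    (hv : v ∈ ws V x) : k * v * k⁻¹ = v ∨ k * v * k⁻¹ = v * x := by
  have hxx := OddBase.Pt.sq h.toGeo hx
  have h1 := (mem_kq'.mp hk).2.1 v hv
  rcases (mem_zpowers_iff_of_mul_self hxx).mp h1 with e | e
  · left
    exact mul_inv_eq_one.mp e
  · right
    have e1 : k * v * k⁻¹ = x * v := mul_inv_eq_iff_eq_mul.mp e
    rw [e1]
    exact OddBase.ws_comm h hx (self_mem_ws h.toGeo hx) hv

theorem kq_cases' (h : OddLine.Odd T V z) (hx : Pt z x) {k v : G} (hk : k ∈ kq V x)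
    (hv : v ∈ ws V x) : k⁻¹ * v * k = v ∨ k⁻¹ * v * k = v * x := by
  have := kq_cases h hx (inv_mem hk) hv
  rwa [inv_inv] at this

/-- elements of odd order of `C_G(x)` act on `ws V x` -/
theorem act (h : OddLine.Odd T V z) (hx : Pt z x) {y : G} (hy : y ∈ centralizer ({x} : Set G))
    (ho : _root_.Odd (orderOf y)) : Act (ws V x) y where
  sq := fun _ hw => OddBase.ws_sq h hx hw
  odd := ho
  conj := fun _ hw => conj_mem_of_normalizer (Geo.centralizer_le_normalizer_ws V x) hy hw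

theorem conj_mem {w v : G} (hw : w ∈ centralizer ({x} : Set G)) (hv : v ∈ ws V x) :
    w * v * w⁻¹ ∈ ws V x :=
  conj_mem_of_normalizer (Geo.centralizer_le_normalizer_ws V x) hw hv

/-- an element normalizing `⟨y⟩` modulo `kq V x` normalizes `C(y)` in `ws V x` -/
theorem comm_conj (h : OddLine.Odd T V z) (hx : Pt z x) {y w c : G}
    (hy : y ∈ centralizer ({x} : Set G)) (ho : _root_.Odd (orderOf y))
    (hw : w ∈ centralizer ({x} : Set G))
    (hn : w * y * w⁻¹ * y⁻¹ ∈ kq V x ∨ w * y * w⁻¹ * y ∈ kq V x) (hc : c ∈ ws V x)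
    (hyc : y * c = c * y) : y * (w * c * w⁻¹) = w * c * w⁻¹ * y := by
  have hxx := OddBase.Pt.sq h.toGeo hx
  have hyx : y * x = x * y := mem_centralizer_singleton_iff.mp hy
  have hc' := conj_mem (V := V) hw hc
  set c' := w * c * w⁻¹ with hc'd
  have hg : (w * y * w⁻¹) * c' * (w * y * w⁻¹)⁻¹ = c' := by
    calc (w * y * w⁻¹) * c' * (w * y * w⁻¹)⁻¹ = w * (y * c * y⁻¹) * w⁻¹ := by rw [hc'd]; group
      _ = c' := by rw [conj_eq_iff_comm.mpr hyc]
  rcases hn with hk | hk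
  · set k := w * y * w⁻¹ * y⁻¹ with hkd
    have e : w * y * w⁻¹ = k * y := by rw [hkd]; group
    rw [e] at hg
    have e2 : y * c' * y⁻¹ = k⁻¹ * c' * k := by
      nth_rewrite 2 [← hg]; group
    refine comm_of_odd ho hyx ?_ hxx
    rw [e2]
    exact kq_cases' h hx hk hc'
  · set k := w * y * w⁻¹ * y with hkd
    have e : w * y * w⁻¹ = k * y⁻¹ := by rw [hkd]; group
    rw [e] at hg
    have e2 : y⁻¹ * c' * y = k⁻¹ * c' * k := by
      nth_rewrite 2 [← hg]; group
    refine comm_of_odd ho hyx ?_ hxx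
    rcases kq_cases' h hx hk hc' with e3 | e3
    · left
      rw [e3] at e2
      calc y * c' * y⁻¹ = y * (y⁻¹ * c' * y) * y⁻¹ := by rw [e2]
        _ = c' := by group
    · right
      rw [e3] at e2
      have e4 : c' = y * c' * y⁻¹ * x := by
        calc c' = y * (y⁻¹ * c' * y) * y⁻¹ := by group
          _ = y * c' * (x * y⁻¹) := by rw [e2]; group
          _ = y * c' * (y⁻¹ * x) := by
            have : Commute y⁻¹ x := (show Commute y x from hyx).inv_left
            rw [this.eq]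
          _ = y * c' * y⁻¹ * x := by group
      calc y * c' * y⁻¹ = (y * c' * y⁻¹ * x) * x := by rw [mul_assoc _ x x, hxx, mul_one]
        _ = c' * x := by rw [← e4]

/-- an element normalizing `⟨y⟩` modulo `kq V x` normalizes `[W, y]⟨x⟩` -/
theorem uu_conj_cases (h : OddLine.Odd T V z) (hx : Pt z x) {y w u : G}
    (hy : y ∈ centralizer ({x} : Set G)) (ho : _root_.Odd (orderOf y))
    (hw : w ∈ centralizer ({x} : Set G))
    (hn : w * y * w⁻¹ * y⁻¹ ∈ kq V x ∨ w * y * w⁻¹ * y ∈ kq V x) (hu : u ∈ uu (ws V x) y) :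
    ∃ u' ∈ uu (ws V x) y, w * u * w⁻¹ = u' ∨ w * u * w⁻¹ = u' * x := by
  have ha := act h hx hy ho
  obtain ⟨v, hv, rfl⟩ := ha.mem_uu.mp hu
  have hv' := conj_mem (V := V) hw hv
  set v' := w * v * w⁻¹ with hv'd
  have e0 : w * (v * (y * v * y⁻¹)) * w⁻¹ = v' * ((w * y * w⁻¹) * v' * (w * y * w⁻¹)⁻¹) := by
    rw [hv'd]; group
  rw [e0]
  rcases hn with hk | hk
  · set k := w * y * w⁻¹ * y⁻¹ with hkd
    have e : w * y * w⁻¹ = k * y := by rw [hkd]; group
    refine ⟨v' * (y * v' * y⁻¹), ha.mem_uu.mpr ⟨v', hv', rfl⟩, ?_⟩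
    have e2 : (w * y * w⁻¹) * v' * (w * y * w⁻¹)⁻¹ = k * (y * v' * y⁻¹) * k⁻¹ := by
      rw [e]; group
    rw [e2]
    rcases kq_cases h hx hk (ha.conj v' hv') with e3 | e3
    · left; rw [e3]
    · right; rw [e3]; group
  · set k := w * y * w⁻¹ * y with hkd
    have e : w * y * w⁻¹ = k * y⁻¹ := by rw [hkd]; group
    refine ⟨v' * (y⁻¹ * v' * y), ?_, ?_⟩
    · have h1 := ha.uu_conj' (ha.mem_uu.mpr ⟨v', hv', rfl⟩)
      have h2 := ha.comm hv' (ha.conj v' hv')
      rw [h2] at h1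
      have e3 : y⁻¹ * (y * v' * y⁻¹ * v') * y = v' * (y⁻¹ * v' * y) := by group
      rwa [e3] at h1
    · have e2 : (w * y * w⁻¹) * v' * (w * y * w⁻¹)⁻¹ = k * (y⁻¹ * v' * y) * k⁻¹ := by
        rw [e]; group
      rw [e2]
      rcases kq_cases h hx hk (ha.conj' hv') with e3 | e3
      · left; rw [e3]
      · right; rw [e3]; group

theorem mem_kq_of_comm {y : G} (hy : y ∈ centralizer ({x} : Set G))
    (hc : ∀ v ∈ ws V x, y * v = v * y) : y ∈ kq V x := by
  refine mem_kq'.mpr ⟨hy, fun v hv => ?_, fun v hv => ?_⟩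
  · rw [hc v hv]; simp
  · have : y⁻¹ * v * y = v := by rw [mul_assoc, ← hc v hv]; group
    rw [this, mul_inv_cancel]; exact one_mem _

theorem exists_uu (h : OddLine.Odd T V z) (hx : Pt z x) {y : G}
    (hy : y ∈ centralizer ({x} : Set G)) (ho : _root_.Odd (orderOf y)) (hyK : y ∉ kq V x) :
    ∃ u ∈ uu (ws V x) y, u ≠ 1 := by
  have ha := act h hx hy ho
  by_contra hcon
  push Not at hcon
  apply hyK
  refine mem_kq_of_comm hy fun v hv => ?_
  have h1 := hcon _ (ha.mem_uu.mpr ⟨v, hv, rfl⟩)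
  have h2 : y * v * y⁻¹ = v := by
    have h3 := eq_inv_of_mul_eq_one_right h1
    rw [h3, ha.inv_eq hv]
  exact conj_eq_iff_comm.mp h2

/-- `[W, y]` meets `C(w) ∩ C(w^y)` trivially if `w` inverts `y` -/
theorem eq_one_of_comm (h : OddLine.Odd T V z) (hx : Pt z x) {y w u : G}
    (hy : y ∈ centralizer ({x} : Set G)) (ho : _root_.Odd (orderOf y))
    (hinv : w * y * w⁻¹ * y ∈ kq V x) (hwn : w ∈ centralizer ({x} : Set G))
    (hu : u ∈ uu (ws V x) y) (h1 : w * u = u * w)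
    (h2 : y * w * y⁻¹ * u = u * (y * w * y⁻¹)) : u = 1 := by
  have ha := act h hx hy ho
  have hxx := OddBase.Pt.sq h.toGeo hx
  have hyx : y * x = x * y := mem_centralizer_singleton_iff.mp hy
  refine ha.eq_one hu (ha.comm_of_sq ?_)
  have huW := ha.uu_le hu
  set k := w * y * w⁻¹ * y with hk
  have e1 : w * (y * w * y⁻¹)⁻¹ = k * (y * y)⁻¹ := by rw [hk]; group
  have hcu : k * (y * y)⁻¹ * u = u * (k * (y * y)⁻¹) := by
    rw [← e1]
    have c1 : Commute w u := h1
    have c2 : Commute (y * w * y⁻¹) u := h2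
    exact (c1.mul_left c2.inv_left).eq
  have e2 : (y * y)⁻¹ * u * (y * y)⁻¹⁻¹ = k⁻¹ * u * k := by
    generalize (y * y)⁻¹ = Y at hcu
    calc Y * u * Y⁻¹ = k⁻¹ * (k * Y * u) * Y⁻¹ := by group
      _ = k⁻¹ * (u * (k * Y)) * Y⁻¹ := by rw [hcu]
      _ = k⁻¹ * u * k := by group
  have ho2 : _root_.Odd (orderOf (y * y)⁻¹) := by
    rw [orderOf_inv]
    refine ho.of_dvd_nat (orderOf_dvd_of_pow_eq_one ?_)
    rw [← pow_two, ← pow_mul, mul_comm, pow_mul, pow_orderOf_eq_one, one_pow]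
  have hyyx : (y * y)⁻¹ * x = x * (y * y)⁻¹ := by
    have c : Commute y x := hyx
    exact (c.mul_left c).inv_left.eq
  have c3 : Commute (y * y)⁻¹ u := comm_of_odd ho2 hyyx (by rw [e2]; exact kq_cases' h hx hinv huW) hxx
  have := c3.inv_left
  rw [inv_inv] at this
  exact this

/-- **the four-group `[W, y]`** -/
theorem four (h : OddLine.Odd T V z) (hx : Pt z x) {y w : G}
    (hy : y ∈ centralizer ({x} : Set G)) (ho : _root_.Odd (orderOf y)) (hyK : y ∉ kq V x)
    (hwn : w ∈ centralizer ({x} : Set G)) (hinv : w * y * w⁻¹ * y ∈ kq V x)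
    (hidx : ∀ v ∈ ws V x, ∀ v' ∈ ws V x, w * v ≠ v * w → w * v' ≠ v' * w →
      w * (v * v') = v * v' * w) :
    Four (ws V x) y ∧ ∃ u0 ∈ uu (ws V x) y, u0 ≠ 1 ∧ w * u0 = u0 * w ∧
      ∀ u ∈ uu (ws V x) y, u ≠ 1 → w * u = u * w → u = u0 := by
  have ha := act h hx hy ho
  -- two elements of `uu` commuting with `w` are equal
  have huniq : ∀ u ∈ uu (ws V x) y, ∀ u' ∈ uu (ws V x) y, u ≠ 1 → u' ≠ 1 → w * u = u * w →
      w * u' = u' * w → u = u' := by
    intro u hu u' hu' hu1 hu'1 hwu hwu'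
    have hn : ∀ u ∈ uu (ws V x) y, u ≠ 1 → w * u = u * w → w * (y⁻¹ * u * y) ≠ (y⁻¹ * u * y) * w := by
      intro u hu hu1 hwu hc
      apply hu1
      refine eq_one_of_comm h hx hy ho hinv hwn hu hwu ?_
      calc y * w * y⁻¹ * u = y * (w * (y⁻¹ * u * y)) * y⁻¹ := by group
        _ = y * ((y⁻¹ * u * y) * w) * y⁻¹ := by rw [hc]
        _ = u * (y * w * y⁻¹) := by group
    have h1 := hidx _ (ha.conj' (ha.uu_le hu)) _ (ha.conj' (ha.uu_le hu')) (hn u hu hu1 hwu)
      (hn u' hu' hu'1 hwu')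
    have h2 : y⁻¹ * u * y * (y⁻¹ * u' * y) = y⁻¹ * (u * u') * y := by group
    rw [h2] at h1
    have c1 : Commute w u := hwu
    have c2 : Commute w u' := hwu'
    by_contra hne
    have h3 : u * u' ≠ 1 := fun e => hne (by
      rw [eq_inv_of_mul_eq_one_left e, ha.inv_eq (ha.uu_le hu')])
    exact hn (u * u') (mul_mem hu hu') h3 (c1.mul_right c2).eq h1
  obtain ⟨a, haU, ha1⟩ := exists_uu h hx hy ho hyK
  set b := y * a * y⁻¹ with hb
  have hbU := ha.uu_conj haU
  have hb1 : b ≠ 1 := conj_ne_one ha1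
  have hab : a ≠ b := fun e => ha1 (ha.eq_one haU (conj_eq_iff_comm.mp e.symm))
  have hab1 : a * b ≠ 1 := fun e => hab (by
    rw [eq_inv_of_mul_eq_one_left e, ha.inv_eq (ha.uu_le hbU)])
  have hex : ∃ u0 ∈ uu (ws V x) y, u0 ≠ 1 ∧ w * u0 = u0 * w := by
    by_cases c1 : w * a = a * w
    · exact ⟨a, haU, ha1, c1⟩
    by_cases c2 : w * b = b * w
    · exact ⟨b, hbU, hb1, c2⟩
    exact ⟨a * b, mul_mem haU hbU, hab1, hidx a (ha.uu_le haU) b (ha.uu_le hbU) c1 c2⟩
  obtain ⟨u0, hu0, hu01, hwu0⟩ := hex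
  refine ⟨⟨ha, ?_⟩, u0, hu0, hu01, hwu0, fun u hu hu1 hwu => huniq u hu u0 hu0 hu1 hu01 hwu hwu0⟩
  intro u hu hu1 u' hu'
  have huW := ha.uu_le hu
  have hu'W := ha.uu_le hu'
  by_cases hu'1 : u' = 1
  · exact Or.inl hu'1
  right
  set v := y * u * y⁻¹ with hv
  have hvU := ha.uu_conj hu
  have hv1 : v ≠ 1 := conj_ne_one hu1
  have huv : u ≠ v := fun e => hu1 (ha.eq_one hu (conj_eq_iff_comm.mp e.symm))
  have huv1 : u * v ≠ 1 := fun e => huv (by
    rw [eq_inv_of_mul_eq_one_left e, ha.inv_eq (ha.uu_le hvU)])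
  have hvW := ha.uu_le hvU
  have hcuv := ha.comm huW hvW
  -- the fixed element is one of `u`, `v`, `u * v`
  have hu0c : u0 = u ∨ u0 = v ∨ u0 = u * v := by
    by_cases c1 : w * u = u * w
    · exact Or.inl (huniq u0 hu0 u hu hu01 hu1 hwu0 c1)
    by_cases c2 : w * v = v * w
    · exact Or.inr (Or.inl (huniq u0 hu0 v hvU hu01 hv1 hwu0 c2))
    exact Or.inr (Or.inr (huniq u0 hu0 (u * v) (mul_mem hu hvU) hu01 huv1 hwu0
      (hidx u huW v hvW c1 c2)))
  have hmul : ∀ e ∈ uu (ws V x) y, w * e ≠ e * w → u' ≠ e → w * u' ≠ u' * w → u' = u0 * e := by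
    intro e he hwe hne hwu'
    have heW := ha.uu_le he
    have h1 := hidx u' hu'W e heW hwu' hwe
    have h2 : u' * e ≠ 1 := fun e2 => hne (by
      rw [eq_inv_of_mul_eq_one_left e2, ha.inv_eq heW])
    have h3 := huniq (u' * e) (mul_mem hu' he) u0 hu0 h2 hu01 h1 hwu0
    rw [← h3, mul_assoc, ha.sq e heW, mul_one]
  by_cases hwu' : w * u' = u' * w
  · have h1 := huniq u' hu' u0 hu0 hu'1 hu01 hwu' hwu0
    rw [h1]; exact hu0c
  · by_cases c1 : w * u = u * w
    · -- `u0 = u`, `v` does not commute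
      have h0 := huniq u0 hu0 u hu hu01 hu1 hwu0 c1
      have c2 : w * v ≠ v * w := fun c2 => huv (huniq u hu v hvU hu1 hv1 c1 c2)
      by_cases hne : u' = v
      · exact Or.inr (Or.inl hne)
      · right; right
        rw [hmul v hvU c2 hne hwu', h0]
    · by_cases hne : u' = u
      · exact Or.inl hne
      have h1 := hmul u hu c1 hne hwu'
      rcases hu0c with h0 | h0 | h0
      · exact absurd (h0 ▸ hwu0) c1
      · right; right
        rw [h1, h0, hcuv]
      · right; left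
        rw [h1, h0, mul_assoc, ← hcuv, ← mul_assoc, ha.sq u huW, one_mul]

end side

end Cfsg.Agent.MinSimple.OddTwoWeight
end
end

-- part: Classification/TitsFin/TriTen
section
prune_inst 0xc0102204022200000000000000003c5282000000002b0001c100020006808d0000000720800010020000aa040030002002cc00400010000000000000011c0080000002001040a000000000000000000000000000000000000000000000000000000000000
set_option linter.all false
open scoped Cfsg.Agent.FastGrp

-- part: Classification/TitsFin/TriAct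
section
/-!
# Section A of the blueprint `P21-FIN-helper531.md`, (A1)-(A5)
-/

set_option autoImplicit false

namespace Cfsg.Agent.Classification.TitsFin.TriAct

open Subgroup Cfsg Cfsg.Agent.ZN Cfsg.Agent.MinSimple.Geo
open Cfsg.Agent.Classification.TitsFin.Tri (Pt kst K Q)
open Cfsg.Agent.Classification.TitsFin.Mod16
open Cfsg.Agent.ZN.Block (conj_mem_of_normalizer conj_mem_of_normalizer' le_normalizer_of_forall
  mem_normalizer_of card_sup_mul_card_inf card_mul_relIndex' mul_mem_of_relIndex_two)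

universe u

variable {G : Type u} [Group G]

/-! ### the action of `C_p` on `U_p / ⟨p⟩` -/

/-- the module `M = U_p / ⟨p⟩` with the action of `C_p` -/
structure ActData (U C : G → Subgroup G) (p : G) (M : Type u) [CommGroup M] where
  π : ↥(U p) →* M
  α : ↥(C p) →* MulAut M
  card : Nat.card M = 16
  sq : ∀ m : M, m * m = 1
  surj : Function.Surjective π
  ker : ∀ u, π u = 1 ↔ (u : G) = 1 ∨ (u : G) = p
  act : ∀ (c : C p) (u : U p) (hcu : (c : G) * u * (c : G)⁻¹ ∈ U p), α c (π u) = π ⟨_, hcu⟩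
  kerα : ∀ c, α c = 1 ↔ (c : G) ∈ Q U C p
  cardB : Nat.card α.range = 10 ∨ Nat.card α.range = 20

theorem exists_actData [Finite G] {V : Subgroup G} {U C : G → Subgroup G} {p : G} (h : Tri V U C) (hp : Pt V p) :
    ∃ (M : Type u) (_ : CommGroup M) (_ : Finite M), Nonempty (ActData U C p M) := by
  classical
  let _ : CommGroup (U p) := { (inferInstance : Group (U p)) with
    mul_comm := fun a b => Subtype.ext (h.commU hp a.2 b.2) }
  have hpp := h.pp hp
  have hpU : p ∈ U p := h.V_le p hp hp.1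
  let N : Subgroup (U p) := (zpowers p).subgroupOf (U p)
  have hN : ∀ u : U p, u ∈ N ↔ (u : G) = 1 ∨ (u : G) = p := fun u => by
    rw [mem_subgroupOf, mem_zpowers_iff_of_mul_self hpp]
  let φ : C p →* MulAut (U p) := (normalizerMonoidHom (U p)).comp (inclusion (h.C_norm p hp))
  have hφ : ∀ (c : C p) (u : U p), ((φ c u : U p) : G) = c * u * (c : G)⁻¹ := fun c u => rfl
  have hφN : ∀ c : C p, N.map (φ c : U p →* U p) = N := by
    intro c
    ext u
    constructor
    · rintro ⟨v, hv, rfl⟩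
      rw [SetLike.mem_coe, hN] at hv
      rw [hN]
      rcases hv with hv | hv
      · left
        change (c : G) * v * (c : G)⁻¹ = 1
        rw [hv]; group
      · right
        change (c : G) * v * (c : G)⁻¹ = p
        rw [hv, h.c_comm hp c.2]; group
    · intro hu
      refine ⟨u, hu, ?_⟩
      rw [hN] at hu
      apply Subtype.ext
      change (c : G) * u * (c : G)⁻¹ = u
      rcases hu with hu | hu
      · rw [hu]; group
      · rw [hu, h.c_comm hp c.2]; group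
  let α : C p →* MulAut (U p ⧸ N) :=
    { toFun := fun c => QuotientGroup.congr N N (φ c) (hφN c)
      map_one' := by
        ext m
        obtain ⟨u, rfl⟩ := QuotientGroup.mk_surjective m
        change QuotientGroup.mk ((φ 1) u) = QuotientGroup.mk u
        rw [map_one]; rfl
      map_mul' := fun a b => by
        ext m
        obtain ⟨u, rfl⟩ := QuotientGroup.mk_surjective m
        change QuotientGroup.mk ((φ (a * b)) u) = QuotientGroup.mk ((φ a) ((φ b) u))
        rw [map_mul]; rfl }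
  have hα : ∀ (c : C p) (u : U p), α c (QuotientGroup.mk u) = QuotientGroup.mk (φ c u) := fun _ _ => rfl
  have hker : ∀ c, α c = 1 ↔ (c : G) ∈ Q U C p := by
    intro c
    rw [h.mem_Q_iff hp]
    constructor
    · intro hc
      refine ⟨c.2, fun u hu => ?_⟩
      have h1 : α c (QuotientGroup.mk ⟨u, hu⟩) = QuotientGroup.mk ⟨u, hu⟩ := by rw [hc]; rfl
      rw [hα, eq_comm, QuotientGroup.eq, hN] at h1
      have h2 : (((⟨u, hu⟩ : U p)⁻¹ * φ c ⟨u, hu⟩ : U p) : G) = u⁻¹ * (c * u * (c : G)⁻¹) := rfl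
      rw [h2] at h1
      rcases h1 with h1 | h1
      · left
        rw [inv_mul_eq_one] at h1
        exact h1.symm
      · right
        rw [inv_mul_eq_iff_eq_mul] at h1
        rw [h1, h.commU hp hu hpU]
    · rintro ⟨-, h1⟩
      ext m
      obtain ⟨u, rfl⟩ := QuotientGroup.mk_surjective m
      rw [hα]
      change _ = QuotientGroup.mk u
      rw [eq_comm, QuotientGroup.eq, hN]
      change (u : G)⁻¹ * (c * u * (c : G)⁻¹) = 1 ∨ (u : G)⁻¹ * (c * u * (c : G)⁻¹) = p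
      rcases h1 u u.2 with h2 | h2
      · left; rw [h2, inv_mul_cancel]
      · right; rw [h2, inv_mul_eq_iff_eq_mul, h.commU hp u.2 hpU]
  refine ⟨U p ⧸ N, inferInstance, inferInstance, ⟨{
    π := QuotientGroup.mk' N
    α := α
    card := ?_
    sq := ?_
    surj := QuotientGroup.mk'_surjective N
    ker := ?_
    act := ?_
    kerα := hker
    cardB := ?_ }⟩⟩
  · have h1 : Nat.card N = 2 := by
      rw [Nat.card_congr (subgroupOfEquivOfLe (zpowers_le.mpr hpU)).toEquiv, Nat.card_zpowers]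
      exact orderOf_eq_prime (by rw [pow_two]; exact hpp) hp.2
    have h2 := Subgroup.card_eq_card_quotient_mul_card_subgroup N
    rw [h1, h.cardU p hp] at h2
    omega
  · intro m
    obtain ⟨u, rfl⟩ := QuotientGroup.mk_surjective m
    rw [← QuotientGroup.mk_mul]
    have : u * u = 1 := Subtype.ext (h.sqU p hp u u.2)
    rw [this]; rfl
  · intro u
    rw [QuotientGroup.mk'_apply, QuotientGroup.eq_one_iff, hN]
  · intro c u hcu
    rfl
  · have h1 : α.ker = (Q U C p).subgroupOf (C p) := by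
      ext c
      rw [MonoidHom.mem_ker, hker, mem_subgroupOf]
    rw [← Subgroup.index_ker, h1]
    exact h.idx p hp

/-- `f` has odd order and induces an automorphism of order 5 of `U p / ⟨p⟩` -/
structure IsF (U C : G → Subgroup G) (p f : G) : Prop where
  mem : f ∈ C p
  odd : Odd (orderOf f)
  notMem : f ∉ Q U C p
  pow : f ^ 5 ∈ Q U C p

variable {V : Subgroup G} {U C : G → Subgroup G} {p q : G}

namespace ActData

variable {M : Type u} [CommGroup M] (D : ActData U C p M)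

include D

theorem eq_iff (c d : C p) : D.α c = D.α d ↔ (c : G) * (d : G)⁻¹ ∈ Q U C p := by
  have h1 := D.kerα (c * d⁻¹)
  rw [map_mul, map_inv, mul_inv_eq_one] at h1
  exact h1

theorem kerα' {c : G} (hc : c ∈ C p) : D.α ⟨c, hc⟩ = 1 ↔ c ∈ Q U C p := D.kerα _

theorem x5 {f : G} (hf : IsF U C p f) : D.α ⟨f, hf.mem⟩ ^ 5 = 1 := by
  rw [← map_pow, D.kerα]
  exact hf.pow

theorem x1 {f : G} (hf : IsF U C p f) : D.α ⟨f, hf.mem⟩ ≠ 1 := by
  rw [Ne, D.kerα]
  exact hf.notMem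

theorem o5 {f : G} (hf : IsF U C p f) : orderOf (D.α ⟨f, hf.mem⟩) = 5 := by
  have : Fact (Nat.Prime 5) := ⟨by norm_num⟩
  exact orderOf_eq_prime (D.x5 hf) (D.x1 hf)

/-- equality in the module -/
theorem π_eq_iff (u v : U p) : D.π u = D.π v ↔ (u : G) = v ∨ (u : G) = p * v := by
  rw [← mul_inv_eq_one, ← map_inv, ← map_mul, D.ker]
  constructor
  · rintro (h | h)
    · left; exact mul_inv_eq_one.mp h
    · right; exact mul_inv_eq_iff_eq_mul.mp h
  · rintro (h | h)
    · left; exact mul_inv_eq_one.mpr h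
    · right; exact mul_inv_eq_iff_eq_mul.mpr h

end ActData

theorem exists_isF [Finite G] (h : Tri V U C) (hp : Pt V p) : ∃ f, IsF U C p f := by
  obtain ⟨M, _, _, ⟨D⟩⟩ := exists_actData h hp
  obtain ⟨x, ⟨c, rfl⟩, hx5, hx1⟩ := exists_x D.cardB
  have ho : orderOf c ≠ 0 := (orderOf_pos c).ne'
  obtain ⟨k, m, hm, he⟩ := Nat.exists_eq_two_pow_mul_odd ho
  have h1 : orderOf (c ^ 2 ^ k) = m := by
    rw [orderOf_pow, he, Nat.gcd_mul_right_left]
    exact Nat.mul_div_cancel_left _ (pow_pos (by norm_num) _)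
  refine ⟨(c ^ 2 ^ k : C p), (c ^ 2 ^ k).2, ?_, ?_, ?_⟩
  · rw [orderOf_coe, h1]; exact hm
  · rw [← D.kerα, map_pow]
    intro h2
    have : Fact (Nat.Prime 5) := ⟨by norm_num⟩
    have h3 : orderOf (D.α c) = 5 := orderOf_eq_prime hx5 hx1
    have h4 := orderOf_dvd_of_pow_eq_one h2
    rw [h3] at h4
    have := (Nat.Prime.dvd_of_dvd_pow (by norm_num) h4)
    omega
  · have h2 : D.α ((c ^ 2 ^ k) ^ 5) = 1 := by
      rw [← pow_mul, mul_comm, pow_mul, map_pow, map_pow, hx5, one_pow]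
    exact (D.kerα _).mp h2

theorem IsF.conj [Finite G] (h : Tri V U C) (hp : Pt V p) {f c : G} (hf : IsF U C p f) (hc : c ∈ C p) :
    IsF U C p (c * f * c⁻¹) := by
  have hn := h.C_le_normQ hp
  refine ⟨mul_mem (mul_mem hc hf.mem) (inv_mem hc), ?_, fun hm => hf.notMem ?_, ?_⟩
  · have : orderOf (c * f * c⁻¹) = orderOf f := by
      rw [← MulAut.conj_apply]; exact (MulAut.conj c).orderOf_eq f
    rw [this]; exact hf.odd
  · have := conj_mem_of_normalizer' hn hc hm
    have e : c⁻¹ * (c * f * c⁻¹) * c = f := by group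
    rwa [e] at this
  · rw [conj_pow]
    exact conj_mem_of_normalizer hn hc hf.pow

theorem IsF.norm [Finite G] (h : Tri V U C) (hp : Pt V p) {f n : G} (hf : IsF U C p f)
    (hn : n ∈ normalizer (V : Set G)) : IsF U C (n * p * n⁻¹) (n * f * n⁻¹) := by
  have h1 : cj n (Q U C p) = Q U C (n * p * n⁻¹) := by
    change cj n (kst _ _ _) = kst _ _ _
    rw [Tri.cj_kst, h.conjC n hn p hp, h.conjU n hn p hp]
  refine ⟨?_, ?_, fun hm => hf.notMem ?_, ?_⟩
  · rw [← h.conjC n hn p hp]; exact conj_mem_cj hf.mem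
  · have : orderOf (n * f * n⁻¹) = orderOf f := by
      rw [← MulAut.conj_apply]; exact (MulAut.conj n).orderOf_eq f
    rw [this]; exact hf.odd
  · rw [← h1, mem_cj] at hm
    have e : n⁻¹ * (n * f * n⁻¹) * n = f := by group
    rwa [e] at hm
  · rw [← h1, conj_pow]; exact conj_mem_cj hf.pow

/-- (A1) -/
theorem IsF.fixed [Finite G] (h : Tri V U C) (hp : Pt V p) {f u : G} (hf : IsF U C p f) (hu : u ∈ U p)
    (he : f * u * f⁻¹ = u ∨ f * u * f⁻¹ = p * u) : u = 1 ∨ u = p := by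
  obtain ⟨M, _, _, ⟨D⟩⟩ := exists_actData h hp
  have hfu := h.conj_memU hp hf.mem hu
  have h1 : D.π ⟨u, hu⟩ ∈ fx (D.α ⟨f, hf.mem⟩) := by
    rw [mem_fx, D.act ⟨f, hf.mem⟩ ⟨u, hu⟩ hfu, D.π_eq_iff]
    exact he
  rw [fx_eq_bot D.card (D.x5 hf) (D.x1 hf), mem_bot] at h1
  exact (D.ker ⟨u, hu⟩).mp h1

/-- (A1) -/
theorem IsF.irred [Finite G] (h : Tri V U C) (hp : Pt V p) {f : G} (hf : IsF U C p f) {B : Subgroup G}
    (hB : B ≤ U p) (hpB : p ∈ B) (hinv : ∀ b ∈ B, f * b * f⁻¹ ∈ B) :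
    (∀ b ∈ B, b = 1 ∨ b = p) ∨ B = U p := by
  obtain ⟨M, _, _, ⟨D⟩⟩ := exists_actData h hp
  have h1 : ∀ a ∈ (B.subgroupOf (U p)).map D.π, D.α ⟨f, hf.mem⟩ a ∈ (B.subgroupOf (U p)).map D.π := by
    rintro _ ⟨⟨b, hb⟩, hbB, rfl⟩
    have hbB' : b ∈ B := hbB
    exact ⟨⟨f * b * f⁻¹, hB (hinv b hbB')⟩, hinv b hbB', (D.act ⟨f, hf.mem⟩ ⟨b, hb⟩ _).symm⟩
  rcases Mod16.irred D.card (D.x5 hf) (D.x1 hf) h1 with h2 | h2
  · left
    intro b hb
    have h3 : D.π ⟨b, hB hb⟩ ∈ (B.subgroupOf (U p)).map D.π := ⟨⟨b, hB hb⟩, hb, rfl⟩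
    rw [h2, mem_bot] at h3
    exact (D.ker _).mp h3
  · right
    refine le_antisymm hB fun u hu => ?_
    have h3 : D.π ⟨u, hu⟩ ∈ (B.subgroupOf (U p)).map D.π := by rw [h2]; exact mem_top _
    obtain ⟨⟨b, hb⟩, hbB, he⟩ := h3
    have hbB' : b ∈ B := hbB
    rcases (D.π_eq_iff _ _).mp he.symm with h4 | h4
    · have h4' : u = b := h4
      rw [h4']; exact hbB'
    · have h4' : u = p * b := h4
      rw [h4']; exact mul_mem hpB hbB'

theorem ActData.exists_conj [Finite G] {M : Type u} [CommGroup M] (D : ActData U C p M) {f c : G}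
    (hf : IsF U C p f) (hc : c ∈ C p) :
    ∃ k, k < 5 ∧ D.α ⟨c, hc⟩ * D.α ⟨f, hf.mem⟩ * (D.α ⟨c, hc⟩)⁻¹ = D.α ⟨f, hf.mem⟩ ^ k := by
  have h5 : orderOf (⟨D.α ⟨f, hf.mem⟩, ⟨_, rfl⟩⟩ : D.α.range) = 5 := by
    rw [← orderOf_coe]; exact D.o5 hf
  have hfin : Finite D.α.range := Nat.finite_of_card_ne_zero (by rcases D.cardB with h | h <;> rw [h] <;> norm_num)
  obtain ⟨k, hk⟩ := Mod16.conj_mem D.cardB h5 ⟨D.α ⟨c, hc⟩, ⟨_, rfl⟩⟩
  refine ⟨k % 5, Nat.mod_lt _ (by norm_num), ?_⟩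
  have hk' := congrArg Subtype.val hk
  change D.α ⟨c, hc⟩ * D.α ⟨f, hf.mem⟩ * (D.α ⟨c, hc⟩)⁻¹ = D.α ⟨f, hf.mem⟩ ^ k at hk'
  rw [hk', ← D.o5 hf, pow_mod_orderOf]

/-- (A3) `⟨f⟩ Q_p` is normal in `C_p` -/
theorem IsF.normal [Finite G] (h : Tri V U C) (hp : Pt V p) {f c : G} (hf : IsF U C p f) (hc : c ∈ C p) :
    ∃ k, 0 < k ∧ k < 5 ∧ c * f * c⁻¹ * (f ^ k)⁻¹ ∈ Q U C p := by
  obtain ⟨M, _, _, ⟨D⟩⟩ := exists_actData h hp
  obtain ⟨k, hk5, hk⟩ := D.exists_conj hf hc
  refine ⟨k, ?_, hk5, ?_⟩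
  · rcases Nat.eq_zero_or_pos k with h0 | h0
    · exfalso
      rw [h0, pow_zero, mul_inv_eq_one, mul_eq_left] at hk
      exact D.x1 hf hk
    · exact h0
  · rw [← map_inv, ← map_mul, ← map_mul, ← map_pow, D.eq_iff] at hk
    exact hk

/-- (A3) elements of odd order of `C_p` lie in `⟨f⟩ Q_p` -/
theorem IsF.of_odd [Finite G] (h : Tri V U C) (hp : Pt V p) {f c : G} (hf : IsF U C p f) (hc : c ∈ C p)
    (ho : Odd (orderOf c)) : ∃ k < 5, c * (f ^ k)⁻¹ ∈ Q U C p := by
  classical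
  obtain ⟨M, _, _, ⟨D⟩⟩ := exists_actData h hp
  have hfin : Finite D.α.range := Nat.finite_of_card_ne_zero (by rcases D.cardB with h | h <;> rw [h] <;> norm_num)
  let x : D.α.range := ⟨D.α ⟨f, hf.mem⟩, ⟨_, rfl⟩⟩
  let b : D.α.range := ⟨D.α ⟨c, hc⟩, ⟨_, rfl⟩⟩
  have h5 : orderOf x = 5 := by rw [← orderOf_coe]; exact D.o5 hf
  have hnor : (zpowers x).Normal := by
    constructor
    rintro _ ⟨k, rfl⟩ g
    obtain ⟨j, hj⟩ := Mod16.conj_mem D.cardB h5 g
    change g * x ^ k * g⁻¹ ∈ zpowers x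
    rw [← conj_zpow, hj]
    exact zpow_mem (pow_mem (mem_zpowers x) _) _
  have h1 : Nat.card (zpowers x) * (zpowers x).index = Nat.card D.α.range := Subgroup.card_mul_index _
  rw [Nat.card_zpowers, h5] at h1
  have h2 : b ^ (zpowers x).index ∈ zpowers x := Subgroup.pow_index_mem _ b
  have hb : Odd (orderOf b) := by
    have h3 : orderOf b ∣ orderOf (⟨c, hc⟩ : C p) := by
      rw [← orderOf_coe]
      exact orderOf_map_dvd D.α _
    have h4 : orderOf (⟨c, hc⟩ : C p) = orderOf c := by rw [← orderOf_coe]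
    rw [h4] at h3
    exact ho.of_dvd_nat h3
  have h3 : Nat.Coprime (zpowers x).index (orderOf b) := by
    have h4 : (zpowers x).index = 2 ^ 1 ∨ (zpowers x).index = 2 ^ 2 := by
      rcases D.cardB with h | h <;> rw [h] at h1 <;> omega
    rcases h4 with h4 | h4 <;> rw [h4]
    · exact Nat.Coprime.pow_left _ hb.coprime_two_left
    · exact Nat.Coprime.pow_left _ hb.coprime_two_left
  obtain ⟨m, hm⟩ := exists_pow_eq_self_of_coprime h3
  have h4 : b ∈ zpowers x := by rw [← hm]; exact pow_mem h2 _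
  obtain ⟨k, hk⟩ := mem_zpowers_iff_mem_range_orderOf.mp h4 |> Finset.mem_image.mp
  rw [h5] at hk
  refine ⟨k, Finset.mem_range.mp hk.1, ?_⟩
  have h6 := congrArg Subtype.val hk.2
  change D.α ⟨f, hf.mem⟩ ^ k = D.α ⟨c, hc⟩ at h6
  rw [← map_pow] at h6
  exact (D.eq_iff _ _).mp h6.symm

/-- (A3) a 2-element commuting with `f` mod `Q_p` lies in `Q_p` -/
theorem IsF.mem_Q_of_comm [Finite G] (h : Tri V U C) (hp : Pt V p) {f c : G} (hf : IsF U C p f) (hc : c ∈ C p)
    {n : ℕ} (hn : c ^ 2 ^ n ∈ Q U C p) (hcf : c * f * c⁻¹ * f⁻¹ ∈ Q U C p) : c ∈ Q U C p := by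
  obtain ⟨M, _, _, ⟨D⟩⟩ := exists_actData h hp
  have h1 : D.α ⟨c, hc⟩ ^ 2 ^ n = 1 := by rw [← map_pow, D.kerα]; exact hn
  have h2 : D.α ⟨c, hc⟩ * D.α ⟨f, hf.mem⟩ = D.α ⟨f, hf.mem⟩ * D.α ⟨c, hc⟩ := by
    rw [← mul_inv_eq_iff_eq_mul, ← map_inv, ← map_mul, ← map_mul, D.eq_iff]
    exact hcf
  exact (D.kerα _).mp (eq_one_of_comm D.card (D.x5 hf) (D.x1 hf) h1 h2)

theorem ActData.inv_of_sq [Finite G] {M : Type u} [CommGroup M] [Finite M] (D : ActData U C p M) {f c : G}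
    (hf : IsF U C p f) (hc : c ∈ C p) (hcc : c * c ∈ Q U C p) (hcQ : c ∉ Q U C p) :
    D.α ⟨c, hc⟩ * D.α ⟨f, hf.mem⟩ * (D.α ⟨c, hc⟩)⁻¹ = (D.α ⟨f, hf.mem⟩)⁻¹ := by
  obtain ⟨k, -, hk⟩ := D.exists_conj hf hc
  refine conj_eq_inv D.card (D.x5 hf) (D.x1 hf) ?_ ?_ hk
  · rw [← map_mul, D.kerα]; exact hcc
  · rw [Ne, D.kerα]; exact hcQ

/-- (A3) elements `c ∉ Q_p` with `c² ∈ Q_p` invert `f` mod `Q_p` -/
theorem IsF.inv_of_sq [Finite G] (h : Tri V U C) (hp : Pt V p) {f c : G} (hf : IsF U C p f) (hc : c ∈ C p)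
    (hcc : c * c ∈ Q U C p) (hcQ : c ∉ Q U C p) : c * f * c⁻¹ * f ∈ Q U C p := by
  obtain ⟨M, _, _, ⟨D⟩⟩ := exists_actData h hp
  have h1 := D.inv_of_sq hf hc hcc hcQ
  rw [← map_inv, ← map_inv, ← map_mul, ← map_mul, D.eq_iff] at h1
  change c * f * c⁻¹ * f⁻¹⁻¹ ∈ _ at h1
  rwa [inv_inv] at h1

/-- (A3) two such elements whose product is a 2-element are equal mod `Q_p` -/
theorem mul_mem_Q [Finite G] (h : Tri V U C) (hp : Pt V p) {c d : G} (hc : c ∈ C p) (hd : d ∈ C p)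
    (hcc : c * c ∈ Q U C p) (hdd : d * d ∈ Q U C p) (hcQ : c ∉ Q U C p) (hdQ : d ∉ Q U C p) {n : ℕ}
    (hn : (c * d) ^ 2 ^ n ∈ Q U C p) : c * d ∈ Q U C p := by
  obtain ⟨M, _, _, ⟨D⟩⟩ := exists_actData h hp
  obtain ⟨f, hf⟩ := exists_isF h hp
  have h1 := D.inv_of_sq hf hc hcc hcQ
  have h2 := D.inv_of_sq hf hd hdd hdQ
  have h3 : D.α ⟨c * d, mul_mem hc hd⟩ = D.α ⟨c, hc⟩ * D.α ⟨d, hd⟩ := by rw [← map_mul]; rfl
  have h4 : D.α ⟨c * d, mul_mem hc hd⟩ ^ 2 ^ n = 1 := by rw [← map_pow, D.kerα]; exact hn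
  refine (D.kerα' (mul_mem hc hd)).mp (eq_one_of_comm D.card (D.x5 hf) (D.x1 hf) h4 ?_)
  rw [h3]
  generalize D.α ⟨c, hc⟩ = a at *
  generalize D.α ⟨d, hd⟩ = b at *
  generalize D.α ⟨f, hf.mem⟩ = x at *
  calc a * b * x = a * (b * x * b⁻¹) * b := by group
    _ = (a * x * a⁻¹)⁻¹ * a * b := by rw [h2]; group
    _ = x * (a * b) := by rw [h1]; group

/-- (A3) in particular -/
theorem mul_mem_Q_of_mem_U [Finite G] (h : Tri V U C) (hp : Pt V p) (hq : Pt V q) {q' : G} (hq' : Pt V q')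
    {a b : G} (ha : a ∈ U q) (hb : b ∈ U q') (haQ : a ∉ Q U C p) (hbQ : b ∉ Q U C p) : a * b ∈ Q U C p := by
  have key : ∀ q, Pt V q → U q ≤ o2 (centralizer (V : Set G)) := by
    intro q hq
    refine le_o2 (h.U_le_centV hq) ?_ ((h.centV_le hq).trans (h.C_norm q hq))
    exact IsPGroup.of_card (n := 5) (by rw [h.cardU q hq]; norm_num)
  obtain ⟨n, hn⟩ := (isPGroup_o2 (centralizer (V : Set G))) ⟨a * b, mul_mem (key q hq ha) (key q' hq' hb)⟩
  have hn' : (a * b) ^ 2 ^ n = 1 := congrArg Subtype.val hn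
  refine mul_mem_Q h hp (h.U_le_C hp hq ha) (h.U_le_C hp hq' hb) ?_ ?_ haQ hbQ (n := n) ?_
  · rw [h.sqU q hq a ha]; exact one_mem _
  · rw [h.sqU q' hq' b hb]; exact one_mem _
  · rw [hn']; exact one_mem _

/-! ### the size of `[U_p, c]` -/

theorem ActData.card_comap {M : Type u} [CommGroup M] (D : ActData U C p M) (hU : Nat.card (U p) = 32)
    (A : Subgroup M) : Nat.card (A.comap D.π) = 2 * Nat.card A := by
  have h1 : (A.comap D.π).index = A.index := index_comap_of_surjective A D.surj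
  have h2 := (A.comap D.π).card_mul_index
  have h3 := A.card_mul_index
  rw [h1, hU] at h2
  rw [D.card] at h3
  have h4 : 0 < A.index := by
    rcases Nat.eq_zero_or_pos A.index with h | h
    · rw [h] at h3; omega
    · exact h
  have h5 : Nat.card (A.comap D.π) * A.index = 2 * Nat.card A * A.index := by
    rw [h2, mul_assoc, h3]
    norm_num
  exact Nat.eq_of_mul_eq_mul_right h4 h5

theorem ActData.dl_π {M : Type u} [CommGroup M] (D : ActData U C p M) {c v : G} (hc : c ∈ C p) (hv : v ∈ U p)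
    (hcv : c * v * c⁻¹ ∈ U p) : dl (D.α ⟨c, hc⟩) (D.π ⟨v, hv⟩) =
      D.π ⟨c * v * c⁻¹ * v⁻¹, mul_mem hcv (inv_mem hv)⟩ := by
  rw [dl_apply, D.act ⟨c, hc⟩ ⟨v, hv⟩ hcv]
  have e : (⟨c * v * c⁻¹ * v⁻¹, mul_mem hcv (inv_mem hv)⟩ : U p) = ⟨c * v * c⁻¹, hcv⟩ * (⟨v, hv⟩ : U p)⁻¹ := rfl
  rw [e, map_mul, map_inv, inv_eq D.sq, mul_comm]

/-- (A3) a 2-element `c ∉ Q_p` : if `p ∈ W` and `[U_p, c] ≤ W`, then `|W| ≥ 8` -/
theorem eight_le [Finite G] (h : Tri V U C) (hp : Pt V p) {c : G} (hc : c ∈ C p) {n : ℕ}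
    (hn : c ^ 2 ^ n ∈ Q U C p) (hcQ : c ∉ Q U C p) {W : Subgroup G} (hpW : p ∈ W)
    (hW : ∀ u ∈ U p, c * u * c⁻¹ * u⁻¹ ∈ W) : 8 ≤ Nat.card W := by
  obtain ⟨M, _, _, ⟨D⟩⟩ := exists_actData h hp
  obtain ⟨f, hf⟩ := exists_isF h hp
  -- a power `d` of `c`, `d ∉ Q_p`, `d² ∈ Q_p`
  have key : ∃ k : ℕ, c ^ k ∉ Q U C p ∧ c ^ k * c ^ k ∈ Q U C p := by
    clear hW hpW
    induction n with
    | zero => exact absurd (by simpa using hn) hcQ
    | succ n ih =>
      by_cases h1 : c ^ 2 ^ n ∈ Q U C p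
      · exact ih h1
      · refine ⟨2 ^ n, h1, ?_⟩
        rw [← pow_add, ← two_mul, ← pow_succ']
        exact hn
  obtain ⟨k, hk1, hk2⟩ := key
  have h1 := D.inv_of_sq hf (pow_mem hc k) hk2 hk1
  have h2 : fx (D.α ⟨c, hc⟩) ≤ fx (D.α ⟨c ^ k, pow_mem hc k⟩) := by
    have e : D.α ⟨c ^ k, pow_mem hc k⟩ = D.α ⟨c, hc⟩ ^ k := by rw [← map_pow]; rfl
    rw [e]
    intro m hm
    rw [mem_fx] at hm ⊢
    clear e hk1 hk2 h1
    induction k with
    | zero => rw [pow_zero]; rfl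
    | succ k ih =>
      rw [pow_succ, Mod16.mul_apply, hm]
      exact ih
  have h3 := card_fx_le D.card (D.x5 hf) (D.x1 hf) h1
  have h4 := card_le_of_le h2
  have h5 := card_range_dl D.sq (D.α ⟨c, hc⟩)
  rw [D.card] at h5
  have h6 : 4 ≤ Nat.card (dl (D.α ⟨c, hc⟩)).range := by
    by_contra hcon
    push Not at hcon
    have : Nat.card (dl (D.α ⟨c, hc⟩)).range * Nat.card (fx (D.α ⟨c, hc⟩)) ≤ 3 * 4 :=
      Nat.mul_le_mul (by omega) (by omega)
    omega
  have h7 := D.card_comap (h.cardU p hp) (dl (D.α ⟨c, hc⟩)).range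
  have h8 : Nat.card ((dl (D.α ⟨c, hc⟩)).range.comap D.π) ≤ Nat.card W := by
    have hmem : ∀ u : U p, u ∈ (dl (D.α ⟨c, hc⟩)).range.comap D.π → (u : G) ∈ W := by
      rintro u ⟨m, hm⟩
      obtain ⟨v, rfl⟩ := D.surj m
      have hcv := h.conj_memU hp hc v.2
      have h9 := D.dl_π hc v.2 hcv
      rw [hm, D.π_eq_iff] at h9
      rcases h9 with h9 | h9
      · rw [h9]; exact hW v v.2
      · rw [h9]; exact mul_mem hpW (hW v v.2)
    refine Nat.card_le_card_of_injective (fun u => (⟨u.1.1, hmem u.1 u.2⟩ : W)) ?_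
    intro a b hab
    exact Subtype.ext (Subtype.ext (congrArg (fun w : W => (w : G)) hab))
  omega

/-! ### (A4) -/

theorem comm_mem_E (h : Tri V U C) (hp : Pt V p) (hq : Pt V q) {a b : G} (ha : a ∈ U p) (hb : b ∈ U q) :
    a * b * a⁻¹ * b⁻¹ ∈ U p ⊓ U q := by
  refine mem_inf.mpr ⟨?_, ?_⟩
  · have h1 := h.conj_memU hp (h.U_le_C hp hq hb) (inv_mem ha)
    have e : a * b * a⁻¹ * b⁻¹ = a * (b * a⁻¹ * b⁻¹) := by group
    rw [e]; exact mul_mem ha h1
  · exact mul_mem (h.conj_memU hq (h.U_le_C hq hp ha) hb) (inv_mem hb)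

/-- (A4) `U_p ⊓ U_q = [U_p, t]⟨p⟩` -/
theorem exists_of_fix [Finite G] (h : Tri V U C) (hp : Pt V p) (hq : Pt V q) {t : G} (ht : t ∈ U q)
    (htQ : t ∉ Q U C p) {e : G} (he : e ∈ U p) (hte : t * e * t⁻¹ = e ∨ t * e * t⁻¹ = p * e) :
    ∃ v ∈ U p, e = t * v * t⁻¹ * v⁻¹ ∨ e = p * (t * v * t⁻¹ * v⁻¹) := by
  obtain ⟨M, _, _, ⟨D⟩⟩ := exists_actData h hp
  obtain ⟨f, hf⟩ := exists_isF h hp
  have htC := h.U_le_C hp hq ht
  have htt := h.sqU q hq t ht
  have h1 := D.inv_of_sq hf htC (by rw [htt]; exact one_mem _) htQ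
  have h2 : D.α ⟨t, htC⟩ * D.α ⟨t, htC⟩ = 1 := by
    rw [← map_mul, D.kerα]
    change t * t ∈ _
    rw [htt]; exact one_mem _
  have h3 : D.π ⟨e, he⟩ ∈ fx (D.α ⟨t, htC⟩) := by
    rw [mem_fx, D.act ⟨t, htC⟩ ⟨e, he⟩ (h.conj_memU hp htC he), D.π_eq_iff]
    exact hte
  rw [← range_dl_eq D.card D.sq (D.x5 hf) (D.x1 hf) h2 h1] at h3
  obtain ⟨m, hm⟩ := h3
  obtain ⟨v, rfl⟩ := D.surj m
  have h4 := D.dl_π htC v.2 (h.conj_memU hp htC v.2)
  rw [hm, D.π_eq_iff] at h4
  exact ⟨v, v.2, h4⟩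

/-- (A4) for `t ∈ U_q - Q_p` -/
theorem mem_E_iff' [Finite G] (h : Tri V U C) (hp : Pt V p) (hq : Pt V q) {t : G}
    (ht : t ∈ U q) (htQ : t ∉ Q U C p) {u : G} (hu : u ∈ U p) :
    u ∈ U q ↔ t * u * t⁻¹ = u ∨ t * u * t⁻¹ = p * u := by
  constructor
  · intro hu'
    left
    rw [h.commU hq ht hu', mul_inv_cancel_right]
  · intro hte
    obtain ⟨v, hv, h1⟩ := exists_of_fix h hp hq ht htQ hu hte
    have h2 : t * v * t⁻¹ * v⁻¹ ∈ U q := (comm_mem_E h hq hp ht hv).1
    rcases h1 with h1 | h1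
    · rw [h1]; exact h2
    · rw [h1]; exact mul_mem (h.V_le q hq hp.1) h2

theorem mem_E_iff [Finite G] (h : Tri V U C) (hp : Pt V p) (hq : Pt V q) (_ : p ≠ q) {t : G}
    (ht : t ∈ U q) (htQ : t ∉ Q U C p) {u : G} (hu : u ∈ U p) :
    u ∈ U q ↔ t * u * t⁻¹ = u ∨ t * u * t⁻¹ = p * u := mem_E_iff' h hp hq ht htQ hu

theorem card_E [Finite G] (h : Tri V U C) (hp : Pt V p) (hq : Pt V q) (hpq : p ≠ q) :
    Nat.card ↥(U p ⊓ U q) = 8 := by
  obtain ⟨t, ht, htQ⟩ := h.exists_t hp hq hpq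
  obtain ⟨M, _, _, ⟨D⟩⟩ := exists_actData h hp
  obtain ⟨f, hf⟩ := exists_isF h hp
  have htC := h.U_le_C hp hq ht
  have htt := h.sqU q hq t ht
  have h1 := D.inv_of_sq hf htC (by rw [htt]; exact one_mem _) htQ
  have h2 : D.α ⟨t, htC⟩ * D.α ⟨t, htC⟩ = 1 := by
    rw [← map_mul, D.kerα]
    change t * t ∈ _
    rw [htt]; exact one_mem _
  have h3 := card_fx D.card D.sq (D.x5 hf) (D.x1 hf) h2 h1
  have h4 := D.card_comap (h.cardU p hp) (fx (D.α ⟨t, htC⟩))
  rw [h3] at h4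
  have h5 : (U p ⊓ U q).subgroupOf (U p) = (fx (D.α ⟨t, htC⟩)).comap D.π := by
    ext u
    rw [mem_subgroupOf, mem_inf, mem_comap, mem_fx, D.act ⟨t, htC⟩ u (h.conj_memU hp htC u.2), D.π_eq_iff]
    constructor
    · rintro ⟨h6, h7⟩
      exact (mem_E_iff' h hp hq ht htQ u.2).mp h7
    · intro h6
      exact ⟨u.2, (mem_E_iff' h hp hq ht htQ u.2).mpr h6⟩
  have h6 := Nat.card_congr (subgroupOfEquivOfLe (inf_le_left : U p ⊓ U q ≤ U p)).toEquiv
  rw [← h6, h5, h4]

theorem inf_eq_aux [Finite G] (h : Tri V U C) (hp : Pt V p) {q q' : G} (hq : Pt V q) (hq' : Pt V q') (hpq : p ≠ q)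
    (hpq' : p ≠ q') : U p ⊓ U q ≤ U p ⊓ U q' := by
  obtain ⟨t, ht, htQ⟩ := h.exists_t hp hq hpq
  obtain ⟨t', ht', htQ'⟩ := h.exists_t hp hq' hpq'
  have h1 := mul_mem_Q_of_mem_U h hp hq hq' ht ht' htQ htQ'
  rintro u ⟨hu, huq⟩
  refine ⟨hu, (mem_E_iff' h hp hq' ht' htQ' hu).mpr ?_⟩
  have h2 := (mem_E_iff' h hp hq ht htQ hu).mp huq
  have h3 := ((h.mem_Q_iff hp).mp h1).2 u hu
  have htt := inv_eq_self (h.sqU q hq t ht)
  have e1 : t' * u * t'⁻¹ = t⁻¹ * (t * t' * u * (t * t')⁻¹) * t := by group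
  have htp : t * p = p * t := h.c_comm hp (h.U_le_C hp hq ht)
  have e2 : t⁻¹ * u * t = t * u * t⁻¹ := by rw [htt]
  have e3 : t⁻¹ * (p * u) * t = p * (t⁻¹ * u * t) := by
    have : t⁻¹ * p = p * t⁻¹ := by rw [htt]; exact htp
    calc t⁻¹ * (p * u) * t = (t⁻¹ * p) * u * t := by group
      _ = p * (t⁻¹ * u * t) := by rw [this]; group
  have hpp := h.pp hp
  rw [e1]
  rcases h3 with h3 | h3 <;> rw [h3]
  · rw [e2]; exact h2
  · rw [e3, e2]
    rcases h2 with h2 | h2 <;> rw [h2]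
    · right; rfl
    · left; rw [← mul_assoc, hpp, one_mul]

/-- (A4) `E = U_p ⊓ U_q` does not depend on `p ≠ q` -/
theorem inf_eq [Finite G] (h : Tri V U C) {p' q' : G} (hp : Pt V p) (hq : Pt V q) (hpq : p ≠ q) (hp' : Pt V p')
    (hq' : Pt V q') (hpq' : p' ≠ q') : U p ⊓ U q = U p' ⊓ U q' := by
  have step : ∀ {p q q' : G}, Pt V p → Pt V q → Pt V q' → p ≠ q → p ≠ q' → U p ⊓ U q = U p ⊓ U q' :=
    fun hp hq hq' h1 h2 => le_antisymm (inf_eq_aux h hp hq hq' h1 h2) (inf_eq_aux h hp hq' hq h2 h1)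
  by_cases h1 : p = q'
  · subst h1
    rw [step hp hq hp' hpq hpq'.symm, inf_comm]
  · rw [step hp hq hq' hpq h1, inf_comm, step hq' hp hp' (Ne.symm h1) hpq'.symm, inf_comm]

/-- (A4) `K_p ⊓ U_q = E` -/
theorem K_inf_U [Finite G] (h : Tri V U C) (hp : Pt V p) (hq : Pt V q) (hpq : p ≠ q) :
    K U p ⊓ U q = U p ⊓ U q := by
  refine le_antisymm ?_ (inf_le_inf_right _ (h.U_le_K hp))
  rintro g ⟨hgK, hg⟩
  obtain ⟨t, ht, htQ⟩ := h.exists_t hq hp hpq.symm
  refine ⟨(mem_E_iff' h hq hp ht htQ hg).mpr (Or.inl ?_), hg⟩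
  rw [mem_centralizer_iff.mp hgK t ht, mul_inv_cancel_right]

/-! ### (A5) -/

/-- (A5) `F_p = U_p ⊓ Q_q` has index 2 in `U_p` -/
theorem card_F [Finite G] (h : Tri V U C) (hp : Pt V p) (hq : Pt V q) (hpq : p ≠ q) :
    Nat.card ↥(U p ⊓ Q U C q) = 16 := by
  obtain ⟨t, ht, htQ⟩ := h.exists_t hq hp hpq.symm
  have h1 : (U p ⊓ Q U C q).relIndex (U p) = 2 := by
    rw [inf_relIndex_left]
    rw [relIndex, index_eq_two_iff]
    refine ⟨⟨t, ht⟩, fun b => ?_⟩
    rw [mem_subgroupOf, mem_subgroupOf]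
    by_cases hb : (b : G) ∈ Q U C q
    · right
      refine ⟨hb, fun h2 => htQ ?_⟩
      have h3 : (b : G)⁻¹ * (b * t) ∈ Q U C q := mul_mem (inv_mem hb) h2
      rwa [inv_mul_cancel_left] at h3
    · left
      exact ⟨mul_mem_Q_of_mem_U h hq hp hp b.2 ht hb htQ, hb⟩
  have h2 := card_mul_relIndex' (inf_le_left : U p ⊓ Q U C q ≤ U p)
  rw [h1, h.cardU p hp] at h2
  omega

/-- (A5) `[F_q, U_p] ≠ 1` -/
theorem exists_mover [Finite G] (h : Tri V U C) (hp : Pt V p) (hq : Pt V q) (hpq : p ≠ q) :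
    ∃ a ∈ U q ⊓ Q U C p, ∃ b ∈ U p, a * b * a⁻¹ = p * b := by
  by_contra hcon
  push Not at hcon
  have h1 : U q ⊓ Q U C p ≤ K U p ⊓ U q := by
    rintro a ha
    refine ⟨mem_centralizer_iff.mpr fun b hb => ?_, ha.1⟩
    rcases ((h.mem_Q_iff hp).mp ha.2).2 b hb with h2 | h2
    · exact (mul_inv_eq_iff_eq_mul.mp h2).symm
    · exact absurd h2 (hcon a ha b hb)
  rw [K_inf_U h hp hq hpq] at h1
  have h2 := card_le_of_le h1
  rw [card_E h hp hq hpq, card_F h hq hp hpq.symm] at h2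
  omega

end Cfsg.Agent.Classification.TitsFin.TriAct
end

-- part: Classification/TitsFin/TriQK
section
/-!
# Sections (A6)-(A9) of the blueprint `P21-FIN-helper531.md`

`Q_p / K_p` is the full group `Hom(U_p / ⟨p⟩, ⟨p⟩)`, `K_p`, `Q_p`, `C_G(V)` are 2-groups, `[K_p, X_p] ≤ U_p`, the
killing lemma (N) for `X_p`, `X_q`, and `|C_p / Q_p| = 20`.
-/

set_option autoImplicit false
set_option linter.unusedSectionVars false
set_option linter.unusedVariables false

namespace Cfsg.Agent.Classification.TitsFin.TriQK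

open Subgroup Cfsg Cfsg.Agent.ZN Cfsg.Agent.MinSimple.Geo
open Cfsg.Agent.Classification.TitsFin.Tri (Pt kst K Q)
open Cfsg.Agent.Classification.TitsFin.TriAct
open Cfsg.Agent.MinSimple.VModule (oddGen mem_oddGen oddGen_def oddGen_le le_normalizer_oddGen)
open Cfsg.Agent.ZN.Block (conj_mem_of_normalizer conj_mem_of_normalizer' le_normalizer_of_forall
  mem_normalizer_of card_sup_mul_card_inf card_mul_relIndex' mul_mem_of_relIndex_two o2_le o2_conj o2_isPGroup
  le_o2 le_normalizer_o2)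
open Cfsg.Agent.MinSimple.Killing (ncl conj_mem_ncl self_mem_ncl ncl_mono ncl_le ncl_le_of_conj
  conj_mem_of_mem_ncl killing killing_local)
open Cfsg.Agent.Classification.TitsFin.TriPair (Pairing)

universe u

variable {G : Type u} [Group G] [Finite G] {V : Subgroup G} {U C : G → Subgroup G} {p q : G}

theorem inf_mk {A B : Subgroup G} {x : G} (h1 : x ∈ A) (h2 : x ∈ B) : x ∈ A ⊓ B := ⟨h1, h2⟩

/-! ### (A6) -/

theorem pairing (h : Tri V U C) (hp : Pt V p) : Pairing (Q U C p) (U p) p where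
  pp := h.pp hp
  pU := h.p_mem hp hp
  comm := fun u hu v hv => h.commU hp hu hv
  sq := fun u hu => h.sqU p hp u hu
  Np := fun n hn => h.c_comm hp hn.1
  act := fun n hn u hu => ((h.mem_Q_iff hp).mp hn).2 u hu

/-- another point of `V` -/
theorem exists_other (h : Tri V U C) (hp : Pt V p) : ∃ q, Pt V q ∧ p ≠ q := by
  by_contra hcon
  push Not at hcon
  have h1 : V ≤ zpowers p := by
    intro v hv
    by_cases hv1 : v = 1
    · rw [hv1]; exact one_mem _
    · rw [← hcon v ⟨hv, hv1⟩]; exact mem_zpowers p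
  have h2 := Subgroup.card_le_of_le h1
  rw [h.cardV] at h2
  have h3 : Nat.card (zpowers p) ≤ 2 := by
    rw [Nat.card_zpowers]
    exact orderOf_le_of_pow_eq_one (by norm_num) (by rw [pow_two]; exact h.pp hp)
  omega

/-- `f`-invariant subgroups of `U_p` which contain `p` and are moved by something -/
theorem fixed_of_inv (h : Tri V U C) (hp : Pt V p) {f : G} (hf : IsF U C p f) {N : Subgroup G}
    (hN : N ≤ C p) (hinv : ∀ b ∈ N, f * b * f⁻¹ ∈ N) {n v : G} (hn : n ∈ N) (hv : v ∈ U p)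
    (hnv : n * v ≠ v * n) : ∀ u ∈ U p, (∀ n ∈ N, n * u = u * n) → u = 1 ∨ u = p := by
  -- `f` normalises `N`
  have hinv' : ∀ b ∈ N, f⁻¹ * b * f ∈ N := by
    intro b hb
    have e1 : cj f N ≤ N := by
      rintro _ ⟨b, hb, rfl⟩
      exact hinv b hb
    have e2 : cj f N = N := SetLike.coe_injective
      (Set.Finite.eq_of_subset_of_card_le (Set.toFinite (N : Set G)) e1 (by
        have := card_cj f N
        exact this.ge))
    have e3 : b ∈ cj f N := by rw [e2]; exact hb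
    exact mem_cj.mp e3
  let B : Subgroup G := U p ⊓ centralizer (N : Set G)
  have hB : ∀ b ∈ B, f * b * f⁻¹ ∈ B := by
    rintro b ⟨hb1, hb2⟩
    refine ⟨h.conj_memU hp hf.mem hb1, mem_centralizer_iff.mpr fun n hn => ?_⟩
    have e := mem_centralizer_iff.mp hb2 _ (hinv' n hn)
    calc n * (f * b * f⁻¹) = f * ((f⁻¹ * n * f) * b) * f⁻¹ := by group
      _ = f * (b * (f⁻¹ * n * f)) * f⁻¹ := by rw [e]
      _ = f * b * f⁻¹ * n := by group
  have hpB : p ∈ B := ⟨h.p_mem hp hp, mem_centralizer_iff.mpr fun n hn => h.c_comm hp (hN hn)⟩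
  rcases IsF.irred h hp hf inf_le_left hpB hB with h1 | h1
  · intro u hu hc
    exact h1 u ⟨hu, mem_centralizer_iff.mpr hc⟩
  · exfalso
    have h2 : v ∈ U p ⊓ centralizer (N : Set G) := by rw [h1]; exact hv
    exact hnv (mem_centralizer_iff.mp h2.2 n hn)

/-- a mover -/
theorem exists_mover' (h : Tri V U C) (hp : Pt V p) :
    ∃ a ∈ Q U C p, ∃ b ∈ U p, a * b * a⁻¹ = p * b := by
  obtain ⟨q, hq, hpq⟩ := exists_other h hp
  obtain ⟨a, ha, b, hb, hab⟩ := exists_mover h hp hq hpq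
  exact ⟨a, ha.2, b, hb, hab⟩

theorem ne_of_mover (hp : Pt V p) {a b : G} (hab : a * b * a⁻¹ = p * b) : a * b ≠ b * a := by
  intro e
  rw [e, mul_inv_cancel_right] at hab
  exact hp.2 (mul_eq_right.mp hab.symm)

/-- `C_{U_p}(Q_p) = ⟨p⟩` -/
theorem cent_Q (h : Tri V U C) (hp : Pt V p) : ∀ u ∈ U p, (∀ n ∈ Q U C p, n * u = u * n) → u = 1 ∨ u = p := by
  obtain ⟨f, hf⟩ := exists_isF h hp
  obtain ⟨a, ha, b, hb, hab⟩ := exists_mover' h hp
  exact fixed_of_inv h hp hf (Tri.kst_le _ _ _) (fun b hb => conj_mem_of_normalizer (h.C_le_normQ hp) hf.mem hb)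
    ha hb (ne_of_mover hp hab)

/-- the double centraliser property for `Q_p` on `U_p` -/
theorem dc (h : Tri V U C) (hp : Pt V p) {B : Subgroup G} (hpB : p ∈ B) (hB : B ≤ U p) {e : G} (he : e ∈ U p)
    (heB : e ∉ B) : ∃ n ∈ Q U C p, (∀ b ∈ B, n * b = b * n) ∧ n * e * n⁻¹ = p * e := by
  refine (pairing h hp).dc ?_ hB he heB
  rintro u ⟨hu, hc⟩
  rcases cent_Q h hp u hu (mem_centralizer_iff.mp hc) with rfl | rfl
  · exact one_mem _
  · exact hpB

theorem mem_zpowers_p (h : Tri V U C) (hp : Pt V p) {u : G} : u ∈ zpowers p ↔ u = 1 ∨ u = p :=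
  mem_zpowers_iff_of_mul_self (h.pp hp)

/-- (A6) (i) -/
theorem exists_move (h : Tri V U C) (hp : Pt V p) {u : G} (hu : u ∈ U p) (hu1 : u ≠ 1) (hup : u ≠ p) :
    ∃ c ∈ Q U C p, c * u * c⁻¹ = p * u := by
  obtain ⟨n, hn, -, h2⟩ := dc h hp (B := zpowers p) (mem_zpowers p)
    (by rw [zpowers_le]; exact h.p_mem hp hp) hu (by
      rw [mem_zpowers_p h hp]; push Not; exact ⟨hu1, hup⟩)
  exact ⟨n, hn, h2⟩

/-- elements outside `V` are moved by elements of `Q_p ⊓ C_G(V)` -/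
theorem exists_move_V (h : Tri V U C) (hp : Pt V p) {e : G} (he : e ∈ U p) (heV : e ∉ V) :
    ∃ c ∈ Q U C p, c ∈ centralizer (V : Set G) ∧ c * e * c⁻¹ = p * e := by
  obtain ⟨n, hn, h1, h2⟩ := dc h hp (B := V) hp.1 (h.V_le p hp) he heV
  exact ⟨n, hn, mem_centralizer_iff.mpr fun v hv => (h1 v hv).symm, h2⟩

theorem exists_E (h : Tri V U C) (hp : Pt V p) (hq : Pt V q) (hpq : p ≠ q) : ∃ e ∈ U p ⊓ U q, e ∉ V := by
  by_contra hcon
  push Not at hcon
  have h1 : U p ⊓ U q ≤ V := hcon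
  have h2 := Subgroup.card_le_of_le h1
  rw [card_E h hp hq hpq, h.cardV] at h2
  omega

/-- (A6) (ii) -/
theorem exists_move_E (h : Tri V U C) (hp : Pt V p) (hq : Pt V q) (hpq : p ≠ q) :
    ∃ c ∈ Q U C p, c ∈ centralizer (V : Set G) ∧ ∃ e ∈ U p ⊓ U q, c * e * c⁻¹ = p * e := by
  obtain ⟨e, he, heV⟩ := exists_E h hp hq hpq
  obtain ⟨c, h1, h2, h3⟩ := exists_move_V h hp he.1 heV
  exact ⟨c, h1, h2, e, he, h3⟩

theorem card_aux (h : Tri V U C) (hp : Pt V p) {N : Subgroup G} (hN : N ≤ Q U C p) (hKN : K U p ≤ N)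
    (hc : ∀ u ∈ U p, (∀ n ∈ N, n * u = u * n) → u = 1 ∨ u = p) : Nat.card N = 16 * Nat.card (K U p) := by
  have h1 := ((pairing h hp).mono hN).card_eq
  have h2 : U p ⊓ centralizer (N : Set G) = zpowers p := by
    apply le_antisymm
    · rintro u ⟨hu, hu2⟩
      exact (mem_zpowers_p h hp).mpr (hc u hu (mem_centralizer_iff.mp hu2))
    · rw [zpowers_le]
      exact ⟨h.p_mem hp hp, mem_centralizer_iff.mpr fun n hn => h.c_comm hp (hN hn).1⟩
  have h3 : Nat.card (zpowers p) = 2 := by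
    rw [Nat.card_zpowers]
    exact orderOf_eq_prime (by rw [pow_two]; exact h.pp hp) hp.2
  have h4 : N ⊓ centralizer (U p : Set G) = K U p := inf_eq_right.mpr hKN
  rw [h2, h3, h4, h.cardU p hp] at h1
  omega

theorem card_Q (h : Tri V U C) (hp : Pt V p) : Nat.card (Q U C p) = 16 * Nat.card (K U p) :=
  card_aux h hp le_rfl (h.K_le_Q hp) (cent_Q h hp)

/-- (A6) (iii) -/
theorem relIndex_K (h : Tri V U C) (hp : Pt V p) : (K U p).relIndex (Q U C p) = 16 := by
  have h1 := card_mul_relIndex' (h.K_le_Q hp (C := C))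
  rw [card_Q h hp, mul_comm] at h1
  exact Nat.eq_of_mul_eq_mul_right Nat.card_pos h1

/-- (A6) (iii) -/
theorem irred (h : Tri V U C) (hp : Pt V p) {f : G} (hf : IsF U C p f) {N : Subgroup G} (hKN : K U p ≤ N)
    (hN : N ≤ Q U C p) (hinv : ∀ b ∈ N, f * b * f⁻¹ ∈ N) : N = K U p ∨ N = Q U C p := by
  by_cases hex : ∀ n ∈ N, ∀ v ∈ U p, n * v = v * n
  · left
    exact le_antisymm (fun n hn => mem_centralizer_iff.mpr fun v hv => (hex n hn v hv).symm) hKN
  · right
    push Not at hex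
    obtain ⟨n, hn, v, hv, hnv⟩ := hex
    have h1 := card_aux h hp hN hKN (fixed_of_inv h hp hf (hN.trans (Tri.kst_le _ _ _)) hinv hn hv hnv)
    rw [← card_Q h hp] at h1
    exact SetLike.coe_injective (Set.Finite.eq_of_subset_of_card_le (Set.toFinite _) hN h1.ge)


/-! ### (A7) -/

/-- `(y z)ⁿ ∈ N zⁿ` -/
theorem pow_mul_mem {N : Subgroup G} {y z : G} (hy : y ∈ N) (hz : ∀ n ∈ N, z * n * z⁻¹ ∈ N) (n : ℕ) :
    (y * z) ^ n * (z ^ n)⁻¹ ∈ N := by
  induction n with
  | zero => simp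
  | succ n ih =>
    have e : (y * z) ^ (n + 1) * (z ^ (n + 1))⁻¹ = y * (z * ((y * z) ^ n * (z ^ n)⁻¹) * z⁻¹) := by
      rw [pow_succ', pow_succ']; group
    rw [e]
    exact mul_mem hy (hz _ ih)

theorem isF_of (h : Tri V U C) (hp : Pt V p) {f g : G} (hf : IsF U C p f) (hg : g ∈ C p)
    (ho : Odd (orderOf g)) (hgQ : g ∉ Q U C p) : IsF U C p g := by
  refine ⟨hg, ho, hgQ, ?_⟩
  obtain ⟨k, -, hk⟩ := IsF.of_odd h hp hf hg ho
  have hfk : f ^ k ∈ C p := pow_mem hf.mem k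
  have h1 := pow_mul_mem (N := Q U C p) (y := g * (f ^ k)⁻¹) (z := f ^ k) hk
    (fun n hn => conj_mem_of_normalizer (h.C_le_normQ hp) hfk hn) 5
  rw [inv_mul_cancel_right, ← pow_mul, mul_comm k 5, pow_mul] at h1
  have h3 := mul_mem h1 (pow_mem hf.pow k)
  rwa [inv_mul_cancel_right] at h3

/-- elements of odd order of `Q_p` centralise `U_p` -/
theorem mem_K_of_odd (h : Tri V U C) (hp : Pt V p) {g : G} (hg : g ∈ Q U C p) (ho : Odd (orderOf g)) :
    g ∈ K U p := by
  have h1 : g ^ 2 ∈ K U p := by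
    refine mem_centralizer_iff.mpr fun u hu => ?_
    have h2 := ((h.mem_Q_iff hp).mp hg).2
    have hc := h.c_comm hp hg.1
    have h3 : g ^ 2 * u * (g ^ 2)⁻¹ = u := by
      have e : g ^ 2 * u * (g ^ 2)⁻¹ = g * (g * u * g⁻¹) * g⁻¹ := by rw [pow_two]; group
      rw [e]
      rcases h2 u hu with h4 | h4
      · rw [h4, h4]
      · rw [h4]
        calc g * (p * u) * g⁻¹ = (g * p) * g⁻¹ * (g * u * g⁻¹) := by group
          _ = p * (p * u) := by rw [hc, mul_inv_cancel_right, h4]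
          _ = u := by rw [← mul_assoc, h.pp hp, one_mul]
    rw [mul_inv_eq_iff_eq_mul] at h3
    exact h3.symm
  obtain ⟨m, hm⟩ := exists_pow_eq_self_of_coprime (n := 2) (x := g)
    (Nat.coprime_two_left.mpr ho)
  rw [← hm]
  exact pow_mem h1 m

/-- elements of odd order of `C_G(V)` lie in `K_p` -/
theorem mem_K_of_odd_centV (h : Tri V U C) (hp : Pt V p) {g : G} (hg : g ∈ centralizer (V : Set G))
    (ho : Odd (orderOf g)) : g ∈ K U p := by
  by_cases hgQ : g ∈ Q U C p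
  · exact mem_K_of_odd h hp hgQ ho
  exfalso
  obtain ⟨f, hf⟩ := exists_isF h hp
  have h1 := isF_of h hp hf (h.centV_le hp hg) ho hgQ
  obtain ⟨q, hq, hpq⟩ := exists_other h hp
  rcases IsF.fixed h hp h1 (h.p_mem hq hp) (Or.inl (by
    rw [← mem_centralizer_iff.mp hg q hq.1, mul_inv_cancel_right])) with h2 | h2
  · exact hq.2 h2
  · exact hpq h2.symm

theorem oddGen_eq (h : Tri V U C) (hp : Pt V p) : oddGen (centralizer (V : Set G)) = oddGen (K U p) := by
  apply le_antisymm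
  · rw [oddGen_def, closure_le]
    rintro g ⟨hg, ho⟩
    exact mem_oddGen (mem_K_of_odd_centV h hp hg ho) ho
  · exact Cfsg.Agent.MinSimple.VModule.oddGen_mono (h.K_le_centV hp)

theorem C_le_normO (h : Tri V U C) (hp : Pt V p) :
    C p ≤ normalizer (oddGen (centralizer (V : Set G)) : Set G) := by
  rw [oddGen_eq h hp]
  exact (h.C_le_normK hp).trans (Cfsg.Agent.MinSimple.VModule.normalizer_le_normalizer_oddGen _)

/-! the normal closure of a point -/

section ncl

variable {X : Subgroup G}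

/-- `X ⊓ Q_p` does not centralise `U_p` -/
theorem exists_mem_X (h : Tri V U C) (hp : Pt V p) (hX : X ≤ C p) (hn : C p ≤ normalizer (X : Set G))
    {f : G} (hf : IsF U C p f) (hfX : f ∈ X) : ∃ x ∈ X ⊓ Q U C p, ∃ v ∈ U p, x * v ≠ v * x := by
  by_contra hcon
  push Not at hcon
  have hXK : ∀ x ∈ X ⊓ Q U C p, ∀ v ∈ U p, x * v = v * x := hcon
  obtain ⟨y, hy, b, hb, hab⟩ := exists_mover' h hp
  have hyb := ne_of_mover hp hab
  let B : Subgroup G := U p ⊓ centralizer ({y} : Set G)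
  have hpB : p ∈ B := ⟨h.p_mem hp hp, mem_centralizer_singleton_iff.mpr (h.c_comm hp hy.1).symm⟩
  have hk : y * f * y⁻¹ * f⁻¹ ∈ X ⊓ Q U C p := by
    refine inf_mk (mul_mem (conj_mem_of_normalizer hn hy.1 hfX) (inv_mem hfX)) ?_
    have e : y * f * y⁻¹ * f⁻¹ = y * (f * y⁻¹ * f⁻¹) := by group
    rw [e]
    exact mul_mem hy (conj_mem_of_normalizer (h.C_le_normQ hp) hf.mem (inv_mem hy))
  have hB : ∀ b ∈ B, f * b * f⁻¹ ∈ B := by
    rintro u ⟨hu1, hu2⟩
    have hu3 : f * u * f⁻¹ ∈ U p := h.conj_memU hp hf.mem hu1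
    have hu4 := mem_centralizer_singleton_iff.mp hu2
    refine ⟨hu3, mem_centralizer_singleton_iff.mpr ?_⟩
    have h1 := hXK _ hk _ hu3
    have h2 : y * (f * u * f⁻¹) * y⁻¹ = f * u * f⁻¹ := by
      calc y * (f * u * f⁻¹) * y⁻¹ = (y * f * y⁻¹ * f⁻¹) * (f * (y * u) * y⁻¹ * f⁻¹) *
            (y * f * y⁻¹ * f⁻¹)⁻¹ := by group
        _ = (y * f * y⁻¹ * f⁻¹) * (f * (u * y) * y⁻¹ * f⁻¹) * (y * f * y⁻¹ * f⁻¹)⁻¹ := by rw [hu4]
        _ = ((y * f * y⁻¹ * f⁻¹) * (f * u * f⁻¹)) * (y * f * y⁻¹ * f⁻¹)⁻¹ := by group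
        _ = f * u * f⁻¹ := by rw [h1, mul_inv_cancel_right]
    exact (mul_inv_eq_iff_eq_mul.mp h2).symm
  rcases IsF.irred h hp hf inf_le_left hpB hB with h1 | h1
  · -- too many fixed elements
    obtain ⟨q, hq, hpq⟩ := exists_other h hp
    obtain ⟨e, he, heV⟩ := exists_E h hp hq hpq
    have hqU := h.p_mem hq hp
    have hno : ∀ u ∈ U p, u ≠ 1 → u ≠ p → y * u * y⁻¹ = p * u := by
      intro u hu h2 h3
      rcases ((h.mem_Q_iff hp).mp hy).2 u hu with h4 | h4
      · exfalso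
        rcases h1 u ⟨hu, mem_centralizer_singleton_iff.mpr (mul_inv_eq_iff_eq_mul.mp h4).symm⟩ with h5 | h5
        · exact h2 h5
        · exact h3 h5
      · exact h4
    have h2 := hno q hqU hq.2 hpq.symm
    have h3 := hno e he.1 (fun h5 => heV (by rw [h5]; exact one_mem _)) (fun h5 => heV (by rw [h5]; exact hp.1))
    have h4 : y * (q * e) * y⁻¹ = q * e := by
      calc y * (q * e) * y⁻¹ = (y * q * y⁻¹) * (y * e * y⁻¹) := by group
        _ = (p * q) * (p * e) := by rw [h2, h3]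
        _ = (q * p) * (p * e) := by rw [h.commV hp hq]
        _ = q * (p * p) * e := by group
        _ = q * e := by rw [h.pp hp, mul_one]
    have hqe : q * e ∉ V := fun h5 => heV (by
      have := mul_mem (inv_mem hq.1) h5
      rwa [inv_mul_cancel_left] at this)
    rcases h1 _ ⟨mul_mem hqU he.1, mem_centralizer_singleton_iff.mpr (mul_inv_eq_iff_eq_mul.mp h4).symm⟩ with h5 | h5
    · exact hqe (by rw [h5]; exact one_mem _)
    · exact hqe (by rw [h5]; exact hp.1)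
  · have h2 : b ∈ U p ⊓ centralizer ({y} : Set G) := by rw [h1]; exact hb
    exact hyb (mem_centralizer_singleton_iff.mp h2.2).symm

/-- a mover in `X ⊓ Q_p` -/
theorem exists_move_X (h : Tri V U C) (hp : Pt V p) (hX : X ≤ C p) (hn : C p ≤ normalizer (X : Set G))
    {f : G} (hf : IsF U C p f) (hfX : f ∈ X) {u : G} (hu : u ∈ U p) (hu1 : u ≠ 1) (hup : u ≠ p) :
    ∃ x ∈ X ⊓ Q U C p, x * u * x⁻¹ = p * u := by
  obtain ⟨x, hx, v, hv, hxv⟩ := exists_mem_X h hp hX hn hf hfX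
  have h1 := fixed_of_inv h hp hf (N := X ⊓ Q U C p) (inf_le_left.trans hX) (fun b hb =>
    inf_mk (mul_mem (mul_mem hfX hb.1) (inv_mem hfX)) (conj_mem_of_normalizer (h.C_le_normQ hp) hf.mem hb.2))
    hx hv hxv u hu
  by_contra hcon
  push Not at hcon
  refine absurd (h1 fun n hn => ?_) (by push Not; exact ⟨hu1, hup⟩)
  rcases ((h.mem_Q_iff hp).mp hn.2).2 u hu with h2 | h2
  · exact mul_inv_eq_iff_eq_mul.mp h2
  · exact absurd h2 (hcon n hn)

theorem eq_U_of_inv (h : Tri V U C) (hp : Pt V p) {f : G} (hf : IsF U C p f) {B : Subgroup G} (hB : B ≤ U p)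
    (hpB : p ∈ B) (hinv : ∀ b ∈ B, f * b * f⁻¹ ∈ B) {u : G} (hu : u ∈ B) (hu1 : u ≠ 1) (hup : u ≠ p) :
    B = U p := by
  rcases IsF.irred h hp hf hB hpB hinv with h1 | h1
  · rcases h1 u hu with h2 | h2
    · exact absurd h2 hu1
    · exact absurd h2 hup
  · exact h1

/-- `⟨u^X⟩ = U_p` -/
theorem U_le_ncl (h : Tri V U C) (hp : Pt V p) (hX : X ≤ C p) (hn : C p ≤ normalizer (X : Set G))
    {f : G} (hf : IsF U C p f) (hfX : f ∈ X) {u : G} (hu : u ∈ U p) (hu1 : u ≠ 1) (hup : u ≠ p) :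
    U p ≤ ncl X u := by
  obtain ⟨x, hx, hxu⟩ := exists_move_X h hp hX hn hf hfX hu hu1 hup
  have h1 : ncl X u ≤ U p := ncl_le_of_conj hu fun x hx k hk => h.conj_memU hp (hX hx) hk
  have h2 : p ∈ ncl X u := by
    have h3 := mul_mem (conj_mem_ncl (v := u) hx.1) (inv_mem (self_mem_ncl X u))
    rwa [hxu, mul_inv_cancel_right] at h3
  exact (eq_U_of_inv h hp hf h1 h2 (fun b hb => conj_mem_of_mem_ncl hfX hb) (self_mem_ncl X u) hu1 hup).ge

/-- `U_p ≤ X` -/
theorem U_le_X (h : Tri V U C) (hp : Pt V p) (hX : X ≤ C p) (hn : C p ≤ normalizer (X : Set G))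
    {f : G} (hf : IsF U C p f) (hfX : f ∈ X) : U p ≤ X := by
  obtain ⟨q, hq, hpq⟩ := exists_other h hp
  have hqU := h.p_mem hq hp
  obtain ⟨x, hx, hxu⟩ := exists_move_X h hp hX hn hf hfX hqU hq.2 hpq.symm
  have hpX : p ∈ X := by
    have h1 : x * (q * x⁻¹ * q⁻¹) ∈ X := mul_mem hx.1 (conj_mem_of_normalizer hn
      (h.U_le_C hp hp hqU) (inv_mem hx.1))
    have e : x * (q * x⁻¹ * q⁻¹) = (x * q * x⁻¹) * q⁻¹ := by group
    rwa [e, hxu, mul_inv_cancel_right] at h1
  have hfq : f * q * f⁻¹ * q⁻¹ ∈ X ⊓ U p := by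
    refine inf_mk ?_ (mul_mem (h.conj_memU hp hf.mem hqU) (inv_mem hqU))
    have e : f * q * f⁻¹ * q⁻¹ = f * (q * f⁻¹ * q⁻¹) := by group
    rw [e]
    exact mul_mem hfX (conj_mem_of_normalizer hn (h.U_le_C hp hp hqU) (inv_mem hfX))
  have h1 : X ⊓ U p = U p := by
    refine eq_U_of_inv h hp hf inf_le_right ⟨hpX, h.p_mem hp hp⟩ (fun b hb =>
      inf_mk (mul_mem (mul_mem hfX hb.1) (inv_mem hfX)) (h.conj_memU hp hf.mem hb.2)) hfq ?_ ?_
    · intro e
      rcases IsF.fixed h hp hf hqU (Or.inl (mul_inv_eq_one.mp e)) with h2 | h2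
      · exact hq.2 h2
      · exact hpq h2.symm
    · intro e
      rcases IsF.fixed h hp hf hqU (Or.inr (mul_inv_eq_iff_eq_mul.mp e)) with h2 | h2
      · exact hq.2 h2
      · exact hpq h2.symm
  rw [← h1]
  exact inf_le_left

end ncl

theorem p_mem_comm (h : Tri V U C) (hp : Pt V p) (hq : Pt V q) (hpq : p ≠ q) : p ∈ ⁅U p, U q⁆ := by
  obtain ⟨a, ha, b, hb, hab⟩ := exists_mover h hp hq hpq
  rw [commutator_comm]
  have h1 := commutator_mem_commutator ha.1 hb
  rw [commutatorElement_def, hab, mul_inv_cancel_right] at h1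
  exact h1

theorem third_mem_comm (h : Tri V U C) (hp : Pt V p) (hq : Pt V q) (hpq : p ≠ q) : p * q ∈ ⁅U p, U q⁆ := by
  refine mul_mem (p_mem_comm h hp hq hpq) ?_
  rw [commutator_comm]
  exact p_mem_comm h hq hp hpq.symm

/-- killing lemma in general form -/
theorem kill (h : Tri V U C) (hp : Pt V p) (hq : Pt V q) (hpq : p ≠ q) {X Y : Subgroup G} (hX : X ≤ C p)
    (hXn : C p ≤ normalizer (X : Set G)) (hY : Y ≤ C q) (hYn : C q ≤ normalizer (Y : Set G)) {f g : G}
    (hf : IsF U C p f) (hfX : f ∈ X) (hg : IsF U C q g) (hgY : g ∈ Y) {R : Subgroup G} (hR : IsPGroup 2 R)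
    (h1 : X ≤ normalizer (R : Set G)) (h2 : Y ≤ normalizer (R : Set G)) : R = ⊥ := by
  obtain ⟨h3, h4, h5⟩ := h.third hp hq hpq
  have hrp : p * q ∈ U p := h.p_mem h3 hp
  have hrq : p * q ∈ U q := h.p_mem h3 hq
  exact killing_local h.solv (U_le_X h hp hX hXn hf hfX hrp) h3.2
    (U_le_ncl h hp hX hXn hf hfX hrp h3.2 h4) (U_le_ncl h hq hY hYn hg hgY hrq h3.2 h5)
    (third_mem_comm h hp hq hpq) hR h1 h2

theorem oddGen_centV (h : Tri V U C) (hp : Pt V p) : oddGen (centralizer (V : Set G)) = ⊥ := by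
  obtain ⟨q, hq, hpq⟩ := exists_other h hp
  obtain ⟨f, hf⟩ := exists_isF h hp
  obtain ⟨g, hg⟩ := exists_isF h hq
  set O := oddGen (centralizer (V : Set G)) with hO
  have hOC : O ≤ C p := (oddGen_le _).trans (h.centV_le hp)
  have hcj : ∀ c ∈ normalizer (O : Set G), c ∈ normalizer (o2 O : Set G) := by
    intro c hc
    rw [mem_normalizer_iff_cj, cj_o2, mem_normalizer_iff_cj.mp hc]
  have h1 : o2 O = ⊥ := kill h hp hq hpq le_rfl le_normalizer le_rfl le_normalizer hf hf.mem hg hg.mem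
    (o2_isPGroup O) (fun c hc => hcj c (C_le_normO h hp hc)) (fun c hc => hcj c (C_le_normO h hq hc))
  have h2 : O ≤ centralizer (o2 (C p) : Set G) := by
    intro o ho
    refine mem_centralizer_iff.mpr fun w hw => ?_
    have h3 : O ⊓ o2 (C p) ≤ o2 O := by
      refine Block.le_o2 ((o2_isPGroup (C p)).to_le inf_le_right) inf_le_left
        (le_normalizer_of_forall fun l hl m hm => inf_mk (mul_mem (mul_mem hl hm.1) (inv_mem hl))
          (o2_conj (hOC hl) hm.2))
    have h4 : o * w * o⁻¹ * w⁻¹ ∈ O ⊓ o2 (C p) := by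
      refine inf_mk ?_ (mul_mem (o2_conj (hOC ho) hw) (inv_mem hw))
      have e : o * w * o⁻¹ * w⁻¹ = o * (w * o⁻¹ * w⁻¹) := by group
      rw [e]
      exact mul_mem ho (conj_mem_of_normalizer (C_le_normO h hp) (Block.o2_le _ hw) (inv_mem ho))
    have h5 := h3 h4
    rw [h1, mem_bot, mul_inv_eq_one, mul_inv_eq_iff_eq_mul] at h5
    exact h5.symm
  have h3 : O ≤ o2 (C p) := fun o ho => h.char2 p hp ⟨hOC ho, h2 ho⟩
  have h4 : IsPGroup 2 O := (o2_isPGroup (C p)).to_le h3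
  rw [hO, oddGen_def, closure_eq_bot_iff]
  rintro x ⟨hx, ho⟩
  have hxO : x ∈ O := mem_oddGen hx ho
  obtain ⟨k, hk⟩ := h4 ⟨x, hxO⟩
  have hk' : x ^ 2 ^ k = 1 := congrArg Subtype.val hk
  have h5 := orderOf_dvd_of_pow_eq_one hk'
  have h6 : orderOf x = 1 := Nat.Coprime.eq_one_of_dvd
    (Nat.Coprime.pow_right k (Nat.coprime_two_right.mpr ho)) h5
  exact orderOf_eq_one_iff.mp h6

/-- (A7) -/
theorem isPGroup_centV (h : Tri V U C) (hp : Pt V p) : IsPGroup 2 ↥(centralizer (V : Set G)) := by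
  rintro ⟨g, hg⟩
  obtain ⟨a, m, hm, ham⟩ := Nat.exists_eq_two_pow_mul_odd (n := orderOf g) (orderOf_pos g).ne'
  refine ⟨a, Subtype.ext ?_⟩
  change g ^ 2 ^ a = 1
  have h1 : orderOf (g ^ 2 ^ a) = m := by
    rw [orderOf_pow' g (by positivity), ham, Nat.gcd_eq_right (Dvd.intro m rfl),
      Nat.mul_div_cancel_left m (by positivity)]
  have h2 : g ^ 2 ^ a ∈ oddGen (centralizer (V : Set G)) :=
    mem_oddGen (pow_mem hg _) (by rw [h1]; exact hm)
  rw [oddGen_centV h hp] at h2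
  exact mem_bot.mp h2

theorem isPGroup_K (h : Tri V U C) (hp : Pt V p) : IsPGroup 2 ↥(K U p) :=
  (isPGroup_centV h hp).to_le (h.K_le_centV hp)

theorem sq_mem_K (h : Tri V U C) (hp : Pt V p) {g : G} (hg : g ∈ Q U C p) : g ^ 2 ∈ K U p := by
  refine mem_centralizer_iff.mpr fun u hu => ?_
  have h2 := ((h.mem_Q_iff hp).mp hg).2
  have hc := h.c_comm hp hg.1
  have h3 : g ^ 2 * u * (g ^ 2)⁻¹ = u := by
    have e : g ^ 2 * u * (g ^ 2)⁻¹ = g * (g * u * g⁻¹) * g⁻¹ := by rw [pow_two]; group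
    rw [e]
    rcases h2 u hu with h4 | h4
    · rw [h4, h4]
    · rw [h4]
      calc g * (p * u) * g⁻¹ = (g * p) * g⁻¹ * (g * u * g⁻¹) := by group
        _ = p * (p * u) := by rw [hc, mul_inv_cancel_right, h4]
        _ = u := by rw [← mul_assoc, h.pp hp, one_mul]
  rw [mul_inv_eq_iff_eq_mul] at h3
  exact h3.symm

theorem isPGroup_Q (h : Tri V U C) (hp : Pt V p) : IsPGroup 2 ↥(Q U C p) := by
  rintro ⟨g, hg⟩
  obtain ⟨k, hk⟩ := isPGroup_K h hp ⟨g ^ 2, sq_mem_K h hp hg⟩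
  refine ⟨k + 1, Subtype.ext ?_⟩
  have hk' : (g ^ 2) ^ 2 ^ k = 1 := congrArg Subtype.val hk
  change g ^ 2 ^ (k + 1) = 1
  rw [pow_succ', pow_mul, hk']

theorem exists_pow_of_mem_Q (h : Tri V U C) (hp : Pt V p) {g : G} (hg : g ∈ Q U C p) : ∃ n, g ^ 2 ^ n = 1 := by
  obtain ⟨k, hk⟩ := isPGroup_Q h hp ⟨g, hg⟩
  exact ⟨k, congrArg Subtype.val hk⟩

theorem exists_pow_of_mem_centV (h : Tri V U C) (hp : Pt V p) {g : G} (hg : g ∈ centralizer (V : Set G)) :
    ∃ n, g ^ 2 ^ n = 1 := by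
  obtain ⟨k, hk⟩ := isPGroup_centV h hp ⟨g, hg⟩
  exact ⟨k, congrArg Subtype.val hk⟩

theorem eq_one_of_odd {g : G} (ho : Odd (orderOf g)) {n : ℕ} (hn : g ^ 2 ^ n = 1) : g = 1 := by
  have h5 := orderOf_dvd_of_pow_eq_one hn
  have h6 : orderOf g = 1 := Nat.Coprime.eq_one_of_dvd
    (Nat.Coprime.pow_right n (Nat.coprime_two_right.mpr ho)) h5
  exact orderOf_eq_one_iff.mp h6

theorem mem_of_pow_mem {D : Subgroup G} {g : G} (ho : Odd (orderOf g)) {n : ℕ} (hn : g ^ 2 ^ n ∈ D) : g ∈ D := by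
  obtain ⟨m, hm⟩ := exists_pow_eq_self_of_coprime (n := 2 ^ n) (x := g)
    (Nat.Coprime.pow_left n (Nat.coprime_two_left.mpr ho))
  rw [← hm]
  exact pow_mem hn m

/-! ### (A8) -/

/-- (A8) `[K_p, U_q] ≤ E` -/
theorem comm_K_U (h : Tri V U C) (hp : Pt V p) (hq : Pt V q) (hpq : p ≠ q) {k u : G} (hk : k ∈ K U p) (hu : u ∈ U q) :
    k * u * k⁻¹ * u⁻¹ ∈ U p ⊓ U q := by
  rw [← K_inf_U h hp hq hpq]
  refine inf_mk ?_ (mul_mem (h.conj_memU hq (h.K_le_C hq hp hk) hu) (inv_mem hu))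
  have e : k * u * k⁻¹ * u⁻¹ = k * (u * k⁻¹ * u⁻¹) := by group
  rw [e]
  exact mul_mem hk (conj_mem_of_normalizer (h.C_le_normK hp) (h.U_le_C hp hq hu) (inv_mem hk))

/-- `{c ∈ C_p | [K_p, c] ≤ U_p}` -/
def dd (h : Tri V U C) (hp : Pt V p) : Subgroup G where
  carrier := {c | c ∈ C p ∧ ∀ k ∈ K U p, k * c * k⁻¹ * c⁻¹ ∈ U p}
  one_mem' := ⟨one_mem _, fun k _ => by simp⟩
  mul_mem' := by
    rintro a b ⟨ha, ha2⟩ ⟨hb, hb2⟩
    refine ⟨mul_mem ha hb, fun k hk => ?_⟩
    have e : k * (a * b) * k⁻¹ * (a * b)⁻¹ = (k * a * k⁻¹ * a⁻¹) * (a * (k * b * k⁻¹ * b⁻¹) * a⁻¹) := by group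
    rw [e]
    exact mul_mem (ha2 k hk) (h.conj_memU hp ha (hb2 k hk))
  inv_mem' := by
    rintro a ⟨ha, ha2⟩
    refine ⟨inv_mem ha, fun k hk => ?_⟩
    have e : k * a⁻¹ * k⁻¹ * a⁻¹⁻¹ = a⁻¹ * (a * k * a⁻¹ * k⁻¹) * a := by group
    have e2 : a * k * a⁻¹ * k⁻¹ = (k * a * k⁻¹ * a⁻¹)⁻¹ := by group
    rw [e, e2]
    exact h.conj_memU' hp ha (inv_mem (ha2 k hk))

theorem mem_dd (h : Tri V U C) (hp : Pt V p) {c : G} :
    c ∈ dd h hp ↔ c ∈ C p ∧ ∀ k ∈ K U p, k * c * k⁻¹ * c⁻¹ ∈ U p := Iff.rfl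

theorem C_le_norm_dd (h : Tri V U C) (hp : Pt V p) : C p ≤ normalizer (dd h hp : Set G) := by
  refine le_normalizer_of_forall fun c hc d hd => ?_
  rw [mem_dd] at hd ⊢
  refine ⟨mul_mem (mul_mem hc hd.1) (inv_mem hc), fun k hk => ?_⟩
  have e : k * (c * d * c⁻¹) * k⁻¹ * (c * d * c⁻¹)⁻¹ =
      c * ((c⁻¹ * k * c) * d * (c⁻¹ * k * c)⁻¹ * d⁻¹) * c⁻¹ := by group
  rw [e]
  exact h.conj_memU hp hc (hd.2 _ (conj_mem_of_normalizer' (h.C_le_normK hp) hc hk))

theorem mem_of_mul (h : Tri V U C) (hp : Pt V p) {D : Subgroup G} (hD : C p ≤ normalizer (D : Set G))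
    {y d : G} (hy : y ∈ Q U C p) (hd : d ∈ D) {m : ℕ} {g : G} (ho : Odd (orderOf g)) (hg : g ^ 2 ^ m = d * y) :
    g ∈ D := by
  obtain ⟨n, hn⟩ := exists_pow_of_mem_Q h hp hy
  have h1 := pow_mul_mem (N := D) hd (z := y) (fun x hx => conj_mem_of_normalizer hD hy.1 hx) (2 ^ n)
  rw [hn, inv_one, mul_one, ← hg, ← pow_mul, ← pow_add] at h1
  exact mem_of_pow_mem ho h1

theorem isF_mem_dd (h : Tri V U C) (hp : Pt V p) {f : G} (hf : IsF U C p f) : f ∈ dd h hp := by
  obtain ⟨q, hq, hpq⟩ := exists_other h hp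
  obtain ⟨t, ht, htQ⟩ := h.exists_t hp hq hpq
  have htC := h.U_le_C hp hq ht
  have htt : t * t ∈ Q U C p := by rw [h.sqU q hq t ht]; exact one_mem _
  have h1 := IsF.inv_of_sq h hp hf htC htt htQ
  have htD : t ∈ dd h hp := by
    rw [mem_dd]
    exact ⟨htC, fun k hk => (comm_K_U h hp hq hpq hk ht).1⟩
  -- `d = t f⁻¹ t⁻¹ f ∈ D` and `f² = d y`
  have hd : t * (f⁻¹ * t⁻¹ * f) ∈ dd h hp :=
    mul_mem htD (conj_mem_of_normalizer' (C_le_norm_dd h hp) hf.mem (inv_mem htD))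
  have hy : f⁻¹ * (t * f * t⁻¹ * f) * f ∈ Q U C p :=
    conj_mem_of_normalizer' (h.C_le_normQ hp) hf.mem h1
  refine mem_of_mul h hp (C_le_norm_dd h hp) hy hd (m := 1) hf.odd ?_
  rw [pow_one, pow_two]
  group

theorem odd_mem_dd (h : Tri V U C) (hp : Pt V p) {g : G} (hg : g ∈ C p) (ho : Odd (orderOf g)) :
    g ∈ dd h hp := by
  by_cases hgQ : g ∈ Q U C p
  · obtain ⟨n, hn⟩ := exists_pow_of_mem_Q h hp hgQ
    rw [eq_one_of_odd ho hn]
    exact one_mem _
  · obtain ⟨f, hf⟩ := exists_isF h hp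
    exact isF_mem_dd h hp (isF_of h hp hf hg ho hgQ)

/-- (A8) `[K_p, X_p] ≤ U_p`, `X_p = oddGen (C p)` -/
theorem comm_K_X (h : Tri V U C) (hp : Pt V p) {k x : G} (hk : k ∈ K U p) (hx : x ∈ oddGen (C p)) :
    k * x * k⁻¹ * x⁻¹ ∈ U p := by
  have h1 : oddGen (C p) ≤ dd h hp := by
    rw [oddGen_def, closure_le]
    rintro g ⟨hg, ho⟩
    exact odd_mem_dd h hp hg ho
  exact ((mem_dd h hp).mp (h1 hx)).2 k hk

/-- (A8) = (N) -/
theorem killX (h : Tri V U C) (hp : Pt V p) (hq : Pt V q) (hpq : p ≠ q) {R : Subgroup G} (hR : IsPGroup 2 R)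
    (h1 : oddGen (C p) ≤ normalizer (R : Set G)) (h2 : oddGen (C q) ≤ normalizer (R : Set G)) : R = ⊥ := by
  obtain ⟨f, hf⟩ := exists_isF h hp
  obtain ⟨g, hg⟩ := exists_isF h hq
  exact kill h hp hq hpq (oddGen_le _) (le_normalizer_oddGen _) (oddGen_le _) (le_normalizer_oddGen _) hf
    (mem_oddGen hf.mem hf.odd) hg (mem_oddGen hg.mem hg.odd) hR h1 h2

/-- `G` with the conjugation action -/
@[ext] structure CX (G : Type u) where
  /-- the element -/
  val : G

instance : MulAction G (CX G) where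
  smul g x := ⟨g * x.val * g⁻¹⟩
  one_smul x := by
    ext
    change 1 * x.val * 1⁻¹ = x.val
    simp
  mul_smul a b x := by
    ext
    change a * b * x.val * (a * b)⁻¹ = a * (b * x.val * b⁻¹) * a⁻¹
    group

theorem smul_cx (g : G) (x : CX G) : g • x = ⟨g * x.val * g⁻¹⟩ := rfl

/-- (A8) all elements of odd order of `C_p` are `Q_p`-conjugate to powers of `f` (which has order 5) -/
theorem exists_conj_of_odd (h : Tri V U C) (hp : Pt V p) {f g : G} (hf : IsF U C p f) (hg : g ∈ C p)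
    (ho : Odd (orderOf g)) : ∃ x ∈ Q U C p, ∃ k : ℕ, g = x * f ^ k * x⁻¹ := by
  obtain ⟨k, -, hk⟩ := IsF.of_odd h hp hf hg ho
  set d := f ^ k with hd
  have hdC : d ∈ C p := pow_mem hf.mem k
  have hcop : (Nat.card (zpowers g)).Coprime (Nat.card (Q U C p)) := by
    obtain ⟨n, hn⟩ := IsPGroup.iff_card.mp (isPGroup_Q h hp)
    rw [hn, Nat.card_zpowers]
    exact Nat.Coprime.pow_right n (Nat.coprime_two_right.mpr ho)
  have hnorm : ∀ c ∈ C p, ∀ n ∈ Q U C p, c * n * c⁻¹ ∈ Q U C p := fun c hc n hn =>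
    conj_mem_of_normalizer (h.C_le_normQ hp) hc hn
  have hsol : Group.IsSolvable ↥(zpowers g) := by infer_instance
  obtain ⟨x, hx, hfix⟩ := Cfsg.Agent.Solvable.Glauberman.exists_smul_fixed (zpowers g) (Q U C p)
    ((zpowers_le.mpr hg).trans (h.C_le_normQ hp)) hcop (Or.inl hsol) (X := CX G) ⟨d⟩ (by
      intro a ha
      obtain ⟨i, rfl⟩ := mem_zpowers_iff.mp ha
      -- `gⁱ d⁻ⁱ ∈ Q`
      have h1 : ∀ n : ℕ, g ^ n * (d ^ n)⁻¹ ∈ Q U C p := by
        intro n
        have h2 := pow_mul_mem (N := Q U C p) (y := g * d⁻¹) (z := d) hk (fun n hn => hnorm d hdC n hn) n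
        rwa [inv_mul_cancel_right] at h2
      obtain ⟨n, hn⟩ : ∃ n : ℕ, g ^ i = g ^ n := by
        have := (mem_powers_iff_mem_zpowers (x := g) (y := g ^ i)).mpr ⟨i, rfl⟩
        obtain ⟨n, hn⟩ := this
        exact ⟨n, hn.symm⟩
      refine ⟨g ^ n * (d ^ n)⁻¹, h1 n, ?_⟩
      rw [hn, smul_cx, smul_cx]
      refine CX.ext ?_
      change g ^ n * d * (g ^ n)⁻¹ = g ^ n * (d ^ n)⁻¹ * d * (g ^ n * (d ^ n)⁻¹)⁻¹
      have e : g ^ n * (d ^ n)⁻¹ * d * (g ^ n * (d ^ n)⁻¹)⁻¹ = g ^ n * ((d ^ n)⁻¹ * d * d ^ n) * (g ^ n)⁻¹ := by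
        group
      have e2 : (d ^ n)⁻¹ * d * d ^ n = d := by
        rw [mul_assoc, (Commute.self_pow d n).eq, inv_mul_cancel_left]
      rw [e, e2])
  refine ⟨x, hx, k, ?_⟩
  have h1 : g * (x * d * x⁻¹) * g⁻¹ = x * d * x⁻¹ := congrArg CX.val (hfix g (mem_zpowers g))
  set e := x * d * x⁻¹ with he
  have hcomm : Commute g e := mul_inv_eq_iff_eq_mul.mp h1
  -- `g e⁻¹ ∈ Q`
  have h2 : g * e⁻¹ ∈ Q U C p := by
    have h3 : e * d⁻¹ ∈ Q U C p := by
      rw [he, show x * d * x⁻¹ * d⁻¹ = x * (d * x⁻¹ * d⁻¹) by group]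
      exact mul_mem hx (hnorm d hdC _ (inv_mem hx))
    have h4 := mul_mem hk (inv_mem h3)
    have e5 : g * d⁻¹ * (e * d⁻¹)⁻¹ = g * e⁻¹ := by group
    rwa [e5] at h4
  obtain ⟨n, hn⟩ := exists_pow_of_mem_Q h hp h2
  have h5 : Odd (orderOf (g * e⁻¹)) := by
    have h6 : orderOf (g * e⁻¹) ∣ (orderOf g).lcm (orderOf e⁻¹) := (hcomm.inv_right).orderOf_mul_dvd_lcm
    have h7 : Odd (orderOf e⁻¹) := by
      rw [orderOf_inv]
      have h8 : orderOf e = orderOf d := by
        have := orderOf_injective (MulAut.conj x).toMonoidHom (MulAut.conj x).injective d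
        simpa [he] using this
      rw [h8]
      exact Odd.of_dvd_nat hf.odd (orderOf_pow_dvd k)
    refine Odd.of_dvd_nat (Odd.mul ho h7) (h6.trans (Nat.lcm_dvd_mul _ _))
  have h6 := eq_one_of_odd h5 hn
  rw [mul_inv_eq_one] at h6
  exact h6

/-! ### (A9) -/

/-- (A9) in strong form -/
theorem exists_four (h : Tri V U C) (hp : Pt V p) (hq : Pt V q) (hpq : p ≠ q) :
    ∃ c ∈ centralizer (V : Set G), c * c ∉ Q U C p := by
  by_contra hcon
  push Not at hcon
  -- the same for `q`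
  have key : ∀ p q : G, Pt V p → Pt V q → p ≠ q → (∀ c ∈ centralizer (V : Set G), c * c ∈ Q U C p) →
      ∀ c ∈ centralizer (V : Set G), ∀ e ∈ U p ⊓ U q, c * e * c⁻¹ = e ∨ c * e * c⁻¹ = p * e := by
    intro p q hp hq hpq hcon c hc e he
    obtain ⟨t, ht, htQ⟩ := h.exists_t hp hq hpq
    have htV := h.U_le_centV hq ht
    have htC := h.centV_le hp htV
    have hcC := h.centV_le hp hc
    by_cases hcQ : c ∈ Q U C p
    · exact ((h.mem_Q_iff hp).mp hcQ).2 e he.1
    · obtain ⟨n, hn⟩ := exists_pow_of_mem_centV h hp (mul_mem hc htV)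
      have h1 := mul_mem_Q h hp hcC htC (hcon c hc) (by rw [h.sqU q hq t ht]; exact one_mem _) hcQ htQ
        (n := n) (by rw [hn]; exact one_mem _)
      have h2 : c * t * e * (c * t)⁻¹ = c * e * c⁻¹ := by
        have h3 : t * e = e * t := h.commU hq ht he.2
        calc c * t * e * (c * t)⁻¹ = c * (t * e) * t⁻¹ * c⁻¹ := by group
          _ = c * e * c⁻¹ := by rw [h3]; group
      rw [← h2]
      exact ((h.mem_Q_iff hp).mp h1).2 e he.1
  have hcon' : ∀ c ∈ centralizer (V : Set G), c * c ∈ Q U C q := by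
    obtain ⟨n, hn, h1, h2, h3, h4, h5, h6⟩ := h.exists_swap hp hq hpq
    intro c hc
    have h7 : n⁻¹ * c * n ∈ centralizer (V : Set G) := by
      refine mem_centralizer_iff.mpr fun v hv => ?_
      have h8 := mem_centralizer_iff.mp hc (n * v * n⁻¹) ((mem_normalizer_iff.mp hn v).mp hv)
      calc v * (n⁻¹ * c * n) = n⁻¹ * ((n * v * n⁻¹) * c) * n := by group
        _ = n⁻¹ * (c * (n * v * n⁻¹)) * n := by rw [h8]
        _ = n⁻¹ * c * n * v := by group
    have h8 := conj_mem_cj (g := n) (hcon _ h7)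
    have h9 : cj n (Q U C p) = Q U C q := by
      change cj n (kst (C p) (U p) p) = kst (C q) (U q) q
      rw [Tri.cj_kst, h5, h3, h1]
    rw [h9] at h8
    have e : n * (n⁻¹ * c * n * (n⁻¹ * c * n)) * n⁻¹ = c * c := by group
    rwa [e] at h8
  obtain ⟨c, -, hc, e, he, hce⟩ := exists_move_E h hp hq hpq
  rcases key q p hq hp hpq.symm hcon' c hc e ⟨he.2, he.1⟩ with h1 | h1
  · rw [h1] at hce
    exact hp.2 (mul_eq_right.mp hce.symm)
  · rw [h1] at hce
    exact hpq (mul_right_cancel hce).symm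

theorem relIndex_Q (h : Tri V U C) (hp : Pt V p) : (Q U C p).relIndex (C p) = 20 := by
  rcases h.idx p hp with h1 | h1
  · exfalso
    obtain ⟨q, hq, hpq⟩ := exists_other h hp
    obtain ⟨c, hc, hcc⟩ := exists_four h hp hq hpq
    have hn : ((Q U C p).subgroupOf (C p)).Normal := by
      refine ⟨fun x hx l => ?_⟩
      rw [mem_subgroupOf] at hx ⊢
      exact conj_mem_of_normalizer (h.C_le_normQ hp) l.2 hx
    have h2 := Subgroup.pow_index_mem ((Q U C p).subgroupOf (C p)) (⟨c, h.centV_le hp hc⟩ : C p)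
    rw [← Subgroup.relIndex, h1, mem_subgroupOf] at h2
    change c ^ 10 ∈ Q U C p at h2
    obtain ⟨n, hn⟩ := exists_pow_of_mem_centV h hp hc
    -- `c² ∈ ⟨c¹⁰⟩`
    have h3 : c ^ 2 ∈ Q U C p := by
      have h4 : (c ^ 2) ^ 5 ∈ Q U C p := by rw [← pow_mul]; exact h2
      have h5 : Nat.Coprime 5 (orderOf (c ^ 2)) := by
        have h6 : orderOf (c ^ 2) ∣ 2 ^ n := (orderOf_pow_dvd 2).trans (orderOf_dvd_of_pow_eq_one hn)
        exact Nat.Coprime.coprime_dvd_right h6 (Nat.Coprime.pow_right n (by norm_num))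
      obtain ⟨m, hm⟩ := exists_pow_eq_self_of_coprime h5
      rw [← hm]
      exact pow_mem h4 m
    rw [pow_two] at h3
    exact hcc h3
  · exact h1

end Cfsg.Agent.Classification.TitsFin.TriQK
end

-- part: Classification/TitsFin/TriTen
section
/-!
# (A10) of the blueprint `P21-FIN-helper531.md`

`C_{K_p}(X_p) = ⟨p⟩`, `K_p ⊓ K_q = E`, `|K_p| = 32` or `64`.
-/

set_option autoImplicit false

namespace Cfsg.Agent.Classification.TitsFin.TriTen

open Subgroup Cfsg Cfsg.Agent.ZN Cfsg.Agent.MinSimple.Geo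
open Cfsg.Agent.Classification.TitsFin.Tri (Pt kst K Q)
open Cfsg.Agent.Classification.TitsFin.TriAct Cfsg.Agent.Classification.TitsFin.TriQK
open Cfsg.Agent.MinSimple.VModule (oddGen mem_oddGen oddGen_le le_normalizer_oddGen)
open Cfsg.Agent.ZN.Block (conj_mem_of_normalizer conj_mem_of_normalizer' card_mul_relIndex')

universe u

variable {G : Type u} [Group G] [Finite G] {V : Subgroup G} {U C : G → Subgroup G} {p q : G}

/-! ### generalities -/

theorem exists_coset_fixed {G : Type*} [Group G] {U : Subgroup G} [Finite U] (hU : Nat.card U = 32) {f d : G} (hf : f ^ 5 = 1)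
    (hn : ∀ u ∈ U, f * u * f⁻¹ ∈ U) (hd : d⁻¹ * (f * d * f⁻¹) ∈ U) :
    ∃ u ∈ U, f * (d * u) * f⁻¹ = d * u := by
  classical
  have : Fintype U := Fintype.ofFinite U
  have : Fact (Nat.Prime 5) := ⟨by norm_num⟩
  let g : Function.End U := fun u => ⟨d⁻¹ * (f * (d * u.1) * f⁻¹), by
    have e : d⁻¹ * (f * (d * u.1) * f⁻¹) = d⁻¹ * (f * d * f⁻¹) * (f * u.1 * f⁻¹) := by group
    rw [e]
    exact mul_mem hd (hn _ u.2)⟩
  have hg : ∀ (n : ℕ) (u : U), (((g ^ n) u : U) : G) = d⁻¹ * (f ^ n * (d * u.1) * (f ^ n)⁻¹) := by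
    intro n
    induction n with
    | zero =>
      intro u
      show (u : G) = _
      simp
    | succ n ih =>
      intro u
      have e : (g ^ (n + 1)) u = g ((g ^ n) u) := by
        rw [pow_succ']
        rfl
      rw [e]
      show d⁻¹ * (f * (d * (((g ^ n) u : U) : G)) * f⁻¹) = _
      rw [ih u, pow_succ']
      group
  have h5 : g ^ 5 ^ 1 = 1 := by
    funext u
    apply Subtype.ext
    rw [hg]
    show d⁻¹ * (f ^ 5 ^ 1 * (d * u.1) * (f ^ 5 ^ 1)⁻¹) = u.1
    rw [pow_one, hf]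
    group
  have h1 := Equiv.Perm.card_fixedPoints_modEq h5
  have h2 : Fintype.card U = 32 := by rw [← Nat.card_eq_fintype_card, hU]
  rw [h2] at h1
  have h3 : Fintype.card (Function.fixedPoints g) ≠ 0 := by
    intro h0
    rw [h0] at h1
    have : (32 : ℕ) % 5 = 0 % 5 := h1
    norm_num at this
  obtain ⟨⟨u, hu⟩⟩ := Fintype.card_pos_iff.mp (Nat.pos_of_ne_zero h3)
  refine ⟨u.1, u.2, ?_⟩
  have h4 : d⁻¹ * (f * (d * u.1) * f⁻¹) = u.1 := congrArg Subtype.val (show g u = u from hu)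
  exact inv_mul_eq_iff_eq_mul.mp h4

theorem card_le_two_mul {H N : Subgroup G} (hNH : N ≤ H) (h : ∀ x ∈ H, ∀ y ∈ H, x ∉ N → y ∉ N → x⁻¹ * y ∈ N) :
    Nat.card H ≤ 2 * Nat.card N := by
  classical
  by_cases hx : ∃ x ∈ H, x ∉ N
  · obtain ⟨x, hx, hxN⟩ := hx
    have h1 : Nat.card H ≤ Nat.card (Bool × N) := by
      refine Nat.card_le_card_of_injective
        (fun y : H => if hy : (y : G) ∈ N then (true, (⟨y, hy⟩ : N)) else (false, ⟨x⁻¹ * y, h x hx y y.2 hxN hy⟩)) ?_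
      intro y y' e
      dsimp only at e
      split_ifs at e with h1 h2 h2
      · exact Subtype.ext (by simpa using e)
      · simp at e
      · simp at e
      · exact Subtype.ext (by simpa only [_root_.SetLike.coe_eq_coe, _root_.Prod.mk.injEq, _root_.Subtype.mk.injEq, _root_.mul_right_inj, _root_.true_and] using e)
    rw [Nat.card_prod] at h1
    simpa only [_root_.ge_iff_le, _root_.Nat.card_eq_fintype_card, _root_.Fintype.card_bool] using h1
  · push Not at hx
    have : H = N := le_antisymm hx hNH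
    rw [this]
    omega

/-! ### the group `R0 p = C_{K_p}(X_p)` -/

/-- `C_{K_p}(X_p)` -/
def R0 (U C : G → Subgroup G) (p : G) : Subgroup G := K U p ⊓ centralizer (oddGen (C p) : Set G)

omit [Finite G] in
theorem mem_R0 {k : G} : k ∈ R0 U C p ↔ k ∈ K U p ∧ ∀ x ∈ oddGen (C p), x * k = k * x := by
  unfold R0
  rw [mem_inf, mem_centralizer_iff]
  rfl

omit [Finite G] in
theorem K_comm {k u : G} (hk : k ∈ K U p) (hu : u ∈ U p) : u * k = k * u := mem_centralizer_iff.mp hk u hu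

omit [Finite G] in
theorem p_mem_R0 (h : Tri V U C) (hp : Pt V p) : p ∈ R0 U C p := by
  rw [mem_R0]
  exact ⟨h.U_le_K hp (h.V_le p hp hp.1), fun x hx => h.c_comm hp (oddGen_le _ hx)⟩

omit [Finite G] in
theorem R0_norm (h : Tri V U C) (hp : Pt V p) {c k : G} (hc : c ∈ C p) (hk : k ∈ R0 U C p) :
    c * k * c⁻¹ ∈ R0 U C p := by
  rw [mem_R0] at hk ⊢
  refine ⟨conj_mem_of_normalizer (h.C_le_normK hp) hc hk.1, fun x hx => ?_⟩
  have h1 := hk.2 _ (conj_mem_of_normalizer' (le_normalizer_oddGen (C p)) hc hx)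
  calc x * (c * k * c⁻¹) = c * ((c⁻¹ * x * c) * k) * c⁻¹ := by group
    _ = c * (k * (c⁻¹ * x * c)) * c⁻¹ := by rw [h1]
    _ = c * k * c⁻¹ * x := by group

theorem R0_inf_U (h : Tri V U C) (hp : Pt V p) {k : G} (hk : k ∈ R0 U C p) (hu : k ∈ U p) : k = 1 ∨ k = p := by
  obtain ⟨f, hf⟩ := exists_isF h hp
  have h1 := (mem_R0.mp hk).2 f (mem_oddGen hf.mem hf.odd)
  exact hf.fixed h hp hu (Or.inl (by rw [h1, mul_inv_cancel_right]))

/-- `x k x⁻¹ = u k` with `u ∈ U_p` -/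
theorem exists_u (h : Tri V U C) (hp : Pt V p) {k x : G} (hk : k ∈ K U p) (hx : x ∈ oddGen (C p)) :
    ∃ u ∈ U p, x * k * x⁻¹ = u * k := by
  have h1 := comm_K_X h hp hk hx
  refine ⟨(k * x * k⁻¹ * x⁻¹)⁻¹, inv_mem h1, by group⟩

theorem sq_mem_R0 (h : Tri V U C) (hp : Pt V p) {k : G} (hk : k ∈ K U p) : k * k ∈ R0 U C p := by
  rw [mem_R0]
  refine ⟨mul_mem hk hk, fun x hx => ?_⟩
  obtain ⟨u, hu, e⟩ := exists_u h hp hk hx
  have huk := K_comm hk hu
  have e2 : x * (k * k) * x⁻¹ = k * k := by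
    calc x * (k * k) * x⁻¹ = (x * k * x⁻¹) * (x * k * x⁻¹) := by group
      _ = (u * k) * (u * k) := by rw [e]
      _ = u * (k * u) * k := by group
      _ = u * (u * k) * k := by rw [huk]
      _ = (u * u) * (k * k) := by group
      _ = k * k := by rw [h.sqU p hp u hu, one_mul]
  exact mul_inv_eq_iff_eq_mul.mp e2

theorem comm_mem_R0 (h : Tri V U C) (hp : Pt V p) {k l : G} (hk : k ∈ K U p) (hl : l ∈ K U p) :
    k * l * k⁻¹ * l⁻¹ ∈ R0 U C p := by
  rw [mem_R0]
  refine ⟨mul_mem (mul_mem (mul_mem hk hl) (inv_mem hk)) (inv_mem hl), fun x hx => ?_⟩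
  obtain ⟨u, hu, e⟩ := exists_u h hp hk hx
  obtain ⟨v, hv, e'⟩ := exists_u h hp hl hx
  have c1 : Commute u k := K_comm hk hu
  have c2 : Commute u l := K_comm hl hu
  have c3 : Commute v k := K_comm hk hv
  have c4 : Commute v l := K_comm hl hv
  have c5 : Commute u v := h.commU hp hu hv
  have e2 : x * (k * l * k⁻¹ * l⁻¹) * x⁻¹ = k * l * k⁻¹ * l⁻¹ := by
    calc x * (k * l * k⁻¹ * l⁻¹) * x⁻¹ = (x * k * x⁻¹) * (x * l * x⁻¹) * (x * k * x⁻¹)⁻¹ * (x * l * x⁻¹)⁻¹ := by group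
      _ = (u * k) * (v * l) * (u * k)⁻¹ * (v * l)⁻¹ := by rw [e, e']
      _ = (k * u) * (l * v) * (u * k)⁻¹ * (v * l)⁻¹ := by rw [c1.eq, c4.eq]
      _ = k * (u * l) * v * k⁻¹ * u⁻¹ * (l⁻¹ * v⁻¹) := by group
      _ = k * (l * u) * v * k⁻¹ * u⁻¹ * (l⁻¹ * v⁻¹) := by rw [c2.eq]
      _ = k * l * (u * v) * k⁻¹ * u⁻¹ * (l⁻¹ * v⁻¹) := by group
      _ = k * l * (k⁻¹ * (u * v)) * u⁻¹ * (l⁻¹ * v⁻¹) := by
        have : Commute (u * v) k⁻¹ := (c1.mul_left c3).inv_right
        rw [mul_assoc (k * l), this.eq]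
      _ = k * l * k⁻¹ * ((u * v) * u⁻¹) * (l⁻¹ * v⁻¹) := by group
      _ = k * l * k⁻¹ * (v * l⁻¹) * v⁻¹ := by
        rw [c5.eq]
        group
      _ = k * l * k⁻¹ * (l⁻¹ * v) * v⁻¹ := by rw [c4.inv_right.eq]
      _ = _ := by group
  exact mul_inv_eq_iff_eq_mul.mp e2

theorem R0_le_K (h : Tri V U C) (hp : Pt V p) (hq : Pt V q) (hpq : p ≠ q) {k : G} (hk : k ∈ R0 U C p) :
    k ∈ K U q := by
  have hkK := (mem_R0.mp hk).1
  have hkC : k ∈ C q := h.K_le_C hq hp hkK
  have hcm : ∀ u ∈ U q, k * u * k⁻¹ * u⁻¹ = 1 ∨ k * u * k⁻¹ * u⁻¹ = p := by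
    intro u hu
    have h1 := comm_K_U h hp hq hpq hkK hu
    apply R0_inf_U h hp _ h1.1
    have h2 : u * k⁻¹ * u⁻¹ ∈ R0 U C p := R0_norm h hp (h.U_le_C hp hq hu) (inv_mem hk)
    have e : k * u * k⁻¹ * u⁻¹ = k * (u * k⁻¹ * u⁻¹) := by group
    rw [e]
    exact mul_mem hk h2
  have hQ : k ∈ Q U C q := by
    by_contra hQ
    obtain ⟨n, hn⟩ := isPGroup_K h hp ⟨k, hkK⟩
    have hn' : k ^ 2 ^ n = 1 := congrArg Subtype.val hn
    have h8 := eight_le h hq hkC (n := n) (by rw [hn']; exact one_mem _) hQ (W := V) hq.1 (fun u hu => by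
      rcases hcm u hu with e | e
      · rw [e]; exact one_mem _
      · rw [e]; exact hp.1)
    rw [h.cardV] at h8
    omega
  rw [mem_centralizer_iff]
  intro u hu
  rcases ((h.mem_Q_iff hq).mp hQ).2 u hu with e | e
  · exact (mul_inv_eq_iff_eq_mul.mp e).symm
  · exfalso
    rcases hcm u hu with e' | e'
    · rw [e, mul_inv_cancel_right] at e'
      exact hq.2 e'
    · rw [e, mul_inv_cancel_right] at e'
      exact hpq e'.symm

/-! ### `Q_p = (X_p ⊓ Q_p) K_p` -/

theorem pow_five (h : Tri V U C) (hp : Pt V p) {f : G} (hf : IsF U C p f) : f ^ 5 = 1 := by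
  obtain ⟨n, hn⟩ := isPGroup_Q h hp ⟨f ^ 5, hf.pow⟩
  have hn' : (f ^ 5) ^ 2 ^ n = 1 := congrArg Subtype.val hn
  have h1 : orderOf (f ^ 5) ∣ 2 ^ n := orderOf_dvd_of_pow_eq_one hn'
  have h2 : orderOf (f ^ 5) ∣ orderOf f := orderOf_pow_dvd 5
  have h3 : Odd (orderOf (f ^ 5)) := Odd.of_dvd_nat hf.odd h2
  have h4 : Nat.Coprime (orderOf (f ^ 5)) (2 ^ n) := (Nat.Coprime.pow_right n (Nat.coprime_two_right.mpr h3))
  exact orderOf_eq_one_iff.mp (Nat.eq_one_of_dvd_coprimes h4 (dvd_refl _) h1)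

theorem exists_X (h : Tri V U C) (hp : Pt V p) {c : G} (hc : c ∈ Q U C p) :
    ∃ x ∈ oddGen (C p), x ∈ Q U C p ∧ ∃ k ∈ K U p, c = x * k := by
  classical
  obtain ⟨f, hf⟩ := exists_isF h hp
  have hfC := hf.mem
  have hQC : Q U C p ≤ C p := Tri.kst_le _ _ _
  set X := oddGen (C p) ⊓ Q U C p with hX
  have hXn : ∀ c ∈ C p, ∀ x ∈ X, c * x * c⁻¹ ∈ X := fun c hc x hx =>
    ⟨conj_mem_of_normalizer (le_normalizer_oddGen (C p)) hc hx.1, conj_mem_of_normalizer (h.C_le_normQ hp) hc hx.2⟩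
  let N : Subgroup G :=
    { carrier := {c | ∃ x ∈ X, ∃ k ∈ K U p, c = x * k}
      one_mem' := ⟨1, one_mem _, 1, one_mem _, by simp⟩
      mul_mem' := by
        rintro _ _ ⟨x, hx, k, hk, rfl⟩ ⟨y, hy, l, hl, rfl⟩
        refine ⟨x * (k * y * k⁻¹), mul_mem hx (hXn k (h.K_le_C hp hp hk) y hy), k * l, mul_mem hk hl, by group⟩
      inv_mem' := by
        rintro _ ⟨x, hx, k, hk, rfl⟩
        refine ⟨k⁻¹ * x⁻¹ * k, ?_, k⁻¹, inv_mem hk, by group⟩
        have := hXn k⁻¹ (inv_mem (h.K_le_C hp hp hk)) _ (inv_mem hx)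
        rwa [inv_inv] at this }
  have hKN : K U p ≤ N := fun k hk => ⟨1, one_mem _, k, hk, by simp⟩
  have hNQ : N ≤ Q U C p := by
    rintro _ ⟨x, hx, k, hk, rfl⟩
    exact mul_mem hx.2 (h.K_le_Q hp hk)
  have hinv : ∀ b ∈ N, f * b * f⁻¹ ∈ N := by
    rintro _ ⟨x, hx, k, hk, rfl⟩
    exact ⟨f * x * f⁻¹, hXn f hfC x hx, f * k * f⁻¹, conj_mem_of_normalizer (h.C_le_normK hp) hfC hk, by group⟩
  rcases irred h hp hf hKN hNQ hinv with e | e
  · exfalso
    -- every element of `Q_p` is in `K_p`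
    have hall : ∀ x ∈ Q U C p, x ∈ K U p := by
      intro x hx
      have hy : f * x * f⁻¹ * x⁻¹ ∈ K U p := by
        rw [← e]
        refine ⟨f * x * f⁻¹ * x⁻¹, ⟨?_, ?_⟩, 1, one_mem _, by simp⟩
        · have h1 : x * f⁻¹ * x⁻¹ ∈ oddGen (C p) :=
            conj_mem_of_normalizer (le_normalizer_oddGen (C p)) (hQC hx)
              (inv_mem (mem_oddGen hfC hf.odd))
          have e1 : f * x * f⁻¹ * x⁻¹ = f * (x * f⁻¹ * x⁻¹) := by group
          rw [e1]
          exact mul_mem (mem_oddGen hfC hf.odd) h1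
        · exact mul_mem (conj_mem_of_normalizer (h.C_le_normQ hp) hfC hx) ((Q U C p).inv_mem hx)
      set y := f * x * f⁻¹ * x⁻¹ with hydef
      have hxy : x = y⁻¹ * (f * x * f⁻¹) := by rw [hydef]; group
      by_contra hxK
      let B : Subgroup G := U p ⊓ centralizer ({x} : Set G)
      have hpB : p ∈ B := ⟨h.V_le p hp hp.1, mem_centralizer_singleton_iff.mpr (h.c_comm hp (hQC hx)).symm⟩
      have hBinv : ∀ b ∈ B, f * b * f⁻¹ ∈ B := by
        intro b hb
        have hbU : f * b * f⁻¹ ∈ U p := h.conj_memU hp hfC hb.1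
        have hbx : b * x = x * b := mem_centralizer_singleton_iff.mp hb.2
        refine ⟨hbU, mem_centralizer_singleton_iff.mpr ?_⟩
        have hyb := K_comm hy hbU
        -- `f b f⁻¹ * x = x * f b f⁻¹`
        have hyb' : (f * b * f⁻¹) * y⁻¹ = y⁻¹ * (f * b * f⁻¹) := (show Commute (f * b * f⁻¹) y from hyb).inv_right.eq
        calc f * b * f⁻¹ * x = (f * b * f⁻¹) * (y⁻¹ * (f * x * f⁻¹)) := by rw [← hxy]
          _ = ((f * b * f⁻¹) * y⁻¹) * (f * x * f⁻¹) := by group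
          _ = (y⁻¹ * (f * b * f⁻¹)) * (f * x * f⁻¹) := by rw [hyb']
          _ = y⁻¹ * (f * (b * x) * f⁻¹) := by group
          _ = y⁻¹ * (f * (x * b) * f⁻¹) := by rw [hbx]
          _ = (y⁻¹ * (f * x * f⁻¹)) * (f * b * f⁻¹) := by group
          _ = x * (f * b * f⁻¹) := by rw [← hxy]
      rcases hf.irred h hp (B := B) inf_le_left hpB hBinv with hB | hB
      · -- `U_p` has at most four elements
        obtain ⟨u0, hu0, hu0x⟩ : ∃ u ∈ U p, u * x ≠ x * u := by
          by_contra hcon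
          push Not at hcon
          exact hxK (mem_centralizer_iff.mpr hcon)
        have hxu : ∀ u ∈ U p, x * u * x⁻¹ = u ∨ x * u * x⁻¹ = p * u := ((h.mem_Q_iff hp).mp hx).2
        have h0 : x * u0 * x⁻¹ = p * u0 := by
          rcases hxu u0 hu0 with e | e
          · exact absurd (mul_inv_eq_iff_eq_mul.mp e).symm hu0x
          · exact e
        have hfour : (U p : Set G) ⊆ (({1, p, u0, p * u0} : Finset G) : Set G) := by
          classical
          intro u hu
          simp only [Finset.coe_insert, Finset.coe_singleton, Set.mem_insert_iff, Set.mem_singleton_iff]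
          rcases hxu u hu with e | e
          · rcases hB u ⟨hu, mem_centralizer_singleton_iff.mpr (mul_inv_eq_iff_eq_mul.mp e).symm⟩ with e' | e'
            · exact Or.inl e'
            · exact Or.inr (Or.inl e')
          · have hm : u * u0 ∈ B := by
              refine ⟨mul_mem hu hu0, mem_centralizer_singleton_iff.mpr ?_⟩
              have hup : Commute u p := h.commU hp hu (h.V_le p hp hp.1)
              have e1 : x * (u * u0) * x⁻¹ = u * u0 := by
                calc x * (u * u0) * x⁻¹ = (x * u * x⁻¹) * (x * u0 * x⁻¹) := by group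
                  _ = p * u * (p * u0) := by rw [e, h0]
                  _ = p * (u * p) * u0 := by group
                  _ = p * (p * u) * u0 := by rw [hup.eq]
                  _ = (p * p) * (u * u0) := by group
                  _ = u * u0 := by rw [h.pp hp, one_mul]
              exact (mul_inv_eq_iff_eq_mul.mp e1).symm
            have hu00 := h.sqU p hp u0 hu0
            rcases hB _ hm with e' | e'
            · right; right; left
              calc u = (u * u0) * u0⁻¹ := by group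
                _ = u0 := by rw [e', one_mul, inv_eq_of_mul_eq_one_left hu00]
            · right; right; right
              calc u = (u * u0) * u0⁻¹ := by group
                _ = p * u0 := by rw [e', inv_eq_of_mul_eq_one_left hu00]
        have h32 := h.cardU p hp
        have h4 : Nat.card (U p) ≤ 4 := by
          classical
          calc Nat.card (U p) = (U p : Set G).ncard := rfl
            _ ≤ (({1, p, u0, p * u0} : Finset G) : Set G).ncard := Set.ncard_le_ncard hfour (Set.toFinite _)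
            _ = ({1, p, u0, p * u0} : Finset G).card := Set.ncard_coe_finset _
            _ ≤ 4 := Finset.card_le_four
        omega
      · apply hxK
        rw [mem_centralizer_iff]
        intro u hu
        have : u ∈ B := by rw [hB]; exact hu
        exact mem_centralizer_singleton_iff.mp this.2
    have h16 := relIndex_K h hp
    rw [Subgroup.relIndex_eq_one.mpr hall] at h16
    omega
  · have : c ∈ N := by rw [e]; exact hc
    obtain ⟨x, hx, k, hk, e⟩ := this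
    exact ⟨x, hx.1, hx.2, k, hk, e⟩

/-! ### `K_p ⊓ K_q = E R0_p` -/

theorem exists_decomp (h : Tri V U C) (hp : Pt V p) {f d : G} (hf : IsF U C p f) (hd : d ∈ K U p) :
    ∃ u ∈ U p, f * (d * u) * f⁻¹ = d * u := by
  refine exists_coset_fixed (h.cardU p hp) (pow_five h hp hf) (fun u hu => h.conj_memU hp hf.mem hu) ?_
  obtain ⟨u, hu, e⟩ := exists_u h hp hd (mem_oddGen hf.mem hf.odd)
  rw [e, K_comm hd hu, inv_mul_cancel_left]
  exact hu

theorem D_eq (h : Tri V U C) (hp : Pt V p) (hq : Pt V q) (hpq : p ≠ q) {d : G} (hdp : d ∈ K U p)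
    (hdq : d ∈ K U q) : ∃ e ∈ U p ⊓ U q, ∃ r ∈ R0 U C p, d = e * r := by
  obtain ⟨f, hf⟩ := exists_isF h hp
  have hfC := hf.mem
  have hQC : Q U C p ≤ C p := Tri.kst_le _ _ _
  obtain ⟨u, hu, hr⟩ := exists_decomp h hp hf hdp
  set r := d * u with hrdef
  have hrK : r ∈ K U p := mul_mem hdp (h.U_le_K hp hu)
  have hfr : f * r = r * f := mul_inv_eq_iff_eq_mul.mp hr
  -- the subgroup `W1`
  have hR0n : ∀ c ∈ C p, ∀ x ∈ R0 U C p, c * x * c⁻¹ ∈ R0 U C p := fun c hc x hx => R0_norm h hp hc hx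
  let W1 : Subgroup G :=
    { carrier := {x | x ∈ Q U C p ∧ r * x * r⁻¹ * x⁻¹ ∈ R0 U C p}
      one_mem' := ⟨one_mem _, by simp⟩
      mul_mem' := by
        rintro x y ⟨hx, hx'⟩ ⟨hy, hy'⟩
        refine ⟨mul_mem hx hy, ?_⟩
        have e : r * (x * y) * r⁻¹ * (x * y)⁻¹ = (r * x * r⁻¹ * x⁻¹) * (x * (r * y * r⁻¹ * y⁻¹) * x⁻¹) := by group
        rw [e]
        exact mul_mem hx' (hR0n x (hQC hx) _ hy')
      inv_mem' := by
        rintro x ⟨hx, hx'⟩
        refine ⟨inv_mem hx, ?_⟩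
        have e : r * x⁻¹ * r⁻¹ * x⁻¹⁻¹ = x⁻¹ * (r * x * r⁻¹ * x⁻¹)⁻¹ * x⁻¹⁻¹ := by group
        rw [e]
        exact hR0n x⁻¹ (inv_mem (hQC hx)) _ (inv_mem hx') }
  have hKW : K U p ≤ W1 := fun k hk => ⟨h.K_le_Q hp hk, comm_mem_R0 h hp hrK hk⟩
  have hWQ : W1 ≤ Q U C p := fun x hx => hx.1
  have hinv : ∀ x ∈ W1, f * x * f⁻¹ ∈ W1 := by
    rintro x ⟨hx, hx'⟩
    refine ⟨conj_mem_of_normalizer (h.C_le_normQ hp) hfC hx, ?_⟩
    have e : r * (f * x * f⁻¹) * r⁻¹ * (f * x * f⁻¹)⁻¹ = f * (r * x * r⁻¹ * x⁻¹) * f⁻¹ := by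
      have hrf : r⁻¹ * f = f * r⁻¹ := (show Commute f r from hfr).symm.inv_left.eq
      calc r * (f * x * f⁻¹) * r⁻¹ * (f * x * f⁻¹)⁻¹ = (r * f) * x * (f⁻¹ * r⁻¹ * f) * x⁻¹ * f⁻¹ := by group
        _ = (f * r) * x * (f⁻¹ * (r⁻¹ * f)) * x⁻¹ * f⁻¹ := by rw [hfr]; group
        _ = (f * r) * x * (f⁻¹ * (f * r⁻¹)) * x⁻¹ * f⁻¹ := by rw [hrf]
        _ = _ := by group
    rw [e]
    exact hR0n f hfC _ hx'
  have hW : W1 = Q U C p := by
    rcases irred h hp hf hKW hWQ hinv with e | e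
    · exfalso
      obtain ⟨a, ha, b, hb, hab⟩ := exists_mover h hp hq hpq
      have hda : d * a = a * d := (K_comm hdq ha.1).symm
      have haW : a ∈ W1 := by
        refine ⟨ha.2, ?_⟩
        have hau := ((h.mem_Q_iff hp).mp ha.2).2 u hu
        have huu := h.sqU p hp u hu
        -- `[r, a] = d (u a u⁻¹ a⁻¹) d⁻¹ [d, a]`
        have e2 : r * a * r⁻¹ * a⁻¹ = d * (u * (a * u⁻¹ * a⁻¹)) * d⁻¹ := by
          have hda' : a * d⁻¹ = d⁻¹ * a := (show Commute d a from hda).symm.inv_right.eq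
          calc r * a * r⁻¹ * a⁻¹ = d * u * a * u⁻¹ * (d⁻¹ * a⁻¹) := by rw [hrdef]; group
            _ = d * u * a * u⁻¹ * (a * d)⁻¹ := by group
            _ = d * u * a * u⁻¹ * (d * a)⁻¹ := by rw [hda]
            _ = _ := by group
        rw [e2]
        have hp0 := p_mem_R0 h hp
        have h3 : u * (a * u⁻¹ * a⁻¹) ∈ R0 U C p := by
          have e3 : a * u⁻¹ * a⁻¹ = (a * u * a⁻¹)⁻¹ := by group
          rw [e3]
          rcases hau with e4 | e4
          · rw [e4, mul_inv_cancel]; exact one_mem _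
          · rw [e4, mul_inv_rev, mul_inv_cancel_left]; exact inv_mem hp0
        exact hR0n d (h.K_le_C hp hp hdp) _ h3
      rw [e] at haW
      have := K_comm haW hb
      have h5 : p * b = b := by rw [← hab, ← this, mul_inv_cancel_right]
      exact hp.2 (by simpa using h5)
    · exact e
  -- `r` centralises `x⁻¹ f x`
  have hcen : ∀ x ∈ Q U C p, (x⁻¹ * f * x) * r = r * (x⁻¹ * f * x) := by
    intro x hx
    have hxW : x ∈ W1 := by rw [hW]; exact hx
    have h1 := (mem_R0.mp hxW.2).2 f (mem_oddGen hfC hf.odd)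
    -- f commutes with `r x r⁻¹ x⁻¹` and `r`, hence with `x r⁻¹ x⁻¹`
    have c1 : Commute f (r * x * r⁻¹ * x⁻¹) := h1
    have c2 : Commute f r := hfr
    have c3 : Commute f (r⁻¹ * (r * x * r⁻¹ * x⁻¹)) := c2.inv_right.mul_right c1
    have e3 : r⁻¹ * (r * x * r⁻¹ * x⁻¹) = x * r⁻¹ * x⁻¹ := by group
    rw [e3] at c3
    have c4 : Commute (x⁻¹ * f * x) r⁻¹ := by
      show (x⁻¹ * f * x) * r⁻¹ = r⁻¹ * (x⁻¹ * f * x)
      calc (x⁻¹ * f * x) * r⁻¹ = x⁻¹ * (f * (x * r⁻¹ * x⁻¹)) * x := by group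
        _ = x⁻¹ * ((x * r⁻¹ * x⁻¹) * f) * x := by rw [c3.eq]
        _ = r⁻¹ * (x⁻¹ * f * x) := by group
    have := c4.inv_right
    rwa [inv_inv] at this
  have hrR : r ∈ R0 U C p := by
    rw [mem_R0]
    refine ⟨hrK, fun x hx => ?_⟩
    have hle : oddGen (C p) ≤ centralizer ({r} : Set G) := by
      unfold oddGen
      rw [closure_le]
      rintro g ⟨hg, ho⟩
      obtain ⟨y, hy, k, rfl⟩ := exists_conj_of_odd h hp hf hg ho
      have h1 := hcen y⁻¹ ((Q U C p).inv_mem hy)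
      rw [inv_inv] at h1
      have h2 : y * f ^ k * y⁻¹ = (y * f * y⁻¹) ^ k := by rw [conj_pow]
      rw [h2]
      exact mem_centralizer_singleton_iff.mpr ((show Commute (y * f * y⁻¹) r from h1).pow_left k).eq
    exact mem_centralizer_singleton_iff.mp (hle hx)
  refine ⟨u⁻¹, ?_, r, hrR, ?_⟩
  · have h1 : u⁻¹ ∈ K U q := by
      have h2 : u⁻¹ = r⁻¹ * d := by rw [hrdef]; group
      rw [h2]
      exact mul_mem (inv_mem (R0_le_K h hp hq hpq hrR)) hdq
    have h3 : u⁻¹ ∈ K U q ⊓ U p := ⟨h1, (U p).inv_mem hu⟩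
    rw [K_inf_U h hq hp hpq.symm] at h3
    exact ⟨h3.2, h3.1⟩
  · rw [hrdef]
    calc d = d * u⁻¹ * u := by group
      _ = u⁻¹ * d * u := by rw [K_comm hdp (inv_mem hu)]
      _ = _ := by group

/-! ### `R0_p = ⟨p⟩` -/

theorem R0_inf (h : Tri V U C) (hp : Pt V p) (hq : Pt V q) (hpq : p ≠ q) {k : G} (hk : k ∈ R0 U C p)
    (hk' : k ∈ R0 U C q) : k = 1 := by
  have h1 : R0 U C p ⊓ R0 U C q = ⊥ := by
    refine killX h hp hq hpq ((isPGroup_K h hp).to_le (inf_le_left.trans inf_le_left)) ?_ ?_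
    · intro x hx
      have hc : ∀ r ∈ R0 U C p ⊓ R0 U C q, x * r * x⁻¹ = r := fun r hr => by
        rw [(mem_R0.mp hr.1).2 x hx, mul_inv_cancel_right]
      have hc' : ∀ r ∈ R0 U C p ⊓ R0 U C q, x⁻¹ * r * x = r := fun r hr => by
        rw [mul_assoc, ← (mem_R0.mp hr.1).2 x hx, inv_mul_cancel_left]
      exact Cfsg.Agent.ZN.Block.mem_normalizer_of (fun m hm => by rw [hc m hm]; exact hm)
        (fun m hm => by rw [hc' m hm]; exact hm)
    · intro x hx
      have hc : ∀ r ∈ R0 U C p ⊓ R0 U C q, x * r * x⁻¹ = r := fun r hr => by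
        rw [(mem_R0.mp hr.2).2 x hx, mul_inv_cancel_right]
      have hc' : ∀ r ∈ R0 U C p ⊓ R0 U C q, x⁻¹ * r * x = r := fun r hr => by
        rw [mul_assoc, ← (mem_R0.mp hr.2).2 x hx, inv_mul_cancel_left]
      exact Cfsg.Agent.ZN.Block.mem_normalizer_of (fun m hm => by rw [hc m hm]; exact hm)
        (fun m hm => by rw [hc' m hm]; exact hm)
  have : k ∈ R0 U C p ⊓ R0 U C q := ⟨hk, hk'⟩
  rw [h1] at this
  exact mem_bot.mp this

theorem mem_V (h : Tri V U C) (hp : Pt V p) (hq : Pt V q) (hpq : p ≠ q) {v : G} (hv : v ∈ V) :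
    v = 1 ∨ v = p ∨ v = q ∨ v = p * q := by
  classical
  obtain ⟨h1, h2, h3⟩ := h.third hp hq hpq
  have hsub : (({1, p, q, p * q} : Finset G) : Set G) ⊆ (V : Set G) := by
    intro x hx
    simp only [Finset.coe_insert, Finset.coe_singleton, Set.mem_insert_iff, Set.mem_singleton_iff] at hx
    rcases hx with rfl | rfl | rfl | rfl
    · exact one_mem V
    · exact hp.1
    · exact hq.1
    · exact h1.1
  have hc : ({1, p, q, p * q} : Finset G).card = 4 := by
    rw [Finset.card_eq_succ]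
    refine ⟨1, {p, q, p * q}, ?_, rfl, Finset.card_eq_three.mpr ⟨p, q, p * q, hpq, h2.symm, h3.symm, rfl⟩⟩
    simp only [Finset.mem_insert, Finset.mem_singleton, not_or]
    exact ⟨hp.2.symm, hq.2.symm, h1.2.symm⟩
  have heq : (({1, p, q, p * q} : Finset G) : Set G) = (V : Set G) := by
    refine Set.eq_of_subset_of_ncard_le hsub ?_ (Set.toFinite _)
    rw [Set.ncard_coe_finset, hc]
    exact le_of_eq h.cardV
  have hv' : v ∈ (V : Set G) := hv
  rw [← heq] at hv'
  simpa only [Finset.coe_insert, Finset.coe_singleton, Set.mem_insert_iff, Set.mem_singleton_iff] using hv'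

theorem eq_one_or_of_R0 (h : Tri V U C) (hp : Pt V p) (hq : Pt V q) (hpq : p ≠ q) {k : G} (hk : k ∈ R0 U C p) :
    k = 1 ∨ k = p := by
  have hkp := (mem_R0.mp hk).1
  have hkq := R0_le_K h hp hq hpq hk
  obtain ⟨e, he, r, hr, rfl⟩ := D_eq h hq hp hpq.symm hkq hkp
  obtain ⟨c, hc, hcV, e', he', hce'⟩ := exists_move_E h hp hq hpq
  obtain ⟨x, hxX, hxQ, k', hk', rfl⟩ := exists_X h hp hc
  have hxV : x ∈ centralizer (V : Set G) := by
    have : x = (x * k') * k'⁻¹ := by group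
    rw [this]
    exact mul_mem hcV (inv_mem (h.K_le_centV hp hk'))
  have hxe' : x * e' * x⁻¹ = p * e' := by
    rw [← hce']
    have := K_comm hk' he'.1
    calc x * e' * x⁻¹ = x * (e' * k') * k'⁻¹ * x⁻¹ := by group
      _ = x * (k' * e') * k'⁻¹ * x⁻¹ := by rw [this]
      _ = _ := by group
  have hxC : x ∈ C q := h.centV_le hq hxV
  have hxr : x * r * x⁻¹ ∈ R0 U C q := R0_norm h hq hxC hr
  have hxk : x * (e * r) = (e * r) * x := (mem_R0.mp hk).2 x hxX
  have h1 : e⁻¹ * (x * e * x⁻¹) ∈ R0 U C q := by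
    have : e⁻¹ * (x * e * x⁻¹) = r * (x * r * x⁻¹)⁻¹ := by
      have h2 : x * e * x⁻¹ = (e * r) * (x * r * x⁻¹)⁻¹ := by
        calc x * e * x⁻¹ = (x * (e * r)) * x⁻¹ * (x * r * x⁻¹)⁻¹ := by group
          _ = ((e * r) * x) * x⁻¹ * (x * r * x⁻¹)⁻¹ := by rw [hxk]
          _ = _ := by group
      rw [h2]
      group
    rw [this]
    exact mul_mem hr (inv_mem hxr)
  have hxe : x * e * x⁻¹ = e := by
    rcases ((h.mem_Q_iff hp).mp hxQ).2 e he.2 with h2 | h2
    · exact h2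
    · exfalso
      have h3 : e⁻¹ * (x * e * x⁻¹) = p := by
        rw [h2, h.commU hp (h.V_le p hp hp.1) he.2, inv_mul_cancel_left]
      rw [h3] at h1
      rcases R0_inf_U h hq h1 (h.V_le q hq hp.1) with h4 | h4
      · exact hp.2 h4
      · exact hpq h4
  -- `e ∈ V`
  have heV : e ∈ V := by
    have hle : V ≤ (U p ⊓ U q) ⊓ centralizer ({x} : Set G) := by
      intro v hv
      exact ⟨⟨h.V_le p hp hv, h.V_le q hq hv⟩, mem_centralizer_singleton_iff.mpr (mem_centralizer_iff.mp hxV v hv)⟩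
    have h8 := card_E h hp hq hpq
    have hlt : (U p ⊓ U q) ⊓ centralizer ({x} : Set G) ≠ U p ⊓ U q := by
      intro heq
      have : e' ∈ (U p ⊓ U q) ⊓ centralizer ({x} : Set G) := by rw [heq]; exact he'
      have h5 := mem_centralizer_singleton_iff.mp this.2
      rw [← h5, mul_inv_cancel_right] at hxe'
      exact hp.2 (by simpa using hxe')
    have hdvd := card_dvd_of_le (inf_le_left : (U p ⊓ U q) ⊓ centralizer ({x} : Set G) ≤ U p ⊓ U q)
    have hge := Nat.le_of_dvd Nat.card_pos (card_dvd_of_le hle)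
    rw [h.cardV] at hge
    rw [h8] at hdvd
    have hne : Nat.card ↥((U p ⊓ U q) ⊓ centralizer ({x} : Set G)) ≠ 8 := by
      intro h9
      exact hlt (eq_of_le_of_card_ge inf_le_left (by rw [h9, h8]))
    have h4 : Nat.card ↥((U p ⊓ U q) ⊓ centralizer ({x} : Set G)) = 4 := by
      have h10 := Nat.le_of_dvd (by norm_num) hdvd
      interval_cases hh : Nat.card ↥((U p ⊓ U q) ⊓ centralizer ({x} : Set G)) <;> omega
    have hVeq := eq_of_le_of_card_ge hle (by rw [h4, h.cardV])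
    rw [hVeq]
    exact ⟨⟨he.2, he.1⟩, mem_centralizer_singleton_iff.mpr (mul_inv_eq_iff_eq_mul.mp hxe).symm⟩
  have hpp := h.pp hp
  have hqq := h.pp hq
  have hp0 := p_mem_R0 h hp
  have hq0 := p_mem_R0 h hq
  rcases mem_V h hp hq hpq heV with rfl | rfl | rfl | rfl
  · left
    exact R0_inf h hp hq hpq hk (by rw [one_mul]; exact hr)
  · right
    have h5 : r = 1 := R0_inf h hp hq hpq (by
      have : r = e * (e * r) := by rw [← mul_assoc, hpp, one_mul]
      rw [this]; exact mul_mem hp0 hk) hr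
    rw [h5, mul_one]
  · left
    exact R0_inf h hp hq hpq hk (mul_mem hq0 hr)
  · right
    have h5 : q * r = 1 := R0_inf h hp hq hpq (by
      have : q * r = p * (p * q * r) := by
        calc q * r = (p * p) * (q * r) := by rw [hpp, one_mul]
          _ = _ := by group
      rw [this]; exact mul_mem hp0 hk) (mul_mem hq0 hr)
    rw [mul_assoc, h5, mul_one]

/-- another point -/
theorem exists_ne (h : Tri V U C) (hp : Pt V p) : ∃ q, Pt V q ∧ p ≠ q := by
  classical
  by_contra hcon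
  push Not at hcon
  have hsub : (V : Set G) ⊆ (({1, p} : Finset G) : Set G) := by
    intro v hv
    simp only [Finset.coe_insert, Finset.coe_singleton, Set.mem_insert_iff, Set.mem_singleton_iff]
    by_cases h1 : v = 1
    · exact Or.inl h1
    · exact Or.inr (hcon v ⟨hv, h1⟩).symm
  have h1 := Set.ncard_le_ncard hsub (Set.toFinite _)
  rw [Set.ncard_coe_finset] at h1
  have h2 : (V : Set G).ncard = 4 := h.cardV
  have h3 : ({1, p} : Finset G).card ≤ 2 := Finset.card_le_two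
  omega

/-! ### the results -/

/-- (A10) `C_{K_p}(X_p) = ⟨p⟩` -/
theorem eq_of_cent_X (h : Tri V U C) (hp : Pt V p) {k : G} (hk : k ∈ K U p)
    (hc : ∀ x ∈ oddGen (C p), x * k = k * x) : k = 1 ∨ k = p := by
  obtain ⟨q, hq, hpq⟩ := exists_ne h hp
  exact eq_one_or_of_R0 h hp hq hpq (mem_R0.mpr ⟨hk, hc⟩)

/-- (A10) squares of elements of `K_p` -/
theorem sq_K (h : Tri V U C) (hp : Pt V p) {k : G} (hk : k ∈ K U p) : k * k = 1 ∨ k * k = p := by
  obtain ⟨q, hq, hpq⟩ := exists_ne h hp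
  exact eq_one_or_of_R0 h hp hq hpq (sq_mem_R0 h hp hk)

theorem K_inf_K (h : Tri V U C) (hp : Pt V p) (hq : Pt V q) (hpq : p ≠ q) : K U p ⊓ K U q = U p ⊓ U q := by
  apply le_antisymm
  · rintro d ⟨hd, hd'⟩
    obtain ⟨e, he, r, hr, rfl⟩ := D_eq h hp hq hpq hd hd'
    refine mul_mem he ?_
    rcases eq_one_or_of_R0 h hp hq hpq hr with rfl | rfl
    · exact one_mem _
    · exact ⟨h.V_le _ hp hp.1, h.V_le q hq hp.1⟩
  · exact inf_le_inf (h.U_le_K hp) (h.U_le_K hq)

/-- one step: if `N ≤ K_p ⊓ Q_q` does not centralise `U_q`, then a subgroup of index 2 centralises twice as much -/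
theorem step (h : Tri V U C) (hq : Pt V q) {N : Subgroup G} (hN : N ≤ Q U C q) (hNK : ¬ N ≤ K U q) :
    ∃ N' ≤ N, Nat.card N ≤ 2 * Nat.card N' ∧
      2 * Nat.card ↥(U q ⊓ centralizer (N : Set G)) ≤ Nat.card ↥(U q ⊓ centralizer (N' : Set G)) := by
  obtain ⟨a, haU, haN⟩ : ∃ a ∈ U q, a ∉ centralizer (N : Set G) := by
    by_contra hcon
    push Not at hcon
    apply hNK
    intro x hx
    rw [mem_centralizer_iff]
    intro u hu
    exact (mem_centralizer_iff.mp (hcon u hu) x hx).symm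
  refine ⟨N ⊓ centralizer ({a} : Set G), inf_le_left, ?_, ?_⟩
  · refine card_le_two_mul inf_le_left fun x hx y hy hxN hyN => mem_inf.mpr ⟨N.mul_mem (N.inv_mem hx) hy, ?_⟩
    have key : ∀ x ∈ N, x ∉ N ⊓ centralizer ({a} : Set G) → x * a * x⁻¹ = q * a := by
      intro x hx hxN
      rcases ((h.mem_Q_iff hq).mp (hN hx)).2 a haU with e | e
      · exact absurd ⟨hx, mem_centralizer_singleton_iff.mpr (mul_inv_eq_iff_eq_mul.mp e)⟩ hxN
      · exact e
    have e1 := key x hx hxN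
    have e2 := key y hy hyN
    rw [mem_centralizer_singleton_iff]
    have e3 : x⁻¹ * (q * a) * x = a := by rw [← e1]; group
    calc x⁻¹ * y * a = x⁻¹ * (y * a * y⁻¹) * y := by group
      _ = x⁻¹ * (q * a) * y := by rw [e2]
      _ = (x⁻¹ * (q * a) * x) * (x⁻¹ * y) := by group
      _ = a * (x⁻¹ * y) := by rw [e3]
  · have hle : U q ⊓ centralizer (N : Set G) ≤ U q ⊓ centralizer ((N ⊓ centralizer ({a} : Set G) : Subgroup G) : Set G) :=
      inf_le_inf_left _ (centralizer_le (fun x hx => hx.1))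
    have hne : U q ⊓ centralizer (N : Set G) ≠ U q ⊓ centralizer ((N ⊓ centralizer ({a} : Set G) : Subgroup G) : Set G) := by
      intro heq
      have ha : a ∈ U q ⊓ centralizer ((N ⊓ centralizer ({a} : Set G) : Subgroup G) : Set G) := by
        refine ⟨haU, mem_centralizer_iff.mpr fun x hx => ?_⟩
        exact mem_centralizer_singleton_iff.mp hx.2
      rw [← heq] at ha
      exact haN ha.2
    obtain ⟨m, hm⟩ := card_dvd_of_le hle
    have hpos : 0 < Nat.card ↥(U q ⊓ centralizer (N : Set G)) := Nat.card_pos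
    have hpos' : 0 < Nat.card ↥(U q ⊓ centralizer ((N ⊓ centralizer ({a} : Set G) : Subgroup G) : Set G)) := Nat.card_pos
    have hm1 : m ≠ 1 := by
      intro h1
      rw [h1, mul_one] at hm
      exact hne (eq_of_le_of_card_ge hle (le_of_eq hm))
    have hm0 : m ≠ 0 := by
      rintro rfl
      rw [mul_zero] at hm
      omega
    have hm2 : 2 ≤ m := by omega
    rw [hm, mul_comm]
    exact Nat.mul_le_mul_left _ hm2

theorem card_K_inf_Q (h : Tri V U C) (hp : Pt V p) (hq : Pt V q) (hpq : p ≠ q) :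
    Nat.card ↥(K U p ⊓ Q U C q) ≤ 32 := by
  have h8 := card_E h hp hq hpq
  -- subgroups in `K_p ⊓ K_q` have at most 8 elements
  have hend : ∀ N : Subgroup G, N ≤ K U p → N ≤ K U q → Nat.card N ≤ 8 := by
    intro N h1 h2
    have h3 : N ≤ U p ⊓ U q := by
      rw [← K_inf_K h hp hq hpq]
      exact le_inf h1 h2
    have := Nat.le_of_dvd Nat.card_pos (card_dvd_of_le h3)
    omega
  set N0 := K U p ⊓ Q U C q with hN0
  by_cases c0 : N0 ≤ K U q
  · have := hend N0 inf_le_left c0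
    omega
  obtain ⟨N1, hN1, h1, h1'⟩ := step h hq (N := N0) inf_le_right c0
  by_cases c1 : N1 ≤ K U q
  · have := hend N1 (hN1.trans inf_le_left) c1
    omega
  obtain ⟨N2, hN2, h2, h2'⟩ := step h hq (N := N1) (hN1.trans inf_le_right) c1
  have hc0 : 8 ≤ Nat.card ↥(U q ⊓ centralizer (N0 : Set G)) := by
    have hle : U p ⊓ U q ≤ U q ⊓ centralizer (N0 : Set G) := by
      intro e he
      refine ⟨he.2, mem_centralizer_iff.mpr fun x hx => ?_⟩
      exact (K_comm hx.1 he.1).symm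
    have := Nat.le_of_dvd Nat.card_pos (card_dvd_of_le hle)
    omega
  have hc2 : N2 ≤ K U q := by
    have h32 : 32 ≤ Nat.card ↥(U q ⊓ centralizer (N2 : Set G)) := by omega
    have heq : U q ⊓ centralizer (N2 : Set G) = U q := eq_of_le_of_card_ge inf_le_left (by rw [h.cardU q hq]; exact h32)
    intro x hx
    rw [mem_centralizer_iff]
    intro u hu
    have : u ∈ U q ⊓ centralizer (N2 : Set G) := by rw [heq]; exact hu
    exact (mem_centralizer_iff.mp this.2 x hx).symm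
  have := hend N2 ((hN2.trans hN1).trans inf_le_left) hc2
  omega

theorem card_K (h : Tri V U C) (hp : Pt V p) : Nat.card ↥(K U p) = 32 ∨ Nat.card ↥(K U p) = 64 := by
  obtain ⟨q, hq, hpq⟩ := exists_ne h hp
  have h1 := card_K_inf_Q h hp hq hpq
  have h2 : Nat.card ↥(K U p) ≤ 2 * Nat.card ↥(K U p ⊓ Q U C q) := by
    refine card_le_two_mul inf_le_left fun x hx y hy hxN hyN =>
      mem_inf.mpr ⟨(K U p).mul_mem ((K U p).inv_mem hx) hy, ?_⟩
    have hsq : ∀ k ∈ K U p, k * k ∈ Q U C q := by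
      intro k hk
      rcases sq_K h hp hk with e | e
      · rw [e]; exact one_mem _
      · rw [e]; exact h.K_le_Q hq (h.U_le_K hq (h.V_le q hq hp.1))
    have hm : x⁻¹ * y ∈ K U p := (K U p).mul_mem ((K U p).inv_mem hx) hy
    obtain ⟨n, hn⟩ := isPGroup_K h hp ⟨x⁻¹ * y, hm⟩
    have hn' : (x⁻¹ * y) ^ 2 ^ n = 1 := congrArg Subtype.val hn
    refine mul_mem_Q h hq (h.K_le_C hq hp ((K U p).inv_mem hx)) (h.K_le_C hq hp hy) (hsq _ ((K U p).inv_mem hx)) (hsq _ hy) ?_ ?_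
      (n := n) (by rw [hn']; exact one_mem _)
    · intro hc
      exact hxN ⟨hx, by simpa using (Q U C q).inv_mem hc⟩
    · intro hc
      exact hyN ⟨hy, hc⟩
  obtain ⟨m, hm⟩ := card_dvd_of_le (h.U_le_K hp)
  rw [h.cardU p hp] at hm
  have hpos : 0 < Nat.card ↥(K U p) := Nat.card_pos
  have : m = 1 ∨ m = 2 := by
    rcases Nat.eq_zero_or_pos m with rfl | h0
    · omega
    · omega
  rcases this with rfl | rfl
  · left; omega
  · right; omega

end Cfsg.Agent.Classification.TitsFin.TriTen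
end
end

-- part: Classification/TitsFin/TriMore
section
prune_inst 0xd0102704072200000018000000003c52b2000002006f0001c100020006c08d4120010f21b02013120110ae64003a806003cc00494010000020008200411c0080040262c21240b00021000040c800000000000000000000000000000000000000000000000
set_option linter.all false
open scoped Cfsg.Agent.FastGrp

/-!
# Section A, supplements: the modules `U_p / ⟨p⟩` and `Q_p / K_p`
-/

set_option autoImplicit false

namespace Cfsg.Agent.Classification.TitsFin.TriMore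

open Subgroup Cfsg Cfsg.Agent.ZN Cfsg.Agent.MinSimple.Geo
open Cfsg.Agent.Classification.TitsFin.Tri (Pt kst K Q)
open Cfsg.Agent.Classification.TitsFin.Mod16 Cfsg.Agent.Classification.TitsFin.TriAct
open Cfsg.Agent.ZN.Block (conj_mem_of_normalizer conj_mem_of_normalizer' le_normalizer_of_forall
  mem_normalizer_of card_sup_mul_card_inf card_mul_relIndex' mul_mem_of_relIndex_two)

universe u

variable {G : Type u} [Group G] {V : Subgroup G} {U C : G → Subgroup G} {p q : G}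

/-- (i) `U_p = ⋃ E ^ (f ^ k)` -/
theorem spread_U [Finite G] (h : Tri V U C) (hp : Pt V p) (hq : Pt V q) (hpq : p ≠ q) {f : G}
    (hf : IsF U C p f) {u : G} (hu : u ∈ U p) :
    ∃ k < 5, ∃ e ∈ U p ⊓ U q, u = f ^ k * e * (f ^ k)⁻¹ := by
  obtain ⟨t, ht, htQ⟩ := h.exists_t hp hq hpq
  obtain ⟨M, _, _, ⟨D⟩⟩ := exists_actData h hp
  have htC := h.U_le_C hp hq ht
  have htt := h.sqU q hq t ht
  have h1 := D.inv_of_sq hf htC (by rw [htt]; exact one_mem _) htQ
  have h2 : D.α ⟨t, htC⟩ * D.α ⟨t, htC⟩ = 1 := by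
    rw [← map_mul, D.kerα]
    change t * t ∈ _
    rw [htt]; exact one_mem _
  obtain ⟨k, hk, a, ha, hka⟩ := spread D.card D.sq (D.x5 hf) (D.x1 hf) h2 h1 (D.π ⟨u, hu⟩)
  obtain ⟨⟨e, he⟩, rfl⟩ := D.surj a
  have hfk : f ^ k ∈ C p := pow_mem hf.mem k
  rw [mem_fx, D.act ⟨t, htC⟩ ⟨e, he⟩ (h.conj_memU hp htC he), D.π_eq_iff] at ha
  have heq : e ∈ U q := (mem_E_iff h hp hq hpq ht htQ he).mpr ha
  have h3 : D.α ⟨f, hf.mem⟩ ^ k = D.α ⟨f ^ k, hfk⟩ := by rw [← map_pow]; rfl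
  rw [h3, D.act ⟨f ^ k, hfk⟩ ⟨e, he⟩ (h.conj_memU hp hfk he), D.π_eq_iff] at hka
  have hpp := h.pp hp
  rcases hka with h4 | h4
  · exact ⟨k, hk, e, ⟨he, heq⟩, h4.symm⟩
  · refine ⟨k, hk, p * e, mul_mem (mem_inf.mpr ⟨h.V_le p hp hp.1, h.V_le q hq hp.1⟩) (mem_inf.mpr ⟨he, heq⟩), ?_⟩
    have h5 : f ^ k * e * (f ^ k)⁻¹ = p * u := h4
    have h6 : f ^ k * p = p * f ^ k := h.c_comm hp hfk
    calc u = p * (p * u) := by rw [← mul_assoc, hpp, one_mul]
      _ = p * f ^ k * e * (f ^ k)⁻¹ := by rw [← h5]; group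
      _ = f ^ k * (p * e) * (f ^ k)⁻¹ := by rw [← h6]; group

/-! ### `Q_p / K_p` -/

theorem comm_mem_K (h : Tri V U C) (hp : Pt V p) {c d : G} (hc : c ∈ Q U C p) (hd : d ∈ Q U C p) :
    c * d * c⁻¹ * d⁻¹ ∈ K U p := by
  have hpp := h.pp hp
  have key : ∀ {c d : G}, c ∈ Q U C p → d ∈ Q U C p → ∀ u ∈ U p,
      (c * d) * u * (c * d)⁻¹ = (d * c) * u * (d * c)⁻¹ := by
    intro c d hc hd u hu
    have hcp := h.c_comm hp hc.1
    have hdp := h.c_comm hp hd.1
    have e1 : (c * d) * u * (c * d)⁻¹ = c * (d * u * d⁻¹) * c⁻¹ := by group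
    have e2 : (d * c) * u * (d * c)⁻¹ = d * (c * u * c⁻¹) * d⁻¹ := by group
    have f1 : c * (p * u) * c⁻¹ = p * (c * u * c⁻¹) := by
      calc c * (p * u) * c⁻¹ = (c * p) * u * c⁻¹ := by group
        _ = p * (c * u * c⁻¹) := by rw [hcp]; group
    have f2 : d * (p * u) * d⁻¹ = p * (d * u * d⁻¹) := by
      calc d * (p * u) * d⁻¹ = (d * p) * u * d⁻¹ := by group
        _ = p * (d * u * d⁻¹) := by rw [hdp]; group
    rw [e1, e2]
    rcases ((h.mem_Q_iff hp).mp hc).2 u hu with h1 | h1 <;> rcases ((h.mem_Q_iff hp).mp hd).2 u hu with h2 | h2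
    · rw [h1, h2, h1]
    · rw [h1, h2, f1, h1]
    · rw [h1, h2, f2, h1, h2]
    · rw [h1, h2, f1, f2, h1, h2]
  rw [mem_centralizer_iff]
  intro u hu
  have h1 := key hc hd ((d * c)⁻¹ * u * (d * c)) (h.conj_memU' hp (mul_mem hd.1 hc.1) hu)
  have e1 : (d * c) * ((d * c)⁻¹ * u * (d * c)) * (d * c)⁻¹ = u := by group
  rw [e1] at h1
  have e2 : c * d * c⁻¹ * d⁻¹ = (c * d) * (d * c)⁻¹ := by group
  rw [e2]
  calc u * ((c * d) * (d * c)⁻¹) = ((c * d) * ((d * c)⁻¹ * u * (d * c)) * (c * d)⁻¹) * ((c * d) * (d * c)⁻¹) := by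
        rw [h1]
    _ = (c * d) * (d * c)⁻¹ * u := by group

/-- (iii) `f`-fixed classes of `Q_p / K_p` are trivial -/
theorem mem_K_of_fix [Finite G] (h : Tri V U C) (hp : Pt V p) {f : G} (hf : IsF U C p f) {x : G}
    (hx : x ∈ Q U C p) (hxf : f * x * f⁻¹ * x⁻¹ ∈ K U p) : x ∈ K U p := by
  have hpp := h.pp hp
  have hpU : p ∈ U p := h.V_le p hp hp.1
  -- `B` = the elements of `U_p` centralised by `x`
  let B : Subgroup G := U p ⊓ centralizer ({x} : Set G)
  have hxp := h.c_comm hp hx.1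
  have hB : ∀ b, b ∈ B ↔ b ∈ U p ∧ b * x = x * b := fun b => by
    rw [mem_inf, mem_centralizer_singleton_iff]
  -- `B` contains all `f u f⁻¹ u⁻¹`
  have h1 : ∀ u ∈ U p, f * u * f⁻¹ * u⁻¹ ∈ B := by
    intro u hu
    have hfu := h.conj_memU hp hf.mem hu
    rw [hB]
    refine ⟨mul_mem hfu (inv_mem hu), ?_⟩
    -- the commutators of `x` with `u` and `f u f⁻¹` are equal
    have h2 : x * (f * u * f⁻¹) * x⁻¹ = f * (x * u * x⁻¹) * f⁻¹ := by
      have hk := mem_centralizer_iff.mp hxf (x * (f * u * f⁻¹) * x⁻¹) (h.conj_memU hp hx.1 hfu)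
      -- `f x f⁻¹ = k x` with `k ∈ K`
      have e : f * (x * u * x⁻¹) * f⁻¹ = (f * x * f⁻¹ * x⁻¹) * (x * (f * u * f⁻¹) * x⁻¹) *
          (f * x * f⁻¹ * x⁻¹)⁻¹ := by group
      rw [e, ← hk, mul_inv_cancel_right]
    have hfp := h.c_comm hp hf.mem
    have h3 : (x * (f * u * f⁻¹) * x⁻¹) * (x * u⁻¹ * x⁻¹) = f * u * f⁻¹ * u⁻¹ := by
      rcases ((h.mem_Q_iff hp).mp hx).2 u hu with h4 | h4
      · have h5 : x * u⁻¹ * x⁻¹ = u⁻¹ := by
          have := congrArg (·⁻¹) h4
          simpa [mul_assoc] using this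
        rw [h2, h4, h5]
      · have h5 : x * u⁻¹ * x⁻¹ = u⁻¹ * p := by
          have := congrArg (·⁻¹) h4
          simp only [mul_inv_rev, inv_inv] at this
          rw [inv_eq_self hpp] at this
          rw [← this]; group
        rw [h2, h4, h5]
        calc f * (p * u) * f⁻¹ * (u⁻¹ * p) = (f * p) * u * f⁻¹ * u⁻¹ * p := by group
          _ = p * (f * u * f⁻¹ * u⁻¹) * p := by rw [hfp]; group
          _ = (f * u * f⁻¹ * u⁻¹) * (p * p) := by
              rw [h.commU hp hpU (mul_mem hfu (inv_mem hu)), mul_assoc]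
          _ = f * u * f⁻¹ * u⁻¹ := by rw [hpp, mul_one]
    calc f * u * f⁻¹ * u⁻¹ * x = (x * (f * u * f⁻¹) * x⁻¹) * (x * u⁻¹ * x⁻¹) * x := by rw [h3]
      _ = x * (f * u * f⁻¹ * u⁻¹) := by group
  have hpB : p ∈ B := (hB p).mpr ⟨hpU, hxp.symm⟩
  have h2 : ∀ b ∈ B, f * b * f⁻¹ ∈ B := by
    intro b hb
    have := mul_mem (h1 b hb.1) hb
    rwa [inv_mul_cancel_right] at this
  rcases hf.irred h hp inf_le_left hpB h2 with h3 | h3
  · exfalso
    -- `f` centralises `U_p` mod `p`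
    have h4 : ∀ u ∈ U p, u = 1 ∨ u = p := by
      intro u hu
      refine hf.fixed h hp hu ?_
      rcases h3 _ (h1 u hu) with h5 | h5
      · left; exact mul_inv_eq_one.mp h5
      · right; exact mul_inv_eq_iff_eq_mul.mp h5
    have h5 : (U p : Set G) ⊆ {1, p} := fun u hu => h4 u hu
    have h6 := Set.ncard_le_ncard h5 (Set.toFinite _)
    have h7 : (U p : Set G).ncard = 32 := by
      rw [← h.cardU p hp]; rfl
    have h8 : ({1, p} : Set G).ncard ≤ 2 := Set.ncard_insert_le 1 {p} |>.trans (by rw [Set.ncard_singleton])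
    omega
  · rw [mem_centralizer_iff]
    intro u hu
    have h4 : u ∈ B := (show B = U p from h3) ▸ hu
    exact ((hB u).mp h4).2

/-- the module `N = Q_p / K_p` with the action of `C_p` -/
structure ActQ (U C : G → Subgroup G) (p : G) (N : Type u) [CommGroup N] where
  π : ↥(Q U C p) →* N
  α : ↥(C p) →* MulAut N
  card : Nat.card N = 16
  sq : ∀ m : N, m * m = 1
  surj : Function.Surjective π
  ker : ∀ u, π u = 1 ↔ (u : G) ∈ K U p
  act : ∀ (c : C p) (u : Q U C p) (hcu : (c : G) * u * (c : G)⁻¹ ∈ Q U C p), α c (π u) = π ⟨_, hcu⟩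

namespace ActQ

variable {N : Type u} [CommGroup N] (D : ActQ U C p N)

include D

theorem π_eq_iff (u v : Q U C p) : D.π u = D.π v ↔ (u : G) * (v : G)⁻¹ ∈ K U p := by
  rw [← mul_inv_eq_one, ← map_inv, ← map_mul, D.ker]
  rfl

/-- `Q_p` acts trivially -/
theorem α_eq_one (h : Tri V U C) (hp : Pt V p) {c : G} (hc : c ∈ Q U C p) : D.α ⟨c, hc.1⟩ = 1 := by
  ext m
  obtain ⟨u, rfl⟩ := D.surj m
  rw [D.act ⟨c, hc.1⟩ u (conj_mem_of_normalizer (h.C_le_normQ hp) hc.1 u.2)]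
  change _ = D.π u
  rw [D.π_eq_iff]
  exact comm_mem_K h hp hc u.2

theorem eq_of_mul_inv_mem (h : Tri V U C) (hp : Pt V p) {c d : G} (hc : c ∈ C p) (hd : d ∈ C p)
    (hcd : c * d⁻¹ ∈ Q U C p) : D.α ⟨c, hc⟩ = D.α ⟨d, hd⟩ := by
  have h1 := D.α_eq_one h hp hcd
  have e : (⟨c * d⁻¹, hcd.1⟩ : C p) = ⟨c, hc⟩ * (⟨d, hd⟩ : C p)⁻¹ := rfl
  rw [e, map_mul, map_inv, mul_inv_eq_one] at h1
  exact h1

theorem x1 [Finite G] (h : Tri V U C) (hp : Pt V p) {f : G} (hf : IsF U C p f) : D.α ⟨f, hf.mem⟩ ≠ 1 := by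
  intro he
  have h1 : ∀ u : Q U C p, D.π u = 1 := by
    intro u
    rw [D.ker]
    refine mem_K_of_fix h hp hf u.2 ?_
    have h2 := D.act ⟨f, hf.mem⟩ u (conj_mem_of_normalizer (h.C_le_normQ hp) hf.mem u.2)
    rw [he] at h2
    exact (D.π_eq_iff _ _).mp h2.symm
  have h2 : Nat.card N = 1 := by
    rw [Nat.card_eq_one_iff_unique]
    refine ⟨⟨fun a b => ?_⟩, ⟨1⟩⟩
    obtain ⟨a, rfl⟩ := D.surj a
    obtain ⟨b, rfl⟩ := D.surj b
    rw [h1, h1]
  rw [D.card] at h2
  omega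

theorem inv (h : Tri V U C) (hp : Pt V p) {f c : G} (hf : IsF U C p f) (hc : c ∈ C p)
    (hcf : c * f * c⁻¹ * f ∈ Q U C p) :
    D.α ⟨c, hc⟩ * D.α ⟨f, hf.mem⟩ * (D.α ⟨c, hc⟩)⁻¹ = (D.α ⟨f, hf.mem⟩)⁻¹ := by
  rw [← map_inv, ← map_mul, ← map_inv, ← map_mul]
  refine D.eq_of_mul_inv_mem h hp (mul_mem (mul_mem hc hf.mem) (inv_mem hc)) (inv_mem hf.mem) ?_
  change c * f * c⁻¹ * f⁻¹⁻¹ ∈ _
  rw [inv_inv]; exact hcf

end ActQ

end Cfsg.Agent.Classification.TitsFin.TriMore
end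

-- part: MinSimple/OddPair
section
prune_inst 0xc0102604432200000000000020003c5292000002006f0001c100020007888d4000000f20802011120000a2142034006003cc0040421000000a000800011c01a0000242021240a000200000000000000000000000000000000000000000000000000000000
set_option linter.all false
open scoped Cfsg.Agent.FastGrp

-- part: MinSimple/OddTwoStar
section
/-!
# Noncommuting points at distance two

`OddN T V z 2`, `r`, `d` a critical pair with middle point `p`: `[ws V r, ws V d] = ⟨p⟩` and the indices of the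
centralizers are two.
-/

set_option autoImplicit false
set_option linter.unusedSectionVars false

namespace Cfsg.Agent.MinSimple.OddTwoStar

open Subgroup Cfsg Cfsg.Agent.ZN Cfsg.Agent.MinSimple.Geo Cfsg.Agent.MinSimple.BTwoA
  Cfsg.Agent.MinSimple.OddLine Cfsg.Agent.MinSimple.OddBase Cfsg.Agent.MinSimple.OddTwoWeight
open Cfsg.Agent.ZN.Block (conj_mem_of_normalizer conj_mem_of_normalizer' le_normalizer_of_forall
  mem_normalizer_of)
open scoped commutatorElement

universe u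

variable {G : Type u} [Group G] [Finite G] {T V : Subgroup G} {z : G}

theorem mul_eq_of_sq {a b c : G} (hb : b * b = 1) (h : a * b = c) : a = c * b := by
  rw [← h, mul_assoc, hb, mul_one]

/-! ### the killing lemma -/

theorem solv_normalizer (h : Geo T V z) : ∀ U : Subgroup G, IsPGroup 2 U → U ≠ ⊥ →
    Group.IsSolvable (normalizer (U : Set G)) := fun U hU hU1 => h.solv _ ⟨U, hU, hU1, rfl⟩

/-- `[W, y] ≤ ⟨t^⟨y, t⟩⟩` -/
theorem uu_le_ncl {W : Subgroup G} {y t : G} (hf : Four W y) (ht : t ∈ W) (hty : y * t ≠ t * y)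
    {X : Subgroup G} (hyX : y ∈ X) : uu W y ≤ Killing.ncl X t := by
  have ha := hf.toAct
  have h0 : t * (y * t * y⁻¹) ∈ uu W y := ha.mem_uu.mpr ⟨t, ht, rfl⟩
  have h0n : t * (y * t * y⁻¹) ∈ Killing.ncl X t :=
    mul_mem (Killing.self_mem_ncl X t) (Killing.conj_mem_ncl hyX)
  have h1 : t * (y * t * y⁻¹) ≠ 1 := by
    intro e
    apply hty
    have h2 := eq_inv_of_mul_eq_one_right e
    rw [ha.inv_eq ht] at h2
    exact conj_eq_iff_comm.mp h2
  intro u hu
  rcases hf.cases _ h0 h1 u hu with e | e | e | e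
  · rw [e]; exact one_mem _
  · rw [e]; exact h0n
  · rw [e]; exact Killing.conj_mem_of_mem_ncl hyX h0n
  · rw [e]; exact mul_mem h0n (Killing.conj_mem_of_mem_ncl hyX h0n)

/-- **(N)** for two four-groups with commutator `t` -/
theorem kill (h : Geo T V z) {W W' : Subgroup G} {y y' t v w q : G} (hf : Four W y)
    (hf' : Four W' y') (ht : t ∈ W) (ht' : t ∈ W') (hty : y * t ≠ t * y) (hty' : y' * t ≠ t * y')
    (hv : v ∈ uu W y) (hw : w ∈ uu W' y') (hvw : w * v * w⁻¹ * v⁻¹ = t) (hqy : y * q = q * y)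
    (hqy' : y' * q = q * y') (hqt : t * q = q * t) (hq : q * q = 1) : q = 1 := by
  by_contra hq1
  have ht1 : t ≠ 1 := by
    rintro rfl
    exact hty (by group)
  have hord : orderOf q = 2 := orderOf_eq_prime (by rw [pow_two]; exact hq) hq1
  have hmem : ∀ s : G, s * q = q * s → t * q = q * t → _root_.Subgroup.closure ({s, t} : Set G) ≤
      centralizer ({q} : Set G) := by
    intro s hs ht
    rw [closure_le]
    rintro a (rfl | rfl)
    · exact mem_centralizer_singleton_iff.mpr hs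
    · exact mem_centralizer_singleton_iff.mpr ht
  have hyX : y ∈ closure ({y, t} : Set G) := _root_.Subgroup.subset_closure (by simp)
  have htX : t ∈ _root_.Subgroup.closure ({y, t} : Set G) := _root_.Subgroup.subset_closure (by simp)
  have hyY : y' ∈ closure ({y', t} : Set G) := _root_.Subgroup.subset_closure (by simp)
  have htY : t ∈ closure ({y', t} : Set G) := _root_.Subgroup.subset_closure (by simp)
  refine Killing.killing_centralizer (solv_normalizer h) htY ht1 (V := uu W' y') (W := uu W y)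
    (uu_le_ncl hf' ht' hty' hyY) (uu_le_ncl hf ht hty hyX) ?_ hord (hmem y' hqy' hqt)
    (hmem y hqy hqt)
  rw [← hvw]
  exact commutator_mem_commutator hw hv

/-! ### basic facts on critical pairs -/

section crit

variable {r d : G}

/-- hypotheses on a critical pair -/
structure Pair (T V : Subgroup G) (z r d : G) : Prop where
  odd : OddLine.Odd T V z
  ptr : Pt z r
  ptd : Pt z d
  cr : ws V d ≤ centralizer ({r} : Set G)
  cd : ws V r ≤ centralizer ({d} : Set G)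
  rd : r ∉ ws V d
  dr : d ∉ ws V r

namespace Pair

theorem symm (h : Pair T V z r d) : Pair T V z d r :=
  ⟨h.odd, h.ptd, h.ptr, h.cd, h.cr, h.dr, h.rd⟩

theorem comm_mem (h : Pair T V z r d) {v w : G} (hv : v ∈ ws V r) (hw : w ∈ ws V d) :
    w * v * w⁻¹ * v⁻¹ ∈ ws V r ⊓ ws V d := by
  constructor
  · exact (ws V r).mul_mem (conj_mem (h.cr hw) hv) ((ws V r).inv_mem hv)
  · have h1 := conj_mem (V := V) (h.cd hv) ((ws V d).inv_mem hw)
    have e : w * v * w⁻¹ * v⁻¹ = w * (v * w⁻¹ * v⁻¹) := by group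
    rw [e]; exact (ws V d).mul_mem hw h1

/-- if the commutator is `1` or `r` the elements commute -/
theorem comm_of (h : Pair T V z r d) {v w : G} (hv : v ∈ ws V r) (hw : w ∈ ws V d)
    (h1 : w * v * w⁻¹ = v ∨ w * v * w⁻¹ = v * r) : w * v = v * w := by
  rcases h1 with h1 | h1
  · exact conj_eq_iff_comm.mp h1
  · exfalso
    apply h.rd
    have h2 := (h.comm_mem hv hw).2
    rw [h1] at h2
    have e : v * r * v⁻¹ = r := by
      rw [OddBase.ws_comm h.odd h.ptr hv (self_mem_ws h.odd.toGeo h.ptr)]; group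
    rwa [e] at h2

theorem inf_comm (h : Pair T V z r d) {c w : G} (hc : c ∈ ws V r ⊓ ws V d) (hw : w ∈ ws V d) :
    w * c = c * w := OddBase.ws_comm h.odd h.ptd hw hc.2

theorem sqr (h : Pair T V z r d) {v : G} (hv : v ∈ ws V r) : v * v = 1 :=
  OddBase.ws_sq h.odd h.ptr hv

theorem sqd (h : Pair T V z r d) {v : G} (hv : v ∈ ws V d) : v * v = 1 :=
  OddBase.ws_sq h.odd h.ptd hv

theorem r_comm (h : Pair T V z r d) {w : G} (hw : w ∈ ws V d) : w * r = r * w :=
  mem_centralizer_singleton_iff.mp (h.cr hw)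

/-- weights on the side of `r` -/
structure Wt (V : Subgroup G) (r d a0 y : G) : Prop where
  mem : y ∈ centralizer ({r} : Set G)
  odd : _root_.Odd (orderOf y)
  nk : y ∉ kq V r
  inv : a0 * y * a0⁻¹ * y ∈ kq V r
  all : ∀ a ∈ ws V d, a * y * a⁻¹ * y⁻¹ ∈ kq V r ∨ a * y * a⁻¹ * y ∈ kq V r

theorem exists_wt (h : Pair T V z r d) {a0 v0 : G} (ha0 : a0 ∈ ws V d) (hv0 : v0 ∈ ws V r)
    (hne : a0 * v0 ≠ v0 * a0) : ∃ y, Wt V r d a0 y := by
  have hk : a0 ∉ kq V r := fun hk => hne (h.comm_of hv0 ha0 (kq_cases h.odd h.ptr hk hv0))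
  obtain ⟨y, h1, h2, h3, h4, h5⟩ := exists_weight h.odd h.ptr h.cr (fun a ha => by
    rw [h.sqd ha]; exact one_mem _) ha0 hk
  exact ⟨y, h1, h2, h3, h4, h5⟩

/-- the elements of `ws V d` centralizing `y` modulo `kq V r` centralize `[ws V r, y]` -/
theorem comm_uu (h : Pair T V z r d) {a0 y : G} (ha0 : a0 ∈ ws V d) (hy : Wt V r d a0 y) {a : G}
    (ha : a ∈ ws V d) (hay : a * y * a⁻¹ * y⁻¹ ∈ kq V r) {u : G} (hu : u ∈ uu (ws V r) y) :
    a * u = u * a := by
  have hact := act h.odd h.ptr hy.mem hy.odd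
  -- the subgroup `S` of `ws V r` centralized by `H`
  let S : Set G := {s | s ∈ ws V r ∧ ∀ b ∈ ws V d, b * y * b⁻¹ * y⁻¹ ∈ kq V r → b * s = s * b}
  have hSmul : ∀ s ∈ S, ∀ s' ∈ S, s * s' ∈ S := by
    rintro s ⟨hs, hs2⟩ s' ⟨hs', hs2'⟩
    refine ⟨mul_mem hs hs', fun b hb hby => ?_⟩
    have c1 : Commute b s := hs2 b hb hby
    have c2 : Commute b s' := hs2' b hb hby
    exact (c1.mul_right c2).eq
  have hSr : r ∈ S := ⟨self_mem_ws h.odd.toGeo h.ptr, fun b hb _ => h.r_comm hb⟩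
  have hSI : ∀ c ∈ ws V r ⊓ ws V d, c ∈ S := fun c hc => ⟨hc.1, fun b hb _ => h.inf_comm hc hb⟩
  have hSy : ∀ s ∈ S, y * s * y⁻¹ ∈ S := by
    rintro s ⟨hs, hs2⟩
    refine ⟨hact.conj s hs, fun b hb hby => ?_⟩
    refine h.comm_of (hact.conj s hs) hb ?_
    set k := b * y * b⁻¹ * y⁻¹ with hk
    have e1 : b * (y * s * y⁻¹) * b⁻¹ = k * (y * (b * s * b⁻¹) * y⁻¹) * k⁻¹ := by rw [hk]; group
    have e2 : b * s * b⁻¹ = s := conj_eq_iff_comm.mpr (hs2 b hb hby)
    rw [e1, e2]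
    exact kq_cases h.odd h.ptr hby (hact.conj s hs)
  have hSpow : ∀ n : ℕ, ∀ s ∈ S, y ^ n * s * (y ^ n)⁻¹ ∈ S := by
    intro n
    induction n with
    | zero => intro s hs; simpa using hs
    | succ n ih =>
      intro s hs
      have := hSy _ (ih s hs)
      have e : y ^ (n + 1) * s * (y ^ (n + 1))⁻¹ = y * (y ^ n * s * (y ^ n)⁻¹) * y⁻¹ := by
        rw [pow_succ']; group
      rw [e]; exact this
  have hSinv : ∀ s ∈ S, y⁻¹ * s * y ∈ S := by
    intro s hs
    obtain ⟨n, hn⟩ := Act.exists_inv y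
    have := hSpow n s hs
    rwa [← hn, inv_inv] at this
  -- `[v, y²] ∈ S`
  have key : ∀ v ∈ ws V r, v * ((y * y) * v * (y * y)⁻¹) ∈ S := by
    intro v hv
    have hvv := h.sqr hv
    -- `[v, a0] ∈ S`
    have c1 : ∀ v ∈ ws V r, v * (a0 * v * a0⁻¹) ∈ S := by
      intro v hv
      have h1 := hSI _ (h.comm_mem hv ha0)
      have e : v * (a0 * v * a0⁻¹) = a0 * v * a0⁻¹ * v⁻¹ := by
        rw [OddBase.ws_comm h.odd h.ptr hv (conj_mem (h.cr ha0) hv), OddBase.ws_inv h.odd h.ptr hv]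
      rw [e]; exact h1
    -- `k y⁻¹ = a0 y a0⁻¹`
    set k := a0 * y * a0⁻¹ * y with hk
    have hkK : k ∈ kq V r := hy.inv
    -- v ↦ a0 y a0⁻¹ v (..)⁻¹ : = k (y⁻¹ v y) k⁻¹
    -- [v, a0 y a0⁻¹] with [v, y] : modulo S
    have hw1 := hact.conj v hv
    -- `a0 (y (a0 v a0) y⁻¹) a0 = k (y⁻¹ v y) k⁻¹`
    have ha0i : a0⁻¹ = a0 := inv_eq_self (h.sqd ha0)
    have e1 : a0 * (y * (a0⁻¹ * v * a0) * y⁻¹) * a0⁻¹ = k * (y⁻¹ * v * y) * k⁻¹ := by
      rw [hk]; group
    -- `v1 = a0⁻¹ v a0 = v s1`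
    have hv1 := conj_mem (V := V) (h.cr (inv_mem ha0)) hv
    rw [inv_inv] at hv1
    have hs1 : v * (a0⁻¹ * v * a0) ∈ S := by
      have := c1 v hv
      rw [ha0i] at this ⊢
      exact this
    set s1 := v * (a0⁻¹ * v * a0) with hs1d
    have e2 : a0⁻¹ * v * a0 = v * s1 := by rw [hs1d, ← mul_assoc, hvv, one_mul]
    -- `y v1 y⁻¹ = (y v y⁻¹) (y s1 y⁻¹)`
    have hs2 := hSy s1 hs1
    set s2 := y * s1 * y⁻¹ with hs2d
    set v2 := y * v * y⁻¹ with hv2d
    have hv2 : v2 ∈ ws V r := hact.conj v hv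
    have e3 : y * (a0⁻¹ * v * a0) * y⁻¹ = v2 * s2 := by rw [e2, hv2d, hs2d]; group
    have hv3 : v2 * s2 ∈ ws V r := mul_mem hv2 hs2.1
    have hs3 := c1 (v2 * s2) hv3
    set s3 := v2 * s2 * (a0 * (v2 * s2) * a0⁻¹) with hs3d
    have e4 : a0 * (v2 * s2) * a0⁻¹ = v2 * s2 * s3 := by
      rw [hs3d, ← mul_assoc (v2 * s2) (v2 * s2), h.sqr hv3, one_mul]
    rw [e3, e4] at e1
    -- `k (y⁻¹ v y) k⁻¹ = v2 s2 s3`
    have hv4 := hact.conj' hv
    have h5 : ∃ s ∈ S, y⁻¹ * v * y = v2 * s := by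
      rcases kq_cases h.odd h.ptr hkK hv4 with e5 | e5
      · refine ⟨s2 * s3, hSmul _ hs2 _ hs3, ?_⟩
        rw [← e5, ← e1]; group
      · refine ⟨s2 * s3 * r, hSmul _ (hSmul _ hs2 _ hs3) _ hSr, ?_⟩
        have hrr := h.sqr (self_mem_ws h.odd.toGeo h.ptr)
        calc y⁻¹ * v * y = (y⁻¹ * v * y * r) * r := by rw [mul_assoc _ r r, hrr, mul_one]
          _ = (v2 * s2 * s3) * r := by rw [← e5, ← e1]
          _ = v2 * (s2 * s3 * r) := by group
    obtain ⟨s, hs, e6⟩ := h5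
    -- conjugate by `y`
    have hs' := hSy s hs
    have e7 : v = y * v2 * y⁻¹ * (y * s * y⁻¹) := by
      calc v = y * (y⁻¹ * v * y) * y⁻¹ := by group
        _ = y * v2 * y⁻¹ * (y * s * y⁻¹) := by rw [e6]; group
    have e8 : (y * y) * v * (y * y)⁻¹ = y * v2 * y⁻¹ := by rw [hv2d]; group
    rw [e8]
    have hm : y * v2 * y⁻¹ ∈ ws V r := hact.conj _ hv2
    have e9 : v * (y * v2 * y⁻¹) = y * s * y⁻¹ := by
      have hc := OddBase.ws_comm h.odd h.ptr hm hs'.1
      calc v * (y * v2 * y⁻¹) = y * v2 * y⁻¹ * (y * s * y⁻¹) * (y * v2 * y⁻¹) := by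
            nth_rewrite 1 [e7]; rfl
        _ = (y * s * y⁻¹) * (y * v2 * y⁻¹) * (y * v2 * y⁻¹) := by rw [hc]
        _ = y * s * y⁻¹ := by rw [mul_assoc, h.sqr hm, mul_one]
    rw [e9]; exact hs'
  -- powers
  have key2 : ∀ n : ℕ, ∀ v ∈ ws V r, v * ((y * y) ^ n * v * ((y * y) ^ n)⁻¹) ∈ S := by
    intro n
    induction n with
    | zero =>
      intro v hv
      have : v * ((y * y) ^ 0 * v * ((y * y) ^ 0)⁻¹) = 1 := by
        rw [pow_zero, inv_one, mul_one, one_mul, h.sqr hv]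
      rw [this]
      exact ⟨one_mem _, fun b _ _ => by rw [mul_one, one_mul]⟩
    | succ n ih =>
      intro v hv
      have hv' : (y * y) * v * (y * y)⁻¹ ∈ ws V r := by
        have := hact.conj _ (hact.conj v hv)
        have e : (y * y) * v * (y * y)⁻¹ = y * (y * v * y⁻¹) * y⁻¹ := by group
        rw [e]; exact this
      have h1 := ih _ hv'
      have h2 := key v hv
      have h3 := hSmul _ h2 _ h1
      have hvv := h.sqr hv'
      have e : v * ((y * y) * v * (y * y)⁻¹) * ((y * y) * v * (y * y)⁻¹ *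
          ((y * y) ^ n * ((y * y) * v * (y * y)⁻¹) * ((y * y) ^ n)⁻¹)) =
          v * ((y * y) ^ (n + 1) * v * ((y * y) ^ (n + 1))⁻¹) := by
        generalize hY : y * y = Y at *
        calc v * (Y * v * Y⁻¹) * (Y * v * Y⁻¹ * (Y ^ n * (Y * v * Y⁻¹) * (Y ^ n)⁻¹)) =
            v * ((Y * v * Y⁻¹) * (Y * v * Y⁻¹)) * (Y ^ n * (Y * v * Y⁻¹) * (Y ^ n)⁻¹) := by group
          _ = v * (Y ^ n * (Y * v * Y⁻¹) * (Y ^ n)⁻¹) := by rw [hvv, mul_one]
          _ = v * (Y ^ (n + 1) * v * (Y ^ (n + 1))⁻¹) := by rw [pow_succ]; group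
      rwa [e] at h3
  obtain ⟨n, hn⟩ := exists_sq_pow hy.odd
  obtain ⟨v, hv, rfl⟩ := hact.mem_uu.mp hu
  have h6 := key2 n v hv
  rw [hn] at h6
  exact h6.2 a ha hay

theorem exists_v (h : Pair T V z r d) {a0 y : G} (ha0 : a0 ∈ ws V d) (hy : Wt V r d a0 y) :
    ∃ v ∈ uu (ws V r) y, a0 * v ≠ v * a0 := by
  have hact := act h.odd h.ptr hy.mem hy.odd
  by_contra hcon
  push Not at hcon
  obtain ⟨u, hu, hu1⟩ := exists_uu h.odd h.ptr hy.mem hy.odd hy.nk
  apply hu1
  refine eq_one_of_comm h.odd h.ptr hy.mem hy.odd hy.inv (h.cr ha0) hu (hcon u hu) ?_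
  have h1 := hcon _ (hact.uu_conj' hu)
  calc y * a0 * y⁻¹ * u = y * (a0 * (y⁻¹ * u * y)) * y⁻¹ := by group
    _ = y * ((y⁻¹ * u * y) * a0) * y⁻¹ := by rw [h1]
    _ = u * (y * a0 * y⁻¹) := by group

/-- the product of two elements of `ws V d` inverting `y` centralizes `y` -/
theorem mul_cent (h : Pair T V z r d) {a0 y : G} (hy : Wt V r d a0 y) {w w' : G}
    (hw : w ∈ ws V d) (hwy : w * y * w⁻¹ * y ∈ kq V r) (hwy' : w' * y * w'⁻¹ * y ∈ kq V r) :
    w * w' * y * (w * w')⁻¹ * y⁻¹ ∈ kq V r := by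
  set k := w * y * w⁻¹ * y with hk
  set k' := w' * y * w'⁻¹ * y with hk'
  have e : w * w' * y * (w * w')⁻¹ * y⁻¹ = (w * k' * w⁻¹) * (y * k⁻¹ * y⁻¹) := by
    rw [hk, hk']; group
  rw [e]
  exact mul_mem (conj_mem_of_normalizer (BTwoB.centralizer_le_normalizer_kq V r) (h.cr hw) hwy')
    (conj_mem_of_normalizer (BTwoB.centralizer_le_normalizer_kq V r) hy.mem (inv_mem hwy))

/-- `|ws V d : C(v)| ≤ 2` for `v ∈ [ws V r, y]` -/
theorem index_v (h : Pair T V z r d) {a0 y v : G} (ha0 : a0 ∈ ws V d) (hy : Wt V r d a0 y)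
    (hv : v ∈ uu (ws V r) y) : ∀ w ∈ ws V d, ∀ w' ∈ ws V d, v * w ≠ w * v → v * w' ≠ w' * v →
      v * (w * w') = w * w' * v := by
  intro w hw w' hw' hne hne'
  have hwy : w * y * w⁻¹ * y ∈ kq V r := (hy.all w hw).resolve_left fun hk =>
    hne (h.comm_uu ha0 hy hw hk hv).symm
  have hwy' : w' * y * w'⁻¹ * y ∈ kq V r := (hy.all w' hw').resolve_left fun hk =>
    hne' (h.comm_uu ha0 hy hw' hk hv).symm
  exact (h.comm_uu ha0 hy (mul_mem hw hw') (h.mul_cent hy hw hwy hwy') hv).symm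

/-- the conclusion for one side -/
structure Data (V : Subgroup G) (r d p a0 y v w u0 : G) : Prop where
  v_mem : v ∈ uu (ws V r) y
  w_mem : w ∈ ws V d
  a0v : a0 * v ≠ v * a0
  wv : w * v * w⁻¹ * v⁻¹ = p
  idx : ∀ v1 ∈ ws V r, ∀ v2 ∈ ws V r, w * v1 ≠ v1 * w → w * v2 ≠ v2 * w →
    w * (v1 * v2) = v1 * v2 * w
  inv : w * y * w⁻¹ * y ∈ kq V r
  four : Four (ws V r) y
  memu : u0 ∈ uu (ws V r) y
  neu : u0 ≠ 1
  wu : w * u0 = u0 * w
  uniq : ∀ u ∈ uu (ws V r) y, u ≠ 1 → w * u = u * w → u = u0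
  pc : y * (u0 * p) = u0 * p * y

/-- the component of an element of `ws V r ∩ ws V d` -/
theorem component (h : Pair T V z r d) {y w u0 c : G} (hym : y ∈ centralizer ({r} : Set G))
    (hyo : _root_.Odd (orderOf y)) (hw : w ∈ ws V d) (hinv : w * y * w⁻¹ * y ∈ kq V r)
    (huniq : ∀ u ∈ uu (ws V r) y, u ≠ 1 → w * u = u * w → u = u0) (hc : c ∈ ws V r ⊓ ws V d)
    (hyc : y * c ≠ c * y) : y * (u0 * c) = u0 * c * y := by
  have hact := act h.odd h.ptr hym hyo
  have hwr := h.cr hw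
  obtain ⟨u, hu, e, he, hye, rfl⟩ := hact.exists_decomp hc.1
  have hwc := h.inf_comm hc hw
  have huW := hact.uu_le hu
  -- `u ≠ 1`
  have hu1 : u ≠ 1 := by
    rintro rfl
    apply hyc
    rw [one_mul]; exact hye
  -- `w` commutes with `u`
  have hye' := comm_conj h.odd h.ptr hym hyo hwr (Or.inr hinv) he hye
  obtain ⟨u', hu', hcase⟩ := uu_conj_cases h.odd h.ptr hym hyo hwr (Or.inr hinv) hu
  have hyr : y * r = r * y := mem_centralizer_singleton_iff.mp hym
  have hr := self_mem_ws h.odd.toGeo h.ptr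
  have he' := conj_mem (V := V) hwr he
  have hconj : w * u * w⁻¹ * (w * e * w⁻¹) = u * e := by
    calc w * u * w⁻¹ * (w * e * w⁻¹) = w * (u * e) * w⁻¹ := by group
      _ = u * e := conj_eq_iff_comm.mpr hwc
  -- `u' u` commutes with `y`
  have hx : ∃ s : G, s ∈ ws V r ∧ y * s = s * y ∧ (s = 1 ∨ s = r) ∧ w * u * w⁻¹ = u' * s := by
    rcases hcase with e1 | e1
    · exact ⟨1, one_mem _, by simp, Or.inl rfl, by rw [mul_one]; exact e1⟩
    · exact ⟨r, hr, hyr, Or.inr rfl, e1⟩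
  obtain ⟨s, hs, hys, hsc, e1⟩ := hx
  have hu'W := hact.uu_le hu'
  have huu' : u' = u := by
    rw [e1] at hconj
    have e2 : u * u' = e * (w * e * w⁻¹) * s := by
      -- u' s e' = u e
      have c1 := hact.comm hu'W huW
      have h1 : u' * (s * (w * e * w⁻¹)) = u * e := by rw [← mul_assoc]; exact hconj
      have h2 : u * u' * (s * (w * e * w⁻¹)) = e := by
        rw [mul_assoc, h1, ← mul_assoc, h.sqr huW, one_mul]
      have h3 : s * (w * e * w⁻¹) * (s * (w * e * w⁻¹)) = 1 := h.sqr (mul_mem hs he')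
      calc u * u' = u * u' * (s * (w * e * w⁻¹) * (s * (w * e * w⁻¹))) := by rw [h3, mul_one]
        _ = (u * u' * (s * (w * e * w⁻¹))) * (s * (w * e * w⁻¹)) := by group
        _ = e * (s * (w * e * w⁻¹)) := by rw [h2]
        _ = e * (w * e * w⁻¹) * s := by rw [hact.comm hs he', ← mul_assoc]
    have h4 : y * (u * u') = u * u' * y := by
      rw [e2]
      have c1 : Commute y e := hye
      have c2 : Commute y (w * e * w⁻¹) := hye'
      have c3 : Commute y s := hys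
      exact ((c1.mul_right c2).mul_right c3).eq
    have h5 := hact.eq_one (mul_mem hu hu') h4
    have h6 := eq_inv_of_mul_eq_one_right h5
    rw [h6, hact.inv_eq huW]
  rw [huu'] at e1
  have hwu : w * u = u * w := by
    refine h.comm_of huW hw ?_
    rcases hsc with rfl | rfl
    · left; rw [e1, mul_one]
    · right; exact e1
  have h7 := huniq u hu hu1 hwu
  rw [← h7, ← mul_assoc u u e, h.sqr huW, one_mul]
  exact hye

theorem exists_data (h : Pair T V z r d) {p : G} (hp : p ∈ ws V r ⊓ ws V d)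
    (hpy : ∀ a0 y : G, a0 ∈ ws V d → Wt V r d a0 y → y * p ≠ p * y)
    (hpy' : ∀ a0 y : G, a0 ∈ ws V r → Wt V d r a0 y → y * p ≠ p * y) {a0 y : G}
    (ha0 : a0 ∈ ws V d) (hy : Wt V r d a0 y) : ∃ v w u0 : G, Data V r d p a0 y v w u0 := by
  have hact := act h.odd h.ptr hy.mem hy.odd
  obtain ⟨v, hv, ha0v⟩ := h.exists_v ha0 hy
  have hvW := hact.uu_le hv
  -- side of `d`
  obtain ⟨y', hy'⟩ := h.symm.exists_wt hvW ha0 (fun e => ha0v e.symm)
  have hact' := act h.odd h.ptd hy'.mem hy'.odd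
  obtain ⟨w, hw, hvw⟩ := h.symm.exists_v hvW hy'
  have hwW := hact'.uu_le hw
  have hidx := h.symm.index_v hvW hy' hw
  have hidx' := h.index_v ha0 hy hv
  have hwy : w * y * w⁻¹ * y ∈ kq V r := (hy.all w hwW).resolve_left fun hk =>
    hvw (h.comm_uu ha0 hy hwW hk hv).symm
  obtain ⟨hf, u0, hu0, hu01, hwu0, huniq⟩ := OddTwoWeight.four h.odd h.ptr hy.mem hy.odd hy.nk
    (h.cr hwW) hwy hidx
  obtain ⟨hf', u0', hu0', hu01', hwu0', huniq'⟩ := OddTwoWeight.four h.odd h.ptd hy'.mem hy'.odd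
    hy'.nk (h.cd hvW) hy'.inv hidx'
  -- `t`
  set t := w * v * w⁻¹ * v⁻¹ with ht
  have htI := h.comm_mem hvW hwW
  have hty : y * t ≠ t * y := by
    intro hc
    obtain ⟨u', hu', hcase⟩ := uu_conj_cases h.odd h.ptr hy.mem hy.odd (h.cr hwW) (Or.inr hwy) hv
    have hyr : y * r = r * y := mem_centralizer_singleton_iff.mp hy.mem
    have hr := self_mem_ws h.odd.toGeo h.ptr
    have hvi := hact.inv_eq hvW
    have h1 : u' * v = 1 := by
      refine hact.eq_one (mul_mem hu' hv) ?_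
      rcases hcase with e1 | e1
      · have : t = u' * v := by rw [ht, e1, hvi]
        rw [← this]; exact hc
      · have h2 : t = u' * v * r := by
          rw [ht, e1, hvi, mul_assoc, hact.comm hr hvW, ← mul_assoc]
        have h3 : u' * v = t * r := by rw [h2, mul_assoc, h.sqr hr, mul_one]
        rw [h3]
        have c1 : Commute y t := hc
        have c2 : Commute y r := hyr
        exact (c1.mul_right c2).eq
    have h2 : u' = v := by
      rw [eq_inv_of_mul_eq_one_left h1, hvi]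
    apply hvw
    refine (h.comm_of hvW hwW ?_).symm
    rw [← h2]
    rcases hcase with e1 | e1
    · left; rw [← h2] at e1; exact e1
    · right; rw [← h2] at e1; exact e1
  have hty' : y' * t ≠ t * y' := by
    intro hc
    obtain ⟨u', hu', hcase⟩ := uu_conj_cases h.odd h.ptd hy'.mem hy'.odd (h.cd hvW) (Or.inr hy'.inv) hw
    have hyr : y' * d = d * y' := mem_centralizer_singleton_iff.mp hy'.mem
    have hr := self_mem_ws h.odd.toGeo h.ptd
    have hwi := hact'.inv_eq hwW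
    have htt : t = w * (v * w * v⁻¹) := by
      have e : w * (v * w⁻¹ * v⁻¹) = t := by rw [ht]; group
      rw [← e, hwi]
    have h1 : w * u' = 1 := by
      refine hact'.eq_one (mul_mem hw hu') ?_
      rcases hcase with e1 | e1
      · have : t = w * u' := by rw [htt, e1]
        rw [← this]; exact hc
      · have h2 : t = w * u' * d := by rw [htt, e1, ← mul_assoc]
        have h3 : w * u' = t * d := by rw [h2, mul_assoc, h.sqd hr, mul_one]
        rw [h3]
        have c1 : Commute y' t := hc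
        have c2 : Commute y' d := hyr
        exact (c1.mul_right c2).eq
    have h2 : u' = w := by
      rw [eq_inv_of_mul_eq_one_right h1, hwi]
    apply hvw
    refine (h.symm.comm_of hwW hvW ?_)
    rcases hcase with e1 | e1
    · left; rw [h2] at e1; exact e1
    · right; rw [h2] at e1; exact e1
  -- components
  have hpc := h.component hy.mem hy.odd hwW hwy huniq hp (hpy a0 y ha0 hy)
  have htc := h.component hy.mem hy.odd hwW hwy huniq htI hty
  have hpc' := h.symm.component hy'.mem hy'.odd hvW hy'.inv huniq' ⟨hp.2, hp.1⟩ (hpy' v y' hvW hy')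
  have htc' := h.symm.component hy'.mem hy'.odd hvW hy'.inv huniq' ⟨htI.2, htI.1⟩ hty'
  have hpt : ∀ {W : Subgroup G} {s y : G}, Act W y → s ∈ W → p ∈ W → t ∈ W →
      y * (s * p) = s * p * y → y * (s * t) = s * t * y → y * (p * t) = p * t * y := by
    intro W s y ha hs hpW htW h1 h2
    have e : p * t = (s * p) * (s * t) := by
      calc p * t = (s * s) * (p * t) := by rw [ha.sq s hs, one_mul]
        _ = s * (s * p) * t := by group
        _ = s * (p * s) * t := by rw [ha.comm hs hpW]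
        _ = (s * p) * (s * t) := by group
    rw [e]
    have c1 : Commute y (s * p) := h1
    have c2 : Commute y (s * t) := h2
    exact (c1.mul_right c2).eq
  have hp1 := hpt hact (hact.uu_le hu0) hp.1 htI.1 hpc htc
  have hp2 := hpt hact' (hact'.uu_le hu0') hp.2 htI.2 hpc' htc'
  have hptW : p * t ∈ ws V r := mul_mem hp.1 htI.1
  have hq := kill h.odd.toGeo hf hf' htI.1 htI.2 hty hty' hv hw rfl hp1 hp2
    (hact.comm htI.1 hptW) (h.sqr hptW)
  have hpt : p = t := by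
    rw [eq_inv_of_mul_eq_one_left hq, hact.inv_eq htI.1]
  exact ⟨v, w, u0, hv, hwW, ha0v, hpt.symm, hidx, hwy, hf, hu0, hu01, hwu0, huniq, hpc⟩

/-- a point `p` of `ws V r ∩ ws V d` not fixed by weights -/
structure Mid (V : Subgroup G) (r d p : G) : Prop where
  mem : p ∈ ws V r ⊓ ws V d
  n1 : ∀ a0 y : G, a0 ∈ ws V d → Wt V r d a0 y → y * p ≠ p * y
  n2 : ∀ a0 y : G, a0 ∈ ws V r → Wt V d r a0 y → y * p ≠ p * y

theorem Mid.symm {p : G} (hm : Mid V r d p) : Mid V d r p := ⟨⟨hm.mem.2, hm.mem.1⟩, hm.n2, hm.n1⟩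

/-- an element of `ws V d` centralizing a weight centralizes `ws V r` -/
theorem comm_of_cent (h : Pair T V z r d) {p : G} (hm : Mid V r d p) {a0 y : G}
    (ha0 : a0 ∈ ws V d) (hy : Wt V r d a0 y) {a1 : G} (ha1 : a1 ∈ ws V d)
    (hay : a1 * y * a1⁻¹ * y⁻¹ ∈ kq V r) {v0 : G} (hv0 : v0 ∈ ws V r) : a1 * v0 = v0 * a1 := by
  by_contra hne
  obtain ⟨v, w, u0, D⟩ := h.exists_data hm.mem hm.n1 hm.n2 ha0 hy
  obtain ⟨y1, hy1⟩ := h.exists_wt ha1 hv0 hne
  obtain ⟨v1, w1, u1, D1⟩ := h.exists_data hm.mem hm.n1 hm.n2 ha1 hy1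
  have hact := act h.odd h.ptr hy.mem hy.odd
  have hact1 := act h.odd h.ptr hy1.mem hy1.odd
  have hv1 := hact1.uu_le D1.v_mem
  -- `a1 v1 a1⁻¹ = p v1`
  have h1 : (w1 * a1) * v1 = v1 * (w1 * a1) :=
    h.comm_uu ha1 hy1 (mul_mem D1.w_mem ha1) (h.mul_cent hy1 D1.w_mem D1.inv hy1.inv) D1.v_mem
  have hw1w1 := h.sqd D1.w_mem
  have hw1i : w1⁻¹ = w1 := inv_eq_self hw1w1
  have h2 : a1 * v1 * a1⁻¹ = p * v1 := by
    have e1 : w1 * (a1 * v1 * a1⁻¹) * w1⁻¹ = v1 := by
      calc w1 * (a1 * v1 * a1⁻¹) * w1⁻¹ = (w1 * a1) * v1 * (w1 * a1)⁻¹ := by group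
        _ = v1 := by rw [h1]; group
    have e2 : w1 * v1 * w1⁻¹ = p * v1 := mul_inv_eq_iff_eq_mul.mp D1.wv
    have e4 : ∀ X : G, w1 * X * w1⁻¹ = v1 → X = w1 * v1 * w1⁻¹ := by
      intro X hX
      have e5 : X = w1⁻¹ * v1 * w1⁻¹⁻¹ := by rw [← hX]; group
      rw [hw1i] at e5
      exact e5
    rw [e4 _ e1]
    exact e2
  -- conjugate by `y`
  set v2 := y * v1 * y⁻¹ with hv2
  have hv2W := hact.conj v1 hv1
  set k := a1 * y * a1⁻¹ * y⁻¹ with hk
  have e3 : y * (a1 * v1 * a1⁻¹) * y⁻¹ = k⁻¹ * (a1 * v2 * a1⁻¹) * k := by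
    rw [hk, hv2]; group
  have e4 : y * p * y⁻¹ * v2 = k⁻¹ * (a1 * v2 * a1⁻¹) * k := by
    rw [← e3, h2, hv2]; group
  have hXW := conj_mem (V := V) (h.cr ha1) hv2W
  have hr := self_mem_ws h.odd.toGeo h.ptr
  have hc := h.comm_mem hv2W ha1
  set c := a1 * v2 * a1⁻¹ * v2⁻¹ with hcd
  have hwr := h.r_comm D.w_mem
  have hwc := h.inf_comm hc D.w_mem
  have e5 : w * (y * p * y⁻¹) = y * p * y⁻¹ * w := by
    rcases kq_cases' h.odd h.ptr hay hXW with e | e
    · rw [e] at e4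
      have : y * p * y⁻¹ = c := eq_mul_inv_of_mul_eq e4
      rw [this]; exact hwc
    · rw [e] at e4
      have : y * p * y⁻¹ = c * r := by
        have e6 : y * p * y⁻¹ = a1 * v2 * a1⁻¹ * r * v2⁻¹ := eq_mul_inv_of_mul_eq e4
        rw [e6, hcd, mul_assoc _ r, hact.comm hr (inv_mem hv2W), ← mul_assoc]
      rw [this]
      have c1 : Commute w c := hwc
      have c2 : Commute w r := hwr
      exact (c1.mul_right c2).eq
  -- contradiction
  have hu0W := hact.uu_le D.memu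
  apply D.neu
  refine hact.eq_one D.memu ?_
  have hwp : w * p = p * w := h.inf_comm hm.mem D.w_mem
  have hwe : Commute w (u0 * p) := (show Commute w u0 from D.wu).mul_right hwp
  have e7 : y * u0 * y⁻¹ = (y * p * y⁻¹) * (u0 * p)⁻¹ := by
    have e8 : y * (u0 * p) * y⁻¹ = u0 * p := conj_eq_iff_comm.mpr D.pc
    have e9 : y * u0 * y⁻¹ * (y * p * y⁻¹) = u0 * p := by rw [← e8]; group
    have hpW := hact.conj p hm.mem.1
    have e10 : y * u0 * y⁻¹ = u0 * p * (y * p * y⁻¹) := mul_eq_of_sq (h.sqr hpW) e9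
    have hm2 : u0 * p ∈ ws V r := mul_mem hu0W hm.mem.1
    rw [e10, hact.comm hm2 hpW, hact.inv_eq hm2]
  have hwyu : w * (y * u0 * y⁻¹) = y * u0 * y⁻¹ * w := by
    rw [e7]
    have c1 : Commute w (y * p * y⁻¹) := e5
    exact (c1.mul_right hwe.inv_right).eq
  have h3 := D.uniq _ (hact.uu_conj D.memu) (conj_ne_one D.neu) hwyu
  exact conj_eq_iff_comm.mp h3

theorem index_two' (h : Pair T V z r d) {p : G} (hm : Mid V r d p) {a a' : G} (ha : a ∈ ws V d)
    (ha' : a' ∈ ws V d) (hn : a ∉ centralizer (ws V r : Set G))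
    (hn' : a' ∉ centralizer (ws V r : Set G)) {v : G} (hv : v ∈ ws V r) :
    a * a' * v = v * (a * a') := by
  have hex : ∀ a, a ∉ centralizer (ws V r : Set G) → ∃ v ∈ ws V r, a * v ≠ v * a := by
    intro a hn
    rw [mem_centralizer_iff] at hn
    push Not at hn
    obtain ⟨v, hv, hne⟩ := hn
    exact ⟨v, hv, fun e => hne e.symm⟩
  obtain ⟨v0, hv0, hne⟩ := hex a hn
  obtain ⟨v1, hv1, hne1⟩ := hex a' hn'
  obtain ⟨y, hy⟩ := h.exists_wt ha hv0 hne
  have hay' : a' * y * a'⁻¹ * y ∈ kq V r := (hy.all a' ha').resolve_left fun hk =>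
    hne1 (h.comm_of_cent hm ha hy ha' hk hv1)
  exact h.comm_of_cent hm ha hy (mul_mem ha ha') (h.mul_cent hy ha hy.inv hay') hv

theorem comm_cases' (h : Pair T V z r d) {p : G} (hm : Mid V r d p) {a v : G} (ha : a ∈ ws V d)
    (hv : v ∈ ws V r) : a * v = v * a ∨ a * v * a⁻¹ * v⁻¹ = p := by
  by_cases hne : a * v = v * a
  · exact Or.inl hne
  right
  obtain ⟨y, hy⟩ := h.exists_wt ha hv hne
  obtain ⟨v1, w, u0, D⟩ := h.exists_data hm.mem hm.n1 hm.n2 ha hy
  have hact := act h.odd h.ptr hy.mem hy.odd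
  have hv1 := hact.uu_le D.v_mem
  have hnc : a ∉ centralizer (ws V r : Set G) := fun hc =>
    hne (mem_centralizer_iff.mp hc v hv).symm
  have hp1 : p ≠ 1 := by
    rintro rfl
    exact hm.n1 a y ha hy (by rw [mul_one, one_mul])
  have hwv1 : w * v1 ≠ v1 * w := by
    intro e
    apply hp1
    rw [← D.wv, e]; group
  have hncw : w ∉ centralizer (ws V r : Set G) := fun hc =>
    hwv1 (mem_centralizer_iff.mp hc v1 hv1).symm
  have hww := h.sqd D.w_mem
  have haa := h.sqd ha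
  -- `a v a⁻¹ = w v w⁻¹`
  have h1 : ∀ v ∈ ws V r, a * v * a⁻¹ = w * v * w⁻¹ := by
    intro v hv
    have h2 := h.index_two' hm D.w_mem ha hncw hnc hv
    have hai : a⁻¹ = a := inv_eq_self haa
    have hwi : w⁻¹ = w := inv_eq_self hww
    have h3 : w * (a * v * a⁻¹) * w⁻¹ = v := by
      calc w * (a * v * a⁻¹) * w⁻¹ = (w * a * v) * (w * a)⁻¹ := by group
        _ = v * (w * a) * (w * a)⁻¹ := by rw [h2]
        _ = v := by group
    calc a * v * a⁻¹ = w⁻¹ * (w * (a * v * a⁻¹) * w⁻¹) * w := by group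
      _ = w⁻¹ * v * w := by rw [h3]
      _ = w * v * w⁻¹ := by rw [hwi]
  have hwv : w * v ≠ v * w := by
    intro e
    apply hne
    have := h1 v hv
    rw [conj_eq_iff_comm.mpr e] at this
    exact conj_eq_iff_comm.mp this
  have h4 := D.idx v hv v1 hv1 hwv hwv1
  -- `[w, v] = [w, v1]`
  have hc1 := h.comm_mem hv D.w_mem
  have hc2 := h.comm_mem hv1 D.w_mem
  rw [h1 v hv]
  have e1 : w * (v * v1) * w⁻¹ = v * v1 := conj_eq_iff_comm.mpr h4
  have e2 : w * v * w⁻¹ * (w * v1 * w⁻¹) = v * v1 := by rw [← e1]; group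
  have e3 : w * v1 * w⁻¹ = p * v1 := mul_inv_eq_iff_eq_mul.mp D.wv
  rw [e3] at e2
  have hwvW : w * v * w⁻¹ ∈ ws V r := conj_mem (h.cr D.w_mem) hv
  have hpW := hm.mem.1
  have e4 : w * v * w⁻¹ * p = v := by
    calc w * v * w⁻¹ * p = (w * v * w⁻¹ * (p * v1)) * v1⁻¹ := by group
      _ = v := by rw [e2]; group
  have e5 : w * v * w⁻¹ = v * p := mul_eq_of_sq (h.sqr hpW) e4
  rw [e5, hact.comm hv hpW]; group

end Pair

end crit

/-! ### critical pairs at distance two -/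

section final

variable {x y p m : G}

theorem exists_middle (h : OddN T V z 2) (hc : Crit V z 2 x y) : ∃ p, Col V x p ∧ Col V p y := by
  obtain ⟨w, h1, h2⟩ := hc.head h
  refine ⟨w, h1, ?_⟩
  have h3 : Walk V 1 w y := h2
  rcases walk_one.mp h3 with rfl | h4
  · exact absurd h1.walk (hc.not_walk h (by norm_num))
  · exact h4

theorem not_mem (h : OddN T V z 2) (hc : Crit V z 2 x y) : x ∉ ws V y := by
  intro hxy
  obtain ⟨p, h1, h2⟩ := exists_middle h hc
  obtain ⟨g, hg, hy, h'⟩ := exists_odd_col h.toOdd h2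
  have hp1 : p ≠ 1 := h2.1
  have hy1 : y ≠ 1 := h2.2.1
  have hpy : p ≠ y := h2.2.2.1
  have hx1 : x ≠ 1 := h1.1
  have hxp : x ≠ p := h1.2.2.1
  have hdd : x ∈ dd (cj g V) := by
    rw [← h'.inf_eq_dd h'.z_mem hp1 hy hy1 hpy]
    refine ⟨?_, ?_⟩
    · rw [OddLine.ws_cj]; exact h1.symm.mem_ws
    · rw [OddLine.ws_cj]; exact hxy
  obtain ⟨k, hk, hx, h''⟩ := exists_odd_col h.toOdd h1.symm
  have hle : cj k V ≤ dd (cj g V) := by
    intro v hv
    rcases h''.four h''.z_mem hx hp1 hx1 (Ne.symm hxp) hv with e | e | e | e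
    · rw [e]; exact one_mem _
    · rw [e]; exact h'.V_le_dd h'.z_mem
    · rw [e]; exact hdd
    · rw [e]; exact mul_mem (h'.V_le_dd h'.z_mem) hdd
  have hlines : cj k V ∈ lines (cj g V) p := by
    rw [OddLine.lines_cj]
    exact ⟨⟨k, rfl⟩, h''.z_mem⟩
  have heq := h'.eq_of_mem_lines hlines hle
  rw [heq] at hx
  by_cases hxy' : x = y
  · exact hc.not_walk h (m := 0) (by norm_num) hxy'
  · have : Col V x y := ⟨hx1, hy1, hxy', cj g V, ⟨⟨g, rfl⟩, hx⟩, hy⟩
    exact hc.not_walk h (by norm_num) this.walk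

theorem pair_of_crit (h : OddN T V z 2) (hc : Crit V z 2 x y) : Pair T V z x y where
  odd := h.toOdd
  ptr := hc.pt
  ptd := hc.pt' h.toGeo
  cr := hc.ws_le_centralizer h
  cd := (hc.symm h.toOdd).ws_le_centralizer h
  rd := not_mem h hc
  dr := not_mem h (hc.symm h.toOdd)

theorem wt_ne (h : OddN T V z 2) (hc : Crit V z 2 x y) (h1 : Col V x p) (h2 : Col V p y)
    {a0 s : G} (ha0 : a0 ∈ ws V y) (hs : Pair.Wt V x y a0 s) : s * p ≠ p * s := by
  intro hsp
  have hP := pair_of_crit h hc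
  have hpt : Pt z p := h1.pt h.toGeo
  have hY2 := tt_isPGroup h (j := 1) (by norm_num) hpt
  have ha0Y : a0 ∈ tt V 1 p := ws_le_tt h2.walk ha0
  have hsY : s * a0⁻¹ * s⁻¹ ∈ tt V 1 p :=
    conj_mem_of_normalizer (centralizer_le_normalizer_tt 1 p)
      (mem_centralizer_singleton_iff.mpr hsp) (inv_mem ha0Y)
  obtain ⟨n, hn⟩ := hY2 ⟨a0 * (s * a0⁻¹ * s⁻¹), mul_mem ha0Y hsY⟩
  have hn' : (a0 * (s * a0⁻¹ * s⁻¹)) ^ 2 ^ n = 1 := congrArg Subtype.val hn
  -- in `C(x)/kq V x`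
  set C := centralizer ({x} : Set G) with hC
  set K : Subgroup C := (kq V x).subgroupOf C with hK
  haveI hKn : K.Normal := kq_normal V x
  let π : C →* C ⧸ K := QuotientGroup.mk' K
  have hπ : ∀ c : C, π c = 1 ↔ (c : G) ∈ kq V x := by
    intro c
    change (QuotientGroup.mk c : C ⧸ K) = 1 ↔ _
    rw [QuotientGroup.eq_one_iff, hK, mem_subgroupOf]
  let s' : C := ⟨s, hs.mem⟩
  let a' : C := ⟨a0, hP.cr ha0⟩
  have hinv : π a' * π s' * (π a')⁻¹ * π s' = 1 := by
    have : π (a' * s' * a'⁻¹ * s') = 1 := (hπ _).mpr hs.inv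
    simpa only [_root_.map_mul, _root_.map_inv] using this
  have h3 : π (a' * (s' * a'⁻¹ * s'⁻¹)) = (π s' * π s')⁻¹ := by
    have e : π a' * π s' * (π a')⁻¹ = (π s')⁻¹ := eq_inv_of_mul_eq_one_left hinv
    rw [map_mul, map_mul, map_mul, map_inv, map_inv]
    calc π a' * (π s' * (π a')⁻¹ * (π s')⁻¹) = π a' * π s' * (π a')⁻¹ * (π s')⁻¹ := by group
      _ = (π s' * π s')⁻¹ := by rw [e]; group
  have h4 : (π s') ^ 2 ^ (n + 1) = 1 := by
    have h5 : (a' * (s' * a'⁻¹ * s'⁻¹)) ^ 2 ^ n = 1 := Subtype.ext hn'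
    have h6 : ((π s' * π s')⁻¹) ^ 2 ^ n = 1 := by rw [← h3, ← map_pow, h5, map_one]
    rw [inv_pow, inv_eq_one, ← pow_two, ← pow_mul] at h6
    rw [pow_succ, mul_comm]; exact h6
  have h7 : orderOf (π s') ∣ orderOf s := by
    have := orderOf_map_dvd π s'
    rwa [← Subgroup.orderOf_coe] at this
  have h8 : orderOf (π s') ∣ 2 ^ (n + 1) := orderOf_dvd_of_pow_eq_one h4
  have h9 : Nat.Coprime (orderOf s) (2 ^ (n + 1)) :=
    Nat.Coprime.pow_right _ (Nat.coprime_two_right.mpr hs.odd)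
  have h10 := Nat.eq_one_of_dvd_coprimes h9 h7 h8
  exact hs.nk ((hπ s').mp (orderOf_eq_one_iff.mp h10))

theorem mid_of_crit (h : OddN T V z 2) (hc : Crit V z 2 x y) (h1 : Col V x p) (h2 : Col V p y) :
    Pair.Mid V x y p where
  mem := ⟨h1.mem_ws, h2.symm.mem_ws⟩
  n1 := fun _ _ ha hs => wt_ne h hc h1 h2 ha hs
  n2 := fun _ _ ha hs => wt_ne h (hc.symm h.toOdd) h2.symm h1.symm ha hs

/-- **`[ws V x, ws V y] = ⟨p⟩`** -/
theorem comm_cases (h : OddN T V z 2) (hc : Crit V z 2 x y) (hxp : Col V x p) (hpy : Col V p y)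
    {a b : G} (ha : a ∈ ws V x) (hb : b ∈ ws V y) : a * b = b * a ∨ a * b = p * (b * a) := by
  have hP := pair_of_crit h hc
  have hm := mid_of_crit h hc hxp hpy
  rcases hP.symm.comm_cases' hm.symm ha hb with e | e
  · exact Or.inl e
  · right
    rw [← e]; group

theorem index_two (h : OddN T V z 2) (hc : Crit V z 2 x y) (hxp : Col V x p) (hpy : Col V p y)
    {a a' : G} (ha : a ∈ ws V x) (ha' : a' ∈ ws V x) (hn : a ∉ centralizer (ws V y : Set G))
    (hn' : a' ∉ centralizer (ws V y : Set G)) : a * a' ∈ centralizer (ws V y : Set G) := by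
  have hP := pair_of_crit h hc
  have hm := mid_of_crit h hc hxp hpy
  rw [mem_centralizer_iff]
  intro v hv
  exact (hP.symm.index_two' hm.symm ha ha' hn hn' hv).symm

/-- ordered pairs of collinear points are conjugate -/
theorem exists_conj {x' y' : G} (h : OddLine.Odd T V z) (h1 : Col V x y) (h2 : Col V x' y') :
    ∃ g : G, g * x * g⁻¹ = x' ∧ g * y * g⁻¹ = y' := by
  obtain ⟨g1, hg1, hy1, _⟩ := exists_geo h.toGeo h1
  obtain ⟨g2, hg2, hy2, _⟩ := exists_geo h.toGeo h2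
  rw [mem_cj] at hy1 hy2
  set q := g1⁻¹ * y * g1 with hq
  set q' := g2⁻¹ * y' * g2 with hq'
  have hyq : y = g1 * q * g1⁻¹ := by rw [hq]; group
  have hyq' : y' = g2 * q' * g2⁻¹ := by rw [hq']; group
  have hq1 : q ≠ 1 := fun e => h1.2.1 (by rw [hyq, e]; group)
  have hqz : q ≠ z := fun e => h1.2.2.1 (by rw [hyq, e, hg1])
  have hq'1 : q' ≠ 1 := fun e => h2.2.1 (by rw [hyq', e]; group)
  have hq'z : q' ≠ z := fun e => h2.2.2.1 (by rw [hyq', e, hg2])
  have hex : ∃ s : G, s * z * s⁻¹ = z ∧ s * q * s⁻¹ = q' := by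
    rcases h.four h.z_mem hy1 h.z_ne hq1 (Ne.symm hqz) hy2 with e | e | e | e
    · exact absurd e hq'1
    · exact absurd e hq'z
    · exact ⟨1, by group, by rw [e]; group⟩
    · obtain ⟨s, hs, hs2⟩ := h.exists_swap
      refine ⟨s, ?_, ?_⟩
      · rw [mem_centralizer_singleton_iff.mp (h.T_le hs.1)]; group
      · rw [hs2 q hy1 hq1 hqz, e]
  obtain ⟨s, hs1, hs2⟩ := hex
  refine ⟨g2 * s * g1⁻¹, ?_, ?_⟩
  · rw [hg1, hg2]
    calc g2 * s * g1⁻¹ * (g1 * z * g1⁻¹) * (g2 * s * g1⁻¹)⁻¹ = g2 * (s * z * s⁻¹) * g2⁻¹ := by group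
      _ = g2 * z * g2⁻¹ := by rw [hs1]
  · rw [hyq, hyq']
    calc g2 * s * g1⁻¹ * (g1 * q * g1⁻¹) * (g2 * s * g1⁻¹)⁻¹ = g2 * (s * q * s⁻¹) * g2⁻¹ := by group
      _ = g2 * q' * g2⁻¹ := by rw [hs2]

theorem exists_crit (h : OddN T V z 2) (hxm : Col V x m) : ∃ y, Col V m y ∧ Crit V z 2 x y := by
  obtain ⟨x0, y0, hx0, hw0, hne0⟩ := h.crit
  have hc0 : Crit V z 2 x0 y0 := ⟨hx0, hw0, hne0⟩
  obtain ⟨p0, h1, h2⟩ := exists_middle h hc0
  obtain ⟨g, hg1, hg2⟩ := exists_conj h.toOdd h1 hxm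
  refine ⟨g * y0 * g⁻¹, ?_, ?_⟩
  · rw [← hg2]; exact h2.conj g
  · rw [← hg1]; exact hc0.conj g

/-- `tt V 1 m` acts on `ws V x` with commutator in `⟨m⟩` -/
theorem tt_comm (h : OddN T V z 2) (hxm : Col V x m) {v g : G} (hv : v ∈ ws V x)
    (hg : g ∈ tt V 1 m) : g * v * g⁻¹ = v ∨ g * v * g⁻¹ = v * m := by
  have hptx : Pt z x := hxm.pt_left h.toGeo
  have hptm : Pt z m := hxm.pt h.toGeo
  have hmm := OddBase.Pt.sq h.toGeo hptm
  have hmx : m ∈ ws V x := hxm.mem_ws
  let A : Subgroup G :=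
    { carrier := {g | g * m = m * g ∧ ∀ v ∈ ws V x, g * v * g⁻¹ = v ∨ g * v * g⁻¹ = v * m}
      mul_mem' := by
        rintro a b ⟨ha, ha1⟩ ⟨hb, hb1⟩
        have hc1 : Commute a m := ha
        have hc2 : Commute b m := hb
        have ham : a * m * a⁻¹ = m := conj_eq_iff_comm.mpr ha
        refine ⟨(hc1.mul_left hc2).eq, fun v hv => ?_⟩
        have e : a * b * v * (a * b)⁻¹ = a * (b * v * b⁻¹) * a⁻¹ := by group
        rw [e]
        rcases hb1 v hv with e1 | e1 <;> rw [e1]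
        · exact ha1 v hv
        · have e2 : a * (v * m) * a⁻¹ = a * v * a⁻¹ * (a * m * a⁻¹) := by group
          rw [e2, ham]
          rcases ha1 v hv with e3 | e3 <;> rw [e3]
          · exact Or.inr rfl
          · left; rw [mul_assoc, hmm, mul_one]
      one_mem' := ⟨by group, fun v _ => Or.inl (by group)⟩
      inv_mem' := by
        rintro a ⟨ha, ha1⟩
        have hc1 : Commute a m := ha
        refine ⟨hc1.inv_left.eq, fun v hv => ?_⟩
        rw [inv_inv]
        rcases ha1 v hv with e | e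
        · left
          calc a⁻¹ * v * a = a⁻¹ * (a * v * a⁻¹) * a := by rw [e]
            _ = v := by group
        · right
          have e2 : v * m = a * v * a⁻¹ := e.symm
          calc a⁻¹ * v * a = a⁻¹ * (v * m * m) * a := by rw [mul_assoc v, hmm, mul_one]
            _ = a⁻¹ * (a * v * a⁻¹) * (m * a) := by rw [e2]; group
            _ = v * a⁻¹ * (a * m) := by rw [← hc1.eq]; group
            _ = v * m := by group }
  have hle : tt V 1 m ≤ A := by
    refine tt_le fun w hw => ?_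
    intro a ha
    have hptw : Pt z w := Walk.pt h.toGeo hptm hw
    have ham : a * m = m * a := by
      refine OddBase.ws_comm h.toOdd hptw ha ?_
      rcases walk_one.mp hw with rfl | e
      · exact self_mem_ws h.toGeo hptm
      · exact e.symm.mem_ws
    refine ⟨ham, fun v hv => ?_⟩
    by_cases hc : Crit V z 2 x w
    · rcases walk_one.mp hw with rfl | hmw
      · exact absurd hxm.walk (hc.not_walk h (by norm_num))
      · rcases comm_cases h hc hxm hmw hv ha with e | e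
        · left; rw [← e]; group
        · right
          have e1 : m * (v * a) = a * v := by rw [e, ← mul_assoc, hmm, one_mul]
          rw [← e1, OddBase.ws_comm h.toOdd hptx hv hmx]; group
    · left
      have hw2 : Walk V 2 x w := by
        have := hxm.walk.trans hw
        exact this
      have : a * v = v * a := by
        by_contra hne
        exact hc ⟨hptx, hw2, v, hv, a, ha, fun e => hne e.symm⟩
      rw [this]; group
  exact (hle hg).2 v hv

theorem tt_index_two (h : OddN T V z 2) (hxm : Col V x m) {g g' : G} (hg : g ∈ tt V 1 m)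
    (hg' : g' ∈ tt V 1 m) (hn : g ∉ centralizer (ws V x : Set G))
    (hn' : g' ∉ centralizer (ws V x : Set G)) : g * g' ∈ centralizer (ws V x : Set G) := by
  have hptx : Pt z x := hxm.pt_left h.toGeo
  have hptm : Pt z m := hxm.pt h.toGeo
  have hmx : m ∈ ws V x := hxm.mem_ws
  have hxmem : x ∈ ws V x := self_mem_ws h.toGeo hptx
  have hxne : x ≠ m := hxm.2.2.1
  have hm1 : m ≠ 1 := hxm.2.1
  have hA : tt V 1 m ≤ centralizer ({x} : Set G) := by
    refine (tt_le_centralizer_ws h (by norm_num) hptm).trans (centralizer_le ?_)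
    rintro _ rfl
    exact hxm.symm.mem_ws
  have hmc : ∀ g ∈ tt V 1 m, g * m = m * g := fun g hg =>
    (mem_centralizer_iff.mp (tt_le_centralizer_ws h (by norm_num) hptm hg) m
      (self_mem_ws h.toGeo hptm)).symm
  have hmm := OddBase.Pt.sq h.toGeo hptm
  have hsq : ∀ a ∈ tt V 1 m, a * a ∈ kq V x := by
    intro a ha
    refine mem_kq_of_comm (mul_mem (hA ha) (hA ha)) fun v hv => ?_
    have e0 : a * a * v * (a * a)⁻¹ = a * (a * v * a⁻¹) * a⁻¹ := by group
    refine conj_eq_iff_comm.mp ?_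
    rw [e0]
    rcases tt_comm h hxm hv ha with e | e
    · rw [e, e]
    · have e2 : a * (v * m) * a⁻¹ = a * v * a⁻¹ * (a * m * a⁻¹) := by group
      rw [e, e2, e, conj_eq_iff_comm.mpr (hmc a ha), mul_assoc, hmm, mul_one]
  have hex : ∀ g, g ∉ centralizer (ws V x : Set G) → ∃ v ∈ ws V x, g * v ≠ v * g := by
    intro g hn
    rw [mem_centralizer_iff] at hn
    push Not at hn
    obtain ⟨v, hv, hne⟩ := hn
    exact ⟨v, hv, fun e => hne e.symm⟩
  obtain ⟨v0, hv0, hne0⟩ := hex g hn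
  have hgk : g ∉ kq V x := by
    intro hk
    rcases kq_cases h.toOdd hptx hk hv0 with e | e
    · exact hne0 (conj_eq_iff_comm.mp e)
    · rcases tt_comm h hxm hv0 hg with e2 | e2
      · exact hne0 (conj_eq_iff_comm.mp e2)
      · rw [e] at e2
        exact hxne (mul_left_cancel e2)
  obtain ⟨s, hs, hso, hsk, hinv, hall⟩ := exists_weight h.toOdd hptx hA hsq hg hgk
  have hact := act h.toOdd hptx hs hso
  have hsx : s * x = x * s := mem_centralizer_singleton_iff.mp hs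
  have hxx := OddBase.Pt.sq h.toGeo hptx
  -- `s` does not fix `m`
  have hsm : s * m ≠ m * s := by
    intro hsm
    have hex2 : ∃ u ∈ uu (ws V x) s, g * u ≠ u * g := by
      by_contra hcon
      push Not at hcon
      obtain ⟨u, hu, hu1⟩ := exists_uu h.toOdd hptx hs hso hsk
      apply hu1
      refine eq_one_of_comm h.toOdd hptx hs hso hinv (hA hg) hu (hcon u hu) ?_
      have h1 := hcon _ (hact.uu_conj' hu)
      calc s * g * s⁻¹ * u = s * (g * (s⁻¹ * u * s)) * s⁻¹ := by group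
        _ = s * ((s⁻¹ * u * s) * g) * s⁻¹ := by rw [h1]
        _ = u * (s * g * s⁻¹) := by group
    obtain ⟨u, hu, hgu⟩ := hex2
    have huW := hact.uu_le hu
    rcases tt_comm h hxm huW hg with e | e
    · exact hgu (conj_eq_iff_comm.mp e)
    obtain ⟨u', hu', hcase⟩ := uu_conj_cases h.toOdd hptx hs hso (hA hg) (Or.inr hinv) hu
    have hcs : ∃ c : G, (c = 1 ∨ c = x) ∧ u * m = u' * c := by
      rcases hcase with e1 | e1
      · exact ⟨1, Or.inl rfl, by rw [mul_one, ← e1, e]⟩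
      · exact ⟨x, Or.inr rfl, by rw [← e1, e]⟩
    obtain ⟨c, hc, hum⟩ := hcs
    have hsc : Commute s c := by
      rcases hc with rfl | rfl
      · exact Commute.one_right s
      · exact hsx
    have hcc : c * c = 1 := by
      rcases hc with rfl | rfl
      · exact one_mul 1
      · exact hxx
    have h1 : u * u' = m * c := by
      have hcW : c ∈ ws V x := by
        rcases hc with rfl | rfl
        · exact one_mem _
        · exact hxmem
      have h2 : m = u * (u' * c) := by rw [← hum, ← mul_assoc, hact.sq u huW, one_mul]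
      rw [h2, ← mul_assoc, mul_assoc _ c c, hcc, mul_one]
    have h2 : u * u' = 1 := hact.eq_one (mul_mem hu hu') (by
      rw [h1]
      exact ((show Commute s m from hsm).mul_right hsc).eq)
    rw [h2] at h1
    have h3 : m = c := by
      have := eq_inv_of_mul_eq_one_left h1.symm
      rw [this]; exact inv_eq_self hcc
    rcases hc with rfl | rfl
    · exact hm1 h3
    · exact hxne h3.symm
  -- elements centralizing `s` modulo `kq V x`
  have hcent : ∀ a ∈ tt V 1 m, a * s * a⁻¹ * s⁻¹ ∈ kq V x → a ∈ centralizer (ws V x : Set G) := by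
    intro a ha has
    by_contra hna
    obtain ⟨v, hv, hne⟩ := hex a hna
    have e0 : a * v * a⁻¹ = v * m := (tt_comm h hxm hv ha).resolve_left fun e =>
      hne (conj_eq_iff_comm.mp e)
    set k := a * s * a⁻¹ * s⁻¹ with hk
    set v2 := s * v * s⁻¹ with hv2
    have hv2W := hact.conj v hv
    have e1 : s * (a * v * a⁻¹) * s⁻¹ = k⁻¹ * (a * v2 * a⁻¹) * k := by rw [hk, hv2]; group
    have e2 : s * (v * m) * s⁻¹ = v2 * (s * m * s⁻¹) := by rw [hv2]; group
    rw [e0, e2] at e1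
    have hXW : a * v2 * a⁻¹ ∈ ws V x := conj_mem (hA ha) hv2W
    -- `s m s⁻¹ ∈ {1, m, x, m x}`
    have h3 : ∃ c : G, (c = 1 ∨ c = x) ∧ (s * m * s⁻¹ = c ∨ s * m * s⁻¹ = m * c) := by
      have h4 : ∃ c : G, (c = 1 ∨ c = x) ∧ v2 * (s * m * s⁻¹) = a * v2 * a⁻¹ * c := by
        rcases kq_cases' h.toOdd hptx has hXW with e | e
        · exact ⟨1, Or.inl rfl, by rw [mul_one, e1, e]⟩
        · exact ⟨x, Or.inr rfl, by rw [e1, e]⟩
      obtain ⟨c, hc, h5⟩ := h4
      refine ⟨c, hc, ?_⟩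
      rcases tt_comm h hxm hv2W ha with e | e
      · left
        rw [e] at h5
        exact mul_left_cancel h5
      · right
        rw [e] at h5
        exact mul_left_cancel (h5.trans (mul_assoc v2 m c))
    obtain ⟨c, hc, h5⟩ := h3
    have hsc : s * c * s⁻¹ = c := by
      rcases hc with rfl | rfl
      · group
      · exact conj_eq_iff_comm.mpr hsx
    rcases h5 with h5 | h5
    · have h6 : m = c := OddBase.conj_inj (h5.trans hsc.symm)
      rcases hc with rfl | rfl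
      · exact hm1 h6
      · exact hxne h6.symm
    · apply hsm
      refine comm_of_odd hso hsx ?_ hxx
      rcases hc with rfl | rfl
      · left; rw [h5, mul_one]
      · right; exact h5
  -- conclusion
  have hgk' : g' * s * g'⁻¹ * s ∈ kq V x := (hall g' hg').resolve_left fun hk =>
    hn' (hcent g' hg' hk)
  refine hcent _ (mul_mem hg hg') ?_
  set k := g * s * g⁻¹ * s with hk
  set k' := g' * s * g'⁻¹ * s with hk'
  have e : g * g' * s * (g * g')⁻¹ * s⁻¹ = (g * k' * g⁻¹) * (s * k⁻¹ * s⁻¹) := by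
    rw [hk, hk']; group
  rw [e]
  exact mul_mem (conj_mem_of_normalizer (BTwoB.centralizer_le_normalizer_kq V x) (hA hg) hgk')
    (conj_mem_of_normalizer (BTwoB.centralizer_le_normalizer_kq V x) hs (inv_mem hinv))

end final

end Cfsg.Agent.MinSimple.OddTwoStar
end

-- part: MinSimple/OddPair
section
/-!
# (E1)(b), Case 1: `r ∉ ws V d`, `d ∉ ws V r`, `[ws V r, ws V d] ≠ 1`

`Pair T V z r d` (see `OddTwoStar`).  We prove `[ws V r, ws V d] = ⟨t⟩`, `|ws V r : C(ws V d)| = 2 = |ws V d : C(ws V r)|`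
(`Pair.comm_cases`, `Pair.index_two`) and construct the elements `h` of odd order (`Side`).
-/

set_option autoImplicit false
set_option linter.unusedSectionVars false

namespace Cfsg.Agent.MinSimple.OddPair

open Subgroup Cfsg Cfsg.Agent.ZN Cfsg.Agent.MinSimple.Geo Cfsg.Agent.MinSimple.BTwoA
  Cfsg.Agent.MinSimple.OddLine Cfsg.Agent.MinSimple.OddBase Cfsg.Agent.MinSimple.OddTwoWeight
  Cfsg.Agent.MinSimple.OddTwoStar
open Cfsg.Agent.ZN.Block (conj_mem_of_normalizer conj_mem_of_normalizer' le_normalizer_of_forall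
  mem_normalizer_of)

universe u

variable {G : Type u} [Group G] [Finite G] {T V : Subgroup G} {z r d : G}

/-- two weights with a nontrivial commutator `[w, v]` -/
structure Nuc (V : Subgroup G) (r d a0 y v y' w : G) : Prop where
  a0_mem : a0 ∈ ws V d
  wt : Pair.Wt V r d a0 y
  v_mem : v ∈ uu (ws V r) y
  a0v : a0 * v ≠ v * a0
  wt' : Pair.Wt V d r v y'
  w_mem : w ∈ uu (ws V d) y'
  vw : v * w ≠ w * v
  wy : w * y * w⁻¹ * y ∈ kq V r
  four : Four (ws V r) y
  four' : Four (ws V d) y'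
  ty : y * (w * v * w⁻¹ * v⁻¹) ≠ w * v * w⁻¹ * v⁻¹ * y
  ty' : y' * (w * v * w⁻¹ * v⁻¹) ≠ w * v * w⁻¹ * v⁻¹ * y'

theorem exists_nuc (h : Pair T V z r d) {a0 y : G} (ha0 : a0 ∈ ws V d) (hy : Pair.Wt V r d a0 y) :
    ∃ v y' w : G, Nuc V r d a0 y v y' w := by
  have hact := act h.odd h.ptr hy.mem hy.odd
  obtain ⟨v, hv, ha0v⟩ := h.exists_v ha0 hy
  have hvW := hact.uu_le hv
  obtain ⟨y', hy'⟩ := h.symm.exists_wt hvW ha0 (fun e => ha0v e.symm)
  have hact' := act h.odd h.ptd hy'.mem hy'.odd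
  obtain ⟨w, hw, hvw⟩ := h.symm.exists_v hvW hy'
  have hwW := hact'.uu_le hw
  have hidx := h.symm.index_v hvW hy' hw
  have hidx' := h.index_v ha0 hy hv
  have hwy : w * y * w⁻¹ * y ∈ kq V r := (hy.all w hwW).resolve_left fun hk =>
    hvw (h.comm_uu ha0 hy hwW hk hv).symm
  obtain ⟨hf, -⟩ := OddTwoWeight.four h.odd h.ptr hy.mem hy.odd hy.nk (h.cr hwW) hwy hidx
  obtain ⟨hf', -⟩ := OddTwoWeight.four h.odd h.ptd hy'.mem hy'.odd hy'.nk (h.cd hvW) hy'.inv hidx'
  refine ⟨v, y', w, ha0, hy, hv, ha0v, hy', hw, hvw, hwy, hf, hf', ?_, ?_⟩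
  · set t := w * v * w⁻¹ * v⁻¹ with ht
    intro hc
    obtain ⟨u', hu', hcase⟩ := uu_conj_cases h.odd h.ptr hy.mem hy.odd (h.cr hwW) (Or.inr hwy) hv
    have hyr : y * r = r * y := mem_centralizer_singleton_iff.mp hy.mem
    have hr := self_mem_ws h.odd.toGeo h.ptr
    have hvi := hact.inv_eq hvW
    have h1 : u' * v = 1 := by
      refine hact.eq_one (mul_mem hu' hv) ?_
      rcases hcase with e1 | e1
      · have : t = u' * v := by rw [ht, e1, hvi]
        rw [← this]; exact hc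
      · have h2 : t = u' * v * r := by
          rw [ht, e1, hvi, mul_assoc, hact.comm hr hvW, ← mul_assoc]
        have h3 : u' * v = t * r := by rw [h2, mul_assoc, h.sqr hr, mul_one]
        rw [h3]
        have c1 : Commute y t := hc
        have c2 : Commute y r := hyr
        exact (c1.mul_right c2).eq
    have h2 : u' = v := by
      rw [eq_inv_of_mul_eq_one_left h1, hvi]
    apply hvw
    refine (h.comm_of hvW hwW ?_).symm
    rw [← h2]
    rcases hcase with e1 | e1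
    · left; rw [← h2] at e1; exact e1
    · right; rw [← h2] at e1; exact e1
  · set t := w * v * w⁻¹ * v⁻¹ with ht
    intro hc
    obtain ⟨u', hu', hcase⟩ := uu_conj_cases h.odd h.ptd hy'.mem hy'.odd (h.cd hvW) (Or.inr hy'.inv) hw
    have hyr : y' * d = d * y' := mem_centralizer_singleton_iff.mp hy'.mem
    have hr := self_mem_ws h.odd.toGeo h.ptd
    have hwi := hact'.inv_eq hwW
    have htt : t = w * (v * w * v⁻¹) := by
      have e : w * (v * w⁻¹ * v⁻¹) = t := by rw [ht]; group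
      rw [← e, hwi]
    have h1 : w * u' = 1 := by
      refine hact'.eq_one (mul_mem hw hu') ?_
      rcases hcase with e1 | e1
      · have : t = w * u' := by rw [htt, e1]
        rw [← this]; exact hc
      · have h2 : t = w * u' * d := by rw [htt, e1, ← mul_assoc]
        have h3 : w * u' = t * d := by rw [h2, mul_assoc, h.sqd hr, mul_one]
        rw [h3]
        have c1 : Commute y' t := hc
        have c2 : Commute y' d := hyr
        exact (c1.mul_right c2).eq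
    have h2 : u' = w := by
      rw [eq_inv_of_mul_eq_one_right h1, hwi]
    apply hvw
    refine (h.symm.comm_of hwW hvW ?_)
    rcases hcase with e1 | e1
    · left; rw [h2] at e1; exact e1
    · right; rw [h2] at e1; exact e1

/-- a commutator `[a, b]` of elements `a` centralizing `y`, where `a` centralizes `[W, y]`, is centralized by `y` -/
theorem comm_comm (h : Pair T V z r d) {a0 y a b : G} (ha0 : a0 ∈ ws V d) (hy : Pair.Wt V r d a0 y)
    (ha : a ∈ ws V d) (hay : a * y * a⁻¹ * y⁻¹ ∈ kq V r) (hb : b ∈ ws V r) :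
    y * (a * b * a⁻¹ * b⁻¹) = a * b * a⁻¹ * b⁻¹ * y := by
  have hact := act h.odd h.ptr hy.mem hy.odd
  have hyr : y * r = r * y := mem_centralizer_singleton_iff.mp hy.mem
  have hr := self_mem_ws h.odd.toGeo h.ptr
  refine comm_of_odd hy.odd hyr ?_ (h.sqr hr)
  set k := a * y * a⁻¹ * y⁻¹ with hk
  set b2 := y * b * y⁻¹ with hb2
  have hb2W : b2 ∈ ws V r := hact.conj b hb
  have hu : b * b2 ∈ uu (ws V r) y := hact.mem_uu.mpr ⟨b, hb, rfl⟩
  have hau := h.comm_uu ha0 hy ha hay hu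
  have hbb := h.sqr hb
  -- `a b2 a⁻¹ = (b b2) (a b a⁻¹)`
  have hXW := conj_mem (V := V) (h.cr ha) hb2W
  have hYW := conj_mem (V := V) (h.cr ha) hb
  have e1 : a * b2 * a⁻¹ = a * b * a⁻¹ * (b * b2) := by
    have e2 : b2 = b * (b * b2) := by rw [← mul_assoc, hbb, one_mul]
    have e3 : a * (b * b2) * a⁻¹ = b * b2 := conj_eq_iff_comm.mpr hau
    calc a * b2 * a⁻¹ = a * (b * (b * b2)) * a⁻¹ := by rw [← e2]
      _ = a * b * a⁻¹ * (a * (b * b2) * a⁻¹) := by group
      _ = a * b * a⁻¹ * (b * b2) := by rw [e3]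
  have e4 : y * (a * b * a⁻¹) * y⁻¹ = k⁻¹ * (a * b2 * a⁻¹) * k := by rw [hk, hb2]; group
  have hc1 := hact.comm hYW hb
  have key : ∀ X : G, y * (a * b * a⁻¹) * y⁻¹ = a * b * a⁻¹ * (b * b2) * X →
      X * b2 = b2 * X → y * (a * b * a⁻¹ * b⁻¹) * y⁻¹ = a * b * a⁻¹ * b⁻¹ * X := by
    intro X hX hXb
    have hbi : b⁻¹ = b := hact.inv_eq hb
    have hb2i : b2⁻¹ = b2 := hact.inv_eq hb2W
    have e5 : y * (a * b * a⁻¹ * b⁻¹) * y⁻¹ = y * (a * b * a⁻¹) * y⁻¹ * b2⁻¹ := by rw [hb2]; group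
    rw [e5, hX, hb2i]
    calc a * b * a⁻¹ * (b * b2) * X * b2 = a * b * a⁻¹ * b * b2 * (X * b2) := by group
      _ = a * b * a⁻¹ * b * (b2 * b2) * X := by rw [hXb]; group
      _ = a * b * a⁻¹ * b⁻¹ * X := by rw [h.sqr hb2W, mul_one, hbi]
  rcases kq_cases' h.odd h.ptr hay hXW with e5 | e5
  · left
    have := key 1 (by rw [e4, e5, e1, mul_one]) (by rw [one_mul, mul_one])
    rw [this, mul_one]
  · right
    exact key r (by rw [e4, e5, e1]) (hact.comm hr hb2W)

theorem Nuc.kill (h : Pair T V z r d) {a0 y v y' w : G} (hN : Nuc V r d a0 y v y' w) {q : G}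
    (h1 : y * q = q * y) (h2 : y' * q = q * y')
    (h3 : w * v * w⁻¹ * v⁻¹ * q = q * (w * v * w⁻¹ * v⁻¹)) (hq : q * q = 1) : q = 1 := by
  have hvW := hN.four.uu_le hN.v_mem
  have hwW := hN.four'.uu_le hN.w_mem
  have htI := h.comm_mem hvW hwW
  exact OddTwoStar.kill h.odd.toGeo hN.four hN.four' htI.1 htI.2 hN.ty hN.ty' hN.v_mem hN.w_mem rfl
    h1 h2 h3 hq

/-- an element of `ws V d` which centralizes the weight `y` centralizes `ws V r` -/
theorem Nuc.comm (h : Pair T V z r d) {a0 y v y' w : G} (hN : Nuc V r d a0 y v y' w) {a b : G}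
    (ha : a ∈ ws V d) (hay : a * y * a⁻¹ * y⁻¹ ∈ kq V r) (hb : b ∈ ws V r) : a * b = b * a := by
  have hvW := hN.four.uu_le hN.v_mem
  have hwW := hN.four'.uu_le hN.w_mem
  have htI := h.comm_mem hvW hwW
  have key : ∀ b ∈ ws V r, b * y' * b⁻¹ * y'⁻¹ ∈ kq V d → a * b = b * a := by
    intro b hb hby
    have h1 := comm_comm h hN.a0_mem hN.wt ha hay hb
    have h2 := comm_comm h.symm hvW hN.wt' hb hby ha
    have hc := h.comm_mem hb ha
    have e : b * a * b⁻¹ * a⁻¹ = (a * b * a⁻¹ * b⁻¹)⁻¹ := by group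
    have hinv : (a * b * a⁻¹ * b⁻¹)⁻¹ = a * b * a⁻¹ * b⁻¹ := hN.four.inv_eq hc.1
    rw [e, hinv] at h2
    have h3 := hN.kill h h1 h2 (hN.four.comm htI.1 hc.1) (h.sqr hc.1)
    have : a * b * a⁻¹ = b := mul_inv_eq_one.mp h3
    exact conj_eq_iff_comm.mp this
  rcases hN.wt'.all b hb with hby | hby
  · exact key b hb hby
  · have hav : a * v = v * a := h.comm_uu hN.a0_mem hN.wt ha hay hN.v_mem
    have h1 := key (v * b) (mul_mem hvW hb) (h.symm.mul_cent hN.wt' hvW hN.wt'.inv hby)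
    have hvv := h.sqr hvW
    have c1 : Commute a (v * b) := h1
    have c2 : Commute a v := hav
    have c3 := c2.mul_right c1
    rw [← mul_assoc, hvv, one_mul] at c3
    exact c3.eq

theorem exists_noncomm {W : Subgroup G} {a : G} (hn : a ∉ centralizer (W : Set G)) :
    ∃ v ∈ W, a * v ≠ v * a := by
  rw [mem_centralizer_iff] at hn
  push Not at hn
  obtain ⟨v, hv, hne⟩ := hn
  exact ⟨v, hv, fun e => hne e.symm⟩

/-- `|ws V d : C(ws V r)| ≤ 2` -/
theorem index_two (h : Pair T V z r d) {a a' : G} (ha : a ∈ ws V d) (ha' : a' ∈ ws V d)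
    (hn : a ∉ centralizer (ws V r : Set G)) (hn' : a' ∉ centralizer (ws V r : Set G)) :
    a * a' ∈ centralizer (ws V r : Set G) := by
  obtain ⟨v0, hv0, hne⟩ := exists_noncomm hn
  obtain ⟨v1, hv1, hne1⟩ := exists_noncomm hn'
  obtain ⟨y, hy⟩ := h.exists_wt ha hv0 hne
  obtain ⟨v, y', w, hN⟩ := exists_nuc h ha hy
  have hay' : a' * y * a'⁻¹ * y ∈ kq V r := (hy.all a' ha').resolve_left fun hk =>
    hne1 (hN.comm h ha' hk hv1)
  rw [mem_centralizer_iff]
  intro b hb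
  exact (hN.comm h (mul_mem ha ha') (h.mul_cent hy ha hy.inv hay') hb).symm

/-- the data of Case 1 -/
structure Tr (T V : Subgroup G) (z r d t : G) : Prop extends Pair T V z r d where
  t_memr : t ∈ ws V r
  t_memd : t ∈ ws V d
  t_ne : t ≠ 1
  cases : ∀ a ∈ ws V d, ∀ b ∈ ws V r, a * b = b * a ∨ a * b * a⁻¹ * b⁻¹ = t

theorem exists_tr (h : Pair T V z r d) (hne : ∃ v ∈ ws V r, ∃ w ∈ ws V d, v * w ≠ w * v) :
    ∃ t, Tr T V z r d t := by
  obtain ⟨v, hv, w, hw, hvw⟩ := hne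
  have hc := h.comm_mem hv hw
  refine ⟨w * v * w⁻¹ * v⁻¹, h, hc.1, hc.2, ?_, ?_⟩
  · intro e
    apply hvw
    have : w * v * w⁻¹ = v := mul_inv_eq_one.mp e
    exact (conj_eq_iff_comm.mp this).symm
  · intro a ha b hb
    by_cases hab : a * b = b * a
    · exact Or.inl hab
    right
    have hnw : w ∉ centralizer (ws V r : Set G) := fun hc => hvw (mem_centralizer_iff.mp hc v hv)
    have hna : a ∉ centralizer (ws V r : Set G) := fun hc => hab (mem_centralizer_iff.mp hc b hb).symm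
    have h1 := index_two h hw ha hnw hna
    have hww := h.sqd hw
    have haa := h.sqd ha
    -- `a` and `w` act in the same way
    have h2 : ∀ b ∈ ws V r, a * b * a⁻¹ = w * b * w⁻¹ := by
      intro b hb
      have h3 := mem_centralizer_iff.mp h1 b hb
      have hwi : w⁻¹ = w := inv_eq_self hww
      have h4 : w * (a * b * a⁻¹) * w⁻¹ = b := by
        calc w * (a * b * a⁻¹) * w⁻¹ = (w * a * b) * (w * a)⁻¹ := by group
          _ = b * (w * a) * (w * a)⁻¹ := by rw [h3]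
          _ = b := by group
      calc a * b * a⁻¹ = w⁻¹ * (w * (a * b * a⁻¹) * w⁻¹) * w := by group
        _ = w⁻¹ * b * w := by rw [h4]
        _ = w * b * w⁻¹ := by rw [hwi]
    rw [h2 b hb]
    have hwb : w * b ≠ b * w := by
      intro e
      apply hab
      have := h2 b hb
      rw [conj_eq_iff_comm.mpr e] at this
      exact conj_eq_iff_comm.mp this
    have hnb : b ∉ centralizer (ws V d : Set G) := fun hc => hwb (mem_centralizer_iff.mp hc w hw)
    have hnv : v ∉ centralizer (ws V d : Set G) := fun hc =>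
      hvw (mem_centralizer_iff.mp hc w hw).symm
    have h5 := index_two h.symm hb hv hnb hnv
    have h6 : w * (b * v) * w⁻¹ = b * v := conj_eq_iff_comm.mpr (mem_centralizer_iff.mp h5 w hw)
    have hvv := h.sqr hv
    have hvi : v⁻¹ = v := inv_eq_self hvv
    have hbi : b⁻¹ = b := inv_eq_self (h.sqr hb)
    have hv' := conj_mem (V := V) (h.cr hw) hv
    have hb' := conj_mem (V := V) (h.cr hw) hb
    have e1 : w * b * w⁻¹ * (w * v * w⁻¹) = b * v := by rw [← h6]; group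
    have e2 : w * b * w⁻¹ = b * v * (w * v * w⁻¹) := mul_eq_of_sq (h.sqr hv') e1
    have c1 : b * v * (w * v * w⁻¹) = w * v * w⁻¹ * (b * v) :=
      OddBase.ws_comm h.odd h.ptr (mul_mem hb hv) hv'
    have c2 : b * v = v * b := OddBase.ws_comm h.odd h.ptr hb hv
    rw [e2, c1, c2, hvi, hbi]
    calc w * v * w⁻¹ * (v * b) * b = w * v * w⁻¹ * v * (b * b) := by group
      _ = w * v * w⁻¹ * v := by rw [h.sqr hb, mul_one]

namespace Tr

variable {t : G}

theorem symm (h : Tr T V z r d t) : Tr T V z d r t where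
  toPair := h.toPair.symm
  t_memr := h.t_memd
  t_memd := h.t_memr
  t_ne := h.t_ne
  cases := by
    intro a ha b hb
    rcases h.cases b hb a ha with e | e
    · exact Or.inl e.symm
    · right
      have htt := h.toPair.sqr h.t_memr
      have e1 : a * b * a⁻¹ * b⁻¹ = (b * a * b⁻¹ * a⁻¹)⁻¹ := by group
      rw [e1, e, inv_eq_self htt]

theorem tt_sq (h : Tr T V z r d t) : t * t = 1 := h.toPair.sqr h.t_memr

theorem comm_t (h : Tr T V z r d t) {a : G} (ha : a ∈ ws V d) : a * t = t * a :=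
  OddBase.ws_comm h.odd h.ptd ha h.t_memd

theorem comm_t' (h : Tr T V z r d t) {b : G} (hb : b ∈ ws V r) : b * t = t * b :=
  OddBase.ws_comm h.odd h.ptr hb h.t_memr

/-- the action of `ws V d` on `ws V r` -/
theorem conj_cases (h : Tr T V z r d t) {a b : G} (ha : a ∈ ws V d) (hb : b ∈ ws V r) :
    a * b = b * a ∨ a * b * a⁻¹ = b * t := by
  rcases h.cases a ha b hb with e | e
  · exact Or.inl e
  · right
    have e1 : a * b * a⁻¹ = t * b := mul_inv_eq_iff_eq_mul.mp e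
    rw [e1, h.comm_t' hb]

theorem conj_eq (h : Tr T V z r d t) {a b : G} (ha : a ∈ ws V d) (hb : b ∈ ws V r)
    (hne : a * b ≠ b * a) : a * b * a⁻¹ = b * t := (h.conj_cases ha hb).resolve_left hne

/-- products of elements moved by `w` -/
theorem mul_comm_of (h : Tr T V z r d t) {w v v' : G} (hw : w ∈ ws V d) (hv : v ∈ ws V r)
    (hv' : v' ∈ ws V r) (h1 : w * v ≠ v * w) (h2 : w * v' ≠ v' * w) : w * (v * v') = v * v' * w := by
  apply conj_eq_iff_comm.mp
  have e1 := h.conj_eq hw hv h1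
  have e2 := h.conj_eq hw hv' h2
  calc w * (v * v') * w⁻¹ = (w * v * w⁻¹) * (w * v' * w⁻¹) := by group
    _ = v * (t * v') * t := by rw [e1, e2]; group
    _ = v * (v' * t) * t := by rw [h.comm_t' hv']
    _ = v * v' * (t * t) := by group
    _ = v * v' := by rw [h.tt_sq, mul_one]

end Tr

/-- a weight `h` inverted by `w`, with `t ∈ [ws V r, h]` -/
structure Side (V : Subgroup G) (r w t h : G) : Prop where
  mem : h ∈ centralizer ({r} : Set G)
  odd : _root_.Odd (orderOf h)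
  inv : w * h * w⁻¹ = h⁻¹
  nk : h ∉ kq V r
  four : Four (ws V r) h
  t_mem : t ∈ uu (ws V r) h

theorem exists_inverted {m w : G} (hm : w * m * w⁻¹ = m⁻¹) {s : G} (hs : s ∈ zpowers m) :
    w * s * w⁻¹ = s⁻¹ := by
  obtain ⟨k, rfl⟩ := mem_zpowers_iff.mp hs
  rw [← conj_zpow, hm, inv_zpow]

/-- **the normal form of the weight** -/
theorem Tr.side_of {t : G} (h : Tr T V z r d t) {w : G} (hw : w ∈ ws V d) {y : G}
    (hym : y ∈ centralizer ({r} : Set G)) (hyodd : _root_.Odd (orderOf y)) (hynk : y ∉ kq V r)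
    (hyinv : w * y * w⁻¹ * y ∈ kq V r) : ∃ s : G, Side V r w t s ∧ s * (y * y)⁻¹ ∈ kq V r := by
  have hact := act h.odd h.ptr hym hyodd
  have hww := h.toPair.sqd hw
  have hwi : w⁻¹ = w := inv_eq_self hww
  have hwr := h.cr hw
  set g := y * w * y⁻¹ with hg
  have hgg : g * g = 1 := by rw [hg]; calc y * w * y⁻¹ * (y * w * y⁻¹) = y * (w * w) * y⁻¹ := by group
      _ = 1 := by rw [hww]; group
  have hgi : g⁻¹ = g := inv_eq_self hgg
  have hgr : g ∈ centralizer ({r} : Set G) := mul_mem (mul_mem hym hwr) (inv_mem hym)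
  set m := g * w with hm
  have hmr : m ∈ centralizer ({r} : Set G) := mul_mem hgr hwr
  have hmi : w * m * w⁻¹ = m⁻¹ := by rw [hm, mul_inv_rev, hgi, hwi]; calc
      w * (g * w) * w = w * g * (w * w) := by group
      _ = w * g := by rw [hww, mul_one]
  set k := w * y * w⁻¹ * y with hk
  have hmk : m = y * y * k⁻¹ := by
    rw [hm, hg, hk]
    have : (w * y * w⁻¹ * y)⁻¹ = y⁻¹ * (w * y⁻¹ * w⁻¹) := by group
    rw [this]
    calc y * w * y⁻¹ * w = y * (w * y⁻¹ * w⁻¹) * (w * w) := by group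
      _ = y * y * (y⁻¹ * (w * y⁻¹ * w⁻¹)) := by rw [hww]; group
  -- the odd part of `m`
  set C := centralizer ({r} : Set G) with hC
  set K : Subgroup C := (kq V r).subgroupOf C with hK
  haveI hKn : K.Normal := kq_normal V r
  let π : C →* C ⧸ K := QuotientGroup.mk' K
  have hπ : ∀ c : C, π c = 1 ↔ (c : G) ∈ kq V r := by
    intro c
    change (QuotientGroup.mk c : C ⧸ K) = 1 ↔ _
    rw [QuotientGroup.eq_one_iff, hK, mem_subgroupOf]
  let y' : C := ⟨y, hym⟩
  let m' : C := ⟨m, hmr⟩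
  have hkC : k ∈ C := by rw [hk]; exact mul_mem (mul_mem (mul_mem hwr hym) (inv_mem hwr)) hym
  let k' : C := ⟨k, hkC⟩
  have hπm : π m' = π (y' * y') := by
    have e : m' = y' * y' * k'⁻¹ := Subtype.ext hmk
    rw [e, map_mul, map_inv, (hπ k').mpr hyinv, inv_one, mul_one]
  have hyo : _root_.Odd (orderOf y') := by rw [← Subgroup.orderOf_coe]; exact hyodd
  have hmo : _root_.Odd (orderOf (π m')) := by
    rw [hπm]
    refine hyo.of_dvd_nat (orderOf_dvd_of_pow_eq_one ?_)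
    rw [← map_pow, ← pow_two, ← pow_mul, mul_comm, pow_mul, pow_orderOf_eq_one, one_pow, map_one]
  obtain ⟨s, hs, hso, hsm⟩ := exists_odd_lift π hmo
  have hsz : (s : G) ∈ zpowers m := by
    obtain ⟨j, hj⟩ := mem_zpowers_iff.mp hs
    exact mem_zpowers_iff.mpr ⟨j, by rw [← hj]; simp [m']⟩
  have hso' : _root_.Odd (orderOf (s : G)) := by rw [Subgroup.orderOf_coe]; exact hso
  have hinv := exists_inverted hmi hsz
  have hsk : (s : G) ∉ kq V r := by
    intro hk1
    have h1 : π (y' * y') = 1 := by rw [← hπm, ← hsm]; exact (hπ s).mpr hk1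
    obtain ⟨n, hn⟩ := exists_sq_pow hyo
    have h2 : π y' = 1 := by rw [← hn, map_pow, h1, one_pow]
    exact hynk ((hπ y').mp h2)
  have hact' := act h.odd h.ptr s.2 hso'
  obtain ⟨hf, -⟩ := OddTwoWeight.four h.odd h.ptr s.2 hso' hsk hwr
    (by rw [hinv, inv_mul_cancel]; exact one_mem _)
    (fun v hv v' hv' h1 h2 => h.mul_comm_of hw hv hv' h1 h2)
  have hsy : (s : G) * (y * y)⁻¹ ∈ kq V r := by
    have h1 : π (s * (y' * y')⁻¹) = 1 := by rw [map_mul, map_inv, hsm, hπm, mul_inv_cancel]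
    exact (hπ _).mp h1
  refine ⟨s, ⟨s.2, hso', hinv, hsk, hf, ?_⟩, hsy⟩
  -- `[ws V r, m] ≤ ⟨t, t^y⟩`
  set ty := y * t * y⁻¹ with hty
  have htyW : ty ∈ ws V r := hact.conj t h.t_memr
  have htt := h.tt_sq
  have htyty : ty * ty = 1 := h.toPair.sqr htyW
  have htc : t * ty = ty * t := hact.comm h.t_memr htyW
  let S : Subgroup G :=
    { carrier := {a | a = 1 ∨ a = t ∨ a = ty ∨ a = t * ty}
      mul_mem' := by
        have e1 : t * (t * ty) = ty := by rw [← mul_assoc, htt, one_mul]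
        have e2 : ty * (t * ty) = t := by rw [htc, ← mul_assoc, htyty, one_mul]
        have e3 : t * ty * t = ty := by rw [htc, mul_assoc, htt, mul_one]
        have e4 : t * ty * ty = t := by rw [mul_assoc, htyty, mul_one]
        have e5 : t * ty * (t * ty) = 1 := by rw [← mul_assoc, e3, htyty]
        rintro a b (rfl | rfl | rfl | rfl) (rfl | rfl | rfl | rfl)
        · left; rw [mul_one]
        · right; left; rw [one_mul]
        · right; right; left; rw [one_mul]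
        · right; right; right; rw [one_mul]
        · right; left; rw [mul_one]
        · left; exact htt
        · right; right; right; rfl
        · right; right; left; exact e1
        · right; right; left; rw [mul_one]
        · right; right; right; exact htc.symm
        · left; exact htyty
        · right; left; exact e2
        · right; right; right; rw [mul_one]
        · right; right; left; exact e3
        · right; left; exact e4
        · left; exact e5
      one_mem' := Or.inl rfl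
      inv_mem' := by
        rintro a (rfl | rfl | rfl | rfl)
        · left; exact inv_one
        · right; left; exact inv_eq_self htt
        · right; right; left; exact inv_eq_self htyty
        · right; right; right
          rw [mul_inv_rev, inv_eq_self htt, inv_eq_self htyty]; exact htc.symm }
  have hSt : t ∈ S := Or.inr (Or.inl rfl)
  have hSty : ty ∈ S := Or.inr (Or.inr (Or.inl rfl))
  have hSW : S ≤ ws V r := by
    rintro a (rfl | rfl | rfl | rfl)
    · exact one_mem _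
    · exact h.t_memr
    · exact htyW
    · exact mul_mem h.t_memr htyW
  have hwv : ∀ v ∈ ws V r, w * v * w⁻¹ * v⁻¹ ∈ S := by
    intro v hv
    rcases h.conj_cases hw hv with e | e
    · rw [e]; simp [one_mem]
    · rw [e, h.comm_t' hv]; simpa using hSt
  have hgv : ∀ v ∈ ws V r, g * v * g⁻¹ * v⁻¹ ∈ S := by
    intro v hv
    have hv1 := hact.conj' hv
    have e0 : g * v * g⁻¹ = y * (w * (y⁻¹ * v * y) * w⁻¹) * y⁻¹ := by rw [hg]; group
    rcases h.conj_cases hw hv1 with e | e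
    · have e2 : w * (y⁻¹ * v * y) * w⁻¹ = y⁻¹ * v * y := conj_eq_iff_comm.mpr e
      rw [e0, e2]
      have : y * (y⁻¹ * v * y) * y⁻¹ * v⁻¹ = 1 := by group
      rw [this]; exact one_mem _
    · have e2 : y * (y⁻¹ * v * y * t) * y⁻¹ = v * ty := by rw [hty]; group
      rw [e0, e, e2, hact.comm hv htyW]
      simpa using hSty
  have hSc : ∀ a : G, a ∈ centralizer ({r} : Set G) → (∀ v ∈ ws V r, a * v * a⁻¹ * v⁻¹ ∈ S) →
      ∀ v ∈ ws V r, v ∈ S → a * v * a⁻¹ ∈ S := by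
    intro a _ ha v hv hvS
    have := mul_mem (ha v hv) hvS
    simpa only [_root_.inv_mul_cancel_right] using this
  have hmv : ∀ v ∈ ws V r, m * v * m⁻¹ * v⁻¹ ∈ S := by
    intro v hv
    have h1 := hwv v hv
    have hv1 := conj_mem (V := V) hwr hv
    have h2 := hgv _ hv1
    have e : m * v * m⁻¹ * v⁻¹ = g * (w * v * w⁻¹) * g⁻¹ * (w * v * w⁻¹)⁻¹ * (w * v * w⁻¹ * v⁻¹) := by
      rw [hm]; group
    rw [e]; exact mul_mem h2 h1
  have hmpow : ∀ n : ℕ, ∀ v ∈ ws V r, m ^ n * v * (m ^ n)⁻¹ * v⁻¹ ∈ S := by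
    intro n
    induction n with
    | zero => intro v hv; simp [one_mem]
    | succ n ih =>
      intro v hv
      have h1 := ih v hv
      have hv1 : m ^ n * v * (m ^ n)⁻¹ ∈ ws V r := conj_mem (V := V) (pow_mem hmr n) hv
      have h2 := hmv _ hv1
      have e : m ^ (n + 1) * v * (m ^ (n + 1))⁻¹ * v⁻¹ = m * (m ^ n * v * (m ^ n)⁻¹) * m⁻¹ *
          (m ^ n * v * (m ^ n)⁻¹)⁻¹ * (m ^ n * v * (m ^ n)⁻¹ * v⁻¹) := by
        rw [pow_succ']; group
      rw [e]; exact mul_mem h2 h1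
  have hsS : ∀ v ∈ ws V r, (s : G) * v * (s : G)⁻¹ * v⁻¹ ∈ S := by
    obtain ⟨n, hn⟩ := (mem_powers_iff_mem_zpowers.mpr hsz : (s : G) ∈ Submonoid.powers m)
    have hn' : (s : G) = m ^ n := hn.symm
    rw [hn']
    exact hmpow n
  have huS : ∀ u ∈ uu (ws V r) (s : G), u ∈ S := by
    intro u hu
    obtain ⟨v, hv, rfl⟩ := hact'.mem_uu.mp hu
    have h1 := hsS v hv
    rwa [hact'.inv_eq hv, hact'.comm (hact'.conj v hv) hv] at h1
  obtain ⟨u, hu, hu1⟩ := exists_uu h.odd h.ptr s.2 hso' hsk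
  set u2 := (s : G) * u * (s : G)⁻¹ with hu2
  have hu2m := hact'.uu_conj hu
  have hu21 : u2 ≠ 1 := conj_ne_one hu1
  have hne2 : u ≠ u2 := fun e => hu1 (hact'.eq_one hu (conj_eq_iff_comm.mp e.symm))
  have h3 : u * u2 ≠ 1 := fun e => hne2 (by
    rw [eq_inv_of_mul_eq_one_left e, hact'.inv_eq (hact'.uu_le hu2m)])
  by_contra hcon
  have hn1 : u ≠ t := fun e => hcon (e ▸ hu)
  have hn2 : u2 ≠ t := fun e => hcon (e ▸ hu2m)
  have hn3 : u * u2 ≠ t := fun e => hcon (e ▸ mul_mem hu hu2m)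
  rcases huS u hu with e | e | e | e
  · exact hu1 e
  · exact hn1 e
  · rcases huS u2 hu2m with e' | e' | e' | e'
    · exact hu21 e'
    · exact hn2 e'
    · exact hne2 (e.trans e'.symm)
    · exact hn3 (by rw [e, e', htc, ← mul_assoc, htyty, one_mul])
  · rcases huS u2 hu2m with e' | e' | e' | e'
    · exact hu21 e'
    · exact hn2 e'
    · exact hn3 (by rw [e, e', mul_assoc, htyty, mul_one])
    · exact hne2 (e.trans e'.symm)

theorem Tr.exists_side {t : G} (h : Tr T V z r d t) {w : G} (hw : w ∈ ws V d)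
    (hn : w ∉ centralizer (ws V r : Set G)) : ∃ s : G, Side V r w t s := by
  obtain ⟨v0, hv0, hne⟩ := exists_noncomm hn
  obtain ⟨y, hy⟩ := h.toPair.exists_wt hw hv0 hne
  obtain ⟨s, hs, -⟩ := h.side_of hw hy.mem hy.odd hy.nk hy.inv
  exact ⟨s, hs⟩

namespace Side

variable {t w s : G}

/-- the three nontrivial elements of `[ws V r, s]` are `t`, `s t s⁻¹`, `s⁻¹ t s` -/
theorem t_ne (h : Tr T V z r d t) (hS : Side V r w t s) : s * t ≠ t * s := fun e =>
  h.t_ne (hS.four.eq_one hS.t_mem e)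

/-- `w` commutes with `C(s)` -/
theorem w_comm (h : Tr T V z r d t) (hw : w ∈ ws V d) (hS : Side V r w t s) {c : G}
    (hc : c ∈ ws V r) (hsc : s * c = c * s) : w * c = c * w := by
  by_contra hne
  have e := h.conj_eq hw hc hne
  have h1 := comm_conj h.odd h.ptr hS.mem hS.odd (h.cr hw)
    (Or.inr (by rw [hS.inv, inv_mul_cancel]; exact one_mem _)) hc hsc
  rw [e] at h1
  apply hS.t_ne h
  have c1 : Commute s (c * t) := h1
  have c2 : Commute s c := hsc
  have c3 := c2.inv_right.mul_right c1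
  rw [inv_mul_cancel_left] at c3
  exact c3.eq

theorem inv' (hww : w * w = 1) (hS : Side V r w t s) : w * s⁻¹ * w⁻¹ = s := by
  have h1 := hS.inv
  calc w * s⁻¹ * w⁻¹ = (w * s * w⁻¹)⁻¹ := by group
    _ = s := by rw [h1, inv_inv]

theorem uniq (h : Tr T V z r d t) (hw : w ∈ ws V d) (hS : Side V r w t s) {u : G}
    (hu : u ∈ uu (ws V r) s) (hu1 : u ≠ 1) (hwu : w * u = u * w) : u = t := by
  obtain ⟨-, u0, hu0, hu01, hwu0, huniq⟩ := OddTwoWeight.four h.odd h.ptr hS.mem hS.odd hS.nk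
    (h.cr hw) (by rw [hS.inv, inv_mul_cancel]; exact one_mem _)
    (fun v hv v' hv' h1 h2 => h.mul_comm_of hw hv hv' h1 h2)
  rw [huniq u hu hu1 hwu, huniq t hS.t_mem h.t_ne (h.comm_t hw)]

/-- `C_W(w) = ⟨t⟩ C_W(s)` -/
theorem comm_cases (h : Tr T V z r d t) (hw : w ∈ ws V d) (hS : Side V r w t s) {v : G}
    (hv : v ∈ ws V r) (hwv : w * v = v * w) : s * v = v * s ∨ s * (t * v) = t * v * s := by
  obtain ⟨u, hu, c, hc, hsc, rfl⟩ := hS.four.exists_decomp hv
  have huW := hS.four.uu_le hu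
  by_cases hu1 : u = 1
  · left; rw [hu1, one_mul]; exact hsc
  right
  have hwc := hS.w_comm h hw hc hsc
  have c1 : Commute w (u * c) := hwv
  have c2 : Commute w c := hwc
  have c3 := c1.mul_right c2.inv_right
  rw [mul_inv_cancel_right] at c3
  have h1 := hS.uniq h hw hu hu1 c3.eq
  rw [h1, ← mul_assoc t t c, h.tt_sq, one_mul]
  exact hsc

/-- `C_W(w) = C_W(ws V d)` -/
theorem comm_all (h : Tr T V z r d t) (hw : w ∈ ws V d) (hn : w ∉ centralizer (ws V r : Set G))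
    {v a : G} (hv : v ∈ ws V r) (hwv : w * v = v * w) (ha : a ∈ ws V d) : a * v = v * a := by
  by_cases hna : a ∈ centralizer (ws V r : Set G)
  · exact (mem_centralizer_iff.mp hna v hv).symm
  have h1 := mem_centralizer_iff.mp (index_two h.toPair hw ha hn hna) v hv
  have c1 : Commute (w * a) v := h1.symm
  have c2 : Commute w v := hwv
  have c3 := c2.inv_left.mul_left c1
  rw [inv_mul_cancel_left] at c3
  exact c3.eq

/-- the action of `s` on `[W, s]` -/
theorem conj_conj (h : Tr T V z r d t) (hS : Side V r w t s) :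
    s * (s * t * s⁻¹) * s⁻¹ = t * (s * t * s⁻¹) := by
  set t1 := s * t * s⁻¹ with ht1
  have ht1m := hS.four.uu_conj hS.t_mem
  have hst := hS.t_ne h
  have ht1t : t1 ≠ t := fun e => hst (conj_eq_iff_comm.mp e)
  have h2 := hS.four.uu_conj ht1m
  have htt := h.tt_sq
  rcases hS.four.cases t hS.t_mem h.t_ne _ h2 with e | e | e | e
  · exact absurd e (conj_ne_one (conj_ne_one h.t_ne))
  · -- `s` would fix `t t1`
    exfalso
    have hc : s * (t * t1) * s⁻¹ = t * t1 := by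
      calc s * (t * t1) * s⁻¹ = t1 * (s * t1 * s⁻¹) := by rw [ht1]; group
        _ = t1 * t := by rw [e]
        _ = t * t1 := hS.four.comm (hS.four.uu_le ht1m) h.t_memr
    have h3 := hS.four.eq_one (mul_mem hS.t_mem ht1m) (conj_eq_iff_comm.mp hc)
    exact ht1t (eq_inv_of_mul_eq_one_right h3 |>.trans (inv_eq_self htt))
  · exfalso
    rw [← ht1] at e
    exact ht1t (OddBase.conj_inj (g := s) e)
  · exact e

theorem conj_inv (h : Tr T V z r d t) (hS : Side V r w t s) :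
    s⁻¹ * t * s = t * (s * t * s⁻¹) := by
  have h1 := hS.conj_conj h
  set t1 := s * t * s⁻¹ with ht1
  have ht1W : t1 ∈ ws V r := hS.four.uu_le (hS.four.uu_conj hS.t_mem)
  have htc : t * t1 = t1 * t := hS.four.comm h.t_memr ht1W
  -- `s (t t1) s⁻¹ = t1 t t1 = t`
  have e : s * (t * t1) * s⁻¹ = t := by
    calc s * (t * t1) * s⁻¹ = t1 * (s * t1 * s⁻¹) := by rw [ht1]; group
      _ = t1 * (t * t1) := by rw [h1]
      _ = (t1 * t1) * t := by rw [htc, ← mul_assoc]
      _ = t := by rw [hS.four.sq _ ht1W, one_mul]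
  calc s⁻¹ * t * s = s⁻¹ * (s * (t * t1) * s⁻¹) * s := by rw [e]
    _ = t * t1 := by group

/-- `s³` centralizes `ws V r` -/
theorem cube (h : Tr T V z r d t) (hS : Side V r w t s) {v : G} (hv : v ∈ ws V r) :
    s * (s * (s * v * s⁻¹) * s⁻¹) * s⁻¹ = v := by
  obtain ⟨u, hu, c, hc, hsc, rfl⟩ := hS.four.exists_decomp hv
  have hc' : s * c * s⁻¹ = c := conj_eq_iff_comm.mpr hsc
  have e0 : s * (s * (s * (u * c) * s⁻¹) * s⁻¹) * s⁻¹ = s * (s * (s * u * s⁻¹) * s⁻¹) * s⁻¹ *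
      (s * (s * (s * c * s⁻¹) * s⁻¹) * s⁻¹) := by group
  rw [e0, hc', hc', hc']
  congr 1
  have h1 := hS.conj_conj h
  have h2 := hS.conj_inv h
  set t1 := s * t * s⁻¹ with ht1
  have ht1W := hS.four.uu_le (hS.four.uu_conj hS.t_mem)
  have e1 : s * (t * t1) * s⁻¹ = t := by rw [← h2]; group
  rcases hS.four.cases t hS.t_mem h.t_ne u hu with rfl | rfl | rfl | rfl
  · group
  · rw [← ht1, h1, e1]
  · rw [← ht1, h1, e1]
  · rw [← ht1, e1, ← ht1, h1]

end Side

/-! ### both sides -/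

/-- **(N)** -/
theorem Tr.kill {t w v s s' q : G} (h : Tr T V z r d t) (hw : w ∈ ws V d) (hv : v ∈ ws V r)
    (hS : Side V r w t s) (hS' : Side V d v t s') (h1 : s * q = q * s) (h2 : s' * q = q * s')
    (h3 : t * q = q * t) (hq : q * q = 1) : q = 1 := by
  have hwv : ∀ {r d w v s s' : G}, Tr T V z r d t → w ∈ ws V d → v ∈ ws V r → Side V r w t s →
      Side V d v t s' → ∃ u ∈ uu (ws V r) s, w * u ≠ u * w := by
    intro r d w v s s' h hw hv hS hS'
    by_contra hcon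
    push Not at hcon
    have h3 := hS.four.uu_conj hS.t_mem
    have h4 := hS.uniq h hw h3 (conj_ne_one h.t_ne) (hcon _ h3)
    exact hS.t_ne h (conj_eq_iff_comm.mp h4)
  obtain ⟨u, hu, hwu⟩ := hwv h hw hv hS hS'
  obtain ⟨u', hu', hvu'⟩ := hwv h.symm hv hw hS' hS
  have huW := hS.four.uu_le hu
  have hu'W := hS'.four.uu_le hu'
  have hnw : w ∉ centralizer (ws V r : Set G) := fun hc => hwu (mem_centralizer_iff.mp hc u huW).symm
  have hnv : v ∉ centralizer (ws V d : Set G) := fun hc =>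
    hvu' (mem_centralizer_iff.mp hc u' hu'W).symm
  -- `u' u ≠ u u'`
  have huu : u' * u ≠ u * u' := by
    intro e
    by_cases hnu' : u' ∈ centralizer (ws V r : Set G)
    · exact hvu' (mem_centralizer_iff.mp hnu' v hv)
    · exact hwu (Side.comm_all h hu'W hnu' huW e hw)
  have htc : u' * u * u'⁻¹ * u⁻¹ = t := (h.cases u' hu'W u huW).resolve_left huu
  exact OddTwoStar.kill h.odd.toGeo hS.four hS'.four h.t_memr h.t_memd (hS.t_ne h) (hS'.t_ne h.symm)
    hu hu' htc h1 h2 h3 hq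

section walk

variable {n : ℕ} {x y p t w s : G}

theorem pair_of_crit (h : OddN T V z n) (hc : Crit V z n x y) (h1 : x ∉ ws V y) (h2 : y ∉ ws V x) :
    Pair T V z x y where
  odd := h.toOdd
  ptr := hc.pt
  ptd := hc.pt' h.toGeo
  cr := hc.ws_le_centralizer h
  cd := (hc.symm h.toOdd).ws_le_centralizer h
  rd := h1
  dr := h2

/-- **Case 1** -/
theorem tr_of_crit (h : OddN T V z n) (hc : Crit V z n x y) (h1 : x ∉ ws V y) (h2 : y ∉ ws V x) :
    ∃ t, Tr T V z x y t := by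
  obtain ⟨_, _, a, ha, b, hb, hab⟩ := id hc
  exact exists_tr (pair_of_crit h hc h1 h2) ⟨a, ha, b, hb, hab⟩

/-- `s` moves the points of `ws V x` at distance `< n` of `y` -/
theorem Side.ne (h : OddN T V z n) (hp : Pt z p) {j : ℕ} (hj : j < n) (hpy : Walk V j p y)
    (hw : w ∈ ws V y) (hS : Side V x w t s) : s * p ≠ p * s := by
  intro hsp
  have hY2 := tt_isPGroup h (j := j) hj hp
  have hwY : w ∈ tt V j p := ws_le_tt hpy hw
  have hsY : s * w⁻¹ * s⁻¹ ∈ tt V j p :=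
    conj_mem_of_normalizer (centralizer_le_normalizer_tt j p)
      (mem_centralizer_singleton_iff.mpr hsp) (inv_mem hwY)
  obtain ⟨k, hk⟩ := hY2 ⟨w * (s * w⁻¹ * s⁻¹), mul_mem hwY hsY⟩
  have hk' : (w * (s * w⁻¹ * s⁻¹)) ^ 2 ^ k = 1 := congrArg Subtype.val hk
  have e : w * (s * w⁻¹ * s⁻¹) = (s * s)⁻¹ := by
    calc w * (s * w⁻¹ * s⁻¹) = (w * s * w⁻¹) * s⁻¹ := by group
      _ = (s * s)⁻¹ := by rw [hS.inv]; group
  rw [e, inv_pow, inv_eq_one, ← pow_two, ← pow_mul] at hk'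
  have h8 : orderOf s ∣ 2 ^ (k + 1) := orderOf_dvd_of_pow_eq_one (by rw [pow_succ, mul_comm]; exact hk')
  have h9 : Nat.Coprime (orderOf s) (2 ^ (k + 1)) :=
    Nat.Coprime.pow_right _ (Nat.coprime_two_right.mpr hS.odd)
  have h10 : orderOf s = 1 := Nat.eq_one_of_dvd_coprimes h9 dvd_rfl h8
  apply hS.nk
  rw [orderOf_eq_one_iff.mp h10]
  exact one_mem _

/-- `p = t c` with `c` centralized by `s` -/
theorem Side.comm_tp (h : OddN T V z n) (hT : Tr T V z x y t) (hp : Pt z p) (hpx : p ∈ ws V x) {j : ℕ}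
    (hj : j < n) (hpy : Walk V j p y) (hw : w ∈ ws V y) (hS : Side V x w t s) :
    s * (t * p) = t * p * s := by
  have hwp : w * p = p * w :=
    (mem_centralizer_iff.mp (comm_of_walk h hp hj hpy hw) p (self_mem_ws h.toGeo hp)).symm
  exact (hS.comm_cases hT hw hpx hwp).resolve_left
    (hS.ne h hp hj hpy hw)

end walk

end Cfsg.Agent.MinSimple.OddPair
end
end

-- part: Classification/TitsFin/TriFin
section
set_option linter.all false
open scoped Cfsg.Agent.FastGrp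

/-!
# The count of lines and case A

`Tri V U C` : the orbit of `q` under `C p` has length 10, i.e. there are five lines on `p`. If `|C_G(U_p)| = 32` then
`|C_p| = 10240`, `|Q_p| = 512`, `C_G(U_p) = U_p` and `(p, q)` satisfies `FinHyp`.
-/

set_option autoImplicit false

namespace Cfsg.Agent.Classification.TitsFin.TriFin

open Subgroup Cfsg Cfsg.Agent.ZN Cfsg.Agent.MinSimple.Geo
open Cfsg.Agent.ZN.Block (conj_mem_of_normalizer conj_mem_of_normalizer' le_normalizer_of_forall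
  mem_normalizer_of card_sup_mul_card_inf card_mul_relIndex' mul_mem_of_relIndex_two)
open Cfsg.Agent.Classification.TitsFin.Tri (Pt kst K Q)
open Cfsg.Agent.Classification.TitsFin.TriAct Cfsg.Agent.Classification.TitsFin.TriQK
open Cfsg.Agent.Classification.TitsFin.TriTen
open Cfsg.Agent.MinSimple.VModule (oddGen)

universe u

variable {G : Type u} [Group G] [Finite G] {V : Subgroup G} {U C : G → Subgroup G} {p q : G}

/-- there is a second point -/
theorem exists_pt (h : Tri V U C) (_hp : Pt V p) : ∃ q, Pt V q ∧ p ≠ q := by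
  classical
  by_contra hcon
  push Not at hcon
  have h1 : (V : Set G) ⊆ ({1, p} : Set G) := by
    intro v hv
    by_cases hv1 : v = 1
    · exact Or.inl hv1
    · exact Or.inr (hcon v ⟨hv, hv1⟩).symm
  have h2 : (V : Set G).ncard ≤ ({1, p} : Set G).ncard := Set.ncard_le_ncard h1 (Set.toFinite _)
  have h3 : ({1, p} : Set G).ncard ≤ 2 := Set.ncard_insert_le _ _ |>.trans (by rw [Set.ncard_singleton])
  have h4 : (V : Set G).ncard = 4 := by
    rw [← h.cardV]; rfl
  omega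

/-- `V = {1, p, q, pq}` -/
theorem mem_V_iff (h : Tri V U C) (hp : Pt V p) (hq : Pt V q) (hpq : p ≠ q) {v : G} :
    v ∈ V ↔ v = 1 ∨ v = p ∨ v = q ∨ v = p * q := by
  classical
  obtain ⟨h1, h2, h3⟩ := h.third hp hq hpq
  constructor
  · intro hv
    have hsub : ({1, p, q, p * q} : Set G) ⊆ (V : Set G) := by
      rintro x (rfl | rfl | rfl | rfl)
      · exact one_mem _
      · exact hp.1
      · exact hq.1
      · exact h1.1
    have hc : ({1, p, q, p * q} : Set G).ncard = 4 := by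
      have e1 : ({p * q} : Set G).ncard = 1 := Set.ncard_singleton _
      have e2 : ({q, p * q} : Set G).ncard = 2 := by
        rw [Set.ncard_insert_of_notMem (by simpa using h3.symm), e1]
      have e3 : ({p, q, p * q} : Set G).ncard = 3 := by
        rw [Set.ncard_insert_of_notMem (by
          rintro (e | e)
          · exact hpq e
          · exact h2 e.symm), e2]
      rw [Set.ncard_insert_of_notMem (by
          rintro (e | e | e)
          · exact hp.2 e.symm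
          · exact hq.2 e.symm
          · exact h1.2 e.symm), e3]
    have h4 : (V : Set G).ncard = 4 := by
      rw [← h.cardV]; rfl
    have heq : ({1, p, q, p * q} : Set G) = (V : Set G) :=
      Set.eq_of_subset_of_ncard_le hsub (by rw [hc, h4]) (Set.toFinite _)
    have : v ∈ ({1, p, q, p * q} : Set G) := by rw [heq]; exact hv
    simpa using this
  · rintro (rfl | rfl | rfl | rfl)
    · exact one_mem _
    · exact hp.1
    · exact hq.1
    · exact h1.1

/-- `C_G(V)` is the stabiliser of `q` in `C_p` -/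
theorem mem_centV_iff (h : Tri V U C) (hp : Pt V p) (hq : Pt V q) (hpq : p ≠ q) {g : G} :
    g ∈ centralizer (V : Set G) ↔ g ∈ C p ∧ g * q = q * g := by
  constructor
  · intro hg
    exact ⟨h.centV_le hp hg, (mem_centralizer_iff.mp hg q hq.1).symm⟩
  · rintro ⟨h1, h2⟩
    have h3 := h.c_comm hp h1
    refine mem_centralizer_iff.mpr fun v hv => ?_
    rcases (mem_V_iff h hp hq hpq).mp hv with rfl | rfl | rfl | rfl
    · simp
    · exact h3.symm
    · exact h2.symm
    · calc p * q * g = p * (q * g) := by group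
        _ = (p * g) * q := by rw [← h2]; group
        _ = g * (p * q) := by rw [← h3]; group

/-- `|Q_p : Q_p ⊓ C_G(V)| = 2` -/
theorem relIndex_centV_Q (h : Tri V U C) (hp : Pt V p) : (centralizer (V : Set G)).relIndex (Q U C p) = 2 := by
  obtain ⟨q, hq, hpq⟩ := exists_pt h hp
  obtain ⟨c, hc, hcq⟩ := exists_move h hp (h.p_mem hq hp) hq.2 hpq.symm
  have hpp := h.pp hp
  rw [relIndex, index_eq_two_iff]
  refine ⟨⟨c, hc⟩, fun b => ?_⟩
  obtain ⟨b, hb⟩ := b
  have hcC : c ∈ C p := Tri.kst_le _ _ _ hc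
  have hbC : b ∈ C p := Tri.kst_le _ _ _ hb
  rw [mem_subgroupOf, mem_subgroupOf]
  change Xor (b * c ∈ _) (b ∈ _)
  have hcp := h.c_comm hp hcC
  have hbp := h.c_comm hp hbC
  rcases ((h.mem_Q_iff hp).mp hb).2 q (h.p_mem hq hp) with e | e
  · right
    refine ⟨(mem_centV_iff h hp hq hpq).mpr ⟨hbC, ?_⟩, fun hcon => ?_⟩
    · exact mul_inv_eq_iff_eq_mul.mp e
    · have h1 := ((mem_centV_iff h hp hq hpq).mp hcon).2
      have h2 : b * c * q = p * q * (b * c) := by
        calc b * c * q = b * (c * q * c⁻¹) * c := by group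
          _ = (b * p) * q * c := by rw [hcq]; group
          _ = p * (b * q * b⁻¹) * (b * c) := by rw [hbp]; group
          _ = p * q * (b * c) := by rw [e]
      rw [h2] at h1
      have h3 : p * q = q := mul_right_cancel h1
      exact hp.2 (mul_eq_right.mp h3)
  · left
    refine ⟨(mem_centV_iff h hp hq hpq).mpr ⟨mul_mem hbC hcC, ?_⟩, fun hcon => ?_⟩
    · calc b * c * q = b * (c * q * c⁻¹) * c := by group
        _ = (b * p) * q * c := by rw [hcq]; group
        _ = p * (b * q * b⁻¹) * (b * c) := by rw [hbp]; group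
        _ = (p * p) * q * (b * c) := by rw [e]; group
        _ = q * (b * c) := by rw [hpp, one_mul]
    · have h1 := ((mem_centV_iff h hp hq hpq).mp hcon).2
      have h2 : b * q = p * q * b := mul_inv_eq_iff_eq_mul.mp e
      rw [h2] at h1
      have h3 : p * q = q := mul_right_cancel h1
      exact hp.2 (mul_eq_right.mp h3)

/-- `|C_G(V) : Q_p ⊓ C_G(V)| = 4` -/
theorem relIndex_Q_centV (h : Tri V U C) (hp : Pt V p) : (Q U C p).relIndex (centralizer (V : Set G)) = 4 := by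
  obtain ⟨q, hq, hpq⟩ := exists_pt h hp
  obtain ⟨c, hc, hcc⟩ := exists_four h hp hq hpq
  have hle := h.centV_le hp
  -- divides 20
  have h1 : (Q U C p).relIndex (centralizer (V : Set G)) ∣ 20 := by
    have hN : ((Q U C p).subgroupOf (C p)).Normal :=
      (normal_subgroupOf_iff_le_normalizer (Tri.kst_le _ _ _)).mpr (h.C_le_normQ hp)
    have h2 := relIndex_dvd_index_of_normal ((Q U C p).subgroupOf (C p))
      ((centralizer (V : Set G)).subgroupOf (C p))
    rw [relIndex_subgroupOf hle] at h2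
    have h3 : ((Q U C p).subgroupOf (C p)).index = 20 := relIndex_Q h hp
    rwa [h3] at h2
  -- a power of 2
  have : Fact (Nat.Prime 2) := ⟨Nat.prime_two⟩
  obtain ⟨n, hn⟩ := (isPGroup_centV h hp).index ((Q U C p).subgroupOf (centralizer (V : Set G)))
  have hn' : (Q U C p).relIndex (centralizer (V : Set G)) = 2 ^ n := hn
  rw [hn'] at h1 ⊢
  have h3 : n ≠ 0 := by
    rintro rfl
    rw [pow_zero, relIndex_eq_one] at hn'
    exact hcc (mul_mem (hn' hc) (hn' hc))
  have h4 : n ≠ 1 := by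
    rintro rfl
    rw [pow_one] at hn
    have := mul_self_mem_of_index_two hn ⟨c, hc⟩
    exact hcc (mem_subgroupOf.mp this)
  have h5 : n < 3 := by
    by_contra hcon
    push Not at hcon
    have h6 : 2 ^ 3 ∣ 20 := (Nat.pow_dvd_pow 2 hcon).trans h1
    omega
  interval_cases n <;> omega

/-- five lines on `p`: the orbit of `q` under `C_p` has length 10 -/
theorem relIndex_centV (h : Tri V U C) (hp : Pt V p) : (centralizer (V : Set G)).relIndex (C p) = 10 := by
  have h1 := relIndex_centV_Q h hp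
  have h2 := relIndex_Q_centV h hp
  have h3 := relIndex_Q h hp
  have e1 : Nat.card ↥(centralizer (V : Set G) ⊓ Q U C p) * 2 = Nat.card ↥(Q U C p) := by
    rw [← h1, ← inf_relIndex_right]
    exact card_mul_relIndex' inf_le_right
  have e2 : Nat.card ↥(centralizer (V : Set G) ⊓ Q U C p) * 4 = Nat.card ↥(centralizer (V : Set G)) := by
    rw [← h2, inf_comm, ← inf_relIndex_right]
    exact card_mul_relIndex' inf_le_right
  have e3 : Nat.card ↥(Q U C p) * 20 = Nat.card ↥(C p) := by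
    rw [← h3]
    exact card_mul_relIndex' (Tri.kst_le _ _ _)
  have e4 := card_mul_relIndex' (h.centV_le hp)
  have hpos : 0 < Nat.card ↥(centralizer (V : Set G) ⊓ Q U C p) := Nat.card_pos
  rw [← e2, ← e3, ← e1] at e4
  have e5 : Nat.card ↥(centralizer (V : Set G) ⊓ Q U C p) * (4 * (centralizer (V : Set G)).relIndex (C p)) =
      Nat.card ↥(centralizer (V : Set G) ⊓ Q U C p) * 40 := by
    rw [← mul_assoc, e4]; ring
  have e6 := Nat.eq_of_mul_eq_mul_left hpos e5
  omega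

/-- case A -/
theorem card_C (h : Tri V U C) (hp : Pt V p) (hK : Nat.card ↥(K U p) = 32) :
    Nat.card ↥(C p) = 10240 ∧ Nat.card ↥(Q U C p) = 512 ∧ K U p = U p := by
  have e1 : Nat.card ↥(Q U C p) = 512 := by
    rw [← card_mul_relIndex' (h.K_le_Q hp), relIndex_K h hp, hK]
  have e2 : Nat.card ↥(C p) = 10240 := by
    rw [← card_mul_relIndex' (Tri.kst_le (C p) (U p) p), e1, show (kst (C p) (U p) p).relIndex (C p) = 20 from relIndex_Q h hp]
  refine ⟨e2, e1, ?_⟩
  exact (eq_of_le_of_card_ge (h.U_le_K hp) (by rw [hK, h.cardU p hp])).symm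

/-- `U_p` is generated by `p` and the conjugates of `q` under `C_p` -/
theorem closure_eq (h : Tri V U C) (hp : Pt V p) (hq : Pt V q) (hpq : p ≠ q) :
    closure (insert p {y | ∃ g ∈ C p, g * q * g⁻¹ = y}) = U p := by
  obtain ⟨f, hf⟩ := exists_isF h hp
  have hle : closure (insert p {y | ∃ g ∈ C p, g * q * g⁻¹ = y}) ≤ U p := by
    rw [closure_le]
    rintro y (rfl | ⟨g, hg, rfl⟩)
    · exact h.p_mem hp hp
    · exact h.conj_memU hp hg (h.p_mem hq hp)
  have hqm : q ∈ closure (insert p {y | ∃ g ∈ C p, g * q * g⁻¹ = y}) :=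
    subset_closure (Or.inr ⟨1, one_mem _, by simp⟩)
  have hinv : closure (insert p {y | ∃ g ∈ C p, g * q * g⁻¹ = y}) ≤
      (closure (insert p {y | ∃ g ∈ C p, g * q * g⁻¹ = y})).comap (MulAut.conj f).toMonoidHom := by
    rw [closure_le]
    rintro y (rfl | ⟨g, hg, rfl⟩)
    · rw [SetLike.mem_coe, mem_comap]
      change f * y * f⁻¹ ∈ (_ : Subgroup G)
      rw [h.c_comm hp hf.mem, mul_inv_cancel_right]
      exact subset_closure (Or.inl rfl)
    · rw [SetLike.mem_coe, mem_comap]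
      change f * (g * q * g⁻¹) * f⁻¹ ∈ (_ : Subgroup G)
      exact subset_closure (Or.inr ⟨f * g, mul_mem hf.mem hg, by group⟩)
  rcases hf.irred h hp hle (subset_closure (Or.inl rfl)) (fun b hb => hinv hb) with h1 | h1
  · rcases h1 q hqm with e | e
    · exact absurd e hq.2
    · exact absurd e.symm hpq
  · exact h1

omit [Finite G] in
/-- the lines on `p` -/
theorem adj_iff (hC : C p = centralizer ({p} : Set G)) {y : G} :
    Adj p q p y ↔ ∃ g ∈ C p, g * q * g⁻¹ = y := by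
  rw [hC]
  constructor
  · rintro ⟨g, h1, h2⟩
    exact ⟨g, mem_centralizer_singleton_iff.mpr (mul_inv_eq_iff_eq_mul.mp h1), h2⟩
  · rintro ⟨g, h1, h2⟩
    exact ⟨g, mul_inv_eq_iff_eq_mul.mpr (mem_centralizer_singleton_iff.mp h1), h2⟩

theorem U_eq (h : Tri V U C) (hp : Pt V p) (hq : Pt V q) (hpq : p ≠ q) (hC : C p = centralizer ({p} : Set G)) :
    TitsFin.U p q p = U p := by
  rw [← closure_eq h hp hq hpq, TitsFin.U]
  congr 2
  ext y
  exact adj_iff hC

/-- `InQ` is membership in `Q_p` -/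
theorem inQ_iff (h : Tri V U C) (hp : Pt V p) (hq : Pt V q) (hpq : p ≠ q) (hC : C p = centralizer ({p} : Set G))
    {g : G} : InQ p q p g ↔ g ∈ Q U C p := by
  have hpp := h.pp hp
  constructor
  · rintro ⟨h1, h2⟩
    have hgC : g ∈ C p := by rw [hC]; exact mem_centralizer_singleton_iff.mpr h1
    refine (h.mem_Q_iff hp).mpr ⟨hgC, fun u hu => ?_⟩
    rw [← U_eq h hp hq hpq hC] at hu
    have key : u ∈ U p ∧ (g * u * g⁻¹ = u ∨ g * u * g⁻¹ = p * u) := by
      refine closure_induction (p := fun u _ => u ∈ U p ∧ (g * u * g⁻¹ = u ∨ g * u * g⁻¹ = p * u))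
        ?_ ?_ ?_ ?_ hu
      · rintro y (rfl | hy)
        · exact ⟨h.p_mem hp hp, Or.inl (mul_inv_eq_iff_eq_mul.mpr h1)⟩
        · refine ⟨?_, h2 y hy⟩
          rw [← U_eq h hp hq hpq hC]
          exact mem_U_of_adj hy
      · exact ⟨one_mem _, Or.inl (by simp)⟩
      · rintro x y - - ⟨hx, hx'⟩ ⟨hy, hy'⟩
        refine ⟨mul_mem hx hy, ?_⟩
        have e : g * (x * y) * g⁻¹ = (g * x * g⁻¹) * (g * y * g⁻¹) := by group
        have hxp : x * p = p * x := h.commU hp hx (h.p_mem hp hp)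
        rw [e]
        rcases hx' with e1 | e1 <;> rcases hy' with e2 | e2 <;> rw [e1, e2]
        · exact Or.inl rfl
        · right; rw [← mul_assoc, hxp, mul_assoc]
        · right; rw [mul_assoc]
        · left
          calc p * x * (p * y) = p * (x * p) * y := by group
            _ = (p * p) * x * y := by rw [hxp]; group
            _ = x * y := by rw [hpp, one_mul]
      · rintro x - ⟨hx, hx'⟩
        refine ⟨inv_mem hx, ?_⟩
        rw [inv_eq_self (h.sqU p hp x hx)]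
        exact hx'
    exact key.2
  · intro hg
    obtain ⟨h1, h2⟩ := (h.mem_Q_iff hp).mp hg
    refine ⟨h.c_comm hp h1, fun y hy => h2 y ?_⟩
    rw [← U_eq h hp hq hpq hC]
    exact mem_U_of_adj hy

/-- the number of points collinear to `p` -/
theorem card_adj (h : Tri V U C) (hp : Pt V p) (hq : Pt V q) (hpq : p ≠ q) (hC : C p = centralizer ({p} : Set G)) :
    Nat.card {x // Adj p q p x} = 10 := by
  have h1 := relIndex_centV h hp
  rw [relIndex, index] at h1
  rw [← h1]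
  symm
  have hmem : ∀ g : C p, Adj p q p ((g : G) * q * (g : G)⁻¹) := fun g => (adj_iff hC).mpr ⟨g, g.2, rfl⟩
  have hrel : ∀ a b : C p, (QuotientGroup.leftRel ((centralizer (V : Set G)).subgroupOf (C p))) a b ↔
      (a : G) * q * (a : G)⁻¹ = (b : G) * q * (b : G)⁻¹ := by
    intro a b
    rw [QuotientGroup.leftRel_apply, mem_subgroupOf, mem_centV_iff h hp hq hpq]
    constructor
    · rintro ⟨-, h3⟩
      have h4 : (a : G)⁻¹ * b * q = q * ((a : G)⁻¹ * b) := h3
      calc (a : G) * q * (a : G)⁻¹ = a * (q * ((a : G)⁻¹ * b)) * (b : G)⁻¹ := by group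
        _ = a * ((a : G)⁻¹ * b * q) * (b : G)⁻¹ := by rw [h4]
        _ = (b : G) * q * (b : G)⁻¹ := by group
    · intro h3
      refine ⟨(a⁻¹ * b).2, ?_⟩
      change (a : G)⁻¹ * b * q = q * ((a : G)⁻¹ * b)
      calc (a : G)⁻¹ * b * q = (a : G)⁻¹ * (b * q * (b : G)⁻¹) * b := by group
        _ = (a : G)⁻¹ * (a * q * (a : G)⁻¹) * b := by rw [h3]
        _ = q * ((a : G)⁻¹ * b) := by group
  refine Nat.card_congr (Equiv.ofBijective
    (Quotient.lift (fun g : C p => (⟨(g : G) * q * (g : G)⁻¹, hmem g⟩ : {x // Adj p q p x}))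
      (fun a b hab => Subtype.ext ((hrel a b).mp hab))) ⟨?_, ?_⟩)
  · intro a b hab
    induction a using Quotient.inductionOn with | _ a => ?_
    induction b using Quotient.inductionOn with | _ b => ?_
    exact Quotient.sound ((hrel a b).mpr (congrArg Subtype.val hab))
  · rintro ⟨x, hx⟩
    obtain ⟨g, hg, rfl⟩ := (adj_iff hC).mp hx
    exact ⟨Quotient.mk _ ⟨g, hg⟩, rfl⟩

/-- case A : the final configuration -/
theorem finHyp (h : Tri V U C) (hp : Pt V p) (hq : Pt V q) (hpq : p ≠ q) (hC : C p = centralizer ({p} : Set G))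
    (hK : Nat.card ↥(K U p) = 32) : FinHyp p q := by
  obtain ⟨c1, c2, c3⟩ := card_C h hp hK
  obtain ⟨t1, t2, t3⟩ := h.third hp hq hpq
  have hU := U_eq h hp hq hpq hC
  refine
    { z_sq := h.pp hp
      z_ne := hp.2
      p_ne := hpq.symm
      zp := h.commV hp hq
      swap := ?_
      rot := ?_
      comm := fun x y hx hy => ?_
      cardU := by rw [hU, h.cardU p hp]
      cent := fun g hg => ?_
      cardA := card_adj h hp hq hpq hC
      cardC := by rw [← hC]; exact c1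
      cardQ := ?_
      ncomm := ?_ }
  · obtain ⟨n, -, h1, h2⟩ := h.sym p q q p hp hq hpq hq hp hpq.symm
    exact ⟨n, h1, h2⟩
  · obtain ⟨n, -, h1, h2⟩ := h.sym p q p (p * q) hp hq hpq hp t1 t2.symm
    exact ⟨n, h1, h2⟩
  · refine h.commU hp ?_ ?_
    · rw [← hU]; exact mem_U_of_adj hx
    · rw [← hU]; exact mem_U_of_adj hy
  · rw [hU] at hg ⊢
    rw [← c3]
    exact mem_centralizer_iff.mpr fun u hu => (hg u hu).symm
  · rw [← c2]
    exact Nat.card_congr (Equiv.subtypeEquivRight fun g => inQ_iff h hp hq hpq hC)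
  · -- the groups do not commute
    by_contra hcon
    push Not at hcon
    obtain ⟨n, hn, h1, h2⟩ := h.sym p q q p hp hq hpq hq hp hpq.symm
    have hUq : TitsFin.U p q q = U q := by
      have e1 : TitsFin.U p q (n * p * n⁻¹) = cj n (TitsFin.U p q p) := (map_U n).symm
      rw [h1, hU, h.conjU n hn p hp, h1] at e1
      exact e1
    obtain ⟨a, ha, b, hb, hab⟩ := h.nc p q hp hq hpq
    apply hab
    rw [← hU] at ha
    rw [← hUq] at hb
    refine closure_induction (p := fun a _ => a * b = b * a) ?_ ?_ ?_ ?_ ha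
    · rintro x (rfl | hx)
      · exact h.commU hq (h.p_mem hp hq) (by rw [← hUq]; exact hb)
      · refine closure_induction (p := fun b _ => x * b = b * x) ?_ ?_ ?_ ?_ hb
        · rintro y (rfl | hy)
          · exact h.commU hp (by rw [← hU]; exact mem_U_of_adj hx) (h.p_mem hq hp)
          · exact hcon x y hx hy
        · simp
        · rintro y z - - hy hz
          rw [← mul_assoc, hy, mul_assoc, hz, mul_assoc]
        · rintro y - hy
          exact (show Commute x y from hy).inv_right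
    · simp
    · rintro y z - - hy hz
      rw [mul_assoc, hz, ← mul_assoc, hy, mul_assoc]
    · rintro y - hy
      exact (show Commute y b from hy).inv_left

end Cfsg.Agent.Classification.TitsFin.TriFin

private theorem dce_0ce1cc4392d6 : _root_.True := by
  try have : _root_.True := by simp only [_root_.Cfsg.Agent.Classification.TitsFin.U.eq_1]
  exact _root_.True.intro
end

-- part: Classification/TitsFin/TriTypeB
section
set_option linter.all false
open scoped Cfsg.Agent.FastGrp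

/-!
# Section A, supplements: the elements of `E - V` are not conjugate to `p`
-/

set_option autoImplicit false

namespace Cfsg.Agent.Classification.TitsFin.TriTypeB

open Subgroup Cfsg Cfsg.Agent.ZN Cfsg.Agent.MinSimple.Geo
open Cfsg.Agent.Classification.TitsFin.Tri (Pt kst K Q)
open Cfsg.Agent.Classification.TitsFin.Mod16 Cfsg.Agent.Classification.TitsFin.TriAct
open Cfsg.Agent.Classification.TitsFin.TriMore Cfsg.Agent.Classification.TitsFin.TriQK
open Cfsg.Agent.Classification.TitsFin.TriFin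
open Cfsg.Agent.ZN.Block (conj_mem_of_normalizer conj_mem_of_normalizer' le_normalizer_of_forall
  mem_normalizer_of card_sup_mul_card_inf card_mul_relIndex' mul_mem_of_relIndex_two)

universe u

variable {G : Type u} [Group G] [Finite G] {V : Subgroup G} {U C : G → Subgroup G} {p q : G}

theorem relIndex_V_E (h : Tri V U C) (hp : Pt V p) (hq : Pt V q) (hpq : p ≠ q) :
    V.relIndex (U p ⊓ U q) = 2 := by
  have h1 := card_mul_relIndex' (le_inf (h.V_le p hp) (h.V_le q hq))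
  rw [h.cardV, card_E h hp hq hpq] at h1
  omega

/-- `3 ∤ |C_p|` -/
theorem not_three_dvd (h : Tri V U C) (hp : Pt V p) : ¬ 3 ∣ Nat.card (C p) := by
  have h1 := card_mul_relIndex' (Tri.kst_le (C p) (U p) p)
  rw [show (kst (C p) (U p) p).relIndex (C p) = 20 from relIndex_Q h hp] at h1
  obtain ⟨n, hn⟩ := (IsPGroup.iff_card).mp (isPGroup_Q h hp)
  rw [show Nat.card (kst (C p) (U p) p) = 2 ^ n from hn] at h1
  rw [← h1]
  intro h2
  rcases (Nat.Prime.dvd_mul (by norm_num)).mp h2 with h3 | h3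
  · exact absurd (Nat.Prime.dvd_of_dvd_pow (by norm_num) h3) (by norm_num)
  · exact absurd h3 (by norm_num)

/-- an element of `N_G(V)` of order divisible by 3 centralises an element of `E - V` -/
theorem exists_three (h : Tri V U C) (hp : Pt V p) (hq : Pt V q) (hpq : p ≠ q) :
    ∃ e ∈ U p ⊓ U q, e ∉ V ∧ ∃ n, n * e = e * n ∧ 3 ∣ orderOf n := by
  obtain ⟨hr, hr1, hr2⟩ := h.third hp hq hpq
  obtain ⟨n, hn, h1, h2⟩ := h.sym p q q (p * q) hp hq hpq hq hr hr2.symm
  have hpp := h.pp hp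
  have hqq := h.pp hq
  have hcomm := h.commV hp hq
  obtain ⟨e, he, heV⟩ := exists_E h hp hq hpq
  -- `n` normalises `E`
  have hnE : n * e * n⁻¹ ∈ U p ⊓ U q := by
    have h3 : n * e * n⁻¹ ∈ cj n (U p) ⊓ cj n (U q) := mem_inf.mpr ⟨conj_mem_cj he.1, conj_mem_cj he.2⟩
    rw [h.conjU n hn p hp, h.conjU n hn q hq, h1, h2] at h3
    rwa [inf_eq h hp hq hpq hq hr hr2.symm]
  have hnV : n * e * n⁻¹ ∉ V := by
    intro h3
    have := conj_mem_of_normalizer' (le_refl (normalizer (V : Set G))) hn h3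
    have e1 : n⁻¹ * (n * e * n⁻¹) * n = e := by group
    rw [e1] at this
    exact heV this
  have hee : e⁻¹ = e := inv_eq_self (h.sqU p hp e he.1)
  have hv : e * (n * e * n⁻¹) ∈ V := mul_mem_of_relIndex_two (relIndex_V_E h hp hq hpq) he hnE heV hnV
  -- find `w ∈ V` with `n (e w) n⁻¹ = e w`
  have hnpq : n * (p * q) * n⁻¹ = p := by
    have : n * (p * q) * n⁻¹ = (n * p * n⁻¹) * (n * q * n⁻¹) := by group
    rw [this, h1, h2, hcomm, ← mul_assoc, hqq, one_mul]
  have key : ∃ w ∈ V, n * w * n⁻¹ = e * (n * e * n⁻¹) * w := by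
    rcases (mem_V_iff h hp hq hpq).mp hv with h3 | h3 | h3 | h3
    · exact ⟨1, one_mem _, by rw [h3]; group⟩
    · refine ⟨q, hq.1, ?_⟩
      rw [h3, h2]
    · refine ⟨p * q, hr.1, ?_⟩
      rw [h3, hnpq, hcomm, ← mul_assoc, hqq, one_mul]
    · refine ⟨p, hp.1, ?_⟩
      rw [h3, h1, hcomm, mul_assoc, hpp, mul_one]
  obtain ⟨w, hw, hw'⟩ := key
  have hew : e * w = w * e := h.commU hp he.1 (h.V_le p hp hw)
  have hwE : w ∈ U p ⊓ U q := mem_inf.mpr ⟨h.V_le p hp hw, h.V_le q hq hw⟩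
  refine ⟨e * w, mul_mem he hwE, fun h3 => heV ((mul_mem_cancel_right hw).mp h3), n, ?_, ?_⟩
  · have h4 : n * (e * w) * n⁻¹ = e * w := by
      have e1 : n * (e * w) * n⁻¹ = (n * e * n⁻¹) * (n * w * n⁻¹) := by group
      rw [e1, hw']
      have hx := h.commU hp he.1 hnE.1
      have hxx := h.sqU p hp _ hnE.1
      calc n * e * n⁻¹ * (e * (n * e * n⁻¹) * w) = (n * e * n⁻¹) * ((n * e * n⁻¹) * e) * w := by
            rw [hx]; group
        _ = ((n * e * n⁻¹) * (n * e * n⁻¹)) * (e * w) := by group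
        _ = e * w := by rw [hxx, one_mul]
    exact mul_inv_eq_iff_eq_mul.mp h4
  · by_contra h3
    have h4 : Nat.Coprime 3 (orderOf n) := (Nat.Prime.coprime_iff_not_dvd (by norm_num)).mpr h3
    obtain ⟨m, hm⟩ := exists_pow_eq_self_of_coprime h4
    have h5 : Commute (n ^ 3) p := by
      change n ^ 3 * p = p * n ^ 3
      have e1 : n ^ 3 * p * (n ^ 3)⁻¹ = n * (n * (n * p * n⁻¹) * n⁻¹) * n⁻¹ := by
        rw [pow_succ, pow_two]; group
      have e2 : n ^ 3 * p * (n ^ 3)⁻¹ = p := by rw [e1, h1, h2, hnpq]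
      exact mul_inv_eq_iff_eq_mul.mp e2
    have h6 := h5.pow_left m
    rw [hm] at h6
    rw [h6.eq, mul_inv_cancel_right] at h1
    exact hpq h1

/-- `C_G(V)` is transitive on `E - V` -/
theorem exists_conj_E (h : Tri V U C) (hp : Pt V p) (hq : Pt V q) (hpq : p ≠ q) {e e' : G}
    (he : e ∈ U p ⊓ U q) (he' : e' ∈ U p ⊓ U q) (heV : e ∉ V) (heV' : e' ∉ V) :
    ∃ c ∈ centralizer (V : Set G), c * e * c⁻¹ = e' := by
  have hpp := h.pp hp
  have hqq := h.pp hq
  have hcomm := h.commV hp hq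
  obtain ⟨c, hc, hcV, hce⟩ := exists_move_V h hp he.1 heV
  obtain ⟨d, hd, hdV, hde⟩ := exists_move_V h hq he.2 heV
  have hee : e * e = 1 := h.sqU p hp e he.1
  have hv : e' * e ∈ V := mul_mem_of_relIndex_two (relIndex_V_E h hp hq hpq) he' he heV' heV
  have e1 : e' = (e' * e) * e := by rw [mul_assoc, hee, mul_one]
  rcases (mem_V_iff h hp hq hpq).mp hv with h3 | h3 | h3 | h3
  · exact ⟨1, one_mem _, by rw [e1, h3]; group⟩
  · exact ⟨c, hcV, by rw [hce, e1, h3]⟩
  · exact ⟨d, hdV, by rw [hde, e1, h3]⟩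
  · refine ⟨c * d, mul_mem hcV hdV, ?_⟩
    have hcq : c * q * c⁻¹ = q := by
      rw [← mem_centralizer_iff.mp hcV q hq.1, mul_inv_cancel_right]
    calc c * d * e * (c * d)⁻¹ = c * (d * e * d⁻¹) * c⁻¹ := by group
      _ = (c * q * c⁻¹) * (c * e * c⁻¹) := by rw [hde]; group
      _ = q * (p * e) := by rw [hcq, hce]
      _ = e' := by rw [e1, h3, ← mul_assoc, hcomm]

/-- elements of `E - V` are not conjugate to `p` -/
theorem not_conj (h : Tri V U C) (hp : Pt V p) (hq : Pt V q) (hpq : p ≠ q) (hC : C p = centralizer ({p} : Set G))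
    {e g : G} (he : e ∈ U p ⊓ U q) (heV : e ∉ V) : g * e * g⁻¹ ≠ p := by
  intro hg
  obtain ⟨e₀, he₀, heV₀, n, hn, h3⟩ := exists_three h hp hq hpq
  obtain ⟨c, -, hc⟩ := exists_conj_E h hp hq hpq he₀ he heV₀ heV
  -- `g c n c⁻¹ g⁻¹ ∈ C_G(p)`
  have h1 : (g * c) * n * (g * c)⁻¹ ∈ C p := by
    rw [hC, mem_centralizer_singleton_iff, ← hg, ← hc]
    calc g * c * n * (g * c)⁻¹ * (g * (c * e₀ * c⁻¹) * g⁻¹) = g * c * (n * e₀) * c⁻¹ * g⁻¹ := by group
      _ = g * c * (e₀ * n) * c⁻¹ * g⁻¹ := by rw [hn]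
      _ = g * (c * e₀ * c⁻¹) * g⁻¹ * (g * c * n * (g * c)⁻¹) := by group
  have h4 : orderOf ((g * c) * n * (g * c)⁻¹) = orderOf n := by
    rw [← MulAut.conj_apply]; exact (MulAut.conj (g * c)).orderOf_eq n
  have h5 : orderOf (⟨_, h1⟩ : C p) ∣ Nat.card (C p) := orderOf_dvd_natCard _
  rw [← orderOf_coe, show orderOf ((⟨g * c * n * (g * c)⁻¹, h1⟩ : C p) : G) = orderOf n from h4] at h5
  exact not_three_dvd h hp (h3.trans h5)

/-- the conjugates of `p` in `U_p` : `p` and the other points of the lines `V ^ c`, `c ∈ C_p` -/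
theorem eq_or_exists (h : Tri V U C) (hp : Pt V p) (hq : Pt V q) (hpq : p ≠ q)
    (hC : C p = centralizer ({p} : Set G)) {u g : G} (hu : u ∈ U p) (hg : g * u * g⁻¹ = p) :
    u = p ∨ ∃ c ∈ C p, u = c * q * c⁻¹ := by
  obtain ⟨f, hf⟩ := exists_isF h hp
  obtain ⟨k, -, e, he, rfl⟩ := spread_U h hp hq hpq hf hu
  have hfk : f ^ k ∈ C p := pow_mem hf.mem k
  have heV : e ∈ V := by
    by_contra heV
    refine not_conj h hp hq hpq hC (g := g * f ^ k) he heV ?_
    rw [← hg]; group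
  rcases (mem_V_iff h hp hq hpq).mp heV with h1 | h1 | h1 | h1
  · exfalso
    rw [h1] at hg
    apply hp.2
    rw [← hg]; group
  · left
    rw [h1, h.c_comm hp hfk, mul_inv_cancel_right]
  · right
    exact ⟨f ^ k, hfk, by rw [h1]⟩
  · right
    obtain ⟨c, hc, hcq⟩ := exists_move h hp (h.p_mem hq hp) hq.2 hpq.symm
    refine ⟨f ^ k * c, mul_mem hfk hc.1, ?_⟩
    rw [h1, ← hcq]; group

end Cfsg.Agent.Classification.TitsFin.TriTypeB
end

-- part: Classification/TitsFin/TriB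
section
set_option linter.all false
open scoped Cfsg.Agent.FastGrp

/-!
# Case B of the Tits end: `|K_p| = 64` (groups of `²F₄(2)` type)

Blueprint `P21-FIN-helper531.md`, section B, in the shortened form of helper117: (B1), (B2), (B3') and the input of
`TwoFEnd.Data.false_of`.
-/

set_option autoImplicit false
set_option linter.style.haveILetI false

namespace Cfsg.Agent.Classification.TitsFin.TriB

open Subgroup Cfsg Cfsg.Agent.ZN Cfsg.Agent.MinSimple.Geo
open Cfsg.Agent.Classification.TitsFin.Tri (Pt kst K Q cj_kst kst_le)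
open Cfsg.Agent.Classification.TitsFin.TriAct Cfsg.Agent.Classification.TitsFin.TriQK
open Cfsg.Agent.Classification.TitsFin.TriTen
open Cfsg.Agent.MinSimple.VModule (oddGen)
open Cfsg.Agent.ZN.Block (card_mul_relIndex' mul_mem_of_relIndex_two)

universe u

variable {G : Type u} [Group G] {V : Subgroup G} {U C : G → Subgroup G} {p q : G}

theorem cj_K (h : Tri V U C) {n : G} (hn : n ∈ normalizer (V : Set G)) (hp : Pt V p) :
    cj n (K U p) = K U (n * p * n⁻¹) := by
  ext x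
  rw [mem_cj, mem_centralizer_iff, mem_centralizer_iff, ← h.conjU n hn p hp]
  constructor
  · rintro hx _ ⟨u, hu, rfl⟩
    change n * u * n⁻¹ * x = x * (n * u * n⁻¹)
    have h1 := hx u hu
    calc n * u * n⁻¹ * x = n * (u * (n⁻¹ * x * n)) * n⁻¹ := by group
      _ = n * (n⁻¹ * x * n * u) * n⁻¹ := by rw [h1]
      _ = x * (n * u * n⁻¹) := by group
  · intro hx u hu
    have h1 := hx (n * u * n⁻¹) ⟨u, hu, rfl⟩
    calc u * (n⁻¹ * x * n) = n⁻¹ * (n * u * n⁻¹ * x) * n := by group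
      _ = n⁻¹ * (x * (n * u * n⁻¹)) * n := by rw [h1]
      _ = n⁻¹ * x * n * u := by group

theorem card_K_all (h : Tri V U C) (hp : Pt V p) (hq : Pt V q) (hK : Nat.card ↥(K U p) = 64) :
    Nat.card ↥(K U q) = 64 := by
  by_cases hpq : p = q
  · rw [← hpq]; exact hK
  · obtain ⟨n, hn, h1, -⟩ := h.exists_swap hp hq hpq
    rw [← h1, ← cj_K h hn hp, card_cj]
    exact hK

theorem relIndex_U (h : Tri V U C) (hp : Pt V p) (hK : Nat.card ↥(K U p) = 64) :
    (U p).relIndex (K U p) = 2 := by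
  have h1 := card_mul_relIndex' (h.U_le_K hp)
  rw [hK, h.cardU p hp] at h1
  omega

theorem mul_mem_U (h : Tri V U C) (hp : Pt V p) (hK : Nat.card ↥(K U p) = 64) {k l : G} (hk : k ∈ K U p)
    (hl : l ∈ K U p) (hkU : k ∉ U p) (hlU : l ∉ U p) : k * l ∈ U p :=
  mul_mem_of_relIndex_two (relIndex_U h hp hK) hk hl hkU hlU

theorem exists_k (h : Tri V U C) (hp : Pt V p) (hK : Nat.card ↥(K U p) = 64) : ∃ k ∈ K U p, k ∉ U p := by
  by_contra hcon
  push Not at hcon
  have h1 := relIndex_U h hp hK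
  have h2 : K U p ≤ U p := hcon
  rw [relIndex_eq_one.mpr h2] at h1
  omega

theorem K_comm (h : Tri V U C) (hp : Pt V p) (hK : Nat.card ↥(K U p) = 64) {k l : G} (hk : k ∈ K U p)
    (hl : l ∈ K U p) : k * l = l * k := by
  by_cases hkU : k ∈ U p
  · exact mem_centralizer_iff.mp hl k hkU
  by_cases hlU : l ∈ U p
  · exact (mem_centralizer_iff.mp hk l hlU).symm
  have h1 := mem_centralizer_iff.mp hk _ (mul_mem_U h hp hK hk hl hkU hlU)
  -- `k l k = k k l`
  have h2 : k * (l * k) = k * (k * l) := by rw [← mul_assoc, h1]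
  exact (mul_left_cancel h2).symm

theorem conj_mem_K (h : Tri V U C) (hp : Pt V p) {c k : G} (hc : c ∈ C p) (hk : k ∈ K U p) :
    c * k * c⁻¹ ∈ K U p := Block.conj_mem_of_normalizer (h.C_le_normK hp) hc hk

theorem conj_mem_Q (h : Tri V U C) (hp : Pt V p) {c k : G} (hc : c ∈ C p) (hk : k ∈ Q U C p) :
    c * k * c⁻¹ ∈ Q U C p := Block.conj_mem_of_normalizer (h.C_le_normQ hp) hc hk

theorem comm_K_C (h : Tri V U C) (hp : Pt V p) (hK : Nat.card ↥(K U p) = 64) {k c : G} (hk : k ∈ K U p)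
    (hc : c ∈ C p) : c * k * c⁻¹ * k⁻¹ ∈ U p := by
  by_cases hkU : k ∈ U p
  · exact mul_mem (h.conj_memU hp hc hkU) (inv_mem hkU)
  · refine mul_mem_U h hp hK (conj_mem_K h hp hc hk) (inv_mem hk) (fun h1 => hkU ?_)
      (fun h1 => hkU (inv_mem_iff.mp h1))
    have h2 := h.conj_memU' hp hc h1
    have e : c⁻¹ * (c * k * c⁻¹) * c = k := by group
    rwa [e] at h2

variable [Finite G]

theorem pow_five (h : Tri V U C) (hp : Pt V p) {f : G} (hf : IsF U C p f) : f ^ 5 = 1 := by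
  have h1 := isPGroup_Q h hp
  obtain ⟨k, hk⟩ := (IsPGroup.iff_orderOf.mp h1) ⟨f ^ 5, hf.pow⟩
  rw [Subgroup.orderOf_mk] at hk
  have h2 : Odd (orderOf (f ^ 5)) := hf.odd.of_dvd_nat (orderOf_pow_dvd 5)
  rw [hk] at h2
  rcases Nat.eq_zero_or_pos k with rfl | hk0
  · rw [pow_zero] at hk
    exact orderOf_eq_one_iff.mp hk
  · exact absurd h2 (by
      rw [Nat.not_odd_iff_even]
      exact (Nat.even_pow.mpr ⟨even_two, hk0.ne'⟩))

/-- `f` centralises an element of `K_p - U_p` -/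
theorem exists_kf (h : Tri V U C) (hp : Pt V p) (hK : Nat.card ↥(K U p) = 64) {f : G} (hf : IsF U C p f) :
    ∃ k ∈ K U p, k ∉ U p ∧ f * k * f⁻¹ = k := by
  classical
  haveI : Fact (Nat.Prime 5) := ⟨by norm_num⟩
  have f5 := pow_five h hp hf
  let S : Type u := {k : G // k ∈ K U p ∧ k ∉ U p}
  let F : Function.End S := fun k => ⟨f * k * f⁻¹, conj_mem_K h hp hf.mem k.2.1, fun h1 => k.2.2 (by
    have h2 := h.conj_memU' hp hf.mem h1
    have e : f⁻¹ * (f * (k : G) * f⁻¹) * f = k := by group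
    rwa [e] at h2)⟩
  have hF : ∀ (n : ℕ) (k : S), ((F ^ n) k : G) = f ^ n * k * (f ^ n)⁻¹ := by
    intro n
    induction n with
    | zero =>
      intro k
      rw [pow_zero, pow_zero, one_mul, inv_one, mul_one]
      rfl
    | succ n ih =>
      intro k
      rw [pow_succ]
      change ((F ^ n) (F k) : G) = _
      rw [ih]
      change f ^ n * (f * k * f⁻¹) * (f ^ n)⁻¹ = _
      rw [pow_succ]
      group
  have h1 : F ^ 5 ^ 1 = 1 := by
    funext k
    apply Subtype.ext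
    rw [pow_one, hF, f5, one_mul, inv_one, mul_one]
    rfl
  haveI : Fintype S := Fintype.ofFinite S
  have h2 := Equiv.Perm.card_fixedPoints_modEq h1
  have h3 : Fintype.card S = 32 := by
    have e : Nat.card S = Nat.card ↥(K U p) - Nat.card ↥(U p) := by
      have h4 : ({k : G | k ∈ K U p ∧ k ∉ U p}) = (K U p : Set G) \ (U p : Set G) := rfl
      have h5 := Set.ncard_sdiff (s := (U p : Set G)) (t := (K U p : Set G)) (h.U_le_K hp) (Set.toFinite _)
      rw [← h4] at h5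
      exact h5
    rw [← Nat.card_eq_fintype_card, e, hK, h.cardU p hp]
  rw [h3] at h2
  by_contra hcon
  push Not at hcon
  have h4 : Fintype.card (Function.fixedPoints F) = 0 := by
    rw [Fintype.card_eq_zero_iff]
    refine ⟨fun k => hcon k.1.1 k.1.2.1 k.1.2.2 (congrArg Subtype.val k.2)⟩
  rw [h4] at h2
  exact absurd h2 (by decide)

/-- (B1) -/
theorem rho (h : Tri V U C) (hp : Pt V p) (hK : Nat.card ↥(K U p) = 64) {k x : G} (hk : k ∈ K U p)
    (hkU : k ∉ U p) (hx : x ∈ Q U C p) (hxk : x * k * x⁻¹ = k ∨ x * k * x⁻¹ = p * k) : x ∈ K U p := by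
  obtain ⟨f, hf⟩ := exists_isF h hp
  have hpp := h.pp hp
  have hpK : ∀ w ∈ K U p, w * p = p * w := fun w hw =>
    (mem_centralizer_iff.mp hw p (h.V_le p hp hp.1)).symm
  set N : Subgroup G := kst (Q U C p) (K U p) p with hN
  have hNinv : ∀ b ∈ N, f * b * f⁻¹ ∈ N := by
    intro b hb
    have h1 : cj f N = N := by
      rw [hN, cj_kst, cj_eq_of_mem_normalizer (h.C_le_normQ hp hf.mem),
        cj_eq_of_mem_normalizer (h.C_le_normK hp hf.mem), h.c_comm hp hf.mem, mul_inv_cancel_right]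
    rw [← h1]
    exact conj_mem_cj hb
  have hNQ : N ≤ Q U C p := kst_le _ _ _
  have hKN : K U p ≤ N := by
    intro l hl
    refine ⟨h.K_le_Q hp hl, hpK l hl, fun w hw => ?_, fun w hw => ?_⟩
    · rw [K_comm h hp hK hl hw, mul_inv_cancel_right, mul_inv_cancel]; exact one_mem _
    · rw [mul_assoc l⁻¹, K_comm h hp hK hw hl, inv_mul_cancel_left, mul_inv_cancel]; exact one_mem _
  have hxN : x ∈ N := by
    have hxp := h.c_comm hp hx.1
    have key : ∀ w ∈ K U p, x * w * x⁻¹ = w ∨ x * w * x⁻¹ = p * w := by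
      intro w hw
      by_cases hwU : w ∈ U p
      · exact ((h.mem_Q_iff hp).mp hx).2 w hwU
      · -- `w = k * u`
        have hu : k⁻¹ * w ∈ U p := mul_mem_U h hp hK (inv_mem hk) hw (fun h1 => hkU (inv_mem_iff.mp h1)) hwU
        have e : w = k * (k⁻¹ * w) := by group
        have e2 : x * w * x⁻¹ = (x * k * x⁻¹) * (x * (k⁻¹ * w) * x⁻¹) := by group
        rcases hxk with h1 | h1 <;> rcases ((h.mem_Q_iff hp).mp hx).2 _ hu with h2 | h2
        · left; rw [e2, h1, h2, ← e]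
        · right
          rw [e2, h1, h2, ← mul_assoc, hpK k hk]
          group
        · right; rw [e2, h1, h2, mul_assoc, ← e]
        · left
          rw [e2, h1, h2]
          calc p * k * (p * (k⁻¹ * w)) = p * (k * p) * (k⁻¹ * w) := by group
            _ = (p * p) * w := by rw [hpK k hk]; group
            _ = w := by rw [hpp, one_mul]
    refine ⟨hx, hxp, fun w hw => ?_, fun w hw => ?_⟩
    · rcases key w hw with h1 | h1
      · rw [h1, mul_inv_cancel]; exact one_mem _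
      · rw [h1, mul_inv_cancel_right]; exact mem_zpowers p
    · have hw' := conj_mem_K h hp (inv_mem hx.1) hw
      rw [inv_inv] at hw'
      have e : x⁻¹ * w * x * w⁻¹ = (x * (x⁻¹ * w * x) * x⁻¹ * (x⁻¹ * w * x)⁻¹)⁻¹ := by group
      rw [e]
      refine inv_mem ?_
      rcases key _ hw' with h1 | h1
      · rw [h1, mul_inv_cancel]; exact one_mem _
      · rw [h1, mul_inv_cancel_right]; exact mem_zpowers p
  rcases irred h hp hf hKN hNQ hNinv with h1 | h1
  · rw [← h1]; exact hxN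
  · exfalso
    obtain ⟨k0, hk0, hk0U, hfk0⟩ := exists_kf h hp hK hf
    have hQk0 : ∀ y ∈ Q U C p, y⁻¹ * k0 * y = k0 ∨ y⁻¹ * k0 * y = p * k0 := by
      intro y hy
      rw [← h1] at hy
      rcases (mem_zpowers_iff_of_mul_self hpp).mp (hy.2.2.2 k0 hk0) with e | e
      · left; exact mul_inv_eq_one.mp e
      · right; exact mul_inv_eq_iff_eq_mul.mp e
    have hfp := h.c_comm hp hf.mem
    have hfi : ∀ n : ℕ, f ^ n * k0 * (f ^ n)⁻¹ = k0 := by
      intro n
      induction n with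
      | zero => simp
      | succ n ih =>
        have e : f ^ (n + 1) * k0 * (f ^ (n + 1))⁻¹ = f ^ n * (f * k0 * f⁻¹) * (f ^ n)⁻¹ := by
          rw [pow_succ]; group
        rw [e, hfk0, ih]
    have hfpi : ∀ n : ℕ, f ^ n * p * (f ^ n)⁻¹ = p := by
      intro n
      have h2 : Commute (f ^ n) p := (show Commute f p from hfp).pow_left n
      rw [h2.eq, mul_inv_cancel_right]
    have hodd : ∀ g ∈ C p, Odd (orderOf g) → g * k0 = k0 * g := by
      intro g hg ho
      obtain ⟨y, hy, n, rfl⟩ := exists_conj_of_odd h hp hf hg ho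
      have h2 : f ^ n * (y⁻¹ * k0 * y) * (f ^ n)⁻¹ = y⁻¹ * k0 * y := by
        rcases hQk0 y hy with h3 | h3
        · rw [h3, hfi]
        · rw [h3]
          have e : f ^ n * (p * k0) * (f ^ n)⁻¹ = (f ^ n * p * (f ^ n)⁻¹) * (f ^ n * k0 * (f ^ n)⁻¹) := by group
          rw [e, hfi, hfpi]
      calc y * f ^ n * y⁻¹ * k0 = y * (f ^ n * (y⁻¹ * k0 * y) * (f ^ n)⁻¹) * f ^ n * y⁻¹ := by group
        _ = y * (y⁻¹ * k0 * y) * f ^ n * y⁻¹ := by rw [h2]
        _ = k0 * (y * f ^ n * y⁻¹) := by group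
    have hX : ∀ x ∈ oddGen (C p), x * k0 = k0 * x := by
      have h2 : oddGen (C p) ≤ centralizer ({k0} : Set G) := by
        unfold oddGen
        rw [closure_le]
        rintro g ⟨hg, ho⟩
        exact mem_centralizer_singleton_iff.mpr (hodd g hg ho)
      exact fun x hx => mem_centralizer_singleton_iff.mp (h2 hx)
    rcases eq_of_cent_X h hp hk0 hX with h2 | h2
    · exact hk0U (by rw [h2]; exact one_mem _)
    · exact hk0U (by rw [h2]; exact h.V_le p hp hp.1)

end Cfsg.Agent.Classification.TitsFin.TriB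
end

-- part: Classification/TitsFin/TriB2
section
prune_inst 0xd01027045722000000180000200020101000000200640001e100020002488140a0010900000011120000aa000000002003dc00404010000000000000000400000002420012400000200000000000000000000000000000000000000000000000000000000
set_option linter.all false
open scoped Cfsg.Agent.FastGrp

/-!
# Case B of the Tits end, (B2): the squares of the elements of `Q_p` are in `U_p`
-/

set_option autoImplicit false
set_option linter.style.haveILetI false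

namespace Cfsg.Agent.Classification.TitsFin.TriB

open Subgroup Cfsg Cfsg.Agent.ZN Cfsg.Agent.MinSimple.Geo
open Cfsg.Agent.Classification.TitsFin.Tri (Pt kst K Q cj_kst kst_le)
open Cfsg.Agent.Classification.TitsFin.TriAct Cfsg.Agent.Classification.TitsFin.TriQK
open Cfsg.Agent.Classification.TitsFin.TriTen Cfsg.Agent.Classification.TitsFin.TriBSec
open Cfsg.Agent.MinSimple.VModule (oddGen)
open Cfsg.Agent.ZN.Block (card_mul_relIndex' mul_mem_of_relIndex_two)

universe u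

variable {G : Type u} [Group G] {V : Subgroup G} {U C : G → Subgroup G} {p q : G}

theorem sq_mem_K (h : Tri V U C) (hp : Pt V p) {x : G} (hx : x ∈ Q U C p) : x * x ∈ K U p := by
  rw [mem_centralizer_iff]
  intro u hu
  have hxp := h.c_comm hp hx.1
  have hpp := h.pp hp
  have h1 : x * x * u * (x * x)⁻¹ = u := by
    have e : x * x * u * (x * x)⁻¹ = x * (x * u * x⁻¹) * x⁻¹ := by group
    rw [e]
    rcases ((h.mem_Q_iff hp).mp hx).2 u hu with h2 | h2
    · rw [h2, h2]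
    · rw [h2]
      have e2 : x * (p * u) * x⁻¹ = (x * p) * x⁻¹ * (x * u * x⁻¹) := by group
      rw [e2, hxp, mul_inv_cancel_right, h2, ← mul_assoc, hpp, one_mul]
  calc u * (x * x) = (x * x * u * (x * x)⁻¹) * (x * x) := by rw [h1]
    _ = x * x * u := by group

theorem comm_Q_mem_K (h : Tri V U C) (hp : Pt V p) {x y : G} (hx : x ∈ Q U C p) (hy : y ∈ Q U C p) :
    x * y * x⁻¹ * y⁻¹ ∈ K U p :=
  TriBO.comm_mem (Q := Q U C p) (fun _ hx => sq_mem_K h hp hx) (fun _ hc _ hu => conj_mem_K h hp hc.1 hu) hx hy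

variable [Finite G]

/-- `f` acts nontrivially on `Q_p / K_p` -/
theorem f_nontrivial (h : Tri V U C) (hp : Pt V p) (hq : Pt V q) (hpq : p ≠ q) {f : G} (hf : IsF U C p f) :
    ∃ x ∈ Q U C p, f * x * f⁻¹ * x⁻¹ ∉ K U p := by
  by_contra hcon
  push Not at hcon
  have hqU : q ∈ U p := h.V_le p hp hq.1
  obtain ⟨c, hc, hcq⟩ := exists_move h hp hqU hq.2 (Ne.symm hpq)
  have f5 := pow_five h hp hf
  have hfp := h.c_comm hp hf.mem
  have hcp := h.c_comm hp hc.1
  have hpp := h.pp hp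
  have hfiC : ∀ i : ℕ, f ^ i ∈ C p := fun i => pow_mem hf.mem i
  have hfiU : ∀ i : ℕ, f ^ i * q * (f ^ i)⁻¹ ∈ U p := fun i => h.conj_memU hp (hfiC i) hqU
  -- `c` moves all `q ^ (f ^ i)`
  have hci : ∀ i : ℕ, c * (f ^ i * q * (f ^ i)⁻¹) * c⁻¹ = p * (f ^ i * q * (f ^ i)⁻¹) := by
    intro i
    induction i with
    | zero => simpa only [_root_.pow_zero, _root_.one_mul, _root_.inv_one, _root_.mul_one] using hcq
    | succ n ih =>
      set w := f ^ n * q * (f ^ n)⁻¹ with hw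
      have e0 : f ^ (n + 1) * q * (f ^ (n + 1))⁻¹ = f * w * f⁻¹ := by
        rw [hw, pow_succ']; group
      rw [e0]
      have hwU : w ∈ U p := hfiU n
      have hfw : f * w * f⁻¹ ∈ U p := h.conj_memU hp hf.mem hwU
      have hk := hcon c hc
      -- `f c f⁻¹ = k c`
      set k := f * c * f⁻¹ * c⁻¹ with hkdef
      have e1 : c * (f * w * f⁻¹) * c⁻¹ = k⁻¹ * (f * (c * w * c⁻¹) * f⁻¹) * k := by
        rw [hkdef]; group
      rw [e1, ih]
      have e2 : f * (p * w) * f⁻¹ = p * (f * w * f⁻¹) := by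
        calc f * (p * w) * f⁻¹ = (f * p) * w * f⁻¹ := by group
          _ = p * (f * w * f⁻¹) := by rw [hfp]; group
      rw [e2]
      have h3 := mem_centralizer_iff.mp hk _ (mul_mem (h.V_le p hp hp.1) hfw)
      rw [mul_assoc, h3, inv_mul_cancel_left]
  set z := q * (f ^ 1 * q * (f ^ 1)⁻¹) * (f ^ 2 * q * (f ^ 2)⁻¹) * (f ^ 3 * q * (f ^ 3)⁻¹) *
    (f ^ 4 * q * (f ^ 4)⁻¹) with hz
  have hzU : z ∈ U p := mul_mem (mul_mem (mul_mem (mul_mem hqU (hfiU 1)) (hfiU 2)) (hfiU 3)) (hfiU 4)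
  have hfz : f * z * f⁻¹ = z := by
    have e6 : f * z * f⁻¹ = (f ^ 1 * q * (f ^ 1)⁻¹) * (f ^ 2 * q * (f ^ 2)⁻¹) * (f ^ 3 * q * (f ^ 3)⁻¹) *
        (f ^ 4 * q * (f ^ 4)⁻¹) * (f ^ 5 * q * (f ^ 5)⁻¹) := by
      rw [hz]; group
    have e5 : f ^ 5 * q * (f ^ 5)⁻¹ = q := by rw [f5]; group
    rw [e6, e5, hz]
    have h4 := h.commU hp (mul_mem (mul_mem (mul_mem (hfiU 1) (hfiU 2)) (hfiU 3)) (hfiU 4)) hqU
    rw [h4]
    simp only [mul_assoc]
  have hz1 : c * z * c⁻¹ = z := by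
    rcases IsF.fixed h hp hf hzU (Or.inl hfz) with h1 | h1
    · rw [h1]; group
    · rw [h1, hcp, mul_inv_cancel_right]
  have hz2 : c * z * c⁻¹ = p * z := by
    have e : c * z * c⁻¹ = (c * q * c⁻¹) * (c * (f ^ 1 * q * (f ^ 1)⁻¹) * c⁻¹) *
        (c * (f ^ 2 * q * (f ^ 2)⁻¹) * c⁻¹) * (c * (f ^ 3 * q * (f ^ 3)⁻¹) * c⁻¹) *
        (c * (f ^ 4 * q * (f ^ 4)⁻¹) * c⁻¹) := by
      rw [hz]; group
    rw [e, hcq, hci 1, hci 2, hci 3, hci 4, hz]
    have hpc : ∀ w ∈ U p, ∀ v : G, w * (p * v) = p * (w * v) := fun w hw v => by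
      rw [← mul_assoc, h.commU hp hw (h.V_le p hp hp.1), mul_assoc]
    have hpp' : ∀ v : G, p * (p * v) = v := fun v => by rw [← mul_assoc, hpp, one_mul]
    simp only [mul_assoc]
    simp only [hpc _ hqU, hpp']
    have g1 := hpc _ (hfiU 1)
    have g2 := hpc _ (hfiU 2)
    have g3 := hpc _ (hfiU 3)
    simp only [mul_assoc] at g1 g2 g3
    have g1' : ∀ v, f ^ 1 * (q * ((f ^ 1)⁻¹ * (p * v))) = p * (f ^ 1 * (q * ((f ^ 1)⁻¹ * v))) := g1
    have g2' : ∀ v, f ^ 2 * (q * ((f ^ 2)⁻¹ * (p * v))) = p * (f ^ 2 * (q * ((f ^ 2)⁻¹ * v))) := g2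
    have g3' : ∀ v, f ^ 3 * (q * ((f ^ 3)⁻¹ * (p * v))) = p * (f ^ 3 * (q * ((f ^ 3)⁻¹ * v))) := g3
    rw [g1', g2', g3', g1', g2', g1', hpp']
    exact hpc _ hqU _
  rw [hz1] at hz2
  exact hp.2 (right_eq_mul.mp hz2)

/-- `f` acts without fixed points on `Q_p / K_p` -/
theorem fix_Q (h : Tri V U C) (hp : Pt V p) (hq : Pt V q) (hpq : p ≠ q) {f : G} (hf : IsF U C p f) {x : G}
    (hx : x ∈ Q U C p) (hfx : f * x * f⁻¹ * x⁻¹ ∈ K U p) : x ∈ K U p := by
  obtain ⟨x0, hx0, hx0'⟩ := f_nontrivial h hp hq hpq hf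
  let N : Subgroup G :=
    { carrier := {x | x ∈ Q U C p ∧ f * x * f⁻¹ * x⁻¹ ∈ K U p}
      mul_mem' := by
        rintro a b ⟨ha, ha'⟩ ⟨hb, hb'⟩
        refine ⟨mul_mem ha hb, ?_⟩
        have h1 := mul_mem ha' (conj_mem_K h hp ha.1 hb')
        have e : f * a * f⁻¹ * a⁻¹ * (a * (f * b * f⁻¹ * b⁻¹) * a⁻¹) = f * (a * b) * f⁻¹ * (a * b)⁻¹ := by
          group
        rwa [e] at h1
      one_mem' := ⟨one_mem _, by simp⟩
      inv_mem' := by
        rintro a ⟨ha, ha'⟩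
        refine ⟨inv_mem ha, ?_⟩
        have h1 := conj_mem_K h hp (inv_mem ha.1) (inv_mem ha')
        have e : a⁻¹ * (f * a * f⁻¹ * a⁻¹)⁻¹ * a⁻¹⁻¹ = f * a⁻¹ * f⁻¹ * a⁻¹⁻¹ := by group
        rwa [e] at h1 }
  have hKN : K U p ≤ N := fun k hk =>
    ⟨h.K_le_Q hp hk, mul_mem (conj_mem_K h hp hf.mem hk) (inv_mem hk)⟩
  have hNQ : N ≤ Q U C p := fun x hx => hx.1
  have hinv : ∀ b ∈ N, f * b * f⁻¹ ∈ N := by
    rintro b ⟨hb, hb'⟩
    refine ⟨conj_mem_Q h hp hf.mem hb, ?_⟩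
    have h1 := conj_mem_K h hp hf.mem hb'
    have e : f * (f * b * f⁻¹ * b⁻¹) * f⁻¹ = f * (f * b * f⁻¹) * f⁻¹ * (f * b * f⁻¹)⁻¹ := by group
    rwa [e] at h1
  rcases irred h hp hf hKN hNQ hinv with h1 | h1
  · rw [← h1]; exact ⟨hx, hfx⟩
  · exfalso
    rw [← h1] at hx0
    exact hx0' hx0.2

/-- `K_q ⊓ Q_p` has index at most 2 in `K_q` -/
theorem card_KQ (h : Tri V U C) (hp : Pt V p) (hq : Pt V q) (hK : Nat.card ↥(K U q) = 64) :
    32 ≤ Nat.card ↥(K U q ⊓ Q U C p) := by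
  have key : ∀ a ∈ K U q, ∀ b ∈ K U q, a ∉ Q U C p → b ∉ Q U C p → a * b ∈ Q U C p := by
    intro a ha b hb haQ hbQ
    have hsq : ∀ k ∈ K U q, k * k ∈ Q U C p := by
      intro k hk
      have h1 : k * k ∈ U p := by
        rcases sq_K h hq hk with e | e
        · rw [e]; exact one_mem _
        · rw [e]; exact h.V_le p hp hq.1
      exact h.K_le_Q hp (h.U_le_K hp h1)
    obtain ⟨n, hn⟩ := (isPGroup_K h hq) ⟨a * b, mul_mem ha hb⟩
    refine mul_mem_Q h hp (h.K_le_C hp hq ha) (h.K_le_C hp hq hb) (hsq a ha) (hsq b hb) haQ hbQ (n := n) ?_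
    have h2 := congrArg Subtype.val hn
    have h3 : (a * b) ^ 2 ^ n = 1 := h2
    rw [h3]; exact one_mem _
  set D := (K U q ⊓ Q U C p) with hD
  have h1 := card_mul_relIndex' (show D ≤ K U q from inf_le_left)
  rw [hK] at h1
  have h2 : D.relIndex (K U q) ≤ 2 := by
    by_cases hall : ∀ a ∈ K U q, a ∈ Q U C p
    · have : D.relIndex (K U q) = 1 := relIndex_eq_one.mpr fun a ha => ⟨ha, hall a ha⟩
      omega
    · push Not at hall
      obtain ⟨a, ha, haQ⟩ := hall
      have : (D.subgroupOf (K U q)).index = 2 := by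
        rw [Subgroup.index_eq_two_iff]
        refine ⟨⟨a, ha⟩, fun b => ?_⟩
        by_cases hb : (b : G) ∈ Q U C p
        · right
          refine ⟨mem_subgroupOf.mpr ⟨b.2, hb⟩, fun h3 => haQ ?_⟩
          have h4 := (mem_subgroupOf.mp h3).2
          have e : (b : G)⁻¹ * ((b * ⟨a, ha⟩ : K U q) : G) = a := by
            push_cast; group
          rw [← e]
          exact mul_mem (inv_mem hb) h4
        · left
          refine ⟨mem_subgroupOf.mpr ⟨mul_mem b.2 ha, key _ b.2 _ ha hb haQ⟩, fun h3 => hb ?_⟩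
          exact (mem_subgroupOf.mp h3).2
      exact this.le
  nlinarith

/-- (B2) -/
theorem sq_mem_U (h : Tri V U C) (hp : Pt V p) (hq : Pt V q) (hpq : p ≠ q) (hK : Nat.card ↥(K U p) = 64)
    {x : G} (hx : x ∈ Q U C p) : x * x ∈ U p := by
  have hKq := card_K_all h hp hq hK
  obtain ⟨f, hf⟩ := exists_isF h hp
  have f5 := pow_five h hp hf
  obtain ⟨t, htU, htQ⟩ := h.exists_t hp hq hpq
  have htC : t ∈ C p := h.U_le_C hp hq htU
  have htt := h.sqU q hq t htU
  have hKQ := h.K_le_Q hp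
  obtain ⟨M, instM, μ, hμ⟩ := exists_section (Q U C p) (K U p)
    (fun x hx y hy => comm_Q_mem_K h hp hx hy)
  have hM : Nat.card M = 16 := by rw [hμ.card]; exact relIndex_K h hp
  haveI : Finite M := Nat.finite_of_card_ne_zero (by rw [hM]; norm_num)
  have sq : ∀ m : M, m * m = 1 := by
    intro m
    obtain ⟨x, hx, rfl⟩ := hμ.surj m
    rw [← hμ.mul x hx x hx, hμ.ker _ (mul_mem hx hx)]
    exact sq_mem_K h hp hx
  have aut : ∀ c ∈ C p, ∃ s : MulAut M, ∀ x ∈ Q U C p, s (μ x) = μ (c * x * c⁻¹) := by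
    intro c hc
    refine hμ.exists_aut (fun x hx => conj_mem_Q h hp hc hx) (fun x hx => ?_)
      (fun x hx => conj_mem_K h hp hc hx) (fun x hx => ?_)
    · have := conj_mem_Q h hp (inv_mem hc) hx
      rwa [inv_inv] at this
    · have := conj_mem_K h hp (inv_mem hc) hx
      rwa [inv_inv] at this
  obtain ⟨F, hF⟩ := aut f hf.mem
  obtain ⟨T, hT⟩ := aut t htC
  have hFn : ∀ (n : ℕ), ∀ x ∈ Q U C p, (F ^ n) (μ x) = μ (f ^ n * x * (f ^ n)⁻¹) := by
    intro n
    induction n with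
    | zero => intro x hx; rw [pow_zero, pow_zero, one_mul, inv_one, mul_one]; rfl
    | succ n ih =>
      intro x hx
      rw [pow_succ, Mod16.mul_apply, hF x hx, ih _ (conj_mem_Q h hp hf.mem hx)]
      congr 1
      rw [pow_succ]
      group
  have F5 : F ^ 5 = 1 := by
    ext m
    obtain ⟨x, hx, rfl⟩ := hμ.surj m
    rw [hFn 5 x hx, f5, one_mul, inv_one, mul_one]
    rfl
  have F1 : F ≠ 1 := by
    intro h1
    obtain ⟨x0, hx0, hx0'⟩ := f_nontrivial h hp hq hpq hf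
    apply hx0'
    have h2 := hF x0 hx0
    rw [h1] at h2
    have h3 : μ x0 = μ (f * x0 * f⁻¹) := h2
    rw [eq_comm, hμ.eq_iff (conj_mem_Q h hp hf.mem hx0) hx0] at h3
    have h4 := conj_mem_K h hp hx0.1 (inv_mem h3)
    have e : x0 * ((f * x0 * f⁻¹)⁻¹ * x0)⁻¹ * x0⁻¹ = f * x0 * f⁻¹ * x0⁻¹ := by group
    rwa [e] at h4
  have TT : T * T = 1 := by
    ext m
    obtain ⟨x, hx, rfl⟩ := hμ.surj m
    rw [Mod16.mul_apply, hT x hx, hT _ (conj_mem_Q h hp htC hx)]
    have e : t * (t * x * t⁻¹) * t⁻¹ = (t * t) * x * (t * t)⁻¹ := by group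
    rw [e, htt, one_mul, inv_one, mul_one]
    rfl
  have Tinv : T⁻¹ = T := inv_eq_of_mul_eq_one_left TT
  have htinv : t⁻¹ = t := inv_eq_of_mul_eq_one_left htt
  have TFT : T * F * T⁻¹ = F⁻¹ := by
    rw [eq_inv_iff_mul_eq_one, Tinv]
    ext m
    obtain ⟨x, hx, rfl⟩ := hμ.surj m
    have h1 := conj_mem_Q h hp hf.mem hx
    have h2 := conj_mem_Q h hp htC h1
    have h3 := conj_mem_Q h hp hf.mem h2
    rw [Mod16.mul_apply, Mod16.mul_apply, Mod16.mul_apply, hF x hx, hT _ h1, hF _ h2, hT _ h3]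
    have hy : t * f * t⁻¹ * f ∈ Q U C p := IsF.inv_of_sq h hp hf htC (by rw [htt]; exact one_mem _) htQ
    rw [MulAut.one_apply, hμ.eq_iff (conj_mem_Q h hp htC h3) hx]
    have h4 := comm_Q_mem_K h hp hy (inv_mem hx)
    have e : (t * (f * (t * (f * x * f⁻¹) * t⁻¹) * f⁻¹) * t⁻¹)⁻¹ * x =
        (t * f * t * f) * x⁻¹ * (t * f * t * f)⁻¹ * x⁻¹⁻¹ := by group
    rw [e]
    rwa [htinv] at h4
  -- `fx T` is the image of `K_q ⊓ Q_p`
  have himg : ∀ m ∈ Mod16.fx T, ∃ a ∈ K U q ⊓ Q U C p, μ a = m := by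
    let ψ : ↥(K U q ⊓ Q U C p) →* M :=
      { toFun := fun a => μ a
        map_one' := hμ.one
        map_mul' := fun a b => hμ.mul _ a.2.2 _ b.2.2 }
    have h1 : ψ.range ≤ Mod16.fx T := by
      rintro _ ⟨a, rfl⟩
      rw [Mod16.mem_fx]
      change T (μ a) = μ a
      rw [hT _ a.2.2, mem_centralizer_iff.mp a.2.1 t htU, mul_inv_cancel_right]
    have h2 : Nat.card ψ.ker ≤ 8 := by
      rw [← card_E h hp hq hpq]
      refine Nat.card_le_card_of_injective
        (fun a : ψ.ker => (⟨a.1.1, ?_⟩ : ↥(U p ⊓ U q))) ?_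
      · rw [← K_inf_K h hp hq hpq]
        exact ⟨(hμ.ker _ a.1.2.2).mp a.2, a.1.2.1⟩
      · intro a b hab
        have h9 : (a.1.1 : G) = b.1.1 := congrArg (fun z : ↥(U p ⊓ U q) => (z : G)) hab
        exact Subtype.ext (Subtype.ext h9)
    have h3 : Nat.card ψ.range * Nat.card ψ.ker = Nat.card ↥(K U q ⊓ Q U C p) := by
      rw [← Subgroup.index_ker ψ, mul_comm]
      exact Subgroup.card_mul_index _
    have h4 := card_KQ h hp hq hKq
    have h5 := Mod16.card_fx hM sq F5 F1 TT TFT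
    have h6 : ψ.range = Mod16.fx T := by
      refine Subgroup.eq_of_le_of_card_ge h1 ?_
      rw [h5]
      nlinarith only [h2, h3, h4]
    intro m hm
    rw [← h6] at hm
    obtain ⟨a, ha⟩ := hm
    exact ⟨a, a.2, ha⟩
  obtain ⟨k, -, m, hm, hkm⟩ := Mod16.spread hM sq F5 F1 TT TFT (μ x)
  obtain ⟨a, ha, rfl⟩ := himg m hm
  rw [hFn k a ha.2] at hkm
  have haQ := ha.2
  have hfk : f ^ k ∈ C p := pow_mem hf.mem k
  have hb := conj_mem_Q h hp hfk haQ
  rw [hμ.eq_iff hb hx] at hkm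
  set b := f ^ k * a * (f ^ k)⁻¹ with hbdef
  have haa : a * a ∈ U p := by
    rcases sq_K h hq ha.1 with e | e
    · rw [e]; exact one_mem _
    · rw [e]; exact h.V_le p hp hq.1
  have hbb : b * b ∈ U p := by
    have h1 := h.conj_memU hp hfk haa
    have e : f ^ k * (a * a) * (f ^ k)⁻¹ = b * b := by rw [hbdef]; group
    rwa [e] at h1
  set κ := b⁻¹ * x with hκ
  have e : x * x = b * b * ((b⁻¹ * κ * b * κ⁻¹) * (κ * κ)) := by rw [hκ]; group
  rw [e]
  refine mul_mem hbb (mul_mem ?_ ?_)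
  · have h1 := comm_K_C h hp hK hkm (inv_mem hb.1)
    rwa [inv_inv] at h1
  · rcases sq_K h hp hkm with e | e
    · rw [e]; exact one_mem _
    · rw [e]; exact h.V_le p hp hp.1

end Cfsg.Agent.Classification.TitsFin.TriB
end

-- part: Classification/TitsFin/TriB3
section
prune_inst 0xd0106704532200000000000000003c5292000002002f0001e100020007888d0080400f20802012120000aa040034006003dc00404010000000000000411c01a0000242021240a000000000000000000000000000000000000000000000000000000000000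
set_option linter.all false
open scoped Cfsg.Agent.FastGrp

/-!
# Case B of the Tits end, (B3'): the subgroup `N` of index 2 in `C_p`
-/

set_option autoImplicit false
set_option linter.style.haveILetI false
set_option linter.unusedSectionVars false

namespace Cfsg.Agent.Classification.TitsFin.TriB

open Subgroup Cfsg Cfsg.Agent.ZN Cfsg.Agent.MinSimple.Geo
open Cfsg.Agent.Classification.TitsFin.Tri (Pt kst K Q cj_kst kst_le)
open Cfsg.Agent.Classification.TitsFin.TriAct Cfsg.Agent.Classification.TitsFin.TriQK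
open Cfsg.Agent.Classification.TitsFin.TriTen Cfsg.Agent.Classification.TitsFin.TriBSec
open Cfsg.Agent.MinSimple.VModule (oddGen)
open Cfsg.Agent.ZN.Block (card_mul_relIndex' mul_mem_of_relIndex_two)

universe u

variable {G : Type u} [Group G] [Finite G] {V : Subgroup G} {U C : G → Subgroup G} {p q : G}

theorem U_le_Q (h : Tri V U C) (hp : Pt V p) : U p ≤ Q U C p := (h.U_le_K hp).trans (h.K_le_Q hp)

/-- an element of `Q_p ⊓ C_G(V)` of order 4 modulo `Q_q`, moving `E` -/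
theorem exists_x (h : Tri V U C) (hp : Pt V p) (hq : Pt V q) (hpq : p ≠ q) :
    ∃ x ∈ Q U C p, x ∈ centralizer (V : Set G) ∧ x * x ∉ Q U C q := by
  obtain ⟨c, hc, hcV, e, he, hce⟩ := exists_move_E h hp hq hpq
  have hep : e * p = p * e := h.commU hp he.1 (h.V_le p hp hp.1)
  -- an element of `Q_q` does not move `e` to `p e`
  have key : ∀ y ∈ Q U C q, y * e * y⁻¹ ≠ p * e := by
    intro y hy h1
    rcases ((h.mem_Q_iff hq).mp hy).2 e he.2 with h2 | h2
    · rw [h2] at h1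
      exact hp.2 (right_eq_mul.mp h1)
    · rw [h2] at h1
      exact hpq (mul_right_cancel h1).symm
  refine ⟨c, hc, hcV, fun hcc => ?_⟩
  have hcQ : c ∉ Q U C q := fun h1 => key c h1 hce
  obtain ⟨t, ht, htQ⟩ := h.exists_t hq hp hpq.symm
  have htt := h.sqU p hp t ht
  have htV := h.U_le_centV hp ht
  obtain ⟨n, hn⟩ := (isPGroup_centV h hp) ⟨c * t, mul_mem hcV htV⟩
  have hn' : (c * t) ^ 2 ^ n = 1 := congrArg Subtype.val hn
  have h1 : c * t ∈ Q U C q := mul_mem_Q h hq (h.centV_le hq hcV) (h.centV_le hq htV) hcc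
    (by rw [htt]; exact one_mem _) hcQ htQ (n := n) (by rw [hn']; exact one_mem _)
  refine key _ h1 ?_
  have hte : t * e = e * t := h.commU hp ht he.1
  calc c * t * e * (c * t)⁻¹ = c * (t * e) * t⁻¹ * c⁻¹ := by group
    _ = c * e * c⁻¹ := by rw [hte]; group
    _ = p * e := hce

/-- multipliers -/
def Mul (U C : G → Subgroup G) (p f c : G) (a : ℕ) : Prop := c ∈ C p ∧ c * f * c⁻¹ * (f ^ a)⁻¹ ∈ Q U C p

theorem Mul.mul (h : Tri V U C) (hp : Pt V p) {f c d : G} (hf : IsF U C p f) {a b : ℕ} (hc : Mul U C p f c a)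
    (hd : Mul U C p f d b) : Mul U C p f (c * d) (a * b) := by
  refine ⟨mul_mem hc.1 hd.1, ?_⟩
  -- `d f d⁻¹ = y f ^ b`, `c f c⁻¹ = z f ^ a`
  set y := d * f * d⁻¹ * (f ^ b)⁻¹ with hy
  set z := c * f * c⁻¹ * (f ^ a)⁻¹ with hz
  have h1 : c * y * c⁻¹ ∈ Q U C p := conj_mem_Q h hp hc.1 hd.2
  have h2 : ∀ n : ℕ, (z * f ^ a) ^ n * (f ^ (a * n))⁻¹ ∈ Q U C p := by
    intro n
    induction n with
    | zero => simp
    | succ n ih =>
      have h3 : f ^ (a * n) * z * (f ^ (a * n))⁻¹ ∈ Q U C p :=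
        conj_mem_Q h hp (pow_mem hf.mem _) hc.2
      have e : (z * f ^ a) ^ (n + 1) * (f ^ (a * (n + 1)))⁻¹ =
          ((z * f ^ a) ^ n * (f ^ (a * n))⁻¹) * (f ^ (a * n) * z * (f ^ (a * n))⁻¹) := by
        rw [pow_succ, mul_add, mul_one, pow_add]
        group
      rw [e]
      exact mul_mem ih h3
  have e1 : z * f ^ a = c * f * c⁻¹ := by rw [hz]; group
  have h3 := mul_mem h1 (h2 b)
  have e : c * y * c⁻¹ * ((z * f ^ a) ^ b * (f ^ (a * b))⁻¹) = c * d * f * (c * d)⁻¹ * (f ^ (a * b))⁻¹ := by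
    rw [e1, conj_pow, hy]
    group
  rwa [e] at h3

theorem Mul.congr (h : Tri V U C) (hp : Pt V p) {f c : G} (hf : IsF U C p f) {a b : ℕ} (hc : Mul U C p f c a)
    (hab : a % 5 = b % 5) : Mul U C p f c b := by
  have f5 := pow_five h hp hf
  have e : ∀ n : ℕ, f ^ n = f ^ (n % 5) := by
    intro n
    conv_lhs => rw [← Nat.div_add_mod n 5, pow_add, pow_mul, f5, one_pow, one_mul]
  refine ⟨hc.1, ?_⟩
  rw [e b, ← hab, ← e a]
  exact hc.2

theorem Mul.pow (h : Tri V U C) (hp : Pt V p) {f c : G} (hf : IsF U C p f) {a : ℕ} (hc : Mul U C p f c a)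
    (n : ℕ) : Mul U C p f (c ^ n) (a ^ n) := by
  induction n with
  | zero => exact ⟨by simp, by simp⟩
  | succ n ih =>
    rw [pow_succ, pow_succ]
    exact Mul.mul h hp hf ih hc

theorem exists_Mul (h : Tri V U C) (hp : Pt V p) {f c : G} (hf : IsF U C p f) (hc : c ∈ C p) :
    ∃ a, (a = 1 ∨ a = 2 ∨ a = 3 ∨ a = 4) ∧ Mul U C p f c a := by
  obtain ⟨k, h1, h2, h3⟩ := IsF.normal h hp hf hc
  exact ⟨k, by omega, hc, h3⟩

/-- `C(f mod Q_p) = ⟨f⟩ Q_p` -/
theorem cent_f (h : Tri V U C) (hp : Pt V p) {f c : G} (hf : IsF U C p f) (hc : Mul U C p f c 1) :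
    ∃ j : ℕ, f ^ j * c ∈ Q U C p := by
  have f5 := pow_five h hp hf
  obtain ⟨A, hAC, hQA, fA, hA⟩ := TriBO.exists_ext (A := Q U C p) (C := C p) (s := f) (kst_le _ _ _) hf.mem
    (n := 5) (by norm_num) (by rw [f5]; exact one_mem _) (fun a ha => conj_mem_Q h hp hf.mem ha)
  obtain ⟨a, m, hm, hn⟩ := Nat.exists_eq_pow_mul_and_not_dvd (n := orderOf c) (orderOf_pos c).ne' 2
    (by norm_num)
  have hmodd : Odd m := Nat.not_even_iff_odd.mp fun h1 => hm h1.two_dvd
  -- the 2-part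
  have h1 : c ^ m ∈ Q U C p := by
    have hc1 := Mul.pow h hp hf hc m
    rw [one_pow] at hc1
    refine IsF.mem_Q_of_comm h hp hf hc1.1 (n := a) ?_ ?_
    · rw [← pow_mul, mul_comm, ← hn, pow_orderOf_eq_one]; exact one_mem _
    · have := hc1.2
      rwa [pow_one] at this
  -- the odd part
  have h2 : c ^ 2 ^ a ∈ A := by
    have ho : Odd (orderOf (c ^ 2 ^ a)) := by
      have h3 : orderOf (c ^ 2 ^ a) = m := by
        rw [orderOf_pow, hn, Nat.gcd_eq_right (Dvd.intro _ rfl), Nat.mul_div_cancel_left _ (by positivity)]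
      rw [h3]; exact hmodd
    obtain ⟨k, -, hk⟩ := IsF.of_odd h hp hf (pow_mem hc.1 _) ho
    have h3 := mul_mem (hQA hk) (pow_mem fA k)
    rwa [inv_mul_cancel_right] at h3
  have h3 : c ∈ A := by
    have hcop : Nat.gcd m (2 ^ a) = 1 := Nat.Coprime.pow_right a (Nat.coprime_two_right.mpr hmodd)
    have e : (1 : ℤ) = m * Nat.gcdA m (2 ^ a) + (2 ^ a : ℕ) * Nat.gcdB m (2 ^ a) := by
      rw [← Nat.gcd_eq_gcd_ab, hcop]; rfl
    have e2 : c = (c ^ m) ^ (Nat.gcdA m (2 ^ a)) * (c ^ 2 ^ a) ^ (Nat.gcdB m (2 ^ a)) := by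
      conv_lhs => rw [← zpow_one c, e, zpow_add, zpow_mul, zpow_mul, zpow_natCast, zpow_natCast]
    rw [e2]
    exact mul_mem (zpow_mem (hQA h1) _) (zpow_mem h2 _)
  exact ((hA c).mp h3).2

/-- a 2-element with multiplier 1 is in `Q_p` -/
theorem mem_Q_of_Mul_one (h : Tri V U C) (hp : Pt V p) {f c : G} (hf : IsF U C p f) (hc : Mul U C p f c 1)
    {n : ℕ} (hn : c ^ 2 ^ n ∈ Q U C p) : c ∈ Q U C p := by
  refine IsF.mem_Q_of_comm h hp hf hc.1 hn ?_
  have := hc.2
  rwa [pow_one] at this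

/-- if `s ^ 4 = 1` and `s * s ∉ Q_p`, then the multiplier of `s` is 2 or 3 -/
theorem Mul_of_sq (h : Tri V U C) (hp : Pt V p) {f s : G} (hf : IsF U C p f) (hs : s ∈ C p) (s4 : s ^ 4 = 1)
    (hss : s * s ∉ Q U C p) : Mul U C p f s 2 ∨ Mul U C p f s 3 := by
  have h4 : s ^ 2 ^ 2 ∈ Q U C p := by
    rw [show 2 ^ 2 = 4 from rfl, s4]; exact one_mem _
  have h4' : (s * s) ^ 2 ^ 1 ∈ Q U C p := by
    rw [← pow_two, ← pow_mul, show 2 * 2 ^ 1 = 4 from rfl, s4]; exact one_mem _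
  obtain ⟨a, rfl | rfl | rfl | rfl, ha⟩ := exists_Mul h hp hf hs
  · exfalso
    have h1 := mem_Q_of_Mul_one h hp hf ha h4
    exact hss (mul_mem h1 h1)
  · exact Or.inl ha
  · exact Or.inr ha
  · exfalso
    have h1 := (Mul.mul h hp hf ha ha).congr h hp hf (b := 1) (by norm_num)
    exact hss (mem_Q_of_Mul_one h hp hf h1 h4')

theorem cover (h : Tri V U C) (hp : Pt V p) {f s : G} (hf : IsF U C p f) (hs : s ∈ C p) (s4 : s ^ 4 = 1)
    (hss : s * s ∉ Q U C p) {c : G} (hc : c ∈ C p) : ∃ i j : ℕ, f ^ j * s ^ i * c ∈ Q U C p := by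
  have key : ∃ i, Mul U C p f (s ^ i * c) 1 := by
    obtain ⟨a, ha, hca⟩ := exists_Mul h hp hf hc
    rcases Mul_of_sq h hp hf hs s4 hss with hs2 | hs3
    · rcases ha with rfl | rfl | rfl | rfl
      · exact ⟨0, (Mul.mul h hp hf (Mul.pow h hp hf hs2 0) hca).congr h hp hf (by norm_num)⟩
      · exact ⟨3, (Mul.mul h hp hf (Mul.pow h hp hf hs2 3) hca).congr h hp hf (by norm_num)⟩
      · exact ⟨1, (Mul.mul h hp hf (Mul.pow h hp hf hs2 1) hca).congr h hp hf (by norm_num)⟩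
      · exact ⟨2, (Mul.mul h hp hf (Mul.pow h hp hf hs2 2) hca).congr h hp hf (by norm_num)⟩
    · rcases ha with rfl | rfl | rfl | rfl
      · exact ⟨0, (Mul.mul h hp hf (Mul.pow h hp hf hs3 0) hca).congr h hp hf (by norm_num)⟩
      · exact ⟨1, (Mul.mul h hp hf (Mul.pow h hp hf hs3 1) hca).congr h hp hf (by norm_num)⟩
      · exact ⟨3, (Mul.mul h hp hf (Mul.pow h hp hf hs3 3) hca).congr h hp hf (by norm_num)⟩
      · exact ⟨2, (Mul.mul h hp hf (Mul.pow h hp hf hs3 2) hca).congr h hp hf (by norm_num)⟩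
  obtain ⟨i, hi⟩ := key
  obtain ⟨j, hj⟩ := cent_f h hp hf hi
  exact ⟨i, j, by rwa [← mul_assoc] at hj⟩

/-- (B3') -/
theorem exists_N (h : Tri V U C) (hp : Pt V p) (hq : Pt V q) (hpq : p ≠ q) (hK : Nat.card ↥(K U p) = 64) :
    ∃ N : Subgroup G, N ≤ C p ∧ U p ≤ N ∧ U q ≤ N ∧ (∀ k ∈ K U p, k ∈ N → k ∈ U p) ∧
      (∃ k ∈ K U p, k ∉ N ∧ ∀ c ∈ C p, c ∈ N ∨ c * k ∈ N) := by
  have hKq := card_K_all h hp hq hK
  obtain ⟨f, hf⟩ := exists_isF h hp
  have f5 := pow_five h hp hf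
  obtain ⟨k, hk, hkU⟩ := exists_k h hp hK
  have hsqQ : ∀ x ∈ Q U C p, x * x ∈ U p := fun x hx => sq_mem_U h hp hq hpq hK hx
  have hkk : ∀ l ∈ K U p, l ∈ U p ∨ l * k ∈ U p := by
    intro l hl
    by_cases hlU : l ∈ U p
    · exact Or.inl hlU
    · exact Or.inr (mul_mem_U h hp hK hl hk hlU hkU)
  obtain ⟨O, hUO, hOQ, hOK, hOk, hOC⟩ := TriBO.exists_O (h.U_le_K hp) (h.K_le_Q hp) (kst_le _ _ _) hsqQ
    (fun c hc u hu => h.conj_memU hp hc hu) (fun c hc u hu => conj_mem_K h hp hc hu)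
    (fun c hc u hu => conj_mem_Q h hp hc hu) hf.mem f5 hk hkk
    (fun x hx hfx => fix_Q h hp hq hpq hf hx (h.U_le_K hp hfx))
    (fun c hc => by
      obtain ⟨m, -, hm⟩ := exists_Mul h hp hf (inv_mem hc)
      refine ⟨m, (f ^ m)⁻¹ * (c⁻¹ * f * c⁻¹⁻¹ * (f ^ m)⁻¹) * (f ^ m)⁻¹⁻¹,
        conj_mem_Q h hp (inv_mem (pow_mem hf.mem m)) hm.2, ?_⟩
      group)
  have hkO : k ∉ O := fun h1 => hkU (hOK k h1 hk)
  have hkQ : k ∈ Q U C p := h.K_le_Q hp hk
  -- `[C, Q] ≤ O`
  have hCQ : ∀ c ∈ C p, ∀ x ∈ Q U C p, c * x * c⁻¹ * x⁻¹ ∈ O := by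
    intro c hc x hx
    rcases hOk x hx with h1 | h1
    · exact mul_mem (hOC c hc x h1) (inv_mem h1)
    · rcases hOk _ (conj_mem_Q h hp hc hx) with h2 | h2
      · have h3 := hOC _ (inv_mem hc) _ h2
        have e : c⁻¹ * (c * x * c⁻¹) * c⁻¹⁻¹ = x := by group
        rw [e] at h3
        exact mul_mem h2 (inv_mem h3)
      · have h3 := mul_mem h2 (inv_mem h1)
        have e : c * x * c⁻¹ * k * (x * k)⁻¹ = c * x * c⁻¹ * x⁻¹ := by group
        rwa [e] at h3
  -- `F_q ≤ O`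
  have hFO : U q ⊓ Q U C p ≤ O := by
    obtain ⟨x, hx, hxV, hxx⟩ := exists_x h hp hq hpq
    have hxx' := hsqQ x hx
    have hxCq := h.centV_le hq hxV
    have hw : ∃ u ∈ U q, x * u * x⁻¹ * u⁻¹ ∉ U p := by
      by_contra hcon
      push Not at hcon
      have h1 : 8 ≤ Nat.card V := by
        refine eight_le h hq (c := x * x) (h.U_le_C hq hp hxx') (n := 1) ?_ hxx hq.1 ?_
        · have h2 := h.sqU p hp _ hxx'
          rw [pow_one, pow_two, h2]
          exact one_mem _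
        · intro u hu
          have h2 := hcon u hu
          set e := x * u * x⁻¹ * u⁻¹ with he
          have h3 : x * x * u * (x * x)⁻¹ * u⁻¹ = (x * e * x⁻¹) * e := by rw [he]; group
          rw [h3]
          have hee := h.sqU p hp e h2
          rcases ((h.mem_Q_iff hp).mp hx).2 e h2 with h4 | h4
          · rw [h4, hee]; exact one_mem _
          · rw [h4, mul_assoc, hee, mul_one]; exact hp.1
      rw [h.cardV] at h1
      omega
    obtain ⟨u, hu, hw⟩ := hw
    set w := x * u * x⁻¹ * u⁻¹ with hwdef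
    have huC := h.U_le_C hp hq hu
    have hwq : w ∈ U q := mul_mem (h.conj_memU hq hxCq hu) (inv_mem hu)
    have hwO : w ∈ O := by
      have h1 := inv_mem (hCQ u huC x hx)
      have e : (u * x * u⁻¹ * x⁻¹)⁻¹ = w := by rw [hwdef]; group
      rwa [e] at h1
    have hidx : (U q ⊓ U p).relIndex (U q ⊓ Q U C p) = 2 := by
      have hle : U q ⊓ U p ≤ U q ⊓ Q U C p := inf_le_inf_left _ (U_le_Q h hp)
      have h1 := card_mul_relIndex' hle
      rw [card_E h hq hp hpq.symm, card_F h hq hp hpq.symm] at h1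
      omega
    intro v hv
    by_cases hvU : v ∈ U p
    · exact hUO hvU
    · have h1 := mul_mem_of_relIndex_two hidx hv (⟨hwq, hOQ hwO⟩ : w ∈ U q ⊓ Q U C p)
        (fun h2 => hvU h2.2) (fun h2 => hw h2.2)
      have h2 := mul_mem (hUO h1.2) (inv_mem hwO)
      rwa [mul_inv_cancel_right] at h2
  -- `s`
  obtain ⟨s, hs, hsV, hss⟩ := exists_x h hq hp hpq.symm
  have hsC := h.centV_le hp hsV
  have hssU : s * s ∈ U q := sq_mem_U h hq hp hpq.symm hKq hs
  have s4 : s ^ 4 = 1 := by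
    have h1 := h.sqU q hq _ hssU
    rw [show (4 : ℕ) = 2 + 2 from rfl, pow_add, pow_two, h1]
  have s2 : ∀ j : ℕ, f ^ j * (s * s) ∉ Q U C p := by
    intro j hj
    -- `s * s` has multiplier 1
    have h1 : Mul U C p f (f ^ j * (s * s)) 1 := by
      refine ⟨hj.1, ?_⟩
      rw [pow_one]
      have h2 := mul_mem hj (conj_mem_Q h hp hf.mem (inv_mem hj))
      have e : f ^ j * (s * s) * (f * (f ^ j * (s * s))⁻¹ * f⁻¹) =
          f ^ j * (s * s) * f * (f ^ j * (s * s))⁻¹ * f⁻¹ := by group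
      rwa [e] at h2
    have h2 : Mul U C p f (f ^ (4 * j)) 1 := by
      refine ⟨pow_mem hf.mem _, ?_⟩
      have e : f ^ (4 * j) * f * (f ^ (4 * j))⁻¹ * (f ^ 1)⁻¹ = 1 := by
        rw [← pow_succ, pow_succ', pow_one]; group
      rw [e]; exact one_mem _
    have h3 := Mul.mul h hp hf h2 h1
    have e : f ^ (4 * j) * (f ^ j * (s * s)) = s * s := by
      rw [← mul_assoc, ← pow_add, show 4 * j + j = 5 * j by ring, pow_mul, f5, one_pow, one_mul]
    rw [e, mul_one] at h3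
    refine hss (mem_Q_of_Mul_one h hp hf h3 (n := 1) ?_)
    rw [pow_one, ← pow_two, ← pow_mul, show 2 * 2 = 4 from rfl, s4]
    exact one_mem _
  obtain ⟨N, hNC, hON, fN, sN, hkN, hNk⟩ := TriBO.exists_N hUO hOQ (kst_le _ _ _) hsqQ hOC
    (fun c hc u hu => conj_mem_Q h hp hc hu) hf.mem f5 hf.notMem
    (fun c hc => by
      obtain ⟨m, -, hm⟩ := exists_Mul h hp hf hc
      refine ⟨m, (f ^ m)⁻¹ * (c * f * c⁻¹ * (f ^ m)⁻¹) * (f ^ m)⁻¹⁻¹,
        conj_mem_Q h hp (inv_mem (pow_mem hf.mem m)) hm.2, ?_⟩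
      group)
    hsC s4 s2 (fun c hc => cover h hp hf hsC s4 hss hc) hkQ hkO hOk
  refine ⟨N, hNC, hUO.trans hON, ?_, ?_, k, hk, hkN, hNk⟩
  · intro v hv
    by_cases hvQ : v ∈ Q U C p
    · exact hON (hFO ⟨hv, hvQ⟩)
    · have h1 := mul_mem_Q_of_mem_U h hp hq hq hv hssU hvQ hss
      have h2 : v * (s * s) ∈ N := hON (hFO ⟨mul_mem hv hssU, h1⟩)
      have h3 := mul_mem h2 (inv_mem (mul_mem sN sN))
      rwa [mul_inv_cancel_right] at h3
  · intro l hl hlN
    by_contra hlU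
    have h1 := hON (hUO (mul_mem_U h hp hK hl hk hlU hkU))
    have h2 := mul_mem (inv_mem hlN) h1
    rw [inv_mul_cancel_left] at h2
    exact hkN h2

end Cfsg.Agent.Classification.TitsFin.TriB
end

-- part: Classification/TitsFin/TriB4
section
set_option linter.all false
open scoped Cfsg.Agent.FastGrp

/-!
# Case B of the Tits end: conclusion

`caseB_false`: a finite group without subgroups of index 2 has no configuration `Tri` with `|C_G(U_p)| = 64` and
`C_p = C_G(p)`.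
-/

set_option autoImplicit false
set_option linter.style.haveILetI false

namespace Cfsg.Agent.Classification.TitsFin.TriB

open Subgroup Cfsg Cfsg.Agent.ZN Cfsg.Agent.MinSimple.Geo
open Cfsg.Agent.Classification.TitsFin.Tri (Pt kst K Q cj_kst kst_le)
open Cfsg.Agent.Classification.TitsFin.TriAct Cfsg.Agent.Classification.TitsFin.TriQK
open Cfsg.Agent.Classification.TitsFin.TransferCount (Bad IsHalf)
open Cfsg.Agent.ZN.Block (card_mul_relIndex' mul_mem_of_relIndex_two)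

universe u

variable {G : Type u} [Group G] [Finite G] {V : Subgroup G} {U C : G → Subgroup G} {p q : G}

/-- a conjugate of `p` in `U p` other than `p` comes with a conjugating element that takes `U q` to `U p` -/
theorem good_conj (h : Tri V U C) (hp : Pt V p) (hq : Pt V q) (hpq : p ≠ q)
    (hC : C p = centralizer ({p} : Set G)) {x g : G} (hg : g * p * g⁻¹ = x) (hx : x ∈ U p) (hxp : x ≠ p) :
    ∃ t, t * p * t⁻¹ = x ∧ ∀ u ∈ U p, t⁻¹ * u * t ∈ U q := by
  have h1 : g⁻¹ * x * g⁻¹⁻¹ = p := by rw [← hg]; group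
  rcases TriTypeB.eq_or_exists h hp hq hpq hC hx h1 with h2 | ⟨c, hc, hcx⟩
  · exact absurd h2 hxp
  · obtain ⟨n, -, h3, -, -, h4, -, -⟩ := h.exists_swap hp hq hpq
    refine ⟨c * n, ?_, fun u hu => ?_⟩
    · rw [hcx, ← h3]; group
    · have h5 := h.conj_memU' hp hc hu
      rw [← h4] at h5
      obtain ⟨v, hv, hv'⟩ := h5
      have e : (c * n)⁻¹ * u * (c * n) = v := by
        have hv'' : n * v * n⁻¹ = c⁻¹ * u * c := hv'
        calc (c * n)⁻¹ * u * (c * n) = n⁻¹ * (c⁻¹ * u * c) * n := by group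
          _ = v := by rw [← hv'']; group
      rw [e]
      exact hv

omit [Finite G] in
theorem relIndex_eq_two {N D : Subgroup G} {k : G} (hk : k ∈ D) (hkN : k ∉ N)
    (hc : ∀ c ∈ D, c ∈ N ∨ c * k ∈ N) : N.relIndex D = 2 := by
  rw [relIndex, index_eq_two_iff]
  refine ⟨⟨k, hk⟩, fun b => ?_⟩
  have hb := hc b b.2
  have h1 : ¬ ((b : G) ∈ N ∧ (b : G) * k ∈ N) := fun ⟨h2, h3⟩ => hkN (by
    have h4 := mul_mem (inv_mem h2) h3
    rwa [inv_mul_cancel_left] at h4)
  change Xor ((b : G) * k ∈ N) ((b : G) ∈ N)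
  unfold Xor
  tauto

/-- the centralizer in `K_p` of an involution of `C_p` outside `K_p` is small -/
theorem pt_orb (h : Tri V U C) (hp : Pt V p) (hK : Nat.card ↥(K U p) = 64) {x : G} (hx : x ∈ C p)
    (hx1 : x * x = 1) (hxK : x ∉ K U p) : 2 < (centralizer ({x} : Set G)).relIndex (K U p) := by
  by_contra hcon
  push Not at hcon
  have hpp := h.pp hp
  set D : Subgroup G := centralizer ({x} : Set G) with hD
  -- two elements of `K` outside `D` differ by an element of `D`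
  have hpos : D.relIndex (K U p) ≠ 0 := index_ne_zero_of_finite
  have key : ∀ a ∈ K U p, ∀ b ∈ K U p, a ∉ D → b ∉ D → a⁻¹ * b ∈ D := by
    intro a ha b hb haD hbD
    have h2 : D.relIndex (K U p) = 2 := by
      have h3 : D.relIndex (K U p) ≠ 1 := fun h3 => haD (relIndex_eq_one.mp h3 ha)
      omega
    have h4 : (a⁻¹ * b : G) ∈ D ↔ (a⁻¹ ∈ D ↔ b ∈ D) := by
      have h5 := mul_mem_iff_of_index_two (H := D.subgroupOf (K U p)) h2 (a := ⟨a⁻¹, inv_mem ha⟩) (b := ⟨b, hb⟩)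
      simpa [mem_subgroupOf] using h5
    rw [h4, inv_mem_iff]
    tauto
  have hmem : ∀ a, a ∈ D ↔ a * x = x * a := fun a => mem_centralizer_singleton_iff
  by_cases hxQ : x ∈ Q U C p
  · -- `x ∈ Q p`
    obtain ⟨k, hk, hkU⟩ := exists_k h hp hK
    -- some `u ∈ U p` does not commute with `x`
    have hu : ∃ u ∈ U p, u ∉ D := by
      by_contra hc
      push Not at hc
      exact hxK (mem_centralizer_iff.mpr fun u hu => (hmem u).mp (hc u hu))
    obtain ⟨u, hu, huD⟩ := hu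
    have hkD : ∀ k ∈ K U p, k ∉ U p → k ∉ D := by
      intro k hk hkU hkD
      refine hxK (rho h hp hK hk hkU hxQ (Or.inl ?_))
      rw [← (hmem k).mp hkD, mul_inv_cancel_right]
    have h1 := key u (h.U_le_K hp hu) k hk huD (hkD k hk hkU)
    exact hkD _ (mul_mem (inv_mem (h.U_le_K hp hu)) hk)
      (fun h2 => hkU (by have := mul_mem hu h2; rwa [mul_inv_cancel_left] at this)) h1
  · -- `x ∉ Q p`
    have hu : ∃ u ∈ U p, u ∉ D := by
      by_contra hc
      push Not at hc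
      exact hxK (mem_centralizer_iff.mpr fun u hu => (hmem u).mp (hc u hu))
    obtain ⟨u, hu, huD⟩ := hu
    set w := x * u * x⁻¹ * u⁻¹ with hw
    have hwU : w ∈ U p := mul_mem (h.conj_memU hp hx hu) (inv_mem hu)
    have hww : w * w = 1 := h.sqU p hp w hwU
    set W : Subgroup G := zpowers p ⊔ zpowers w with hWdef
    have hW4 : Nat.card W ≤ 4 := by
      have h1 : zpowers p ≤ normalizer (zpowers w : Set G) := by
        refine Block.le_normalizer_of_forall fun a ha b hb => ?_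
        have haU : a ∈ U p := (zpowers_le.mpr (h.p_mem hp hp)) ha
        have hbU : b ∈ U p := (zpowers_le.mpr hwU) hb
        rw [h.commU hp haU hbU, mul_inv_cancel_right]
        exact hb
      have h2 := Block.card_sup_mul_card_inf h1
      have h3 : Nat.card (zpowers p) ≤ 2 := by
        rw [Nat.card_zpowers]
        exact orderOf_le_of_pow_eq_one (by norm_num) (by rw [pow_two, hpp])
      have h4 : Nat.card (zpowers w) ≤ 2 := by
        rw [Nat.card_zpowers]
        exact orderOf_le_of_pow_eq_one (by norm_num) (by rw [pow_two, hww])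
      have h5 : 0 < Nat.card ↥(zpowers p ⊓ zpowers w) := Nat.card_pos
      have h6 : Nat.card (zpowers p) * Nat.card (zpowers w) ≤ 2 * 2 := Nat.mul_le_mul h3 h4
      calc Nat.card W ≤ Nat.card W * Nat.card ↥(zpowers p ⊓ zpowers w) := Nat.le_mul_of_pos_right _ h5
        _ ≤ 4 := by rw [hWdef, h2]; exact h6
    have h8 := eight_le h hp hx (n := 1) (by rw [pow_one, pow_two, hx1]; exact one_mem _) hxQ (W := W)
      (mem_sup_left (mem_zpowers p)) (by
        intro v hv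
        by_cases hvD : v ∈ D
        · rw [← (hmem v).mp hvD, mul_inv_cancel_right, mul_inv_cancel]
          exact one_mem _
        · have h1 := key u (h.U_le_K hp hu) v (h.U_le_K hp hv) huD hvD
          have h2 := (hmem _).mp h1
          have e : x * v * x⁻¹ * v⁻¹ = w := by
            calc x * v * x⁻¹ * v⁻¹ = x * u * x⁻¹ * (x * (u⁻¹ * v) * x⁻¹) * (u⁻¹ * v)⁻¹ * u⁻¹ := by group
              _ = x * u * x⁻¹ * ((u⁻¹ * v) * x * x⁻¹) * (u⁻¹ * v)⁻¹ * u⁻¹ := by rw [← h2]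
              _ = w := by rw [hw]; group
          rw [e]
          exact mem_sup_right (mem_zpowers w))
    omega

/-- **Section B** -/
theorem caseB_false (h : Tri V U C) (hp : Pt V p) (hq : Pt V q) (hpq : p ≠ q)
    (hK : Nat.card ↥(K U p) = 64) (hC : C p = centralizer ({p} : Set G))
    (hG : ∀ M : Subgroup G, M.index ≠ 2) : False := by
  obtain ⟨N, hNC, hUN, hUqN, hKN, k, hk, hkN, hNk⟩ := exists_N h hp hq hpq hK
  have hpp := h.pp hp
  have hhalf : IsHalf N p :=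
    ⟨hNC.trans (h.C_le p hp), relIndex_eq_two (h.C_le p hp (h.K_le_C hp hp hk)) hkN (by rw [← hC]; exact hNk)⟩
  refine TwoFEnd.Data.false_of (z := p) (N := N) (K := K U p) (U := U p) (Q := Q U C p) ?_ hG
  refine
    { half := hhalf
      z_sq := hpp
      z_ne := hp.2
      z_mem := h.p_mem hp hp
      U_le := h.U_le_K hp
      K_comm := ?_
      K_two := isPGroup_K h hp
      K_cent := centralizer_le (h.U_le_K hp)
      K_sq := fun k hk => TriTen.sq_K h hp hk
      U_sq := h.sqU p hp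
      K_N := fun k hk => ⟨hKN k hk, fun h1 => hUN h1⟩
      exists_k := exists_k h hp hK
      K_le := h.K_le_Q hp
      Q_le := (kst_le _ _ _).trans (h.C_le p hp)
      KQ := ?_
      UQ := ?_
      rho := ?_
      Q_sq := ?_
      Q_big := ?_
      pt_swap := ?_
      pt_good := ?_
      pt_orb := ?_ }
  · intro k hk l hl
    exact K_comm h hp hK hk hl
  · intro y hy k hk
    have h1 := comm_K_C h hp hK hk (inv_mem hy.1)
    rwa [inv_inv] at h1
  · intro y hy u hu
    rcases ((h.mem_Q_iff hp).mp (inv_mem hy)).2 u hu with h1 | h1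
    · left; rwa [inv_inv] at h1
    · right
      rw [inv_inv] at h1
      rw [h1, h.commU hp (h.p_mem hp hp) hu]
  · intro y hy k hk hkU hyk
    refine inv_mem_iff.mp (rho h hp hK hk hkU (inv_mem hy) (Or.inl ?_))
    rwa [inv_inv]
  · intro y hy
    exact sq_mem_K h hp hy
  · rw [TriQK.relIndex_K h hp]; decide
  · intro x hx hxU hxp
    obtain ⟨g, hg⟩ := hx
    obtain ⟨c, hc, hcx⟩ := exists_move h hp hxU (by
      rintro rfl
      apply hp.2
      have : p = g⁻¹ * (g * p * g⁻¹) * g := by group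
      rw [this, hg]; group) hxp
    exact ⟨c, hc, by rw [hcx, h.commU hp (h.p_mem hp hp) hxU]⟩
  · intro x hx hxU hxp u hu
    obtain ⟨g, hg⟩ := hx
    obtain ⟨t, ht, htu⟩ := good_conj h hp hq hpq hC hg hxU hxp
    rw [hhalf.bad_iff ht (h.commU hp hu hxU), not_not]
    exact hUqN (htu u hu)
  · rintro - x ⟨g, hg⟩ hxz hxK
    refine pt_orb h hp hK ?_ ?_ hxK
    · rw [hC]; exact mem_centralizer_singleton_iff.mpr hxz.symm
    · rw [← hg]
      have : g * p * g⁻¹ * (g * p * g⁻¹) = g * (p * p) * g⁻¹ := by group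
      rw [this, hpp]; group

end Cfsg.Agent.Classification.TitsFin.TriB
end

-- part: MinSimple/OddRep
section
set_option linter.all false
open scoped Cfsg.Agent.FastGrp

/-!
# (E1)(b): the module `ws V x / ⟨x⟩` of `C(x) / kq V x` at a point `x`

`Rep V x M X`: `M` is the additive group `ws V x / ⟨x⟩`, `X = C(x) / kq V x` acts faithfully on it.
-/

set_option autoImplicit false
set_option linter.unusedSectionVars false

namespace Cfsg.Agent.MinSimple.OddRep

open Subgroup Cfsg Cfsg.Agent.ZN Cfsg.Agent.MinSimple.Geo Cfsg.Agent.MinSimple.BTwoA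
  Cfsg.Agent.MinSimple.OddLine Cfsg.Agent.MinSimple.OddBase Cfsg.Agent.MinSimple.SecRep
open Cfsg.Agent.ZN.Block (conj_mem_of_normalizer conj_mem_of_normalizer' le_normalizer_of_forall
  mem_normalizer_of)

universe u

variable {G : Type u} [Group G]

/-- `M = ws V x / ⟨x⟩`, `X = C(x) / kq V x` -/
abbrev Rep (V : Subgroup G) (x : G) (M X : Type u) [AddCommGroup M] [Group X] [DistribMulAction X M] :=
  Sec (centralizer ({x} : Set G)) (ws V x) (zpowers x) M X

variable [Finite G] {T V : Subgroup G} {z x : G} {M X : Type u} [AddCommGroup M] [Group X] [DistribMulAction X M]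

theorem centralizer_le_normalizer_zpowers (x : G) :
    centralizer ({x} : Set G) ≤ normalizer ((zpowers x : Subgroup G) : Set G) := by
  refine le_normalizer_of_forall fun c hc y hy => ?_
  rw [BTwoB.zpowers_conj hc hy]; exact hy

theorem exists_rep (h : Odd T V z) (hx : Pt z x) :
    ∃ (M X : Type u) (_ : AddCommGroup M) (_ : Group X) (_ : DistribMulAction X M), Nonempty (Rep V x M X) := by
  refine exists_sec ?_ (Geo.centralizer_le_normalizer_ws V x) ?_ (centralizer_le_normalizer_zpowers x) ?_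
  · intro w hw
    rw [mem_centralizer_singleton_iff]
    exact ws_comm h hx hw (self_mem_ws h.toGeo hx)
  · rw [zpowers_le]; exact self_mem_ws h.toGeo hx
  · intro a ha b hb
    have e : a * b * a⁻¹ * b⁻¹ = 1 := by rw [ws_comm h hx ha hb]; group
    rw [e]; exact one_mem _

namespace Rep

theorem two (h : Odd T V z) (hx : Pt z x) (R : Rep V x M X) (m : M) : m + m = 0 := by
  obtain ⟨w, hw, rfl⟩ := R.pi_surj m
  rw [← R.pi_mul w hw w hw, OddBase.ws_sq h hx hw, R.pi_one]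

theorem neg_eq (h : Odd T V z) (hx : Pt z x) (R : Rep V x M X) (m : M) : -m = m :=
  neg_eq_of_add_eq_zero_left (two h hx R m)

/-- the kernel of `rho` -/
theorem rho_eq_one (R : Rep V x M X) {c : G} (hc : c ∈ centralizer ({x} : Set G)) :
    R.rho c = 1 ↔ c ∈ kq V x := by
  rw [R.rho_eq_one_iff hc]
  constructor
  · intro h
    have h1 : R.rho c = 1 := (R.rho_eq_one_iff hc).mpr h
    have h2 : R.rho c⁻¹ = 1 := by rw [R.rho_inv hc, h1, inv_one]
    rw [R.rho_eq_one_iff (inv_mem hc)] at h2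
    refine ⟨hc, h, fun w hw => ?_⟩
    have := h2 w hw
    rwa [inv_inv] at this
  · exact fun h => h.2.1

theorem rho_eq_rho (R : Rep V x M X) {a b : G} (ha : a ∈ centralizer ({x} : Set G))
    (hb : b ∈ centralizer ({x} : Set G)) : R.rho a = R.rho b ↔ a * b⁻¹ ∈ kq V x := by
  rw [R.rho_eq_iff ha hb, rho_eq_one R (mul_mem ha (inv_mem hb))]

theorem pi_eq_zero' (h : Odd T V z) (hx : Pt z x) (R : Rep V x M X) {a : G} (ha : a ∈ ws V x) :
    R.pi a = 0 ↔ a = 1 ∨ a = x := by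
  rw [R.pi_eq_zero a ha]
  exact mem_zpowers_iff_of_mul_self (OddBase.Pt.sq h.toGeo hx)

theorem pi_eq_pi (h : Odd T V z) (hx : Pt z x) (R : Rep V x M X) {a b : G} (ha : a ∈ ws V x) (hb : b ∈ ws V x) :
    R.pi a = R.pi b ↔ a = b ∨ a = x * b := by
  rw [R.pi_eq_iff ha hb, mem_zpowers_iff_of_mul_self (OddBase.Pt.sq h.toGeo hx), mul_inv_eq_one]
  constructor
  · rintro (e | e)
    · exact Or.inl e
    · exact Or.inr (by rw [← e]; group)
  · rintro (e | e)
    · exact Or.inl e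
    · exact Or.inr (by rw [e]; group)

theorem pi_self (h : Odd T V z) (hx : Pt z x) (R : Rep V x M X) : R.pi x = 0 :=
  (R.pi_eq_zero x (self_mem_ws h.toGeo hx)).mpr (mem_zpowers x)

theorem pi_self_mul (h : Odd T V z) (hx : Pt z x) (R : Rep V x M X) {w : G} (hw : w ∈ ws V x) :
    R.pi (x * w) = R.pi w := by
  rw [R.pi_mul x (self_mem_ws h.toGeo hx) w hw, pi_self h hx R, zero_add]

theorem isSolvable (h : Odd T V z) (hx : Pt z x) (R : Rep V x M X) : Group.IsSolvable X :=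
  Sec.isSolvable R (h.solv _ (isTwoLocal_centralizer (OddBase.Pt.sq h.toGeo hx) (OddBase.Pt.ne_one h.toGeo hx)))

/-- `O₂(X) = 1` -/
theorem o2_eq_bot (h : Odd T V z) (hx : Pt z x) (R : Rep V x M X) {N : Subgroup X} (hN : N.Normal)
    (h2 : IsPGroup 2 N) : N = ⊥ := by
  obtain ⟨g, hg, h'⟩ := exists_odd h hx
  have hle : R.pre N ≤ kq (cj g V) x := by
    refine BTwoB.le_kq h'.toGeo (R.pre_le N) (R.le_normalizer_pre hN) fun c hc => ?_
    rw [R.mem_pre] at hc
    obtain ⟨k, hk⟩ := h2 ⟨R.rho c, hc.2⟩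
    refine ⟨k, ?_⟩
    rw [kq_cj_left, ← rho_eq_one R (pow_mem hc.1 _), R.rho_pow hc.1]
    exact congrArg Subtype.val hk
  rw [kq_cj_left] at hle
  rw [eq_bot_iff]
  intro n hn
  obtain ⟨c, hc, rfl⟩ := R.rho_surj n
  rw [mem_bot, rho_eq_one R hc]
  exact hle (R.mem_pre.mpr ⟨hc, hn⟩)

/-- line vectors are nonzero -/
theorem pi_line_ne_zero (h : Odd T V z) (hx : Pt z x) (R : Rep V x M X) {y : G} (hy : Col V x y) :
    R.pi y ≠ 0 := by
  rw [Ne, pi_eq_zero' h hx R hy.mem_ws]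
  rintro (e | e)
  · exact hy.2.1 e
  · exact hy.2.2.1 e.symm

/-- `X` is transitive on the line vectors -/
theorem exists_smul_line (h : Odd T V z) (hx : Pt z x) (R : Rep V x M X) {y y' : G} (hy : Col V x y)
    (hy' : Col V x y') : ∃ g : X, g • R.pi y = R.pi y' := by
  obtain ⟨_, hy1, hne, L, ⟨⟨g, rfl⟩, hxL⟩, hyL⟩ := hy
  obtain ⟨_, hy1', hne', L', hL', hyL'⟩ := hy'
  obtain ⟨T', h1⟩ := h.line hxL (OddBase.Pt.ne_one h.toGeo hx)
  rw [← lines_cj V g] at hL'
  obtain ⟨c, hc, rfl⟩ := h1.toGeo.exists_of_mem_lines hL'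
  have h2 : c⁻¹ * y' * c ∈ cj g V := mem_cj.mp hyL'
  have h3 : c⁻¹ * y' * c ≠ 1 := fun e => hy1' (by
    have : y' = c * (c⁻¹ * y' * c) * c⁻¹ := by group
    rw [this, e]; group)
  have hcx : c * x = x * c := mem_centralizer_singleton_iff.mp hc
  have h4 : c⁻¹ * y' * c ≠ x := fun e => hne' (by
    have : y' = c * (c⁻¹ * y' * c) * c⁻¹ := by group
    rw [this, e, hcx]; group)
  have hyw : y ∈ ws V x := le_ws ⟨⟨g, rfl⟩, hxL⟩ hyL
  refine ⟨R.rho c, ?_⟩
  rw [R.smul_pi c hc y hyw]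
  rcases h1.toGeo.four hxL hyL (OddBase.Pt.ne_one h.toGeo hx) hy1 hne h2 with e | e | e | e
  · exact absurd e h3
  · exact absurd e h4
  · rw [← e]
    congr 1; group
  · have e2 : y' = x * (c * y * c⁻¹) := by
      have : y' = c * (c⁻¹ * y' * c) * c⁻¹ := by group
      rw [this, e]
      calc c * (x * y) * c⁻¹ = (c * x) * y * c⁻¹ := by group
        _ = x * (c * y * c⁻¹) := by rw [hcx]; group
    rw [e2, pi_self_mul h hx R (R.conj_mem hc hyw)]

/-- `M` is generated by the line vectors -/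
theorem eq_top_of_line (h : Odd T V z) (hx : Pt z x) (R : Rep V x M X) {y : G} (hy : Col V x y) (N : AddSubgroup M)
    (hN : ∀ g : X, g • R.pi y ∈ N) : N = ⊤ := by
  rw [eq_top_iff]
  rintro m -
  obtain ⟨w, hw, rfl⟩ := R.pi_surj m
  let U : Subgroup G :=
    { carrier := {w | w ∈ ws V x ∧ R.pi w ∈ N}
      mul_mem' := by
        rintro a b ⟨ha, ha1⟩ ⟨hb, hb1⟩
        refine ⟨mul_mem ha hb, ?_⟩
        rw [R.pi_mul a ha b hb]; exact add_mem ha1 hb1
      one_mem' := ⟨one_mem _, by rw [R.pi_one]; exact zero_mem _⟩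
      inv_mem' := by
        rintro a ⟨ha, ha1⟩
        refine ⟨inv_mem ha, ?_⟩
        rw [R.pi_inv ha]; exact neg_mem ha1 }
  refine (ws_le (U := U) (fun L hL w hw => ⟨le_ws hL hw, ?_⟩) hw).2
  by_cases hw1 : w = 1
  · rw [hw1, R.pi_one]; exact zero_mem _
  · by_cases hwx : w = x
    · rw [hwx, pi_self h hx R]; exact zero_mem _
    · obtain ⟨g, hg⟩ := exists_smul_line h hx R hy
        (⟨hy.1, hw1, Ne.symm hwx, L, hL, hw⟩ : Col V x w)
      rw [← hg]; exact hN g

end Rep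

end Cfsg.Agent.MinSimple.OddRep
end

-- part: MinSimple/NatTri_mg
section
prune_inst 0x106604532200000018000020001c5292000002004c00012100000004888c40a0010820b040031200008a440036802003dc00004000000020008200411c01a0040242428248b00021000040c800000000000000000000000000000000000000000000000
set_option linter.all false
open scoped Cfsg.Agent.FastGrp

-- part: MinSimple/NatTri
section
/-!
# The natural block: the structure `NTri`

Blueprint `P21-NatBlock-helper789.md`, part A. `V` is a four-group, its involutions are the points `p`; `U p` is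
elementary abelian of order 8 and contains `V`, `C p ≤ C_G(p)` normalises `U p` and contains
`N_G(V) ∩ C_G(p)`, and `C p` contains a 3-element not acting trivially on `U p / ⟨p⟩`.
-/

set_option autoImplicit false
set_option linter.unusedSectionVars false

namespace Cfsg.Agent.MinSimple.NatTri

open Subgroup Cfsg Cfsg.Agent.ZN Cfsg.Agent.MinSimple.Geo
open Cfsg.Agent.Classification.TitsFin.Tri (Pt kst cj_kst K Q)
open Cfsg.Agent.ZN.Block (conj_mem_of_normalizer conj_mem_of_normalizer' le_normalizer_of_forall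
  mem_normalizer_of card_sup_mul_card_inf card_mul_relIndex' mul_mem_of_relIndex_two)

universe u

variable {G : Type u} [Group G]

/-- The configuration of the three points of the line `V`, natural block. -/
structure NTri (V : Subgroup G) (U C : G → Subgroup G) : Prop where
  cardV : Nat.card V = 4
  sqV : ∀ v ∈ V, v * v = 1
  cardU : ∀ p, Pt V p → Nat.card (U p) = 8
  sqU : ∀ p, Pt V p → ∀ u ∈ U p, u * u = 1
  V_le : ∀ p, Pt V p → V ≤ U p
  C_le : ∀ p, Pt V p → C p ≤ centralizer ({p} : Set G)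
  C_norm : ∀ p, Pt V p → C p ≤ normalizer (U p : Set G)
  le_C : ∀ p, Pt V p → normalizer (V : Set G) ⊓ centralizer ({p} : Set G) ≤ C p
  sym : ∀ p q p' q', Pt V p → Pt V q → p ≠ q → Pt V p' → Pt V q' → p' ≠ q' →
    ∃ n ∈ normalizer (V : Set G), n * p * n⁻¹ = p' ∧ n * q * n⁻¹ = q'
  conjU : ∀ n ∈ normalizer (V : Set G), ∀ p, Pt V p → cj n (U p) = U (n * p * n⁻¹)
  conjC : ∀ n ∈ normalizer (V : Set G), ∀ p, Pt V p → cj n (C p) = C (n * p * n⁻¹)
  three : ∀ p, Pt V p → ∃ f ∈ C p, (∃ n : ℕ, f ^ 3 ^ n = 1) ∧ f ∉ kst (C p) (U p) p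
  nc : ∀ p q, Pt V p → Pt V q → p ≠ q → ∃ a ∈ U p, ∃ b ∈ U q, a * b ≠ b * a
  solv : ∀ R : Subgroup G, IsPGroup 2 R → R ≠ ⊥ → Group.IsSolvable (normalizer (R : Set G))
  char2 : ∀ p, Pt V p → C p ⊓ centralizer (o2 (C p) : Set G) ≤ o2 (C p)
  soc : ∀ p, Pt V p → ∀ X : Subgroup G, X ≤ normalizer (V : Set G) ⊓ centralizer ({p} : Set G) →
    IsPGroup 2 X → X ≠ ⊥ → normalizer (V : Set G) ⊓ centralizer ({p} : Set G) ≤ normalizer (X : Set G) → p ∈ X

namespace NTri

variable {V : Subgroup G} {U C : G → Subgroup G}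

variable (h : NTri V U C) {p q : G}

section Basic

include h

theorem pp (hp : Pt V p) : p * p = 1 := h.sqV p hp.1

theorem commU (hp : Pt V p) {a b : G} (ha : a ∈ U p) (hb : b ∈ U p) : a * b = b * a := by
  have h1 := h.sqU p hp _ (mul_mem ha hb)
  have h2 := inv_eq_self (h.sqU p hp a ha)
  have h3 := inv_eq_self (h.sqU p hp b hb)
  calc a * b = (a * b)⁻¹ := (inv_eq_self h1).symm
    _ = b⁻¹ * a⁻¹ := by group
    _ = b * a := by rw [h2, h3]

theorem invU (hp : Pt V p) {a : G} (ha : a ∈ U p) : a⁻¹ = a := inv_eq_self (h.sqU p hp a ha)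

theorem invp (hp : Pt V p) : p⁻¹ = p := inv_eq_self (h.pp hp)

theorem p_mem (hp : Pt V p) (hq : Pt V q) : p ∈ U q := h.V_le q hq hp.1

theorem centV_le (hp : Pt V p) : centralizer (V : Set G) ≤ C p := by
  refine le_trans ?_ (h.le_C p hp)
  intro g hg
  have hg' := mem_centralizer_iff.mp hg
  refine ⟨?_, mem_centralizer_singleton_iff.mpr (hg' p hp.1).symm⟩
  refine mem_normalizer_of (fun m hm => ?_) (fun m hm => ?_)
  · rw [← hg' m hm, mul_inv_cancel_right]; exact hm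
  · rw [mul_assoc, hg' m hm, inv_mul_cancel_left]; exact hm

theorem centV_le_norm : centralizer (V : Set G) ≤ normalizer (V : Set G) := by
  intro g hg
  have hg' := mem_centralizer_iff.mp hg
  refine mem_normalizer_of (fun m hm => ?_) (fun m hm => ?_)
  · rw [← hg' m hm, mul_inv_cancel_right]; exact hm
  · rw [mul_assoc, hg' m hm, inv_mul_cancel_left]; exact hm

theorem U_le_centV (hp : Pt V p) : U p ≤ centralizer (V : Set G) := fun _ hu =>
  mem_centralizer_iff.mpr fun _ hv => h.commU hp (h.V_le p hp hv) hu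

theorem U_le_C (hp : Pt V p) (hq : Pt V q) : U q ≤ C p := (h.U_le_centV hq).trans (h.centV_le hp)

theorem K_le_centV (hp : Pt V p) : K U p ≤ centralizer (V : Set G) :=
  centralizer_le (h.V_le p hp)

theorem K_le_C (hp : Pt V p) (hq : Pt V q) : K U q ≤ C p := (h.K_le_centV hq).trans (h.centV_le hp)

theorem U_le_K (hp : Pt V p) : U p ≤ K U p := fun _ hu =>
  mem_centralizer_iff.mpr fun _ hv => h.commU hp hv hu

theorem c_comm (hp : Pt V p) {c : G} (hc : c ∈ C p) : c * p = p * c :=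
  mem_centralizer_singleton_iff.mp (h.C_le p hp hc)

theorem conj_memU (hp : Pt V p) {c u : G} (hc : c ∈ C p) (hu : u ∈ U p) : c * u * c⁻¹ ∈ U p :=
  conj_mem_of_normalizer (h.C_norm p hp) hc hu

theorem conj_memU' (hp : Pt V p) {c u : G} (hc : c ∈ C p) (hu : u ∈ U p) : c⁻¹ * u * c ∈ U p :=
  conj_mem_of_normalizer' (h.C_norm p hp) hc hu

theorem mem_Q_iff (hp : Pt V p) {c : G} :
    c ∈ Q U C p ↔ c ∈ C p ∧ ∀ u ∈ U p, c * u * c⁻¹ = u ∨ c * u * c⁻¹ = p * u := by
  have hpp := h.pp hp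
  constructor
  · rintro ⟨h0, -, h2, -⟩
    refine ⟨h0, fun u hu => ?_⟩
    rcases (mem_zpowers_iff_of_mul_self hpp).mp (h2 u hu) with e | e
    · left; exact mul_inv_eq_one.mp e
    · right; exact mul_inv_eq_iff_eq_mul.mp e
  · rintro ⟨h0, h1⟩
    have key : ∀ u ∈ U p, c * u * c⁻¹ * u⁻¹ ∈ zpowers p := by
      intro u hu
      rcases h1 u hu with e | e
      · rw [e, mul_inv_cancel]; exact one_mem _
      · rw [e, mul_inv_cancel_right]; exact mem_zpowers p
    refine ⟨h0, h.c_comm hp h0, key, fun u hu => ?_⟩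
    have h3 := key _ (h.conj_memU' hp h0 hu)
    have e : c⁻¹ * u * c * u⁻¹ = (c * (c⁻¹ * u * c) * c⁻¹ * (c⁻¹ * u * c)⁻¹)⁻¹ := by group
    rw [e]
    exact inv_mem h3

theorem K_le_Q (hp : Pt V p) : K U p ≤ Q U C p := fun k hk =>
  (h.mem_Q_iff hp).mpr ⟨h.K_le_C hp hp hk, fun u hu => Or.inl (by
    rw [← mem_centralizer_iff.mp hk u hu, mul_inv_cancel_right])⟩

theorem C_le_normK (hp : Pt V p) : C p ≤ normalizer (K U p : Set G) := by
  refine le_normalizer_of_forall fun c hc k hk => mem_centralizer_iff.mpr fun u hu => ?_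
  have h1 := mem_centralizer_iff.mp hk _ (h.conj_memU' hp hc hu)
  calc u * (c * k * c⁻¹) = c * ((c⁻¹ * u * c) * k) * c⁻¹ := by group
    _ = c * (k * (c⁻¹ * u * c)) * c⁻¹ := by rw [h1]
    _ = c * k * c⁻¹ * u := by group

theorem C_le_normQ (hp : Pt V p) : C p ≤ normalizer (Q U C p : Set G) := by
  refine le_normalizer_of_forall fun c hc k hk => ?_
  obtain ⟨h0, h1⟩ := (h.mem_Q_iff hp).mp hk
  refine (h.mem_Q_iff hp).mpr ⟨mul_mem (mul_mem hc h0) (inv_mem hc), fun u hu => ?_⟩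
  have hcp := h.c_comm hp hc
  have e : c * k * c⁻¹ * u * (c * k * c⁻¹)⁻¹ = c * (k * (c⁻¹ * u * c) * k⁻¹) * c⁻¹ := by group
  rw [e]
  rcases h1 _ (h.conj_memU' hp hc hu) with h2 | h2
  · left; rw [h2]; group
  · right; rw [h2]
    calc c * (p * (c⁻¹ * u * c)) * c⁻¹ = (c * p) * c⁻¹ * u := by group
      _ = p * u := by rw [hcp, mul_inv_cancel_right]

/-- the third point -/
theorem third (hp : Pt V p) (hq : Pt V q) (hpq : p ≠ q) : Pt V (p * q) ∧ p * q ≠ p ∧ p * q ≠ q := by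
  refine ⟨⟨mul_mem hp.1 hq.1, fun e => hpq ?_⟩, fun e => hq.2 (by simpa using e), fun e => hp.2 (by simpa using e)⟩
  rw [mul_eq_one_iff_eq_inv.mp e, inv_eq_self (h.pp hq)]

theorem commV (hp : Pt V p) (hq : Pt V q) : p * q = q * p :=
  h.commU hp (h.V_le p hp hp.1) (h.V_le p hp hq.1)

/-- conjugation by an element of `N_G(V)` exchanging two points -/
theorem exists_swap (hp : Pt V p) (hq : Pt V q) (hpq : p ≠ q) : ∃ n ∈ normalizer (V : Set G),
    n * p * n⁻¹ = q ∧ n * q * n⁻¹ = p ∧ cj n (U p) = U q ∧ cj n (U q) = U p ∧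
      cj n (C p) = C q ∧ cj n (C q) = C p := by
  obtain ⟨n, hn, h1, h2⟩ := h.sym p q q p hp hq hpq hq hp hpq.symm
  refine ⟨n, hn, h1, h2, ?_, ?_, ?_, ?_⟩
  · rw [h.conjU n hn p hp, h1]
  · rw [h.conjU n hn q hq, h2]
  · rw [h.conjC n hn p hp, h1]
  · rw [h.conjC n hn q hq, h2]

/-- (A2) `U_q ≰ Q_p` -/
theorem exists_t (hp : Pt V p) (hq : Pt V q) (hpq : p ≠ q) : ∃ t ∈ U q, t ∉ Q U C p := by
  by_contra hcon
  push Not at hcon
  obtain ⟨n, hn, h1, h2, h3, h4, -, -⟩ := h.exists_swap hp hq hpq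
  obtain ⟨a, ha, b, hb, hab⟩ := h.nc p q hp hq hpq
  apply hab
  have hpp := h.pp hp
  have hqq := h.pp hq
  have e1 : b * a * b⁻¹ = a ∨ b * a * b⁻¹ = p * a := ((h.mem_Q_iff hp).mp (hcon b hb)).2 a ha
  have e2 : a * b * a⁻¹ = b ∨ a * b * a⁻¹ = q * b := by
    rw [← h4] at ha
    rw [← h3] at hb
    obtain ⟨b', hb', rfl⟩ := ha
    obtain ⟨a', ha', rfl⟩ := hb
    change n * b' * n⁻¹ * (n * a' * n⁻¹) * (n * b' * n⁻¹)⁻¹ = n * a' * n⁻¹ ∨
      n * b' * n⁻¹ * (n * a' * n⁻¹) * (n * b' * n⁻¹)⁻¹ = q * (n * a' * n⁻¹)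
    have e : n * b' * n⁻¹ * (n * a' * n⁻¹) * (n * b' * n⁻¹)⁻¹ = n * (b' * a' * b'⁻¹) * n⁻¹ := by group
    rw [e]
    rcases ((h.mem_Q_iff hp).mp (hcon b' hb')).2 a' ha' with h5 | h5
    · left; rw [h5]
    · right; rw [h5, ← h1]; group
  rcases e1 with e1 | e1
  · calc a * b = (b * a * b⁻¹) * b := by rw [e1]
      _ = b * a := by group
  rcases e2 with e2 | e2
  · calc a * b = (a * b * a⁻¹) * a := by group
      _ = b * a := by rw [e2]
  · exfalso
    have f1 : b * a = p * (a * b) := by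
      calc b * a = (b * a * b⁻¹) * b := by group
        _ = p * (a * b) := by rw [e1, mul_assoc]
    have f2 : a * b = q * (b * a) := by
      calc a * b = (a * b * a⁻¹) * a := by group
        _ = q * (b * a) := by rw [e2, mul_assoc]
    have f3 : p * q = 1 := by
      have : b * a = p * q * (b * a) := by
        calc b * a = p * (a * b) := f1
          _ = p * (q * (b * a)) := by rw [f2]
          _ = p * q * (b * a) := by group
      exact (mul_eq_right.mp this.symm)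
    exact (h.third hp hq hpq).1.2 f3

/-- the elements of `V` -/
theorem mem_V (hp : Pt V p) (hq : Pt V q) (hpq : p ≠ q) {v : G} (hv : v ∈ V) :
    v = 1 ∨ v = p ∨ v = q ∨ v = p * q := by
  classical
  obtain ⟨h1, h2, h3⟩ := h.third hp hq hpq
  have hfin : Finite V := Nat.finite_of_card_ne_zero (by rw [h.cardV]; norm_num)
  have e1 : (1 : G) ∉ ({p, q, p * q} : Finset G) := by
    simp only [Finset.mem_insert, Finset.mem_singleton, not_or]
    exact ⟨fun e => hp.2 e.symm, fun e => hq.2 e.symm, fun e => h1.2 e.symm⟩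
  have e2 : p ∉ ({q, p * q} : Finset G) := by
    simp only [Finset.mem_insert, Finset.mem_singleton, not_or]
    exact ⟨hpq, fun e => h2 e.symm⟩
  have e3 : q ∉ ({p * q} : Finset G) := by
    simp only [Finset.mem_singleton]
    exact fun e => h3 e.symm
  have hcard : ({1, p, q, p * q} : Finset G).card = 4 := by
    rw [Finset.card_insert_of_notMem e1, Finset.card_insert_of_notMem e2, Finset.card_insert_of_notMem e3,
      Finset.card_singleton]
  have hsub : (({1, p, q, p * q} : Finset G) : Set G) ⊆ (V : Set G) := by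
    intro x hx
    simp only [Finset.coe_insert, Finset.coe_singleton, Set.mem_insert_iff, Set.mem_singleton_iff] at hx
    rcases hx with rfl | rfl | rfl | rfl
    · exact one_mem V
    · exact hp.1
    · exact hq.1
    · exact h1.1
  have hfinV : (V : Set G).Finite := Set.toFinite _
  have heq := Set.eq_of_subset_of_ncard_le hsub (by
    rw [Set.ncard_coe_finset, hcard]
    have : (V : Set G).ncard = 4 := by rw [← h.cardV]; exact (Nat.card_coe_set_eq (V : Set G)).symm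
    rw [this]) hfinV
  have : v ∈ (({1, p, q, p * q} : Finset G) : Set G) := by rw [heq]; exact hv
  simpa only [_root_.Finset.coe_insert, _root_.Finset.coe_singleton, _root_.Set.mem_insert_iff, _root_.Set.mem_singleton_iff] using this

theorem relIndex_V (hp : Pt V p) : V.relIndex (U p) = 2 := by
  have h1 := card_mul_relIndex' (h.V_le p hp)
  rw [h.cardV, h.cardU p hp] at h1
  omega

theorem mul_memV (hp : Pt V p) {a b : G} (ha : a ∈ U p) (ha' : a ∉ V) (hb : b ∈ U p) (hb' : b ∉ V) :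
    a * b ∈ V := mul_mem_of_relIndex_two (h.relIndex_V hp) ha hb ha' hb'

theorem exists_notMem (hp : Pt V p) : ∃ a ∈ U p, a ∉ V := by
  by_contra hcon
  push Not at hcon
  have h1 : U p = V := le_antisymm hcon (h.V_le p hp)
  have h2 := h.cardU p hp
  rw [h1, h.cardV] at h2
  omega

/-- (A1) -/
theorem inf_eq (hp : Pt V p) (hq : Pt V q) (hpq : p ≠ q) : U p ⊓ U q = V := by
  refine le_antisymm ?_ (le_inf (h.V_le p hp) (h.V_le q hq))
  intro a ha
  by_contra haV
  have hle : U p ≤ U q := by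
    intro x hx
    by_cases hxV : x ∈ V
    · exact h.V_le q hq hxV
    · have h1 := h.mul_memV hp hx hxV ha.1 haV
      have h2 : x = (x * a) * a := by rw [mul_assoc, h.sqU p hp a ha.1, mul_one]
      rw [h2]
      exact mul_mem (h.V_le q hq h1) ha.2
  obtain ⟨x, hx, y, hy, hxy⟩ := h.nc p q hp hq hpq
  exact hxy (h.commU hq (hle hx) hy)

theorem comm_mem (hp : Pt V p) (hq : Pt V q) (hpq : p ≠ q) {a b : G} (ha : a ∈ U p) (hb : b ∈ U q) :
    a * b * a⁻¹ * b⁻¹ ∈ V := by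
  rw [← h.inf_eq hp hq hpq]
  refine mem_inf.mpr ⟨?_, mul_mem (h.conj_memU hq (h.U_le_C hq hp ha) hb) (inv_mem hb)⟩
  have h1 := h.conj_memU hp (h.U_le_C hp hq hb) (inv_mem ha)
  have e : a * b * a⁻¹ * b⁻¹ = a * (b * a⁻¹ * b⁻¹) := by group
  rw [e]
  exact mul_mem (S := Subgroup G) ha h1

theorem V_le_Q (hp : Pt V p) : V ≤ Q U C p := (h.V_le p hp).trans ((h.U_le_K hp).trans (h.K_le_Q hp))

theorem notMem_Q (hp : Pt V p) (hq : Pt V q) (hpq : p ≠ q) {b : G} (hb : b ∈ U q) (hbV : b ∉ V) :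
    b ∉ Q U C p := by
  intro hbQ
  obtain ⟨t, ht, htQ⟩ := h.exists_t hp hq hpq
  have htV : t ∉ V := fun e => htQ (h.V_le_Q hp e)
  apply htQ
  have h1 := h.V_le_Q hp (h.mul_memV hq ht htV hb hbV)
  have e : t = (t * b) * b := by rw [mul_assoc, h.sqU q hq b hb, mul_one]
  rw [e]
  exact mul_mem h1 hbQ

/-- (A1), the commutator: `[u_p, u_q] = pq` -/
theorem comm_eq (hp : Pt V p) (hq : Pt V q) (hpq : p ≠ q) {a b : G} (ha : a ∈ U p) (haV : a ∉ V)
    (hb : b ∈ U q) (hbV : b ∉ V) : a * b * a⁻¹ * b⁻¹ = p * q := by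
  -- one sided statement
  have key : ∀ {p q : G}, Pt V p → Pt V q → p ≠ q → ∀ {a b : G}, a ∈ U p → a ∉ V → b ∈ U q → b ∉ V →
      a * b * a⁻¹ * b⁻¹ ≠ 1 ∧ a * b * a⁻¹ * b⁻¹ ≠ p := by
    intro p q hp hq hpq a b ha haV hb hbV
    have hbQ := h.notMem_Q hp hq hpq hb hbV
    have hbC := h.U_le_C hp hq hb
    have hai := h.invU hp ha
    constructor
    · intro e
      apply hbQ
      refine (h.mem_Q_iff hp).mpr ⟨hbC, fun u hu => Or.inl ?_⟩
      have e1 : a * b = b * a := by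
        have : a * b = (a * b * a⁻¹ * b⁻¹) * (b * a) := by group
        rw [this, e, one_mul]
      by_cases huV : u ∈ V
      · rw [h.commU hq hb (h.V_le q hq huV), mul_inv_cancel_right]
      · have h1 := h.mul_memV hp hu huV ha haV
        have h2 : b * (u * a) = (u * a) * b := h.commU hq hb (h.V_le q hq h1)
        have e2 : u = (u * a) * a := by rw [mul_assoc, h.sqU p hp a ha, mul_one]
        calc b * u * b⁻¹ = b * ((u * a) * a) * b⁻¹ := by rw [← e2]
          _ = (b * (u * a)) * a * b⁻¹ := by group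
          _ = (u * a) * (b * a) * b⁻¹ := by rw [h2]; group
          _ = (u * a) * (a * b) * b⁻¹ := by rw [e1]
          _ = (u * a) * a := by group
          _ = u := e2.symm
    · intro e
      apply hbQ
      refine (h.mem_Q_iff hp).mpr ⟨hbC, fun u hu => ?_⟩
      have e1 : a * b = p * (b * a) := by
        have : a * b = (a * b * a⁻¹ * b⁻¹) * (b * a) := by group
        rw [this, e]
      have e1' : b * a = p * (a * b) := by
        rw [e1, ← mul_assoc, h.pp hp, one_mul]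
      by_cases huV : u ∈ V
      · left; rw [h.commU hq hb (h.V_le q hq huV), mul_inv_cancel_right]
      · right
        have h1 := h.mul_memV hp hu huV ha haV
        have h2 : b * (u * a) = (u * a) * b := h.commU hq hb (h.V_le q hq h1)
        have e2 : u = (u * a) * a := by rw [mul_assoc, h.sqU p hp a ha, mul_one]
        have hpua : (u * a) * p = p * (u * a) := h.commU hp (mul_mem hu ha) (h.V_le p hp hp.1)
        calc b * u * b⁻¹ = b * ((u * a) * a) * b⁻¹ := by rw [← e2]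
          _ = (b * (u * a)) * a * b⁻¹ := by group
          _ = (u * a) * (b * a) * b⁻¹ := by rw [h2]; group
          _ = (u * a) * (p * (a * b)) * b⁻¹ := by rw [e1']
          _ = (u * a) * p * a := by group
          _ = p * ((u * a) * a) := by rw [hpua]; group
          _ = p * u := by rw [← e2]
  obtain ⟨k1, k2⟩ := key hp hq hpq ha haV hb hbV
  obtain ⟨k3, k4⟩ := key hq hp hpq.symm hb hbV ha haV
  rcases h.mem_V hp hq hpq (h.comm_mem hp hq hpq ha hb) with e | e | e | e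
  · exact absurd e k1
  · exact absurd e k2
  · exfalso
    apply k4
    have : b * a * b⁻¹ * a⁻¹ = (a * b * a⁻¹ * b⁻¹)⁻¹ := by group
    rw [this, e, h.invp hq]
  · exact e

/-- an element of `C_G(V)` moves elements of `U q` by elements of `V` -/
theorem D_act (hq : Pt V q) {g b : G} (hg : g ∈ centralizer (V : Set G)) (hb : b ∈ U q) :
    g * b * g⁻¹ * b⁻¹ ∈ V := by
  have hg' := mem_centralizer_iff.mp hg
  by_cases hbV : b ∈ V
  · rw [← hg' b hbV, mul_inv_cancel_right, mul_inv_cancel]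
    exact one_mem V
  · have h1 := h.conj_memU hq (h.centV_le hq hg) hb
    rw [h.invU hq hb]
    refine h.mul_memV hq h1 (fun e => hbV ?_) hb hbV
    have h2 : g * b * g⁻¹ * g = g * (g * b * g⁻¹) := hg' _ e
    have h4 : g * b = g * (g * b * g⁻¹) := by
      calc g * b = g * b * g⁻¹ * g := by group
        _ = g * (g * b * g⁻¹) := h2
    rw [mul_left_cancel h4]; exact e

end Basic

end NTri

end Cfsg.Agent.MinSimple.NatTri
end

-- part: MinSimple/OddSmall
section
/-!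
# (E1)(b): `|ws V z| = 8` implies `n ≤ 2`
-/

set_option autoImplicit false
set_option linter.unusedSectionVars false

namespace Cfsg.Agent.MinSimple.OddSmall

open Subgroup Cfsg Cfsg.Agent.ZN Cfsg.Agent.MinSimple.Geo Cfsg.Agent.MinSimple.BTwoA
  Cfsg.Agent.MinSimple.OddLine Cfsg.Agent.MinSimple.OddBase Cfsg.Agent.MinSimple.SecRep
  Cfsg.Agent.MinSimple.OddRep
open Cfsg.Agent.ZN.Block (conj_mem_of_normalizer conj_mem_of_normalizer' le_normalizer_of_forall
  mem_normalizer_of)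

universe u

variable {G : Type u} [Group G] [Finite G] {T V : Subgroup G} {z x : G}

/-- the third point of a line is collinear with the first one -/
theorem col_mul (h : _root_.Cfsg.Agent.MinSimple.OddLine.Odd T V z) {y : G} (hy : Col V x y) : Col V x (x * y) := by
  obtain ⟨h1, h2, h3, L, hL, hyL⟩ := hy
  have hx : Pt z x := Col.pt_left h.toGeo ⟨h1, h2, h3, L, hL, hyL⟩
  refine ⟨h1, fun e => h3 ?_, fun e => h2 ?_, L, hL, mul_mem hL.2 hyL⟩
  · have := OddBase.Pt.sq h.toGeo hx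
    calc x = x * (x * y) := by rw [e, mul_one]
      _ = (x * x) * y := by group
      _ = y := by rw [this, one_mul]
  · exact left_eq_mul.mp e

/-- the points collinear with `x` in terms of the module -/
theorem col_of_smul (h : _root_.Cfsg.Agent.MinSimple.OddLine.Odd T V z) (hx : Pt z x) {M X : Type u} [AddCommGroup M] [Group X]
    [DistribMulAction X M] (R : _root_.Cfsg.Agent.MinSimple.OddRep.Rep V x M X) {y w : G} (hy : Col V x y) (hw : w ∈ ws V x) {g : X}
    (hg : g • R.pi y = R.pi w) : Col V x w := by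
  obtain ⟨c, hc, rfl⟩ := R.rho_surj g
  rw [R.smul_pi c hc y hy.mem_ws] at hg
  have hcx : c * x * c⁻¹ = x := by
    rw [mem_centralizer_singleton_iff.mp hc]; group
  have h1 : Col V x (c * y * c⁻¹) := by
    have := hy.conj c
    rwa [hcx] at this
  rcases (OddRep.Rep.pi_eq_pi h hx R (R.conj_mem hc hy.mem_ws) hw).mp hg with e | e
  · rw [← e]; exact h1
  · have e2 : w = x * (c * y * c⁻¹) := by
      rw [e, ← mul_assoc, OddBase.Pt.sq h.toGeo hx, one_mul]
    rw [e2]; exact col_mul h h1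

/-- every point is on a line -/
theorem exists_col (h : _root_.Cfsg.Agent.MinSimple.OddLine.Odd T V z) (hx : Pt z x) : ∃ y, Col V x y := by
  obtain ⟨g, rfl⟩ := hx
  obtain ⟨y, hy, hy1, hyz⟩ := h.exists_y
  exact ⟨g * y * g⁻¹, (col_of_mem h.toGeo h.z_mem hy h.z_ne hy1 (Ne.symm hyz)).conj g⟩

theorem col_of_card_eight (h : _root_.Cfsg.Agent.MinSimple.OddLine.Odd T V z) (hx : Pt z x) (h8 : Nat.card (ws V x) = 8) {w : G}
    (hw : w ∈ ws V x) (hw1 : w ≠ 1) (hwx : w ≠ x) : Col V x w := by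
  obtain ⟨M, X, _, _, _, ⟨R⟩⟩ := exists_rep h hx
  obtain ⟨y, hy⟩ := exists_col h hx
  have two := OddRep.Rep.two h hx R
  have hwM : R.pi w ≠ 0 := fun e => by
    rcases (OddRep.Rep.pi_eq_zero' h hx R hw).mp e with e | e
    · exact hw1 e
    · exact hwx e
  -- it is enough to find an element of the orbit
  by_contra hcon
  have hS : ∀ g : X, g • R.pi y ≠ R.pi w := fun g hg => hcon (col_of_smul h hx R hy hw hg)
  have hy0 : R.pi y ≠ 0 := OddRep.Rep.pi_line_ne_zero h hx R hy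
  -- the module has at most four elements
  have hM : Finite M := R.finite_left
  have hM4 : ∀ m : M, m = 0 ∨ m = R.pi y ∨ m = R.pi w ∨ m = R.pi y + R.pi w := by
    have hyw : R.pi y ≠ R.pi w := by simpa using hS 1
    have hcard : Nat.card M = 4 := by
      let f : ws V x →* Multiplicative M :=
        { toFun := fun a => Multiplicative.ofAdd (R.pi a)
          map_one' := by rw [OneMemClass.coe_one, R.pi_one]; rfl
          map_mul' := fun a b => by
            rw [Subgroup.coe_mul, R.pi_mul a a.2 b b.2]; rfl }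
      have hfs : Function.Surjective f := by
        intro m
        obtain ⟨a, ha, e⟩ := R.pi_surj m.toAdd
        exact ⟨⟨a, ha⟩, congrArg Multiplicative.ofAdd e⟩
      have hk : Nat.card f.ker = 2 := by
        have hz2 : Nat.card (zpowers x) = 2 := by
          rw [Nat.card_zpowers, orderOf_eq_prime (p := 2) (hp := ⟨Nat.prime_two⟩)]
          · rw [pow_two]; exact OddBase.Pt.sq h.toGeo hx
          · exact OddBase.Pt.ne_one h.toGeo hx
        rw [← hz2]
        have hzw : zpowers x ≤ ws V x := zpowers_le.mpr (self_mem_ws h.toGeo hx)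
        exact Nat.card_congr
          { toFun := fun a => ⟨a.1.1, (R.pi_eq_zero a.1.1 a.1.2).mp (congrArg Multiplicative.toAdd a.2)⟩
            invFun := fun a => ⟨⟨a.1, hzw a.2⟩,
              congrArg Multiplicative.ofAdd ((R.pi_eq_zero a.1 (hzw a.2)).mpr a.2)⟩
            left_inv := fun a => rfl
            right_inv := fun a => rfl }
      have h2 := f.ker.card_mul_index
      rw [Subgroup.index_ker, MonoidHom.range_eq_top.mpr hfs, hk, h8, Subgroup.card_top] at h2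
      have h3 : Nat.card (Multiplicative M) = Nat.card M := Nat.card_congr Multiplicative.toAdd
      rw [h3] at h2
      omega
    have hyw0 : R.pi y + R.pi w ≠ 0 := fun e => hyw (by
      have := OddRep.Rep.neg_eq h hx R (R.pi w)
      rw [← this]; exact eq_neg_of_add_eq_zero_left e)
    have hyw1 : R.pi y + R.pi w ≠ R.pi y := fun e => hwM (left_eq_add.mp e.symm)
    have hyw2 : R.pi y + R.pi w ≠ R.pi w := fun e => hy0 (add_eq_right.mp e)
    have h4 : Set.ncard ({0, R.pi y, R.pi w, R.pi y + R.pi w} : Set M) = 4 := by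
      classical
      rw [Set.ncard_insert_of_notMem, Set.ncard_insert_of_notMem, Set.ncard_insert_of_notMem,
        Set.ncard_singleton]
      · simpa using Ne.symm hyw2
      · simp only [Set.mem_insert_iff, Set.mem_singleton_iff, not_or]
        exact ⟨hyw, Ne.symm hyw1⟩
      · simp only [Set.mem_insert_iff, Set.mem_singleton_iff, not_or]
        exact ⟨Ne.symm hy0, Ne.symm hwM, Ne.symm hyw0⟩
    have h5 : ({0, R.pi y, R.pi w, R.pi y + R.pi w} : Set M) = Set.univ := by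
      refine Set.eq_of_subset_of_ncard_le (Set.subset_univ _) ?_ (Set.finite_univ)
      rw [h4, Set.ncard_univ, hcard]
    intro m
    have : m ∈ ({0, R.pi y, R.pi w, R.pi y + R.pi w} : Set M) := by rw [h5]; trivial
    simpa only [_root_.Set.mem_insert_iff, _root_.Set.mem_singleton_iff] using this
  -- the orbit is contained in `{y, y + w}`
  have horb : ∀ g : X, g • R.pi y = R.pi y ∨ g • R.pi y = R.pi y + R.pi w := by
    intro g
    rcases hM4 (g • R.pi y) with e | e | e | e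
    · exact absurd ((smul_eq_zero_iff_eq g).mp e) hy0
    · exact Or.inl e
    · exact absurd e (hS g)
    · exact Or.inr e
  have horb2 : ∀ g : X, g • (R.pi y + R.pi w) = R.pi y ∨ g • (R.pi y + R.pi w) = R.pi y + R.pi w := by
    intro g
    by_cases hex : ∃ k : X, k • R.pi y = R.pi y + R.pi w
    · obtain ⟨k, hk⟩ := hex
      rw [← hk, ← mul_smul]
      rcases horb (g * k) with e | e
      · exact Or.inl e
      · exact Or.inr (e.trans hk.symm)
    · push Not at hex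
      exfalso
      have h1 : ∀ g : X, g • R.pi y = R.pi y := fun g => (horb g).resolve_right (hex g)
      have h2 := OddRep.Rep.eq_top_of_line h hx R hy (AddSubgroup.zmultiples (R.pi y)) (fun g => by
        rw [h1 g]; exact AddSubgroup.mem_zmultiples _)
      have h3 : R.pi w ∈ AddSubgroup.zmultiples (R.pi y) := by rw [h2]; trivial
      obtain ⟨n, hn⟩ := AddSubgroup.mem_zmultiples_iff.mp h3
      have h4 : (2 : ℤ) • R.pi y = 0 := by rw [two_zsmul]; exact two _
      rcases Int.even_or_odd' n with ⟨k, rfl | rfl⟩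
      · rw [mul_comm, mul_zsmul, h4, zsmul_zero] at hn
        exact hwM hn.symm
      · rw [add_zsmul, mul_comm, mul_zsmul, h4, zsmul_zero, zero_add, one_zsmul] at hn
        have := hS 1
        rw [one_smul] at this
        exact this hn
  have hw' : ∀ g : X, g • R.pi w = R.pi w := by
    intro g
    have e : R.pi w = R.pi y + (R.pi y + R.pi w) := by rw [← add_assoc, two, zero_add]
    have e2 : g • R.pi w = g • R.pi y + g • (R.pi y + R.pi w) := by
      rw [← smul_add, ← e]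
    have hyw0 : R.pi w ≠ 0 := hwM
    rcases horb g with e3 | e3 <;> rcases horb2 g with e4 | e4 <;> rw [e3, e4] at e2
    · rw [two] at e2
      exact absurd ((smul_eq_zero_iff_eq g).mp e2) hwM
    · rw [← e] at e2; exact e2
    · rw [add_comm, ← e] at e2; exact e2
    · rw [two] at e2
      exact absurd ((smul_eq_zero_iff_eq g).mp e2) hwM
  -- `X` has exponent two
  have hsq : ∀ g : X, g * g = 1 := by
    intro g
    apply R.faithful
    intro m
    have h1 : ∀ m, m = R.pi y ∨ m = R.pi w → (g * g) • m = m := by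
      rintro m (rfl | rfl)
      · rw [mul_smul]
        rcases horb g with e | e
        · rw [e, e]
        · rw [e, smul_add, e, hw' g, add_assoc, two, add_zero]
      · rw [mul_smul, hw', hw']
    rcases hM4 m with rfl | rfl | rfl | rfl
    · exact smul_zero _
    · exact h1 _ (Or.inl rfl)
    · exact h1 _ (Or.inr rfl)
    · rw [smul_add, h1 _ (Or.inl rfl), h1 _ (Or.inr rfl)]
  have htop : (⊤ : Subgroup X) = ⊥ := by
    refine OddRep.Rep.o2_eq_bot h hx R (N := ⊤) inferInstance ?_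
    intro g
    refine ⟨1, ?_⟩
    apply Subtype.ext
    have := hsq g.1
    simpa only [pow_two, _root_.pow_one, _root_.Subgroup.coe_mul, _root_.OneMemClass.coe_one] using this
  have htriv : ∀ g : X, g = 1 := fun g => by
    have : g ∈ (⊤ : Subgroup X) := trivial
    rw [htop] at this
    exact this
  have h2 := OddRep.Rep.eq_top_of_line h hx R hy (AddSubgroup.zmultiples (R.pi y)) (fun g => by
    rw [htriv g, one_smul]; exact AddSubgroup.mem_zmultiples _)
  have h3 : R.pi w ∈ AddSubgroup.zmultiples (R.pi y) := by rw [h2]; trivial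
  obtain ⟨n, hn⟩ := AddSubgroup.mem_zmultiples_iff.mp h3
  have h4 : (2 : ℤ) • R.pi y = 0 := by rw [two_zsmul]; exact two _
  rcases Int.even_or_odd' n with ⟨k, rfl | rfl⟩
  · rw [mul_comm, mul_zsmul, h4, zsmul_zero] at hn
    exact hwM hn.symm
  · rw [add_zsmul, mul_comm, mul_zsmul, h4, zsmul_zero, zero_add, one_zsmul] at hn
    have := hS 1
    rw [one_smul] at this
    exact this hn

/-- `|ws V z| = 8` is impossible for `n ≥ 3` -/
theorem le_two_of_card_eight {n : ℕ} (h : OddN T V z n) (h8 : Nat.card (ws V z) = 8) : n ≤ 2 := by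
  by_contra hn
  push Not at hn
  obtain ⟨x, y, hc'⟩ := h.crit
  have hc : Crit V z n x y := hc'
  obtain ⟨hx, hxy, a, ha, b, hb, hab⟩ := hc'
  have hy := OddBase.Crit.pt' h.toGeo hc
  have h8' : ∀ {x : G}, Pt z x → Nat.card (ws V x) = 8 := by
    rintro _ ⟨g, rfl⟩
    rw [← cj_ws, card_cj, h8]
  have hm := hc.comm_mem h ha hb
  set c := a * b * a⁻¹ * b⁻¹ with hcdef
  have hc1 : c ≠ 1 := fun e => hab (by
    calc a * b = (a * b * a⁻¹ * b⁻¹) * (b * a) := by group
      _ = b * a := by rw [← hcdef, e, one_mul])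
  have key : ∀ {x : G}, Pt z x → c ∈ ws V x → Walk V 1 x c := by
    intro x hx hcx
    by_cases hxc : c = x
    · rw [hxc]; exact Walk.refl V 1 x
    · exact (col_of_card_eight h.toOdd hx (h8' hx) hcx hc1 hxc).walk
  have h1 := (key hx hm.1).trans (key hy hm.2).symm
  exact hc.not_walk h (m := 1 + 1) (by omega) h1

end Cfsg.Agent.MinSimple.OddSmall
end

-- part: MinSimple/OddOne
section
/-!
# (E1)(b), `n = 1`, `k = 1`

`One T V z`: `ws V y` induces a group of order two on `ws V x / ⟨x⟩` for all distinct collinear points `x`, `y`.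
Facts on this involution `a`: it depends only on the vector `π y`; either `a` is a transvection or
`[M, a] = {0, π y, m₀, π y + m₀}` has order four.
-/

set_option autoImplicit false
set_option linter.unusedSectionVars false

namespace Cfsg.Agent.MinSimple.OddOne

open Subgroup Cfsg Cfsg.Agent.ZN Cfsg.Agent.MinSimple.Geo Cfsg.Agent.MinSimple.BTwoA
  Cfsg.Agent.MinSimple.OddLine Cfsg.Agent.MinSimple.OddBase Cfsg.Agent.MinSimple.SecRep
  Cfsg.Agent.MinSimple.OddRep
open Cfsg.Agent.ZN.Block (conj_mem_of_normalizer conj_mem_of_normalizer' le_normalizer_of_forall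
  mem_normalizer_of)

universe u

variable {G : Type u} [Group G]

/-- `n = 1`, `k = 1` -/
structure One (T V : Subgroup G) (z : G) : Prop extends Odd T V z where
  k1 : ∀ x y, Pt z x → Col V x y → (kq V x).relIndex (ws V y) = 2

variable [Finite G] {T V : Subgroup G} {z x y : G}

theorem One.conj (h : One T V z) (g : G) : One (cj g T) (cj g V) (g * z * g⁻¹) where
  toOdd := h.toOdd.conj g
  k1 := by
    intro x y hx hc
    rw [kq_cj_left, ws_cj]
    rw [col_cj_left] at hc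
    exact h.k1 x y (Pt.trans ⟨g, rfl⟩ hx) hc

/-- `ws V y` centralizes `x` -/
theorem ws_le_cent (h : _root_.Cfsg.Agent.MinSimple.OddLine.Odd T V z) (hc : Col V x y) : ws V y ≤ centralizer ({x} : Set G) := by
  intro b hb
  rw [mem_centralizer_singleton_iff]
  exact OddBase.ws_comm h (hc.pt h.toGeo) hb hc.symm.mem_ws

theorem ws_le_norm (h : _root_.Cfsg.Agent.MinSimple.OddLine.Odd T V z) (hc : Col V x y) : ws V y ≤ normalizer ((ws V x : Subgroup G) : Set G) :=
  (ws_le_cent h hc).trans (Geo.centralizer_le_normalizer_ws V x)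

/-- commutators of `ws V x` and `ws V y` -/
theorem comm_mem (h : _root_.Cfsg.Agent.MinSimple.OddLine.Odd T V z) (hc : Col V x y) {a b : G} (ha : a ∈ ws V x) (hb : b ∈ ws V y) :
    b * a * b⁻¹ * a⁻¹ ∈ ws V x ⊓ ws V y := by
  have ha' : a⁻¹ ∈ ws V x := inv_mem ha
  have hb' : b⁻¹ ∈ ws V y := inv_mem hb
  refine ⟨mul_mem (conj_mem_of_normalizer (ws_le_norm h hc) hb ha) ha', ?_⟩
  have e : b * a * b⁻¹ * a⁻¹ = b * (a * b⁻¹ * a⁻¹) := by group
  rw [e]
  exact mul_mem hb (conj_mem_of_normalizer (ws_le_norm h hc.symm) ha hb')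

namespace One

theorem exists_not_mem (h : One T V z) (hc : Col V x y) : ∃ b ∈ ws V y, b ∉ kq V x := by
  by_contra hcon
  push Not at hcon
  have h1 : (kq V x).relIndex (ws V y) = 1 := by
    rw [relIndex_eq_one]; exact hcon
  rw [h.k1 x y (hc.pt_left h.toGeo) hc] at h1
  norm_num at h1

theorem mul_mem_kq (h : One T V z) (hc : Col V x y) {b b' : G} (hb : b ∈ ws V y) (hb' : b' ∈ ws V y)
    (hn : b ∉ kq V x) (hn' : b' ∉ kq V x) : b * b' ∈ kq V x := by
  have h2 := h.k1 x y (hc.pt_left h.toGeo) hc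
  rw [relIndex] at h2
  have := (Subgroup.mul_mem_iff_of_index_two h2 (a := ⟨b, hb⟩) (b := ⟨b', hb'⟩))
  rw [mem_subgroupOf, mem_subgroupOf, mem_subgroupOf] at this
  exact this.mpr ⟨fun h => absurd h hn, fun h => absurd h hn'⟩

variable {M X : Type u} [AddCommGroup M] [Group X] [DistribMulAction X M]

/-- all elements of `ws V y ∖ kq V x` induce the same automorphism -/
theorem rho_eq (h : One T V z) (R : _root_.Cfsg.Agent.MinSimple.OddRep.Rep V x M X) (hc : Col V x y) {b b' : G} (hb : b ∈ ws V y)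
    (hb' : b' ∈ ws V y) (hn : b ∉ kq V x) (hn' : b' ∉ kq V x) : R.rho b = R.rho b' := by
  have hy := hc.pt h.toGeo
  rw [OddRep.Rep.rho_eq_rho R (ws_le_cent h.toOdd hc hb) (ws_le_cent h.toOdd hc hb'),
    OddBase.ws_inv h.toOdd hy hb']
  exact h.mul_mem_kq hc hb hb' hn hn'

theorem rho_sq (h : One T V z) (R : _root_.Cfsg.Agent.MinSimple.OddRep.Rep V x M X) (hc : Col V x y) {b : G} (hb : b ∈ ws V y) :
    R.rho b * R.rho b = 1 := by
  have hbc := ws_le_cent h.toOdd hc hb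
  rw [← R.rho_mul b hbc b hbc, OddBase.ws_sq h.toOdd (hc.pt h.toGeo) hb, R.rho_one]

/-- the action of `b ∈ ws V y` on `π w` -/
theorem smul_add (h : One T V z) (R : _root_.Cfsg.Agent.MinSimple.OddRep.Rep V x M X) (hc : Col V x y) {b w : G} (hb : b ∈ ws V y)
    (hw : w ∈ ws V x) : R.rho b • R.pi w + R.pi w = R.pi (b * w * b⁻¹ * w⁻¹) := by
  have hx := hc.pt_left h.toGeo
  have hbc := ws_le_cent h.toOdd hc hb
  rw [R.smul_pi b hbc w hw, OddBase.ws_inv h.toOdd hx hw, R.pi_mul _ (R.conj_mem hbc hw) _ hw]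

/-- the involution depends only on the vector `π y` -/
theorem rho_eq_of_pi_eq (h : One T V z) (R : _root_.Cfsg.Agent.MinSimple.OddRep.Rep V x M X) {y' : G} (hc : Col V x y) (hc' : Col V x y')
    (hpi : R.pi y = R.pi y') {b b' : G} (hb : b ∈ ws V y) (hb' : b' ∈ ws V y') (hn : b ∉ kq V x)
    (hn' : b' ∉ kq V x) : R.rho b = R.rho b' := by
  have hx := hc.pt_left h.toGeo
  rcases (OddRep.Rep.pi_eq_pi h.toOdd hx R hc.mem_ws hc'.mem_ws).mp hpi with rfl | e
  · exact h.rho_eq R hc hb hb' hn hn'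
  · -- an element of `kq V x` moves `y` to `x * y`
    obtain ⟨g, hg, ho⟩ := exists_odd h.toOdd hx
    obtain ⟨_, _, hxy', L, hL, hyL⟩ := id hc'
    rw [← lines_cj V g] at hL
    obtain ⟨T', h1⟩ := ho.line' hL
    obtain ⟨t, ht, ht2⟩ := h1.exists_swap
    have hLV : L ∈ lines V x := by rwa [lines_cj] at hL
    have htk : t ∈ kq V x := by
      obtain ⟨⟨k, rfl⟩, _⟩ := hLV
      have := ht.2
      rwa [kq_cj_left] at this
    have h2 := ht2 y' hyL hc'.2.1 (Ne.symm hxy')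
    have h3 : t * b' * t⁻¹ ∈ ws V y := by
      have : t * b' * t⁻¹ ∈ cj t (ws V y') := conj_mem_cj hb'
      rw [cj_ws, h2, ← e] at this
      exact this
    have htc := BTwoB.kq_le V x htk
    have h4 : t * b' * t⁻¹ ∉ kq V x := by
      intro h5
      apply hn'
      have h6 := mul_mem (mul_mem (inv_mem htk) h5) htk
      have e6 : t⁻¹ * (t * b' * t⁻¹) * t = b' := by group
      rwa [e6] at h6
    rw [h.rho_eq R hc hb h3 hn h4, R.rho_conj htc (ws_le_cent h.toOdd hc' hb'),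
      (OddRep.Rep.rho_eq_one R htc).mpr htk, one_mul, inv_one, mul_one]

/-- equivariance -/
theorem rho_conj_eq (h : One T V z) (R : _root_.Cfsg.Agent.MinSimple.OddRep.Rep V x M X) {y' : G} (hc : Col V x y) (hc' : Col V x y') {g : X}
    (hg : g • R.pi y = R.pi y') {b b' : G} (hb : b ∈ ws V y) (hb' : b' ∈ ws V y') (hn : b ∉ kq V x)
    (hn' : b' ∉ kq V x) : g * R.rho b * g⁻¹ = R.rho b' := by
  obtain ⟨c, hcc, rfl⟩ := R.rho_surj g
  have hbc := ws_le_cent h.toOdd hc hb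
  rw [← R.rho_conj hcc hbc]
  rw [R.smul_pi c hcc y hc.mem_ws] at hg
  have hcx : c * x * c⁻¹ = x := by
    rw [mem_centralizer_singleton_iff.mp hcc]; group
  have hcol : Col V x (c * y * c⁻¹) := by
    have := hc.conj c
    rwa [hcx] at this
  refine h.rho_eq_of_pi_eq R hcol hc' hg ?_ hb' ?_ hn'
  · have : c * b * c⁻¹ ∈ cj c (ws V y) := conj_mem_cj hb
    rwa [cj_ws] at this
  · intro h5
    apply hn
    have h6 := conj_mem_of_normalizer' (BTwoB.centralizer_le_normalizer_kq V x) hcc h5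
    have e6 : c⁻¹ * (c * b * c⁻¹) * c = b := by group
    rwa [e6] at h6

/-- the centralizer of the vector `π y` centralizes the involution -/
theorem rho_comm (h : One T V z) (R : _root_.Cfsg.Agent.MinSimple.OddRep.Rep V x M X) (hc : Col V x y) {g : X} (hg : g • R.pi y = R.pi y)
    {b : G} (hb : b ∈ ws V y) (hn : b ∉ kq V x) : g * R.rho b = R.rho b * g := by
  have := h.rho_conj_eq R hc hc hg hb hb hn hn
  exact mul_inv_eq_iff_eq_mul.mp this

theorem smul_add_of_mem (h : One T V z) (R : _root_.Cfsg.Agent.MinSimple.OddRep.Rep V x M X) (hc : Col V x y) {b w : G} (hb : b ∈ ws V y)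
    (hw : w ∈ ws V x) (hwk : w ∈ kq V y) :
    R.rho b • R.pi w + R.pi w = 0 ∨ R.rho b • R.pi w + R.pi w = R.pi y := by
  have hy := hc.pt h.toGeo
  rw [h.smul_add R hc hb hw]
  have h1 := inv_mem (hwk.2.1 b hb)
  have e : (w * b * w⁻¹ * b⁻¹)⁻¹ = b * w * b⁻¹ * w⁻¹ := by group
  rw [e, mem_zpowers_iff_of_mul_self (OddBase.Pt.sq h.toGeo hy)] at h1
  rcases h1 with e1 | e1
  · left; rw [e1, R.pi_one]
  · right; rw [e1]

/-- the dichotomy: `a` is a transvection or `[M, a] = {0, π y, m₀, π y + m₀}` has order four -/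
theorem cases (h : One T V z) (R : _root_.Cfsg.Agent.MinSimple.OddRep.Rep V x M X) (hc : Col V x y) {b : G} (hb : b ∈ ws V y) :
    (∃ n : M, ∀ m : M, R.rho b • m = m ∨ R.rho b • m = m + n) ∨
    ∃ m₀ : M, m₀ ≠ 0 ∧ m₀ ≠ R.pi y ∧
      (∀ m : M, R.rho b • m + m = 0 ∨ R.rho b • m + m = R.pi y ∨ R.rho b • m + m = m₀ ∨
        R.rho b • m + m = m₀ + R.pi y) ∧
      (∃ m, R.rho b • m + m = R.pi y) ∧ ∃ m, R.rho b • m + m = m₀ := by
  have hx := hc.pt_left h.toGeo
  have two := OddRep.Rep.two h.toOdd hx R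
  obtain ⟨w0, hw0, hw0n⟩ := h.exists_not_mem hc.symm
  set m0 := R.rho b • R.pi w0 + R.pi w0 with hm0
  have key : ∀ m : M, R.rho b • m + m = 0 ∨ R.rho b • m + m = R.pi y ∨ R.rho b • m + m = m0 ∨
      R.rho b • m + m = m0 + R.pi y := by
    intro m
    obtain ⟨w, hw, rfl⟩ := R.pi_surj m
    by_cases hwk : w ∈ kq V y
    · rcases h.smul_add_of_mem R hc hb hw hwk with e | e
      · exact Or.inl e
      · exact Or.inr (Or.inl e)
    · have h1 := h.mul_mem_kq hc.symm hw hw0 hwk hw0n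
      have h2 := h.smul_add_of_mem R hc hb (mul_mem hw hw0) h1
      rw [R.pi_mul w hw w0 hw0] at h2
      have e3 : R.rho b • R.pi w + R.pi w = R.rho b • (R.pi w + R.pi w0) + (R.pi w + R.pi w0) + m0 := by
        rw [hm0, _root_.smul_add]
        have e4 := two (R.rho b • R.pi w0)
        have e5 := two (R.pi w0)
        calc R.rho b • R.pi w + R.pi w = R.rho b • R.pi w + R.pi w + (R.rho b • R.pi w0 + R.rho b • R.pi w0)
              + (R.pi w0 + R.pi w0) := by rw [e4, e5, add_zero, add_zero]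
          _ = _ := by abel
      rcases h2 with e | e
      · right; right; left; rw [e3, e, zero_add]
      · right; right; right; rw [e3, e, add_comm]
  have toTv : ∀ {n m : M}, R.rho b • m + m = n → R.rho b • m = m + n := by
    intro n m e
    rw [← e, add_comm (R.rho b • m) m, ← add_assoc, two, zero_add]
  have toTv0 : ∀ {m : M}, R.rho b • m + m = 0 → R.rho b • m = m := by
    intro m e
    rw [toTv e, add_zero]
  by_cases h0 : m0 = 0 ∨ m0 = R.pi y
  · left
    refine ⟨R.pi y, fun m => ?_⟩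
    rcases key m with e | e | e | e
    · exact Or.inl (toTv0 e)
    · exact Or.inr (toTv e)
    · rcases h0 with e0 | e0
      · exact Or.inl (toTv0 (e.trans e0))
      · exact Or.inr (toTv (e.trans e0))
    · rcases h0 with e0 | e0
      · rw [e0, zero_add] at e; exact Or.inr (toTv e)
      · rw [e0, two] at e; exact Or.inl (toTv0 e)
  · push Not at h0
    by_cases h1 : ∃ m, R.rho b • m + m = R.pi y
    · exact Or.inr ⟨m0, h0.1, h0.2, key, h1, _, rfl⟩
    · left
      refine ⟨m0, fun m => ?_⟩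
      rcases key m with e | e | e | e
      · exact Or.inl (toTv0 e)
      · exact absurd ⟨m, e⟩ h1
      · exact Or.inr (toTv e)
      · exfalso
        apply h1
        refine ⟨m + R.pi w0, ?_⟩
        have e2 : R.rho b • (m + R.pi w0) + (m + R.pi w0) = (R.rho b • m + m) + m0 := by
          rw [_root_.smul_add, hm0]; abel
        rw [e2, e, add_comm m0, add_assoc, two, add_zero]

end One

end Cfsg.Agent.MinSimple.OddOne
end
end

-- part: MinSimple/OddTwoRep
section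
prune_inst 0x2404032200000000000020001c5292000002004c0001c140020006808c4100000820b020021200008204203c006002dc00004000000000000200411801a0000262829248a000000000008800000000000000000000000000000000000000000000000
set_option linter.all false
open scoped Cfsg.Agent.FastGrp

-- part: MinSimple/OddTwoDefs
section
/-!
# (E1)(b), `s = 2`: transvections on elementary abelian 2-groups, definitions
-/

set_option autoImplicit false

namespace Cfsg.Agent.MinSimple.OddTwoDefs

variable {M : Type*} [Group M]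

/-- the fixed points of a group of automorphisms -/
def fix (A : Subgroup (MulAut M)) : Subgroup M where
  carrier := {m | ∀ a ∈ A, a m = m}
  mul_mem' := by
    intro x y hx hy a ha
    rw [map_mul, hx a ha, hy a ha]
  one_mem' := fun a _ => map_one a
  inv_mem' := by
    intro x hx a ha
    rw [map_inv, hx a ha]

theorem mem_fix {A : Subgroup (MulAut M)} {m : M} : m ∈ fix A ↔ ∀ a ∈ A, a m = m := Iff.rfl

/-- `b` is a transvection with centre `r` -/
def Tv (b : MulAut M) (r : M) : Prop := (∀ m, b m = m ∨ b m = m * r) ∧ b r = r ∧ ∃ m, b m ≠ m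

theorem comm_of_sq (hsq : ∀ x : M, x * x = 1) (x y : M) : x * y = y * x := by
  have h1 := hsq (x * y)
  have hx := hsq x
  have hy := hsq y
  calc x * y = (y * y) * (x * y) * (x * x) := by rw [hy, hx]; simp
    _ = y * (y * x * (y * x)) * x := by group
    _ = y * x := by rw [hsq (y * x), mul_one]

theorem inv_of_sq (hsq : ∀ x : M, x * x = 1) (x : M) : x⁻¹ = x := inv_eq_of_mul_eq_one_left (hsq x)

end Cfsg.Agent.MinSimple.OddTwoDefs
end

-- part: MinSimple/OddTwoMod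
section
/-!
# (E1)(b), `s = 2`: transvections in solvable groups with `O₂ = 1`

`M` is a finite elementary abelian 2-group, `J ≤ Aut M` solvable with `O₂(J) = 1`, `P = O₃(J)`.
-/

set_option autoImplicit false

namespace Cfsg.Agent.MinSimple.OddTwoMod

open Subgroup Cfsg Cfsg.Agent.MinSimple.OddTwoDefs

variable {M : Type*} [Group M]

/-! ### elementary properties of transvections -/

theorem mul_mul_self (hsq : ∀ x : M, x * x = 1) (a b : M) : a * b * b = a := by
  rw [mul_assoc, hsq, mul_one]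

section Tv

variable {b : MulAut M} {r : M}

theorem tv_ne (h : Tv b r) : r ≠ 1 := by
  rintro rfl
  obtain ⟨h1, _, m, hm⟩ := h
  rcases h1 m with e | e
  · exact hm e
  · exact hm (by rw [e, mul_one])

theorem tv_apply_apply (hsq : ∀ x : M, x * x = 1) (h : Tv b r) (m : M) : b (b m) = m := by
  rcases h.1 m with e | e
  · rw [e, e]
  · rw [e, map_mul, e, h.2.1, mul_mul_self hsq]

theorem tv_mul_self (hsq : ∀ x : M, x * x = 1) (h : Tv b r) : b * b = 1 := by
  ext m
  exact tv_apply_apply hsq h m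

theorem tv_inv (hsq : ∀ x : M, x * x = 1) (h : Tv b r) : b⁻¹ = b :=
  inv_eq_of_mul_eq_one_left (tv_mul_self hsq h)

theorem tv_conj (h : Tv b r) (g : MulAut M) : Tv (g * b * g⁻¹) (g r) := by
  obtain ⟨h1, h2, m, hm⟩ := h
  refine ⟨fun m => ?_, ?_, g m, ?_⟩
  · rcases h1 (g⁻¹ m) with e | e
    · left
      change g (b (g⁻¹ m)) = m
      rw [e]; exact MulAut.apply_inv_self M g m
    · right
      change g (b (g⁻¹ m)) = m * g r
      rw [e, map_mul]
      congr 1
      exact MulAut.apply_inv_self M g m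
  · change g (b (g⁻¹ (g r))) = g r
    rw [MulAut.inv_apply_self, h2]
  · change g (b (g⁻¹ (g m))) ≠ g m
    rw [MulAut.inv_apply_self]
    exact fun e => hm (g.injective e)

/-- the centre is determined by the transvection -/
theorem tv_center (h : Tv b r) {s : M} (hs : Tv b s) : r = s := by
  obtain ⟨h1, _, m, hm⟩ := h
  have e1 := (h1 m).resolve_left hm
  have e2 := (hs.1 m).resolve_left hm
  rw [e1] at e2
  exact mul_left_cancel e2

/-- a moved element is moved by the centre -/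
theorem tv_move (h : Tv b r) {m : M} (hm : b m ≠ m) : b m = m * r := (h.1 m).resolve_left hm

/-- an automorphism commuting with a transvection fixes the centre -/
theorem tv_fix_of_comm (h : Tv b r) {g : MulAut M} (hg : g * b * g⁻¹ = b) : g r = r := by
  have h1 := tv_conj h g
  rw [hg] at h1
  exact (tv_center h h1).symm

theorem tv_ne_one (h : Tv b r) : b ≠ 1 := by
  rintro rfl
  obtain ⟨_, _, m, hm⟩ := h
  exact hm rfl

end Tv

/-! ### elements of order 3 of rank 2 -/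

/-- `x` has order 3, and `[M, x] = {1, r, x r, r * x r}` -/
structure RTwo (x : MulAut M) (r : M) : Prop where
  cube : x * x * x = 1
  move : x r ≠ r
  ne : r ≠ 1
  sum : x (x r) = r * x r
  comm : ∀ m, x m = m ∨ x m = m * r ∨ x m = m * x r ∨ x m = m * (r * x r)

namespace RTwo

variable {x : MulAut M} {r : M}

theorem apply3 (h : RTwo x r) (m : M) : x (x (x m)) = m := by
  have := congrArg (fun f : MulAut M => f m) h.cube
  exact this

theorem inv_apply (h : RTwo x r) (m : M) : x⁻¹ m = x (x m) := by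
  have h1 := h.apply3 m
  calc x⁻¹ m = x⁻¹ (x (x (x m))) := by rw [h1]
    _ = x (x m) := MulAut.inv_apply_self M x _

theorem inv_eq (h : RTwo x r) : x⁻¹ = x * x := by
  ext m; exact h.inv_apply m

/-- shift the base point -/
theorem next (h : RTwo x r) (hsq : ∀ x : M, x * x = 1) : RTwo x (x r) where
  cube := h.cube
  move := fun e => h.move (x.injective e)
  ne := fun e => h.ne (x.injective (by rw [e, map_one]))
  sum := by
    rw [h.apply3, h.sum, comm_of_sq hsq (x r), mul_mul_self hsq]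
  comm := by
    intro m
    rw [h.sum]
    have e : x r * (r * x r) = r := by
      rw [comm_of_sq hsq (x r), mul_mul_self hsq]
    rw [e]
    rcases h.comm m with e | e | e | e
    · exact Or.inl e
    · exact Or.inr (Or.inr (Or.inr e))
    · exact Or.inr (Or.inl e)
    · exact Or.inr (Or.inr (Or.inl e))

theorem inv (h : RTwo x r) (hsq : ∀ x : M, x * x = 1) : RTwo x⁻¹ r where
  cube := by
    rw [h.inv_eq]
    ext m
    change x (x (x (x (x (x m))))) = m
    rw [h.apply3, h.apply3]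
  move := by
    rw [h.inv_apply, h.sum]
    intro e
    exact h.move (by
      have : x r = 1 := by
        have h2 : r * x r = r * 1 := by rw [e, mul_one]
        exact mul_left_cancel h2
      exact absurd (x.injective (by rw [this, map_one])) h.ne)
  ne := h.ne
  sum := by
    rw [h.inv_apply, h.inv_apply, h.apply3, h.sum, ← mul_assoc, hsq, one_mul]
  comm := by
    intro m
    rw [h.inv_apply, h.inv_apply, h.sum]
    have e0 : r * (r * x r) = x r := by rw [← mul_assoc, hsq, one_mul]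
    rw [e0]
    rcases h.comm m with e | e | e | e
    · left; rw [e, e]
    · right; right; left
      rw [e, map_mul, e, mul_assoc]
    · right; left
      rw [e, map_mul, e, h.sum, mul_assoc]
      congr 1
      rw [comm_of_sq hsq r, ← mul_assoc, hsq, one_mul]
    · right; right; right
      rw [e, map_mul, map_mul, e, h.sum]
      have : m * (r * x r) * (x r * (r * x r)) = m * (r * (x r * x r) * (r * x r)) := by group
      rw [this, hsq, mul_one, ← mul_assoc r r, hsq, one_mul]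

theorem conj (h : RTwo x r) (g : MulAut M) : RTwo (g * x * g⁻¹) (g r) where
  cube := by
    have : g * x * g⁻¹ * (g * x * g⁻¹) * (g * x * g⁻¹) = g * (x * x * x) * g⁻¹ := by group
    rw [this, h.cube]; group
  move := by
    change g (x (g⁻¹ (g r))) ≠ g r
    rw [MulAut.inv_apply_self]
    exact fun e => h.move (g.injective e)
  ne := fun e => h.ne (g.injective (by rw [e, map_one]))
  sum := by
    change g (x (g⁻¹ (g (x (g⁻¹ (g r)))))) = g r * g (x (g⁻¹ (g r)))
    rw [MulAut.inv_apply_self, MulAut.inv_apply_self, h.sum, map_mul]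
  comm := by
    intro m
    have e0 : (g * x * g⁻¹) (g r) = g (x r) := by
      change g (x (g⁻¹ (g r))) = g (x r)
      rw [MulAut.inv_apply_self]
    rw [e0, ← map_mul]
    have e1 : (g * x * g⁻¹) m = g (x (g⁻¹ m)) := rfl
    rw [e1]
    have e2 : ∀ n : M, g (g⁻¹ m * n) = m * g n := by
      intro n
      rw [map_mul, MulAut.apply_inv_self]
    rcases h.comm (g⁻¹ m) with e | e | e | e <;> rw [e]
    · left; exact MulAut.apply_inv_self M g m
    · right; left; exact e2 _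
    · right; right; left; exact e2 _
    · right; right; right; exact e2 _

end RTwo

/-! ### (A) the element of order 3 -/

/-- `x = σ τ` for two transvections `σ`, `τ` with centres `s = y r`, `r`, generating no 2-group. -/
theorem rtwo_of_tv (hsq : ∀ x : M, x * x = 1) {τ σ : MulAut M} {r s : M} (hτ : Tv τ r) (hσ : Tv σ s)
    (hodd : ∀ m : M, σ (τ (σ (τ m))) = m → σ (τ m) = m) (hne : ∃ m, σ (τ m) ≠ m) :
    RTwo (σ * τ) r ∧ (σ * τ) r = r * s ∧ τ s = s * r ∧ σ r = r * s := by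
  have hr := tv_ne hτ
  have hs := tv_ne hσ
  have hσr : σ r = r * s := by
    by_contra hcon
    have h1 : σ r = r := (hσ.1 r).resolve_right hcon
    by_cases h2 : τ s = s
    · -- commuting case
      obtain ⟨m, hm⟩ := hne
      apply hm
      apply hodd
      rcases hτ.1 m with e | e
      · rcases hσ.1 m with e' | e'
        · rw [e, e', e, e']
        · rw [e, e', map_mul, e, h2, map_mul, e', hσ.2.1, mul_mul_self hsq]
      · rcases hσ.1 m with e' | e'
        · rw [e, map_mul, e', h1, map_mul, e, hτ.2.1, mul_mul_self hsq, e']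
        · rw [e, map_mul, e', h1, map_mul τ, map_mul τ, e, h2, hτ.2.1]
          have : m * r * s * r = m * s := by
            rw [mul_assoc m r s, comm_of_sq hsq r s, mul_assoc m, mul_assoc s, hsq, mul_one]
          rw [this, map_mul, e', hσ.2.1, mul_mul_self hsq]
    · have h3 := tv_move hτ h2
      have h4 : σ (τ s) = s := hodd s (by rw [h3, map_mul, hσ.2.1, h1, map_mul, h3, hτ.2.1,
        mul_mul_self hsq, hσ.2.1])
      rw [h3, map_mul, hσ.2.1, h1] at h4
      exact hr (by simpa using h4)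
  have hτs : τ s = s * r := by
    by_contra hcon
    have h1 : τ s = s := (hτ.1 s).resolve_right hcon
    have h4 : σ (τ r) = r := hodd r (by
      rw [hτ.2.1, hσr, map_mul, hτ.2.1, h1, map_mul, hσr, hσ.2.1, mul_mul_self hsq])
    rw [hτ.2.1, hσr] at h4
    exact hs (by simpa using h4)
  have hxr : (σ * τ) r = r * s := by
    change σ (τ r) = r * s
    rw [hτ.2.1, hσr]
  have hxs : (σ * τ) s = r := by
    change σ (τ s) = r
    rw [hτs, map_mul, hσ.2.1, hσr, comm_of_sq hsq r, ← mul_assoc, hsq, one_mul]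
  have hxxr : (σ * τ) ((σ * τ) r) = s := by
    rw [hxr, map_mul, hxr, hxs, comm_of_sq hsq r s, mul_mul_self hsq]
  have hcomm : ∀ m, (σ * τ) m = m ∨ (σ * τ) m = m * r ∨ (σ * τ) m = m * (r * s) ∨ (σ * τ) m = m * s := by
    intro m
    change σ (τ m) = m ∨ σ (τ m) = m * r ∨ σ (τ m) = m * (r * s) ∨ σ (τ m) = m * s
    rcases hτ.1 m with e | e
    · rw [e]
      rcases hσ.1 m with e' | e'
      · exact Or.inl e'
      · exact Or.inr (Or.inr (Or.inr e'))
    · rw [e]
      rcases hσ.1 (m * r) with e' | e'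
      · exact Or.inr (Or.inl e')
      · right; right; left; rw [e', mul_assoc]
  have hrs : r * (r * s) = s := by rw [← mul_assoc, hsq, one_mul]
  refine ⟨⟨?_, ?_, hr, ?_, ?_⟩, hxr, hτs, hσr⟩
  · have key : ∀ m a b c : M, (σ * τ) m = m * a → (σ * τ) a = b → (σ * τ) b = c → a * b * c = 1 →
        (σ * τ) ((σ * τ) ((σ * τ) m)) = m := by
      intro m a b c h1 h2 h3 h4
      have e2 : (σ * τ) ((σ * τ) m) = m * a * b := by rw [h1, map_mul, h1, h2]
      rw [e2, map_mul, map_mul, h1, h2, h3, mul_assoc, mul_assoc, ← mul_assoc a, h4, mul_one]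
    have hxrs : (σ * τ) (r * s) = s := by
      rw [map_mul, hxr, hxs, comm_of_sq hsq r s, mul_mul_self hsq]
    have h1 : r * (r * s) * s = 1 := by rw [hrs, hsq]
    ext m
    rcases hcomm m with e | e | e | e
    · change (σ * τ) ((σ * τ) ((σ * τ) m)) = m
      rw [e, e, e]
    · exact key m r (r * s) s e hxr hxrs h1
    · refine key m (r * s) s r e hxrs hxs ?_
      rw [mul_mul_self hsq, hsq]
    · refine key m s r (r * s) e hxs hxr ?_
      rw [mul_assoc, hrs, hsq]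
  · rw [hxr]
    intro e
    exact hs (by simpa using e)
  · rw [hxxr, hxr, hrs]
  · intro m
    rw [hxr, hrs]
    exact hcomm m

/-- the block of the transvection `τ` with centre `r` -/
structure Blk (τ : MulAut M) (r : M) (x : MulAut M) : Prop extends RTwo x r where
  tv : Tv τ r
  inv' : τ * x * τ⁻¹ = x⁻¹

/-- The properties of `P = O₃(J)` which are used. -/
structure Ctl (J P : Subgroup (MulAut M)) : Prop where
  sq : ∀ x : M, x * x = 1
  le : P ≤ J
  conj : ∀ j ∈ J, ∀ p ∈ P, j * p * j⁻¹ ∈ P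
  three : IsPGroup 3 P
  ex : ∀ τ ∈ J, ∀ r, Tv τ r → ∃ x ∈ P, Blk τ r x

theorem conj_mem_map_pCore {A : Type*} [Group A] [Finite A] (q : ℕ) (J : Subgroup A) :
    ∀ j ∈ J, ∀ p ∈ (pCore q J).map J.subtype, j * p * j⁻¹ ∈ (pCore q J).map J.subtype := by
  intro j hj p hp
  obtain ⟨p', hp', rfl⟩ := mem_map.mp hp
  have hn : (pCore q J).Normal := Lib.Cores.pCore_normal q
  exact mem_map.mpr ⟨(⟨j, hj⟩ : J) * p' * (⟨j, hj⟩ : J)⁻¹, hn.conj_mem p' hp' ⟨j, hj⟩, rfl⟩

theorem isPGroup_map_pCore {A : Type*} [Group A] [Finite A] (q : ℕ) (J : Subgroup A) :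
    IsPGroup q ((pCore q J).map J.subtype) := by
  have h : IsPGroup q (pCore q J) := Lib.Cores.pCore_isPGroup q
  exact h.map J.subtype

theorem exists_ctl [Finite M] (hsq : ∀ x : M, x * x = 1) (J : Subgroup (MulAut M)) (hJ : Group.IsSolvable J)
    (hO : ∀ N : Subgroup (MulAut M), N ≤ J → (∀ j ∈ J, ∀ n ∈ N, j * n * j⁻¹ ∈ N) → IsPGroup 2 N → N = ⊥) :
    ∃ P, Ctl J P := by
  have hfin : Finite (MulAut M) := Finite.of_injective (fun j : MulAut M => (j : M → M)) DFunLike.coe_injective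
  have hcj := fun q : ℕ => conj_mem_map_pCore q J
  have hpg := fun q : ℕ => isPGroup_map_pCore q J
  refine ⟨(pCore 3 J).map J.subtype, hsq, map_subtype_le _, hcj 3, hpg 3, ?_⟩
  intro τ hτ r htv
  have htt := tv_mul_self hsq htv
  have hτ2 : IsPGroup 2 (zpowers τ) := by
    have : orderOf τ = 2 := orderOf_eq_prime (by rw [pow_two]; exact htt) (tv_ne_one htv)
    exact IsPGroup.of_card (n := 1) (by rw [Nat.card_zpowers, this, pow_one])
  have h2bot : (pCore 2 J).map J.subtype = ⊥ := hO _ (map_subtype_le _) (hcj 2) (hpg 2)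
  -- a prime `q` such that `τ` does not centralize `O_q(J)`
  obtain ⟨q, hq, y, hy, hyτ⟩ : ∃ q : ℕ, q.Prime ∧ ∃ y ∈ (pCore q J).map J.subtype, τ * y ≠ y * τ := by
    by_contra hcon
    push Not at hcon
    have h1 : zpowers τ ≤ centralizer (((fittingSubgroup J).map J.subtype : Subgroup (MulAut M)) : Set _) := by
      refine Lib.BenderMaximal.le_centralizer_fitting fun p hp => ?_
      rw [zpowers_le, mem_centralizer_iff]
      intro y hy
      exact (hcon p hp y hy).symm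
    have h2 : zpowers τ ≤ (fittingSubgroup J).map J.subtype :=
      (le_inf (by rwa [zpowers_le]) h1).trans (Lib.BenderMaximal.inf_centralizer_fitting_le hJ)
    have hf2 : Fact (Nat.Prime 2) := ⟨Nat.prime_two⟩
    have h3 := Lib.BenderMaximal.le_map_pCore_of_le_fitting hτ2 h2
    rw [h2bot, zpowers_le, mem_bot] at h3
    exact tv_ne_one htv h3
  set Q := (pCore q J).map J.subtype with hQ
  have hyJ : y ∈ J := (map_subtype_le _) hy
  have hq2 : q ≠ 2 := by
    rintro rfl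
    rw [hQ, h2bot, mem_bot] at hy
    rw [hy, mul_one, one_mul] at hyτ
    exact hyτ rfl
  have hqodd : Odd q := hq.odd_of_ne_two hq2
  set σ := y * τ * y⁻¹ with hσ
  have hσtv : Tv σ (y r) := tv_conj htv y
  set x := σ * τ with hx
  have hxQ : x ∈ Q := by
    have e : x = y * (τ * y⁻¹ * τ⁻¹) := by
      rw [hx, hσ, tv_inv hsq htv]; group
    rw [e]
    exact mul_mem hy (hcj q τ hτ _ (inv_mem hy))
  obtain ⟨k, hk⟩ := hpg q ⟨x, hxQ⟩
  have hk' : x ^ q ^ k = 1 := by simpa only [_root_.SubmonoidClass.mk_pow, _root_.OneMemClass.coe_one] using congrArg Subtype.val hk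
  have hodd2 : Odd (q ^ k) := hqodd.pow
  have hodd : ∀ m : M, σ (τ (σ (τ m))) = m → σ (τ m) = m := by
    intro m hm
    have h1 : ∀ i : ℕ, (x ^ (2 * i)) m = m := by
      intro i
      induction i with
      | zero => simp
      | succ i ih =>
        rw [show 2 * (i + 1) = 2 * i + 2 by ring, pow_add, MulAut.mul_apply, pow_two]
        have : (x * x) m = m := hm
        rw [this, ih]
    obtain ⟨i, hi⟩ := hodd2
    have h2 : (x ^ q ^ k) m = m := by rw [hk']; rfl
    rw [hi, add_comm, pow_add, pow_one, MulAut.mul_apply, h1] at h2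
    exact h2
  have hne : ∃ m, σ (τ m) ≠ m := by
    by_contra hcon
    push Not at hcon
    have hx1 : x = 1 := by ext m; exact hcon m
    apply hyτ
    have h1 : σ = τ⁻¹ := mul_eq_one_iff_eq_inv.mp hx1
    rw [tv_inv hsq htv] at h1
    calc τ * y = σ * y := by rw [h1]
      _ = y * τ := by rw [hσ]; group
  obtain ⟨hR, -, -, -⟩ := rtwo_of_tv hsq htv hσtv hodd hne
  have hx1 : x ≠ 1 := by
    obtain ⟨m, hm⟩ := hne
    intro e
    exact hm (congrArg (fun f : MulAut M => f m) e)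
  have hq3 : q = 3 := by
    have h1 : orderOf x ∣ q ^ k := orderOf_dvd_of_pow_eq_one hk'
    have h2 : orderOf x = 3 := orderOf_eq_prime (by
      rw [pow_succ, pow_two]; exact hR.cube) hx1
    rw [h2] at h1
    have h3 : 3 ∣ q := Nat.Prime.dvd_of_dvd_pow Nat.prime_three h1
    exact ((Nat.prime_dvd_prime_iff_eq Nat.prime_three hq).mp h3).symm
  subst hq3
  refine ⟨x, hxQ, hR, htv, ?_⟩
  have hσσ := tv_mul_self hsq hσtv
  have e1 : τ * x * τ⁻¹ = τ * σ := by rw [hx]; group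
  rw [e1]
  symm
  apply inv_eq_of_mul_eq_one_left
  rw [hx]
  calc τ * σ * (σ * τ) = τ * (σ * σ) * τ := by group
    _ = 1 := by rw [hσσ, mul_one, htt]

/-! ### (B) -/

/-- an element of a 3-group with `d ^ 2 = 1` is trivial -/
theorem eq_one_of_sq {P : Subgroup (MulAut M)} (hP : IsPGroup 3 P) {d : MulAut M} (hd : d ∈ P) (h2 : d * d = 1) :
    d = 1 := by
  obtain ⟨k, hk⟩ := hP ⟨d, hd⟩
  have hk' : d ^ 3 ^ k = 1 := by simpa only [_root_.SubmonoidClass.mk_pow, _root_.OneMemClass.coe_one] using congrArg Subtype.val hk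
  obtain ⟨i, hi⟩ : Odd (3 ^ k) := (by decide : Odd 3).pow
  rw [hi, pow_add, pow_mul, pow_two, h2, one_pow, one_mul, pow_one] at hk'
  exact hk'

theorem eq_of_apply_eq (hsq : ∀ x : M, x * x = 1) {P : Subgroup (MulAut M)} (hP : IsPGroup 3 P)
    {x x' : MulAut M} {b : M} (hx : RTwo x b) (hx' : RTwo x' b) (hxP : x ∈ P) (hxP' : x' ∈ P)
    (h : x' b = x b) : x' = x := by
  set c := x b with hc
  have hxc : x c = b * c := hx.sum
  have hx'c : x' c = b * c := by
    have := hx'.sum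
    rwa [h] at this
  have hixc : x⁻¹ c = b := by rw [hc, MulAut.inv_apply_self]
  have hixbc : x⁻¹ (b * c) = c := by rw [← hxc, MulAut.inv_apply_self]
  have hixb : x⁻¹ b = b * c := by rw [hx.inv_apply]; exact hxc
  set d := x⁻¹ * x' with hd
  have hdb : d b = b := by
    change x⁻¹ (x' b) = b
    rw [h, hixc]
  have hdc : d c = c := by
    change x⁻¹ (x' c) = c
    rw [hx'c, hixbc]
  have hdm : ∀ m, d m = m ∨ d m = m * b ∨ d m = m * c ∨ d m = m * (b * c) := by
    intro m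
    change x⁻¹ (x' m) = m ∨ x⁻¹ (x' m) = m * b ∨ x⁻¹ (x' m) = m * c ∨ x⁻¹ (x' m) = m * (b * c)
    have h1 := (hx.inv hsq).comm m
    rw [hixb] at h1
    have h2 := hx'.comm m
    rw [h] at h2
    have e1 : b * (b * c) = c := by rw [← mul_assoc, hsq, one_mul]
    have e2 : c * (b * c) = b := by rw [comm_of_sq hsq c, mul_mul_self hsq]
    have e3 : (b * c) * b = c := by rw [comm_of_sq hsq _ b, e1]
    have e4 : (b * c) * c = b := mul_mul_self hsq b c
    have e5 : c * b = b * c := comm_of_sq hsq _ _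
    rw [e1] at h1
    rcases h2 with e | e | e | e <;> rw [e]
    · rcases h1 with f | f | f | f
      · exact Or.inl f
      · exact Or.inr (Or.inl f)
      · exact Or.inr (Or.inr (Or.inr f))
      · exact Or.inr (Or.inr (Or.inl f))
    · rw [map_mul, hixb]
      rcases h1 with f | f | f | f <;> rw [f]
      · exact Or.inr (Or.inr (Or.inr rfl))
      · rw [mul_assoc, e1]; exact Or.inr (Or.inr (Or.inl rfl))
      · rw [mul_assoc, hsq, mul_one]; exact Or.inl rfl
      · rw [mul_assoc, e2]; exact Or.inr (Or.inl rfl)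
    · rw [map_mul, hixc]
      rcases h1 with f | f | f | f <;> rw [f]
      · exact Or.inr (Or.inl rfl)
      · rw [mul_assoc, hsq, mul_one]; exact Or.inl rfl
      · rw [mul_assoc, e3]; exact Or.inr (Or.inr (Or.inl rfl))
      · rw [mul_assoc, e5]; exact Or.inr (Or.inr (Or.inr rfl))
    · rw [map_mul, hixbc]
      rcases h1 with f | f | f | f <;> rw [f]
      · exact Or.inr (Or.inr (Or.inl rfl))
      · rw [mul_assoc]; exact Or.inr (Or.inr (Or.inr rfl))
      · rw [mul_assoc, e4]; exact Or.inr (Or.inl rfl)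
      · rw [mul_assoc, hsq, mul_one]; exact Or.inl rfl
  have hd2 : d * d = 1 := by
    ext m
    change d (d m) = m
    rcases hdm m with e | e | e | e
    · rw [e, e]
    · rw [e, map_mul, e, hdb, mul_mul_self hsq]
    · rw [e, map_mul, e, hdc, mul_mul_self hsq]
    · rw [e, map_mul, map_mul, e, hdb, hdc, mul_mul_self hsq]
  have h1 := eq_one_of_sq hP (mul_mem (inv_mem hxP) hxP') hd2
  rw [inv_mul_eq_one] at h1
  exact h1.symm

/-- the subgroup generated by three elements -/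
theorem mem_three (hsq : ∀ x : M, x * x = 1) {b c c' : M} {m : M} (hm : m ∈ _root_.Subgroup.closure ({b, c, c'} : Set M)) :
    m ∈ [1, b, c, b * c, c', b * c', c * c', b * c * c'] := by
  have step : ∀ g ∈ ({b, c, c'} : Set M), ∀ m, (∃ α β γ : M, (α = 1 ∨ α = b) ∧ (β = 1 ∨ β = c) ∧
      (γ = 1 ∨ γ = c') ∧ m = α * β * γ) → (∃ α β γ : M, (α = 1 ∨ α = b) ∧ (β = 1 ∨ β = c) ∧
      (γ = 1 ∨ γ = c') ∧ g * m = α * β * γ) := by
    rintro g hg m ⟨α, β, γ, h1, h2, h3, hm⟩
    have hg' : g = b ∨ g = c ∨ g = c' := hg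
    rcases hg' with hg | hg | hg
    · rcases h1 with h1 | h1
      · exact ⟨b, β, γ, Or.inr rfl, h2, h3, by rw [hg, hm, h1, one_mul, ← mul_assoc]⟩
      · refine ⟨1, β, γ, Or.inl rfl, h2, h3, ?_⟩
        rw [hg, hm, h1, ← mul_assoc, ← mul_assoc, hsq]
    · rcases h2 with h2 | h2
      · refine ⟨α, c, γ, h1, Or.inr rfl, h3, ?_⟩
        rw [hg, hm, h2, ← mul_assoc, mul_one, comm_of_sq hsq c]
      · refine ⟨α, 1, γ, h1, Or.inl rfl, h3, ?_⟩
        rw [hg, hm, h2, ← mul_assoc, comm_of_sq hsq α c, ← mul_assoc, hsq, one_mul, mul_one]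
    · rcases h3 with h3 | h3
      · refine ⟨α, β, c', h1, h2, Or.inr rfl, ?_⟩
        rw [hg, hm, h3, mul_one, comm_of_sq hsq c']
      · refine ⟨α, β, 1, h1, h2, Or.inl rfl, ?_⟩
        rw [hg, hm, h3, comm_of_sq hsq c', mul_mul_self hsq, mul_one]
  have key : ∃ α β γ : M, (α = 1 ∨ α = b) ∧ (β = 1 ∨ β = c) ∧ (γ = 1 ∨ γ = c') ∧ m = α * β * γ := by
    induction hm using closure_induction_left with
    | one => exact ⟨1, 1, 1, Or.inl rfl, Or.inl rfl, Or.inl rfl, by simp⟩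
    | mul_left g hg m _ ih => exact step g hg m ih
    | inv_mul_cancel g hg m _ ih =>
      rw [inv_of_sq hsq g]
      exact step g hg m ih
  obtain ⟨α, β, γ, h1, h2, h3, rfl⟩ := key
  rcases h1 with rfl | rfl <;> rcases h2 with rfl | rfl <;> rcases h3 with rfl | rfl <;> simp only [_root_.mul_one, _root_.List.mem_cons, _root_.List.not_mem_nil, _root_.or_false, _root_.true_or, _root_.one_mul, _root_.right_eq_mul, _root_.or_true, _root_.left_eq_mul, _root_.mul_eq_left, _root_.mul_eq_right, _root_.mul_left_inj, _root_.mul_right_inj]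

/-- `RTwo x b` stabilizes `⟨b, x b, c'⟩` -/
theorem RTwo.stab {x : MulAut M} {b : M} (hx : RTwo x b) {N : Subgroup M}
    (hb : b ∈ N) (hc : x b ∈ N) {m : M} (hm : m ∈ N) : x m ∈ N := by
  rcases hx.comm m with e | e | e | e <;> rw [e]
  · exact hm
  · exact mul_mem hm hb
  · exact mul_mem hm hc
  · exact mul_mem hm (mul_mem hb hc)

/-- two elements of order 3 with the same `b` -/
theorem apply_mem (hsq : ∀ x : M, x * x = 1) {P : Subgroup (MulAut M)} (hP : IsPGroup 3 P)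
    {x x' : MulAut M} {b : M} (hx : RTwo x b) (hx' : RTwo x' b) (hxP : x ∈ P) (hxP' : x' ∈ P) :
    x' b = x b ∨ x' b = b * x b := by
  by_contra hcon
  push Not at hcon
  obtain ⟨hn1, hn2⟩ := hcon
  set c := x b with hc
  set c' := x' b with hc'
  let N : Subgroup M := _root_.Subgroup.closure ({b, c, c'} : Set M)
  have hbN : b ∈ N := _root_.Subgroup.subset_closure (by simp)
  have hcN : c ∈ N := _root_.Subgroup.subset_closure (by simp)
  have hcN' : c' ∈ N := _root_.Subgroup.subset_closure (by simp)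
  let H : Subgroup (MulAut M) := _root_.Subgroup.closure {x, x'}
  have hHP : H ≤ P := by
    rw [closure_le]
    rintro y (rfl | rfl)
    · exact hxP
    · exact hxP'
  have hH3 : IsPGroup 3 H := hP.to_le hHP
  have hxH : x ∈ H := _root_.Subgroup.subset_closure (by simp)
  have hxH' : x' ∈ H := _root_.Subgroup.subset_closure (by simp)
  have hHN : ∀ h ∈ H, ∀ n ∈ N, h n ∈ N := by
    intro h hh
    induction hh using closure_induction with
    | mem y hy =>
      intro n hn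
      rcases hy with rfl | hy
      · exact hx.stab hbN hcN hn
      · rw [Set.mem_singleton_iff] at hy
        subst hy
        exact hx'.stab hbN hcN' hn
    | one => intro n hn; exact hn
    | mul y y' _ _ h1 h2 => intro n hn; exact h1 _ (h2 _ hn)
    | inv y hy h1 =>
      intro n hn
      obtain ⟨k, hk⟩ := hH3 ⟨y, hy⟩
      have hk' : y ^ 3 ^ k = 1 := by simpa only [_root_.SubmonoidClass.mk_pow, _root_.OneMemClass.coe_one] using congrArg Subtype.val hk
      have hpos : 0 < 3 ^ k := by positivity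
      obtain ⟨l, hl⟩ : ∃ l, 3 ^ k = l + 1 := ⟨3 ^ k - 1, (Nat.sub_add_cancel hpos).symm⟩
      rw [hl, pow_succ] at hk'
      have hinv : y⁻¹ = y ^ l := (eq_inv_of_mul_eq_one_left hk').symm
      rw [hinv]
      have : ∀ i : ℕ, (y ^ i) n ∈ N := by
        intro i
        induction i with
        | zero => exact hn
        | succ i ih => rw [pow_succ', MulAut.mul_apply]; exact h1 _ ih
      exact this l
  classical
  -- the orbit of `b`
  let l : List M := [b, c, b * c, c', b * c', c * c', b * c * c']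
  have hb1 : b ≠ 1 := hx.ne
  have horb : ∀ m ∈ MulAction.orbit H b, m ∈ l := by
    rintro _ ⟨⟨h, hh⟩, rfl⟩
    have h1 : h b ∈ N := hHN h hh b hbN
    have h2 : h b ≠ 1 := fun e => hb1 (h.injective (by rw [e, map_one]))
    have h3 := mem_three hsq h1
    rcases List.mem_cons.mp h3 with e | e
    · exact absurd e h2
    · exact e
  have hsub : MulAction.orbit H b ⊆ (l.toFinset : Set M) := fun m hm => by
    rw [Finset.mem_coe, List.mem_toFinset]; exact horb m hm
  have hfin : (MulAction.orbit H b).Finite := l.toFinset.finite_toSet.subset hsub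
  have : Finite (MulAction.orbit H b) := hfin.to_subtype
  obtain ⟨n, hn⟩ := hH3.card_orbit b
  have hle : Nat.card (MulAction.orbit H b) ≤ 7 := by
    rw [Nat.card_coe_set_eq]
    calc (MulAction.orbit H b).ncard ≤ (l.toFinset : Set M).ncard :=
          Set.ncard_le_ncard hsub l.toFinset.finite_toSet
      _ = l.toFinset.card := Set.ncard_coe_finset _
      _ ≤ l.length := l.toFinset_card_le
  have hxb : x b = c := rfl
  have hxc : x c = b * c := hx.sum
  have hxb' : x' b = c' := rfl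
  have o1 : b ∈ MulAction.orbit H b := MulAction.mem_orbit_self b
  have o2 : c ∈ MulAction.orbit H b := ⟨⟨x, hxH⟩, rfl⟩
  have o3 : b * c ∈ MulAction.orbit H b := ⟨⟨x * x, mul_mem hxH hxH⟩, hxc⟩
  have o4 : c' ∈ MulAction.orbit H b := ⟨⟨x', hxH'⟩, rfl⟩
  have d1 : b ≠ c := fun e => hx.move e.symm
  have d2 : b ≠ b * c := fun e => (hx.next hsq).ne (by
    change c = 1
    simpa using e.symm)
  have d3 : b ≠ c' := fun e => hx'.move e.symm
  have d4 : c ≠ b * c := fun e => hb1 (by simpa using e.symm)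
  have hge : 4 ≤ Nat.card (MulAction.orbit H b) := by
    rw [Nat.card_coe_set_eq]
    have hs : (({b, c, b * c, c'} : Finset M) : Set M) ⊆ MulAction.orbit H b := by
      intro m hm
      simp only [Finset.coe_insert, Finset.coe_singleton, Set.mem_insert_iff, Set.mem_singleton_iff] at hm
      rcases hm with rfl | rfl | rfl | rfl
      · exact o1
      · exact o2
      · exact o3
      · exact o4
    have hcard : ({b, c, b * c, c'} : Finset M).card = 4 := by
      rw [Finset.card_insert_of_notMem, Finset.card_insert_of_notMem, Finset.card_insert_of_notMem,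
        Finset.card_singleton]
      · simp only [Finset.mem_singleton]; exact fun e => hn2 e.symm
      · simp only [Finset.mem_insert, Finset.mem_singleton, not_or]
        exact ⟨d4, fun e => hn1 e.symm⟩
      · simp only [Finset.mem_insert, Finset.mem_singleton, not_or]
        exact ⟨d1, d2, d3⟩
    rw [← hcard, ← Set.ncard_coe_finset]
    exact Set.ncard_le_ncard hs hfin
  rw [hn] at hle hge
  rcases n with _ | _ | n
  · norm_num at hge
  · norm_num at hge
  · have h9 : 3 ^ (n + 2) = 9 * 3 ^ n := by rw [pow_add]; ring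
    have : 1 ≤ 3 ^ n := Nat.one_le_pow _ _ (by norm_num)
    omega

/-- **(B)** -/
theorem eq_or_eq_inv (hsq : ∀ x : M, x * x = 1) {P : Subgroup (MulAut M)} (hP : IsPGroup 3 P)
    {x x' : MulAut M} {b : M} (hx : RTwo x b) (hx' : RTwo x' b) (hxP : x ∈ P) (hxP' : x' ∈ P) :
    x' = x ∨ x' = x⁻¹ := by
  rcases apply_mem hsq hP hx hx' hxP hxP' with e | e
  · exact Or.inl (eq_of_apply_eq hsq hP hx hx' hxP hxP' e)
  · right
    have h1 := eq_of_apply_eq hsq hP (hx.inv hsq) hx' (inv_mem hxP) hxP' (by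
      rw [e, hx.inv_apply, hx.sum])
    exact h1

/-! ### blocks -/

namespace Blk

variable {τ x : MulAut M} {r : M}

theorem tau_x (h : Blk τ r x) (m : M) : τ (x m) = x⁻¹ (τ m) := by
  have h1 := h.inv'
  rw [mul_inv_eq_iff_eq_mul] at h1
  exact congrArg (fun f : MulAut M => f m) h1

theorem tau_xr (h : Blk τ r x) : τ (x r) = r * x r := by
  rw [h.tau_x, h.tv.2.1, h.inv_apply, h.sum]

theorem tau_of_fix (h : Blk τ r x) {m : M} (hm : x m = m) : τ m = m := by
  by_contra hcon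
  have h1 := tv_move h.tv hcon
  have h2 := h.tau_x m
  rw [hm] at h2
  have h3 : x (τ m) = τ m := by
    conv_lhs => rw [h2]
    exact MulAut.apply_inv_self M x _
  rw [h1, map_mul, hm] at h3
  exact h.move (mul_left_cancel h3)

/-- every element is the product of an element centralized by `x` and an element of `[M, x]` -/
theorem exists_fix (hsq : ∀ x : M, x * x = 1) (h : RTwo x r) (m : M) :
    ∃ e, (e = 1 ∨ e = r ∨ e = x r ∨ e = r * x r) ∧ x (m * e) = m * e := by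
  have e1 : r * (r * x r) = x r := by rw [← mul_assoc, hsq, one_mul]
  have e2 : (r * x r) * x r = r := mul_mul_self hsq _ _
  rcases h.comm m with e | e | e | e
  · exact ⟨1, Or.inl rfl, by rw [mul_one, e]⟩
  · refine ⟨x r, Or.inr (Or.inr (Or.inl rfl)), ?_⟩
    rw [map_mul, e, h.sum, mul_assoc, e1]
  · refine ⟨r * x r, Or.inr (Or.inr (Or.inr rfl)), ?_⟩
    rw [map_mul, map_mul, e, h.sum]
    calc m * x r * (x r * (r * x r)) = m * (x r * x r) * (r * x r) := by group
      _ = m * (r * x r) := by rw [hsq, mul_one]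
  · refine ⟨r, Or.inr (Or.inl rfl), ?_⟩
    rw [map_mul, e, mul_assoc, e2]

theorem inv (hsq : ∀ x : M, x * x = 1) (h : Blk τ r x) : Blk τ r x⁻¹ where
  toRTwo := h.toRTwo.inv hsq
  tv := h.tv
  inv' := by
    have h1 := h.inv'
    calc τ * x⁻¹ * τ⁻¹ = (τ * x * τ⁻¹)⁻¹ := by group
      _ = x⁻¹⁻¹ := by rw [h1]

theorem unique (hsq : ∀ x : M, x * x = 1) (h : Blk τ r x) {τ' : MulAut M} (h' : Blk τ' r x) : τ' = τ := by
  ext m
  obtain ⟨e, he, hm⟩ := exists_fix hsq h.toRTwo m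
  have h1 := h.tau_of_fix hm
  have h2 := h'.tau_of_fix hm
  have hE : τ' e = τ e := by
    rcases he with rfl | rfl | rfl | rfl
    · rw [map_one, map_one]
    · rw [h.tv.2.1, h'.tv.2.1]
    · rw [h.tau_xr, h'.tau_xr]
    · rw [map_mul, map_mul, h.tv.2.1, h'.tv.2.1, h.tau_xr, h'.tau_xr]
  have h3 : τ' (m * e) = τ (m * e) := by rw [h1, h2]
  rw [map_mul, map_mul, hE] at h3
  exact mul_right_cancel h3

end Blk

theorem four_le_card {α : Type*} [Finite α] (a b c d : α) (h1 : a ≠ b) (h2 : a ≠ c) (h3 : a ≠ d) (h4 : b ≠ c)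
    (h5 : b ≠ d) (h6 : c ≠ d) : 4 ≤ Nat.card α := by
  classical
  have := Fintype.ofFinite α
  rw [Nat.card_eq_fintype_card]
  have hcard : ({a, b, c, d} : Finset α).card = 4 := by
    rw [Finset.card_insert_of_notMem, Finset.card_insert_of_notMem, Finset.card_insert_of_notMem,
      Finset.card_singleton]
    · simpa using h6
    · simp [h4, h5]
    · simp [h1, h2, h3]
  rw [← hcard]
  exact Finset.card_le_univ _

namespace Ctl

variable {J P : Subgroup (MulAut M)} {τ σ : MulAut M} {r s : M}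

/-- **(UC)** -/
theorem unique (h : Ctl J P) {τ' : MulAut M} (hτ : τ ∈ J) (hτ' : τ' ∈ J) (ht : Tv τ r) (ht' : Tv τ' r) :
    τ' = τ := by
  obtain ⟨x, hx, hb⟩ := h.ex τ hτ r ht
  obtain ⟨x', hx', hb'⟩ := h.ex τ' hτ' r ht'
  rcases eq_or_eq_inv h.sq h.three hb.toRTwo hb'.toRTwo hx hx' with rfl | rfl
  · exact hb.unique h.sq hb'
  · have h1 := hb'.inv h.sq
    rw [inv_inv] at h1
    exact hb.unique h.sq h1

/-- **(SYM)** -/
theorem sym (h : Ctl J P) (hτ : τ ∈ J) (hσ : σ ∈ J) (ht : Tv τ r) (hs : Tv σ s) (hn : τ s ≠ s) : σ r ≠ r := by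
  classical
  intro hr
  have hts := tv_move ht hn
  have hss : σ (s * r) = s * r := by rw [map_mul, hs.2.1, hr]
  have hr1 := tv_ne ht
  have hτi := tv_inv h.sq ht
  -- `σ τ σ τ⁻¹` is a transvection with centre `r`
  have key : ∀ m, (σ * (τ * σ * τ⁻¹)) m = if σ m = m then m else m * r := by
    intro m
    change σ (τ (σ (τ⁻¹ m))) = _
    rw [hτi]
    have h1 : σ (τ m) = if σ m = m then τ m else τ m * s := by
      rcases ht.1 m with e | e
      · rw [e]
        split_ifs with hm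
        · exact hm
        · exact tv_move hs hm
      · rw [e, map_mul, hr]
        split_ifs with hm
        · rw [hm]
        · rw [tv_move hs hm, mul_assoc, mul_assoc, comm_of_sq h.sq s r]
    rw [h1]
    split_ifs with hm
    · rw [tv_apply_apply h.sq ht, hm]
    · rw [map_mul, tv_apply_apply h.sq ht, hts, map_mul, hss, tv_move hs hm]
      calc m * s * (s * r) = m * (s * s) * r := by group
        _ = m * r := by rw [h.sq, mul_one]
  have hT : Tv (σ * (τ * σ * τ⁻¹)) r := by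
    refine ⟨fun m => ?_, ?_, ?_⟩
    · rw [key]
      split_ifs
      · exact Or.inl rfl
      · exact Or.inr rfl
    · rw [key, if_pos hr]
    · obtain ⟨m, hm⟩ := hs.2.2
      refine ⟨m, ?_⟩
      rw [key, if_neg hm]
      intro e
      exact hr1 (by simpa using e)
  have heq := h.unique hτ (mul_mem hσ (mul_mem (mul_mem hτ hσ) (inv_mem hτ))) ht hT
  have h2 := key s
  rw [heq, if_pos hs.2.1] at h2
  exact hn h2

/-- **(BN)** -/
theorem conj_x (h : Ctl J P) {x g : MulAut M} (hx : x ∈ P) (hb : RTwo x r) (hg : g ∈ J) (hgr : g r = r) :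
    g * x * g⁻¹ = x ∨ g * x * g⁻¹ = x⁻¹ := by
  have h1 := hb.conj g
  rw [hgr] at h1
  exact eq_or_eq_inv h.sq h.three hb h1 hx (h.conj g hg x hx)

theorem conj_xr (h : Ctl J P) {x g : MulAut M} (hx : x ∈ P) (hb : RTwo x r) (hg : g ∈ J) (hgr : g r = r) :
    g (x r) = x r ∨ g (x r) = r * x r := by
  have e1 : g (x r) = (g * x * g⁻¹) r := by
    change g (x r) = g (x (g⁻¹ r))
    have : g⁻¹ r = r := by
      conv_lhs => rw [← hgr]
      exact MulAut.inv_apply_self M g r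
    rw [this]
  rcases h.conj_x hx hb hg hgr with e | e
  · left; rw [e1, e]
  · right; rw [e1, e, hb.inv_apply, hb.sum]

/-- **(COMM)** -/
theorem comm (h : Ctl J P) {x : MulAut M} (hx : x ∈ P) (hb : RTwo x r) (hσ : σ ∈ J) (hs : Tv σ s)
    (hne : s ≠ r) (hσr : σ r = r) : σ * x * σ⁻¹ = x ∧ x s = s := by
  have h1 : σ * x * σ⁻¹ = x := by
    rcases h.conj_x hx hb hσ hσr with e | e
    · exact e
    · exfalso
      have e1 : σ (x r) = (σ * x * σ⁻¹) r := by
        change σ (x r) = σ (x (σ⁻¹ r))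
        have : σ⁻¹ r = r := by
          conv_lhs => rw [← hσr]
          exact MulAut.inv_apply_self M σ r
        rw [this]
      rw [e, hb.inv_apply, hb.sum] at e1
      rcases hs.1 (x r) with e2 | e2
      · rw [e1] at e2
        exact hb.ne (by simpa using e2)
      · rw [e1, comm_of_sq h.sq (x r) s] at e2
        exact hne (mul_right_cancel e2).symm
  refine ⟨h1, tv_fix_of_comm hs ?_⟩
  have h2 : σ * x = x * σ := by
    calc σ * x = (σ * x * σ⁻¹) * σ := by group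
      _ = x * σ := by rw [h1]
  rw [← h2]; group

/-- **(DISJ)** -/
theorem card_le [Finite M] (h : Ctl J P) (hτ : τ ∈ J) (hσ : σ ∈ J) (ht : Tv τ r) (hs : Tv σ s)
    (hne : s ≠ r) (hσr : σ r = r) : 16 ≤ Nat.card M := by
  obtain ⟨x, hx, hb⟩ := h.ex τ hτ r ht
  obtain ⟨y, hy, hc⟩ := h.ex σ hσ s hs
  obtain ⟨-, hxs⟩ := h.comm hx hb.toRTwo hσ hs hne hσr
  have hxys : x (y s) = y s := by
    rcases h.conj_xr hy hc.toRTwo (h.le hx) hxs with e | e
    · exact e
    · exfalso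
      have e2 : x (x (y s)) = y s := by
        rw [e, map_mul, hxs, e, ← mul_assoc, h.sq, one_mul]
      have h3 := hb.apply3 (y s)
      rw [e2, e] at h3
      exact hc.ne (by simpa using h3)
  let C : Subgroup M :=
    { carrier := {m | x m = m}
      mul_mem' := by
        intro a b ha hb
        change x (a * b) = a * b
        rw [map_mul]
        rw [show x a = a from ha, show x b = b from hb]
      one_mem' := map_one x
      inv_mem' := by
        intro a ha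
        change x a⁻¹ = a⁻¹
        rw [map_inv, show x a = a from ha] }
  have hmC : ∀ m, m ∈ C ↔ x m = m := fun m => Iff.rfl
  have hsC : s ∈ C := hxs
  have hyC : y s ∈ C := hxys
  have dist : ∀ {z : MulAut M} {t : M}, RTwo z t → (1 : M) ≠ t ∧ (1 : M) ≠ z t ∧ (1 : M) ≠ t * z t ∧
      t ≠ z t ∧ t ≠ t * z t ∧ z t ≠ t * z t := by
    intro z t hz
    refine ⟨hz.ne.symm, (hz.next h.sq).ne.symm, fun e => ?_, hz.move.symm, fun e => ?_, fun e => ?_⟩
    · have := eq_inv_of_mul_eq_one_right e.symm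
      rw [inv_of_sq h.sq] at this
      exact hz.move this
    · exact (hz.next h.sq).ne (by simpa using e.symm)
    · exact hz.ne (by simpa using e.symm)
  have hC : 4 ≤ Nat.card C := by
    obtain ⟨d1, d2, d3, d4, d5, d6⟩ := dist hc.toRTwo
    refine four_le_card (1 : C) ⟨s, hsC⟩ ⟨y s, hyC⟩ ⟨s * y s, mul_mem hsC hyC⟩ ?_ ?_ ?_ ?_ ?_ ?_
    · exact fun e => d1 (congrArg Subtype.val e)
    · exact fun e => d2 (congrArg Subtype.val e)
    · exact fun e => d3 (congrArg Subtype.val e)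
    · exact fun e => d4 (congrArg Subtype.val e)
    · exact fun e => d5 (congrArg Subtype.val e)
    · exact fun e => d6 (congrArg Subtype.val e)
  have hQ : 4 ≤ C.index := by
    obtain ⟨d1, d2, d3, d4, d5, d6⟩ := dist hb.toRTwo
    have hr1 : r ∉ C := fun e => hb.move e
    have hr2 : x r ∉ C := fun e => hb.move (x.injective e)
    have hr3 : r * x r ∉ C := fun e => by
      rw [← hb.sum, hmC] at e
      exact hb.move (x.injective (x.injective e))
    rw [Subgroup.index]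
    refine four_le_card (QuotientGroup.mk 1 : M ⧸ C) (QuotientGroup.mk r) (QuotientGroup.mk (x r))
      (QuotientGroup.mk (r * x r)) ?_ ?_ ?_ ?_ ?_ ?_ <;> intro e <;> rw [QuotientGroup.eq] at e
    · rw [inv_one, one_mul] at e; exact hr1 e
    · rw [inv_one, one_mul] at e; exact hr2 e
    · rw [inv_one, one_mul] at e; exact hr3 e
    · rw [inv_of_sq h.sq] at e; exact hr3 e
    · rw [inv_of_sq h.sq, ← mul_assoc, h.sq, one_mul] at e; exact hr2 e
    · rw [inv_of_sq h.sq, comm_of_sq h.sq, mul_mul_self h.sq] at e; exact hr1 e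
  rw [← C.card_mul_index]
  calc 16 = 4 * 4 := rfl
    _ ≤ Nat.card C * C.index := Nat.mul_le_mul hC hQ

end Ctl

end Cfsg.Agent.MinSimple.OddTwoMod
end

-- part: MinSimple/OddTwoRep
section
/-!
# (E1)(b), `s = 2`: the transvections at a point

`Star V z` contains the facts on critical pairs which are proved in `OddTwoStar`.  From it we deduce, for a
point `x`, with the module lemmas of `OddTwoMod`:
`sym_pt` (symmetry), `bn_pt` (the element `a`), `card_pt` (two commuting transvections).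
-/

set_option autoImplicit false
set_option linter.unusedSectionVars false

namespace Cfsg.Agent.MinSimple.OddTwoRep

open Subgroup Cfsg Cfsg.Agent.ZN Cfsg.Agent.MinSimple.Geo Cfsg.Agent.MinSimple.BTwoA
  Cfsg.Agent.MinSimple.OddLine Cfsg.Agent.MinSimple.OddBase Cfsg.Agent.MinSimple.SecRep
  Cfsg.Agent.MinSimple.OddRep Cfsg.Agent.MinSimple.OddTwoDefs Cfsg.Agent.MinSimple.OddTwoMod

universe u

variable {G : Type u} [Group G]

/-- the facts on critical pairs -/
structure Star (V : Subgroup G) (z : G) : Prop where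
  s1 : ∀ {x y p : G}, Crit V z 2 x y → Col V x p → Col V p y → ∀ a ∈ ws V x, ∀ b ∈ ws V y,
    a * b = b * a ∨ a * b = p * (b * a)
  s2 : ∀ {x y : G}, Crit V z 2 x y → ∀ a ∈ ws V x, ∀ a' ∈ ws V x, a ∉ centralizer (ws V y : Set G) →
    a' ∉ centralizer (ws V y : Set G) → a * a' ∈ centralizer (ws V y : Set G)
  s3a : ∀ {x m : G}, Col V x m → ∀ u ∈ tt V 1 m, ∀ a ∈ ws V x, u * a * u⁻¹ = a ∨ u * a * u⁻¹ = m * a
  s3b : ∀ {x m : G}, Col V x m → ∀ u ∈ tt V 1 m, ∀ u' ∈ tt V 1 m, u ∉ centralizer (ws V x : Set G) →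
    u' ∉ centralizer (ws V x : Set G) → u * u' ∈ centralizer (ws V x : Set G)
  s3c : ∀ {x m : G}, Col V x m → ∃ u ∈ tt V 1 m, u ∉ centralizer (ws V x : Set G)

section act

variable {M X : Type u} [AddCommGroup M] [Group X] [DistribMulAction X M]

/-- the action of `X` on `Multiplicative M` -/
def act (M X : Type u) [AddCommGroup M] [Group X] [DistribMulAction X M] : X →* MulAut (Multiplicative M) where
  toFun g := AddEquiv.toMultiplicative (DistribMulAction.toAddEquiv M g)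
  map_one' := by
    ext m
    change Multiplicative.ofAdd ((1 : X) • m.toAdd) = m
    rw [one_smul]; rfl
  map_mul' g k := by
    ext m
    change Multiplicative.ofAdd ((g * k) • m.toAdd) = Multiplicative.ofAdd (g • (k • m.toAdd))
    rw [mul_smul]

theorem act_apply (g : X) (m : M) : act M X g (Multiplicative.ofAdd m) = Multiplicative.ofAdd (g • m) := rfl

end act

variable [Finite G] {T V : Subgroup G} {z x : G} {M X : Type u} [AddCommGroup M] [Group X] [DistribMulAction X M]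

/-- an element of `W_x` as an element of `Multiplicative M` -/
def ve (R : _root_.Cfsg.Agent.MinSimple.OddRep.Rep V x M X) (a : G) : Multiplicative M := Multiplicative.ofAdd (R.pi a)

theorem act_ve (R : _root_.Cfsg.Agent.MinSimple.OddRep.Rep V x M X) {c a : G} (hc : c ∈ centralizer ({x} : Set G)) (ha : a ∈ ws V x) :
    act M X (R.rho c) (ve R a) = ve R (c * a * c⁻¹) := by
  unfold ve
  rw [act_apply, R.smul_pi c hc a ha]

theorem ve_mul (R : _root_.Cfsg.Agent.MinSimple.OddRep.Rep V x M X) {a b : G} (ha : a ∈ ws V x) (hb : b ∈ ws V x) :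
    ve R (a * b) = ve R a * ve R b := by
  unfold ve
  rw [R.pi_mul a ha b hb]; rfl

theorem ve_surj (R : _root_.Cfsg.Agent.MinSimple.OddRep.Rep V x M X) (m : Multiplicative M) : ∃ a ∈ ws V x, ve R a = m := by
  obtain ⟨a, ha, h⟩ := R.pi_surj m.toAdd
  exact ⟨a, ha, by unfold ve; rw [h]; rfl⟩

theorem ve_eq (h : _root_.Cfsg.Agent.MinSimple.OddLine.Odd T V z) (hx : Pt z x) (R : _root_.Cfsg.Agent.MinSimple.OddRep.Rep V x M X) {a b : G} (ha : a ∈ ws V x) (hb : b ∈ ws V x) :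
    ve R a = ve R b ↔ a = b ∨ a = x * b := by
  rw [← Rep.pi_eq_pi h hx R ha hb]
  exact Iff.rfl

theorem exists_ctl_rep (h : _root_.Cfsg.Agent.MinSimple.OddLine.Odd T V z) (hx : Pt z x) (R : _root_.Cfsg.Agent.MinSimple.OddRep.Rep V x M X) : ∃ P, Ctl (act M X).range P := by
  have : Finite M := R.finite_left
  have : Finite (Multiplicative M) := this
  refine exists_ctl (fun m => ?_) _ ?_ ?_
  · exact Rep.two h hx R m.toAdd
  · have := Rep.isSolvable h hx R
    exact Group.isSolvable_of_surjective (act M X).rangeRestrict_surjective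
  · intro N hN hNn hN2
    have hinj : Function.Injective (act M X) := by
      rw [injective_iff_map_eq_one]
      intro g hg
      refine R.faithful g fun m => ?_
      have h1 : act M X g (Multiplicative.ofAdd m) = Multiplicative.ofAdd m := by rw [hg]; rfl
      rw [act_apply] at h1
      exact Multiplicative.ofAdd.injective h1
    have h1 : (N.comap (act M X)).Normal := ⟨fun n hn g => by
      rw [mem_comap, map_mul, map_mul, map_inv]
      exact hNn _ ⟨g, rfl⟩ _ hn⟩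
    have h2 : IsPGroup 2 (N.comap (act M X)) := hN2.comap_of_injective (act M X) hinj
    have h3 := Rep.o2_eq_bot h hx R h1 h2
    rw [eq_bot_iff]
    intro n hn
    obtain ⟨g, rfl⟩ := hN hn
    have h4 : g ∈ N.comap (act M X) := hn
    rw [h3, mem_bot] at h4
    rw [h4, map_one]; exact one_mem _

/-- `tt V 1 m` centralizes the neighbours of `m` -/
theorem tt_comm (h : OddN T V z 2) {x m : G} (hc : Col V x m) {u : G} (hu : u ∈ tt V 1 m) :
    u ∈ centralizer ({x} : Set G) := by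
  have h1 := tt_le_centralizer_ws h (j := 1) (by norm_num) (hc.pt h.toGeo) hu
  refine centralizer_le ?_ h1
  rintro _ rfl
  exact hc.symm.mem_ws

theorem ve_ne_one (h : _root_.Cfsg.Agent.MinSimple.OddLine.Odd T V z) (R : _root_.Cfsg.Agent.MinSimple.OddRep.Rep V x M X) {m : G} (hc : Col V x m) : ve R m ≠ 1 := fun e =>
  Rep.pi_line_ne_zero h (hc.pt_left h.toGeo) R hc (Multiplicative.ofAdd.injective e)

theorem tv_of (hs : Star V z) (h : OddN T V z 2) {m : G} (hc : Col V x m) (R : _root_.Cfsg.Agent.MinSimple.OddRep.Rep V x M X) {u : G}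
    (hu : u ∈ tt V 1 m) (hun : u ∉ centralizer (ws V x : Set G)) : Tv (act M X (R.rho u)) (ve R m) := by
  have hux := tt_comm h hc hu
  have hx : Pt z x := hc.pt_left h.toGeo
  have hsq : ∀ m : Multiplicative M, m * m = 1 := fun m => Rep.two h.toOdd hx R m.toAdd
  refine ⟨fun v => ?_, ?_, ?_⟩
  · obtain ⟨a, ha, rfl⟩ := ve_surj R v
    rw [act_ve R hux ha]
    rcases hs.s3a hc u hu a ha with e | e
    · left; rw [e]
    · right; rw [e, ve_mul R hc.mem_ws ha, comm_of_sq hsq]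
  · rw [act_ve R hux hc.mem_ws]
    have h1 := tt_le_centralizer_ws h (j := 1) (by norm_num) (hc.pt h.toGeo) hu
    have h2 := mem_centralizer_iff.mp h1 m (self_mem_ws h.toGeo (hc.pt h.toGeo))
    rw [← h2, mul_inv_cancel_right]
  · by_contra hcon
    push Not at hcon
    apply hun
    refine mem_centralizer_iff.mpr fun a ha => ?_
    rcases hs.s3a hc u hu a ha with e | e
    · calc a * u = (u * a * u⁻¹) * u := by rw [e]
        _ = u * a := by group
    · exfalso
      have h1 := hcon (ve R a)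
      rw [act_ve R hux ha, e, ve_mul R hc.mem_ws ha] at h1
      exact ve_ne_one h.toOdd R hc (mul_eq_right.mp h1)

theorem notMem_of_ne {u a : G} (ha : a ∈ ws V x) (hu : u * a * u⁻¹ ≠ a) : u ∉ centralizer (ws V x : Set G) := by
  intro h1
  apply hu
  rw [← mem_centralizer_iff.mp h1 a ha, mul_inv_cancel_right]

theorem eq_mul_of_ne (hs : Star V z) {m u a : G} (hc : Col V x m) (hu : u ∈ tt V 1 m) (ha : a ∈ ws V x)
    (hne : u * a * u⁻¹ ≠ a) : u * a * u⁻¹ = m * a := (hs.s3a hc u hu a ha).resolve_left hne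

/-- all noncentralizing elements of `tt V 1 m` act in the same way on `ws V x` -/
theorem same (hs : Star V z) {m u u' a : G} (hc : Col V x m) (hu : u ∈ tt V 1 m)
    (hu' : u' ∈ tt V 1 m) (hun' : u' ∉ centralizer (ws V x : Set G)) (ha : a ∈ ws V x)
    (hne : u * a * u⁻¹ = m * a) : u' * a * u'⁻¹ = m * a := by
  have hun : u ∉ centralizer (ws V x : Set G) := notMem_of_ne ha (by
    rw [hne]; intro e; exact hc.2.1 (mul_eq_right.mp e))
  rcases hs.s3a hc u' hu' a ha with e | e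
  · exfalso
    have h1 := hs.s3b hc u hu u' hu' hun hun'
    have h2 := mem_centralizer_iff.mp h1 a ha
    have h3 : u * u' * a * (u * u')⁻¹ = a := by rw [← h2]; group
    have h4 : u * u' * a * (u * u')⁻¹ = u * (u' * a * u'⁻¹) * u⁻¹ := by group
    rw [h4, e, hne] at h3
    exact hc.2.1 (mul_eq_right.mp h3)
  · exact e

/-- **(SYM)** -/
theorem sym_pt (hs : Star V z) (h : OddN T V z 2) {m m' u v : G} (hm : Col V x m) (hm' : Col V x m')
    (hu : u ∈ tt V 1 m) (hum : u * m' * u⁻¹ ≠ m') (hv : v ∈ tt V 1 m') (hvn : v ∉ centralizer (ws V x : Set G)) :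
    v * m * v⁻¹ = m' * m := by
  have hx : Pt z x := hm.pt_left h.toGeo
  refine eq_mul_of_ne hs hm' hv hm.mem_ws fun e => ?_
  obtain ⟨M, X, _, _, _, ⟨R⟩⟩ := exists_rep h.toOdd hx
  obtain ⟨P, hP⟩ := exists_ctl_rep h.toOdd hx R
  have hun : u ∉ centralizer (ws V x : Set G) := notMem_of_ne hm'.mem_ws hum
  have t1 := tv_of hs h hm R hu hun
  have t2 := tv_of hs h hm' R hv hvn
  have h1 := hP.sym ⟨_, rfl⟩ ⟨_, rfl⟩ t1 t2 (by
    rw [act_ve R (tt_comm h hm hu) hm'.mem_ws, eq_mul_of_ne hs hm hu hm'.mem_ws hum,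
      ve_mul R hm.mem_ws hm'.mem_ws]
    intro e
    exact ve_ne_one h.toOdd R hm (mul_eq_right.mp e))
  apply h1
  rw [act_ve R (tt_comm h hm' hv) hm.mem_ws, e]

/-- **(BN)** -/
theorem bn_pt (hs : Star V z) (h : OddN T V z 2) {m : G} (hm : Col V x m) :
    ∃ a ∈ ws V x, (∀ u ∈ tt V 1 m, u ∉ centralizer (ws V x : Set G) → u * a * u⁻¹ = m * a) ∧
      ∀ g ∈ centralizer ({x} : Set G), g * m * g⁻¹ = m →
        g * a * g⁻¹ ∈ [a, m * a, x * a, x * (m * a)] := by
  have hx : Pt z x := hm.pt_left h.toGeo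
  obtain ⟨M, X, _, _, _, ⟨R⟩⟩ := exists_rep h.toOdd hx
  obtain ⟨P, hP⟩ := exists_ctl_rep h.toOdd hx R
  obtain ⟨u0, hu0, hun0⟩ := hs.s3c hm
  have t1 := tv_of hs h hm R hu0 hun0
  obtain ⟨ξ, hξ, hb⟩ := hP.ex _ ⟨_, rfl⟩ _ t1
  obtain ⟨g0, hg0⟩ := hP.le hξ
  obtain ⟨y, hy, rfl⟩ := R.rho_surj g0
  subst hg0
  have haw : y * m * y⁻¹ ∈ ws V x := R.conj_mem hy hm.mem_ws
  have hva : act M X (R.rho y) (ve R m) = ve R (y * m * y⁻¹) := act_ve R hy hm.mem_ws
  refine ⟨y * m * y⁻¹, haw, ?_, ?_⟩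
  · have h0 : u0 * (y * m * y⁻¹) * u0⁻¹ = m * (y * m * y⁻¹) := by
      refine eq_mul_of_ne hs hm hu0 haw fun e => ?_
      have h1 := hb.tau_xr
      rw [hva, act_ve R (tt_comm h hm hu0) haw, e] at h1
      exact ve_ne_one h.toOdd R hm (mul_eq_right.mp h1.symm)
    exact fun u hu hun => same hs hm hu0 hu hun haw h0
  · intro g hg hgm
    have h1 := hP.conj_xr (g := act M X (R.rho g)) hξ hb.toRTwo ⟨_, rfl⟩ (by
      rw [act_ve R hg hm.mem_ws, hgm])
    rw [hva, act_ve R hg haw, ← ve_mul R hm.mem_ws haw] at h1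
    have hgw := R.conj_mem hg haw
    rw [ve_eq h.toOdd hx R hgw haw, ve_eq h.toOdd hx R hgw (mul_mem hm.mem_ws haw)] at h1
    rcases h1 with (e | e) | (e | e) <;> rw [e] <;> simp only [_root_.List.mem_cons, _root_.right_eq_mul, _root_.List.not_mem_nil, _root_.or_false, _root_.true_or, _root_.mul_eq_right, _root_.mul_left_inj, _root_.mul_right_inj, _root_.or_true]

theorem two_mul_card_le (h : _root_.Cfsg.Agent.MinSimple.OddLine.Odd T V z) (hx : Pt z x) (R : _root_.Cfsg.Agent.MinSimple.OddRep.Rep V x M X) :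
    2 * Nat.card M ≤ Nat.card (ws V x) := by
  let f : ws V x →* Multiplicative M :=
    { toFun := fun a => ve R a
      map_one' := by
        change Multiplicative.ofAdd (R.pi ((1 : ws V x) : G)) = 1
        rw [OneMemClass.coe_one, R.pi_one]; rfl
      map_mul' := fun a b => ve_mul R a.2 b.2 }
  have hf : Function.Surjective f := fun m => by
    obtain ⟨a, ha, rfl⟩ := ve_surj R m
    exact ⟨⟨a, ha⟩, rfl⟩
  have hxw := self_mem_ws h.toGeo hx
  have h1 : Nat.card f.ker * Nat.card (Multiplicative M) = Nat.card (ws V x) := by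
    rw [← Subgroup.card_mul_index f.ker, Subgroup.index_ker, MonoidHom.range_eq_top.mpr hf]
    congr 1
    exact (Nat.card_congr (Subgroup.topEquiv (G := Multiplicative M)).toEquiv).symm
  rw [← h1]
  have h2 : 2 ≤ Nat.card f.ker := by
    have h3 : (⟨x, hxw⟩ : ws V x) ∈ f.ker := by
      rw [MonoidHom.mem_ker]
      change Multiplicative.ofAdd (R.pi x) = 1
      rw [Rep.pi_self h hx R]; rfl
    have h4 : Nontrivial f.ker := ⟨⟨1, ⟨_, h3⟩, fun e => by
      have := congrArg (fun t : f.ker => ((t : ws V x) : G)) e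
      exact OddBase.Pt.ne_one h.toGeo hx this.symm⟩⟩
    have : Finite f.ker := inferInstance
    exact Finite.one_lt_card
  exact Nat.mul_le_mul_right _ h2

/-- **(DISJ)** -/
theorem card_pt (hs : Star V z) (h : OddN T V z 2) {m m' : G} (hm : Col V x m) (hm' : Col V x m')
    (hne : m' ≠ m) (hne' : m' ≠ x * m) (hf : ∀ u ∈ tt V 1 m', u * m * u⁻¹ = m) : 32 ≤ Nat.card (ws V x) := by
  have hx : Pt z x := hm.pt_left h.toGeo
  obtain ⟨M, X, _, _, _, ⟨R⟩⟩ := exists_rep h.toOdd hx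
  obtain ⟨P, hP⟩ := exists_ctl_rep h.toOdd hx R
  have : Finite M := R.finite_left
  have : Finite (Multiplicative M) := this
  obtain ⟨u, hu, hun⟩ := hs.s3c hm
  obtain ⟨v, hv, hvn⟩ := hs.s3c hm'
  have t1 := tv_of hs h hm R hu hun
  have t2 := tv_of hs h hm' R hv hvn
  have h1 : 16 ≤ Nat.card (Multiplicative M) := hP.card_le ⟨_, rfl⟩ ⟨_, rfl⟩ t1 t2 (fun e => by
    rw [ve_eq h.toOdd hx R hm'.mem_ws hm.mem_ws] at e
    rcases e with e | e
    · exact hne e
    · exact hne' e) (by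
    rw [act_ve R (tt_comm h hm' hv) hm.mem_ws, hf v hv])
  have h2 : 16 ≤ Nat.card M := h1
  have h3 := two_mul_card_le h.toOdd hx R
  omega

end Cfsg.Agent.MinSimple.OddTwoRep
end
end

-- part: MinSimple/OddCase
section
prune_inst 0x40102404432200000018000022001c5292000002004f0001c140000004c88c4020000e21a0601312801082442034006003cc0100423000002a000000411c01a0000242029248a000200000008000000000000000000000000000000000000000000000000
set_option linter.all false
open scoped Cfsg.Agent.FastGrp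

/-!
# (E1)(b), Case 1: the weight over `O₃` and the facts on `ws V p1 ⊓ ws V w1`
-/

set_option autoImplicit false
set_option linter.unusedSectionVars false

namespace Cfsg.Agent.MinSimple.OddCase

open Subgroup Cfsg Cfsg.Agent.ZN Cfsg.Agent.MinSimple.Geo Cfsg.Agent.MinSimple.BTwoA
  Cfsg.Agent.MinSimple.OddLine Cfsg.Agent.MinSimple.OddBase Cfsg.Agent.MinSimple.OddTwoWeight
  Cfsg.Agent.MinSimple.OddTwoStar Cfsg.Agent.MinSimple.OddPair Cfsg.Agent.MinSimple.OddRep
  Cfsg.Agent.MinSimple.OddTwoMod Cfsg.Agent.MinSimple.OddTwoDefs Cfsg.Agent.MinSimple.OddTwoRep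
open Cfsg.Agent.ZN.Block (conj_mem_of_normalizer conj_mem_of_normalizer' le_normalizer_of_forall
  mem_normalizer_of)

universe u

variable {G : Type u} [Group G] [Finite G] {T V : Subgroup G} {z r d t w : G}

/-- a weight with the property (CTL) -/
theorem exists_ctl_weight {M X : Type u} [AddCommGroup M] [Group X] [DistribMulAction X M]
    (h : Tr T V z r d t) (hw : w ∈ ws V d) (hn : w ∉ centralizer (ws V r : Set G)) (R : Rep V r M X)
    {P : Subgroup (MulAut (Multiplicative M))} (hP : Ctl (act M X).range P) :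
    ∃ y ∈ centralizer ({r} : Set G), _root_.Odd (orderOf y) ∧ act M X (R.rho y) ∈ P ∧
      Blk (act M X (R.rho w)) (ve R t) (act M X (R.rho y)) := by
  have hwr := h.cr hw
  have hte : ve R t ≠ 1 := by
    intro e
    have h1 : R.pi t = 0 := Multiplicative.ofAdd.injective e
    rcases (Rep.pi_eq_zero' h.odd h.ptr R h.t_memr).mp h1 with e | e
    · exact h.t_ne e
    · exact h.rd (e ▸ h.t_memd)
  have htv : Tv (act M X (R.rho w)) (ve R t) := by
    refine ⟨fun m => ?_, ?_, ?_⟩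
    · obtain ⟨a, ha, rfl⟩ := ve_surj R m
      rw [act_ve R hwr ha]
      rcases h.conj_cases hw ha with e | e
      · left; rw [conj_eq_iff_comm.mpr e]
      · right; rw [e, ve_mul R ha h.t_memr]
    · rw [act_ve R hwr h.t_memr, conj_eq_iff_comm.mpr (h.comm_t hw)]
    · obtain ⟨v, hv, hne⟩ := exists_noncomm hn
      refine ⟨ve R v, ?_⟩
      rw [act_ve R hwr hv, h.conj_eq hw hv hne, ve_mul R hv h.t_memr]
      intro e
      exact hte (mul_eq_left.mp e)
  obtain ⟨ξ, hξ, hb⟩ := hP.ex _ ⟨_, rfl⟩ _ htv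
  obtain ⟨g0, rfl⟩ := hP.le hξ
  have hg3 : g0 ^ 3 ^ 1 = 1 := by
    have hinj : Function.Injective (act M X) := by
      rw [injective_iff_map_eq_one]
      intro g hg
      refine R.faithful g fun m => ?_
      have h1 : act M X g (Multiplicative.ofAdd m) = Multiplicative.ofAdd m := by rw [hg]; rfl
      rw [act_apply] at h1
      exact Multiplicative.ofAdd.injective h1
    apply hinj
    rw [map_pow, map_one, pow_one, pow_succ, pow_two]
    exact hb.cube
  obtain ⟨y, hy, rfl, j, hj⟩ := R.exists_lift Nat.prime_three hg3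
  refine ⟨y, hy, ?_, hξ, hb⟩
  refine (Odd.pow (n := j) (by decide : _root_.Odd 3)).of_dvd_nat (orderOf_dvd_of_pow_eq_one hj)

theorem act_injective {M X : Type u} [AddCommGroup M] [Group X] [DistribMulAction X M]
    (R : Rep V r M X) : Function.Injective (act M X) := by
  rw [injective_iff_map_eq_one]
  intro g hg
  refine R.faithful g fun m => ?_
  have h1 : act M X g (Multiplicative.ofAdd m) = Multiplicative.ofAdd m := by rw [hg]; rfl
  rw [act_apply] at h1
  exact Multiplicative.ofAdd.injective h1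

/-- **(CTL)** -/
theorem exists_side_ctl (h : Tr T V z r d t) (hw : w ∈ ws V d)
    (hn : w ∉ centralizer (ws V r : Set G)) : ∃ s : G, Side V r w t s ∧
      ∀ g ∈ centralizer ({r} : Set G), (g * t * g⁻¹ = t ∨ g * t * g⁻¹ = t * r) →
        g * s * g⁻¹ * s⁻¹ ∈ kq V r ∨ g * s * g⁻¹ * s ∈ kq V r := by
  obtain ⟨M, X, _, _, _, ⟨R⟩⟩ := exists_rep h.odd h.ptr
  obtain ⟨P, hP⟩ := exists_ctl_rep h.odd h.ptr R
  obtain ⟨y, hy, hyo, hyP, hb⟩ := exists_ctl_weight h hw hn R hP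
  have hwr := h.cr hw
  have hinj := act_injective R
  have hynk : y ∉ kq V r := by
    intro hk
    apply hb.move
    rw [(Rep.rho_eq_one R hy).mpr hk, map_one]; rfl
  have hyinv : w * y * w⁻¹ * y ∈ kq V r := by
    rw [← Rep.rho_eq_one R (mul_mem (mul_mem (mul_mem hwr hy) (inv_mem hwr)) hy),
      R.rho_mul _ (mul_mem (mul_mem hwr hy) (inv_mem hwr)) _ hy, R.rho_conj hwr hy]
    apply hinj
    rw [map_one, map_mul, map_mul, map_mul, map_inv, hb.inv', inv_mul_cancel]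
  obtain ⟨s, hs, hsy⟩ := h.side_of hw hy hyo hynk hyinv
  refine ⟨s, hs, fun g hg hgt => ?_⟩
  have hfix : act M X (R.rho g) (ve R t) = ve R t := by
    rw [act_ve R hg h.t_memr]
    rcases hgt with e | e
    · rw [e]
    · have hr := self_mem_ws h.odd.toGeo h.ptr
      rw [e, ve_eq h.odd h.ptr R (mul_mem h.t_memr hr) h.t_memr]
      right
      exact OddBase.ws_comm h.odd h.ptr h.t_memr hr
  -- modulo `kq V r`
  set C := centralizer ({r} : Set G) with hC
  set K : Subgroup C := (kq V r).subgroupOf C with hK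
  haveI hKn : K.Normal := kq_normal V r
  let π : C →* C ⧸ K := QuotientGroup.mk' K
  have hπ : ∀ c : C, π c = 1 ↔ (c : G) ∈ kq V r := by
    intro c
    change (QuotientGroup.mk c : C ⧸ K) = 1 ↔ _
    rw [QuotientGroup.eq_one_iff, hK, mem_subgroupOf]
  let g' : C := ⟨g, hg⟩
  let y' : C := ⟨y, hy⟩
  let s' : C := ⟨s, hs.mem⟩
  have hsy' : π s' = π y' * π y' := by
    have h1 : π (s' * (y' * y')⁻¹) = 1 := (hπ _).mpr hsy
    rw [map_mul, map_inv, map_mul] at h1
    exact mul_inv_eq_one.mp h1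
  have hcase : π g' * π y' * (π g')⁻¹ = π y' ∨ π g' * π y' * (π g')⁻¹ = (π y')⁻¹ := by
    rcases hP.conj_x hyP hb.toRTwo ⟨_, rfl⟩ hfix with e | e
    · left
      have h1 : R.rho (g * y * g⁻¹ * y⁻¹) = 1 := by
        rw [R.rho_mul _ (mul_mem (mul_mem hg hy) (inv_mem hg)) _ (inv_mem hy), R.rho_conj hg hy,
          R.rho_inv hy]
        apply hinj
        rw [map_one, map_mul, map_mul, map_mul, map_inv, map_inv, e, mul_inv_cancel]
      rw [Rep.rho_eq_one R (mul_mem (mul_mem (mul_mem hg hy) (inv_mem hg)) (inv_mem hy))] at h1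
      have h2 : π (g' * y' * g'⁻¹ * y'⁻¹) = 1 := (hπ _).mpr h1
      rw [map_mul, map_mul, map_mul, map_inv, map_inv] at h2
      exact mul_inv_eq_one.mp h2
    · right
      have h1 : R.rho (g * y * g⁻¹ * y) = 1 := by
        rw [R.rho_mul _ (mul_mem (mul_mem hg hy) (inv_mem hg)) _ hy, R.rho_conj hg hy]
        apply hinj
        rw [map_one, map_mul, map_mul, map_mul, map_inv, e, inv_mul_cancel]
      rw [Rep.rho_eq_one R (mul_mem (mul_mem (mul_mem hg hy) (inv_mem hg)) hy)] at h1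
      have h2 : π (g' * y' * g'⁻¹ * y') = 1 := (hπ _).mpr h1
      rw [map_mul, map_mul, map_mul, map_inv] at h2
      exact eq_inv_of_mul_eq_one_left h2
  rcases hcase with e | e
  · left
    have h1 : π (g' * s' * g'⁻¹ * s'⁻¹) = 1 := by
      rw [map_mul, map_mul, map_mul, map_inv, map_inv, hsy']
      calc π g' * (π y' * π y') * (π g')⁻¹ * (π y' * π y')⁻¹ =
          (π g' * π y' * (π g')⁻¹) * (π g' * π y' * (π g')⁻¹) * (π y' * π y')⁻¹ := by group
        _ = 1 := by rw [e, mul_inv_cancel]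
    exact (hπ _).mp h1
  · right
    have h1 : π (g' * s' * g'⁻¹ * s') = 1 := by
      rw [map_mul, map_mul, map_mul, map_inv, hsy']
      calc π g' * (π y' * π y') * (π g')⁻¹ * (π y' * π y') =
          (π g' * π y' * (π g')⁻¹) * (π g' * π y' * (π g')⁻¹) * (π y' * π y') := by group
        _ = 1 := by rw [e]; group
    exact (hπ _).mp h1

/-- the consequences of (CTL): `b ∈ [ws V r, s]` is moved into `b⟨t, r⟩` -/
theorem conj_cases_of_ctl (h : Tr T V z r d t) {s b g : G} (hS : Side V r w t s)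
    (hb : b ∈ uu (ws V r) s) (hb1 : b ≠ 1) (hbt : b ≠ t) (hg : g ∈ centralizer ({r} : Set G))
    (hgt : g * t = t * g) (hctl : g * s * g⁻¹ * s⁻¹ ∈ kq V r ∨ g * s * g⁻¹ * s ∈ kq V r) :
    g * b * g⁻¹ = b ∨ g * b * g⁻¹ = b * t ∨ g * b * g⁻¹ = b * r ∨ g * b * g⁻¹ = b * t * r := by
  have hr := self_mem_ws h.odd.toGeo h.ptr
  have hrr := OddBase.Pt.sq h.odd.toGeo h.ptr
  have htt := h.tt_sq
  have hbW := hS.four.uu_le hb
  have hgr : g * r = r * g := mem_centralizer_singleton_iff.mp hg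
  have hsr : s * r = r * s := mem_centralizer_singleton_iff.mp hS.mem
  have htr : t ≠ r := fun e => h.rd (e ▸ h.t_memd)
  -- elements of `uu`
  have hcases : ∀ u ∈ uu (ws V r) s, u = 1 ∨ u = t ∨ u = b ∨ u = b * t := by
    intro u hu
    have h1 := hS.four.cases t hS.t_mem h.t_ne
    have hst := hS.conj_conj h
    set t1 := s * t * s⁻¹ with ht1
    have ht1W : t1 ∈ ws V r := hS.four.uu_le (hS.four.uu_conj hS.t_mem)
    have htc : t * t1 = t1 * t := hS.four.comm h.t_memr ht1W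
    have ht11 : t1 * t1 = 1 := hS.four.sq _ ht1W
    rcases h1 b hb with e | e | e | e
    · exact absurd e hb1
    · exact absurd e hbt
    · rw [e]
      rcases h1 u hu with e' | e' | e' | e'
      · exact Or.inl e'
      · exact Or.inr (Or.inl e')
      · exact Or.inr (Or.inr (Or.inl e'))
      · right; right; right; rw [e', htc]
    · rw [e]
      rcases h1 u hu with e' | e' | e' | e'
      · exact Or.inl e'
      · exact Or.inr (Or.inl e')
      · right; right; right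
        rw [e', htc, mul_assoc, htt, mul_one]
      · exact Or.inr (Or.inr (Or.inl e'))
  obtain ⟨u', hu', hcase⟩ := uu_conj_cases h.odd h.ptr hS.mem hS.odd hg hctl hb
  have hu'W := hS.four.uu_le hu'
  -- `r ∉ uu`
  have hruu : r ∉ uu (ws V r) s := fun hru => OddBase.Pt.ne_one h.odd.toGeo h.ptr (hS.four.eq_one hru hsr)
  have hginv : ∀ {a c : G}, g * a * g⁻¹ = c → a = g⁻¹ * c * g := by
    intro a c e; rw [← e]; group
  have hgt' : g⁻¹ * t * g = t := by rw [mul_assoc, ← hgt]; group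
  have hgr' : g⁻¹ * r * g = r := by rw [mul_assoc, ← hgr]; group
  rcases hcases u' hu' with rfl | rfl | rfl | rfl
  · exfalso
    rcases hcase with e | e
    · exact hb1 (by rw [hginv e]; group)
    · rw [one_mul] at e
      have h1 := hginv e
      rw [hgr'] at h1
      exact hruu (h1 ▸ hb)
  · exfalso
    rcases hcase with e | e
    · have h1 := hginv e
      rw [hgt'] at h1
      exact hbt h1
    · have h1 := hginv e
      have h2 : g⁻¹ * (u' * r) * g = (g⁻¹ * u' * g) * (g⁻¹ * r * g) := by group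
      rw [h2, hgt', hgr'] at h1
      apply hruu
      have h3 : r = u' * b := by rw [h1, ← mul_assoc, htt, one_mul]
      have h4 : u' * b ∈ uu (ws V r) s := mul_mem hS.t_mem hb
      rwa [← h3] at h4
  · rcases hcase with e | e
    · exact Or.inl e
    · exact Or.inr (Or.inr (Or.inl e))
  · rcases hcase with e | e
    · exact Or.inr (Or.inl e)
    · exact Or.inr (Or.inr (Or.inr e))

/-! ### the configuration -/

/-- Case 1 at distance `n`, with path `p, p1, …, q` -/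
structure Cfg (T V : Subgroup G) (z : G) (n : ℕ) (p p1 q t w s v s' : G) : Prop where
  oddN : OddN T V z n
  three : 3 ≤ n
  crit : Crit V z n p q
  tr : Tr T V z p q t
  col : Col V p p1
  walk : Walk V (n - 1) p1 q
  w_mem : w ∈ uu (ws V q) s'
  w_not : w ∉ centralizer (ws V p : Set G)
  v_mem : v ∈ ws V p
  v_not : v ∉ centralizer (ws V q : Set G)
  side : Side V p w t s
  side' : Side V q v t s'
  ctl : ∀ g ∈ centralizer ({q} : Set G), (g * t * g⁻¹ = t ∨ g * t * g⁻¹ = t * q) →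
    g * s' * g⁻¹ * s'⁻¹ ∈ kq V q ∨ g * s' * g⁻¹ * s' ∈ kq V q

section cfg

variable {n : ℕ} {p p1 p2 pn q s v s' : G}

theorem exists_cfg (h : OddN T V z n) (hn : 3 ≤ n) (hc : Crit V z n p q) (h1 : p ∉ ws V q)
    (h2 : q ∉ ws V p) (hcol : Col V p p1) (hw : Walk V (n - 1) p1 q) :
    ∃ t w s v s' : G, Cfg T V z n p p1 q t w s v s' := by
  obtain ⟨t, hT⟩ := tr_of_crit h hc h1 h2
  obtain ⟨_, _, v, hv, b, hb, hvb⟩ := id hc
  have hvn : v ∉ centralizer (ws V q : Set G) := fun h3 => hvb (mem_centralizer_iff.mp h3 b hb).symm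
  obtain ⟨s', hS', hctl⟩ := exists_side_ctl hT.symm hv hvn
  set w := s' * t * s'⁻¹ with hw'
  have hwm : w ∈ uu (ws V q) s' := hS'.four.uu_conj hS'.t_mem
  have hwW := hS'.four.uu_le hwm
  have hwn : w ∉ centralizer (ws V p : Set G) := by
    intro h3
    have h4 : v * w = w * v := mem_centralizer_iff.mp h3 v hv
    have h5 := hS'.uniq hT.symm hv hwm (conj_ne_one hT.t_ne) h4
    exact hS'.t_ne hT.symm (conj_eq_iff_comm.mp h5)
  obtain ⟨s, hS⟩ := hT.exists_side hwW hwn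
  exact ⟨t, w, s, v, s', h, hn, hc, hT, hcol, hw, hwm, hwn, hv, hvn, hS, hS', hctl⟩

namespace Cfg

theorem wW (h : Cfg T V z n p p1 q t w s v s') : w ∈ ws V q := h.side'.four.uu_le h.w_mem

theorem ptp (h : Cfg T V z n p p1 q t w s v s') : Pt z p := h.crit.pt

theorem ptq (h : Cfg T V z n p p1 q t w s v s') : Pt z q := h.crit.pt' h.oddN.toGeo

theorem ptp1 (h : Cfg T V z n p p1 q t w s v s') : Pt z p1 := h.col.pt h.oddN.toGeo

theorem lt (h : Cfg T V z n p p1 q t w s v s') : n - 1 < n := Nat.sub_lt h.oddN.pos Nat.one_pos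

/-- `ws V q` commutes with `ws V p1` -/
theorem comm1 (h : Cfg T V z n p p1 q t w s v s') {a b : G} (ha : a ∈ ws V q) (hb : b ∈ ws V p1) :
    a * b = b * a :=
  (mem_centralizer_iff.mp (comm_of_walk h.oddN h.ptp1 h.lt h.walk ha) b hb).symm

/-- `s` moves `p1` -/
theorem sp1 (h : Cfg T V z n p p1 q t w s v s') : s * p1 ≠ p1 * s :=
  h.side.ne h.oddN h.ptp1 h.lt h.walk h.wW

theorem stp1 (h : Cfg T V z n p p1 q t w s v s') : s * (t * p1) = t * p1 * s :=
  h.side.comm_tp h.oddN h.tr h.ptp1 h.col.mem_ws h.lt h.walk h.wW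

/-- `w1 = s p1 s⁻¹` is collinear with `p` -/
theorem col_w1 (h : Cfg T V z n p p1 q t w s v s') : Col V p (s * p1 * s⁻¹) := by
  have h1 := h.col.conj s
  rwa [conj_eq_iff_comm.mpr (mem_centralizer_singleton_iff.mp h.side.mem)] at h1

theorem ptw1 (h : Cfg T V z n p p1 q t w s v s') : Pt z (s * p1 * s⁻¹) := h.ptp1.conj s

/-- `w` moves `w1` -/
theorem w_w1 (h : Cfg T V z n p p1 q t w s v s') : w * (s * p1 * s⁻¹) ≠ s * p1 * s⁻¹ * w := by
  intro e
  have h1 := h.side.comm_cases h.tr h.wW h.col_w1.mem_ws e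
  have hsp := h.sp1
  rcases h1 with h1 | h1
  · apply hsp
    have c1 : Commute s (s * p1 * s⁻¹) := h1
    have c2 : Commute s s := Commute.refl s
    have c3 := (c2.inv_right.mul_right c1).mul_right c2
    have e3 : s⁻¹ * (s * p1 * s⁻¹) * s = p1 := by group
    rw [e3] at c3
    exact c3.eq
  · -- `w1 = s t s⁻¹ (t p1)`
    have h2 := h.stp1
    have htt := h.tr.tt_sq
    have c1 : Commute s (t * (s * p1 * s⁻¹)) := h1
    have c2 : Commute s (t * p1) := h2
    have e1 : s * p1 * s⁻¹ = s * t * s⁻¹ * (t * p1) := by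
      have : s * (t * p1) * s⁻¹ = t * p1 := conj_eq_iff_comm.mpr h2
      calc s * p1 * s⁻¹ = s * (t * t) * p1 * s⁻¹ := by rw [htt, mul_one]
        _ = s * t * s⁻¹ * (s * (t * p1) * s⁻¹) := by group
        _ = s * t * s⁻¹ * (t * p1) := by rw [this]
    have c3 := c1.mul_right c2.inv_right
    have e2 : t * (s * p1 * s⁻¹) * (t * p1)⁻¹ = t * (s * t * s⁻¹) := by rw [e1]; group
    rw [e2] at c3
    have h3 := h.side.four.eq_one (mul_mem h.side.t_mem (h.side.four.uu_conj h.side.t_mem)) c3.eq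
    have h4 : s * t * s⁻¹ = t := by
      rw [eq_inv_of_mul_eq_one_right h3, inv_eq_self htt]
    exact h.side.t_ne h.tr (conj_eq_iff_comm.mp h4)

/-- an element commuting with `w` and `s w s⁻¹` commutes with `s` -/
theorem comm_s (h : Cfg T V z n p p1 q t w s v s') {f : G} (h1 : w * f = f * w)
    (h2 : s * w * s⁻¹ * f = f * (s * w * s⁻¹)) : s * f = f * s := by
  have c1 : Commute w f := h1
  have c2 : Commute (s * w * s⁻¹) f := h2
  have c3 := c1.mul_left c2.inv_left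
  have e : w * (s * w * s⁻¹)⁻¹ = (s * s)⁻¹ := by
    calc w * (s * w * s⁻¹)⁻¹ = (w * s * w⁻¹) * s⁻¹ := by group
      _ = (s * s)⁻¹ := by rw [h.side.inv]; group
  rw [e] at c3
  have c4 := c3.inv_left
  rw [inv_inv] at c4
  obtain ⟨k, hk⟩ := exists_sq_pow h.side.odd
  have c5 := c4.pow_left k
  rw [hk] at c5
  exact c5.eq

theorem ws_w1 (_ : Cfg T V z n p p1 q t w s v s') : ws V (s * p1 * s⁻¹) = cj s (ws V p1) :=
  (cj_ws V s p1).symm

/-- **(D)** -/
theorem mem_D_iff (h : Cfg T V z n p p1 q t w s v s') {f : G} (hf : f ∈ ws V (s * p1 * s⁻¹)) :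
    f ∈ ws V p1 ↔ w * f = f * w := by
  constructor
  · exact fun h1 => h.comm1 h.wW h1
  · intro h1
    have hf' : s⁻¹ * f * s ∈ ws V p1 := by
      rw [h.ws_w1] at hf
      exact mem_cj.mp hf
    have h2 := h.comm1 h.wW hf'
    have h3 := h.comm_s h1 (by
      calc s * w * s⁻¹ * f = s * (w * (s⁻¹ * f * s)) * s⁻¹ := by group
        _ = s * ((s⁻¹ * f * s) * w) * s⁻¹ := by rw [h2]
        _ = f * (s * w * s⁻¹) := by group)
    have h4 : s⁻¹ * f * s = f := by rw [mul_assoc, ← h3]; group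
    rwa [h4] at hf'

theorem D_comm_s (h : Cfg T V z n p p1 q t w s v s') {f : G} (hf : f ∈ ws V (s * p1 * s⁻¹))
    (hf1 : f ∈ ws V p1) : s * f = f * s := by
  have hf' : s⁻¹ * f * s ∈ ws V p1 := by
    rw [h.ws_w1] at hf
    exact mem_cj.mp hf
  have h2 := h.comm1 h.wW hf'
  exact h.comm_s (h.comm1 h.wW hf1) (by
    calc s * w * s⁻¹ * f = s * (w * (s⁻¹ * f * s)) * s⁻¹ := by group
      _ = s * ((s⁻¹ * f * s) * w) * s⁻¹ := by rw [h2]
      _ = f * (s * w * s⁻¹) := by group)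

/-- **(*)** -/
theorem not_mem_D (h : Cfg T V z n p p1 q t w s v s') (h12 : Col V p1 p2) (h2 : Walk V (n - 2) p2 q) {a : G}
    (ha : a = p1 ∨ a = p2 ∨ a = p1 * p2) (hs : s * a = a * s) : False := by
  have hn := h.three
  obtain ⟨g, hg, hp2, h'⟩ := exists_odd_col h.oddN.toOdd h12
  have hp1g : p1 ∈ cj g V := h'.z_mem
  have key : ∀ a : G, Col V p1 a → Walk V (n - 1) a q → s * a ≠ a * s := by
    intro a hca hwa hsa
    have h1 : s * p1 * s⁻¹ ∈ ws V a := by
      have h2 := h12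
      have h3 : p1 ∈ ws V a := hca.symm.mem_ws
      have h4 : s * p1 * s⁻¹ ∈ cj s (ws V a) := conj_mem_cj h3
      rw [cj_ws, conj_eq_iff_comm.mpr hsa] at h4
      exact h4
    have h5 := comm_of_walk h.oddN (hca.pt h.oddN.toGeo) h.lt hwa h.wW
    exact h.w_w1 (mem_centralizer_iff.mp h5 _ h1).symm
  have h2' : Walk V (n - 1) p2 q := h2.mono (by omega)
  rcases ha with rfl | rfl | rfl
  · exact h.sp1 hs
  · exact key _ h12 h2' hs
  · have hp11 : p1 ≠ 1 := h12.1
    have hp21 : p2 ≠ 1 := h12.2.1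
    have hne : p1 ≠ p2 := h12.2.2.1
    have hm : p1 * p2 ∈ cj g V := mul_mem hp1g hp2
    have hm1 : p1 * p2 ≠ 1 := fun e => hne (by
      rw [eq_inv_of_mul_eq_one_left e, inv_eq_self (h'.sq p2 hp2)])
    have hmp1 : p1 ≠ p1 * p2 := fun e => hp21 (mul_eq_left.mp e.symm)
    have hmp2 : p2 ≠ p1 * p2 := fun e => hp11 (mul_eq_right.mp e.symm)
    have hc1 : Col V p1 (p1 * p2) := col_cj_left.mp (col_of_mem h'.toGeo hp1g hm hp11 hm1 hmp1)
    have hc2 : Col V (p1 * p2) p2 := (col_cj_left.mp (col_of_mem h'.toGeo hp2 hm hp21 hm1 hmp2)).symm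
    refine key _ hc1 ?_ hs
    have := hc2.walk.trans h2
    have e : 1 + (n - 2) = n - 1 := by omega
    rwa [e] at this

theorem w_ne_one (h : Cfg T V z n p p1 q t w s v s') : w ≠ 1 := by
  rintro rfl
  exact h.w_not (one_mem _)

theorem w_ne_t (h : Cfg T V z n p p1 q t w s v s') : w ≠ t := by
  rintro rfl
  apply h.w_not
  exact mem_centralizer_iff.mpr fun a ha =>
    OddBase.ws_comm h.oddN.toOdd h.ptp ha h.tr.t_memr

/-- elements of `ws V w1` commute with `ws V p` -/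
theorem comm_p (h : Cfg T V z n p p1 q t w s v s') {f a : G} (hf : f ∈ ws V (s * p1 * s⁻¹))
    (ha : a ∈ ws V p) : f * a = a * f := by
  have hn := h.three
  have h1 := comm_of_walk h.oddN h.ptp (show 1 < n by omega) h.col_w1.walk hf
  exact (mem_centralizer_iff.mp h1 a ha).symm

/-- (CTL) for the elements of `ws V w1` commuting with `q` -/
theorem conj_cases (h : Cfg T V z n p p1 q t w s v s') {f : G} (hfq : f * q = q * f)
    (hft : f * t = t * f) : f * w * f⁻¹ = w ∨ f * w * f⁻¹ = w * t ∨ f * w * f⁻¹ = w * q ∨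
      f * w * f⁻¹ = w * t * q := by
  have hfc : f ∈ centralizer ({q} : Set G) := mem_centralizer_singleton_iff.mpr hfq
  exact conj_cases_of_ctl h.tr.symm h.side' h.w_mem h.w_ne_one h.w_ne_t hfc hft
    (h.ctl f hfc (Or.inl (conj_eq_iff_comm.mpr hft)))

/-- the elements of `ws V w1` and of `ws V (w w1 w⁻¹)` commute -/
theorem comm_ww (h : Cfg T V z n p p1 q t w s v s') {f g : G} (hf : f ∈ ws V (s * p1 * s⁻¹))
    (hg : g ∈ ws V (s * p1 * s⁻¹)) : f * (w * g * w⁻¹) = w * g * w⁻¹ * f := by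
  have hn := h.three
  have hwp : w * p = p * w := mem_centralizer_singleton_iff.mp (h.tr.cr h.wW)
  have h1 : Col V p (w * (s * p1 * s⁻¹) * w⁻¹) := by
    have := h.col_w1.conj w
    rwa [conj_eq_iff_comm.mpr hwp] at this
  have h2 : w * g * w⁻¹ ∈ ws V (w * (s * p1 * s⁻¹) * w⁻¹) := by
    rw [← cj_ws]; exact conj_mem_cj hg
  have h3 : Walk V 2 (s * p1 * s⁻¹) (w * (s * p1 * s⁻¹) * w⁻¹) := h.col_w1.symm.walk.trans h1.walk
  have h4 := comm_of_walk h.oddN h.ptw1 (show 2 < n by omega) h3 h2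
  exact mem_centralizer_iff.mp h4 f hf

/-- `q`, `t q` do not lie in `ws V w1 · ws V w2` if `ws V w1` moves `q` -/
theorem idx (h : Cfg T V z n p p1 q t w s v s') (hns : ∃ g ∈ ws V (s * p1 * s⁻¹), g * q ≠ q * g) {f : G}
    (hf : f ∈ ws V (s * p1 * s⁻¹)) (hfq : f * q = q * f) :
    f ∈ ws V p1 ∨ f * (s * p1 * s⁻¹) ∈ ws V p1 := by
  obtain ⟨g, hg, hgq⟩ := hns
  set w1 := s * p1 * s⁻¹ with hw1
  have hw1W : w1 ∈ ws V w1 := self_mem_ws h.oddN.toGeo h.ptw1
  have hft := h.comm_p hf h.tr.t_memr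
  have hgt := h.comm_p hg h.tr.t_memr
  have htt := h.tr.tt_sq
  have hqW := self_mem_ws h.oddN.toGeo h.ptq
  have hww := OddBase.ws_sq h.oddN.toOdd h.ptq h.wW
  have hff := OddBase.ws_sq h.oddN.toOdd h.ptw1 hf
  -- `c = w⁻¹ (f w f⁻¹)` commutes with `g`
  have hc : g * (f * w * f⁻¹ * w⁻¹) = f * w * f⁻¹ * w⁻¹ * g := by
    have h1 : g * f = f * g := OddBase.ws_comm h.oddN.toOdd h.ptw1 hg hf
    have h2 := h.comm_ww hg (inv_mem hf)
    have e : f * w * f⁻¹ * w⁻¹ = f * (w * f⁻¹ * w⁻¹) := by group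
    rw [e]
    have c1 : Commute g f := h1
    have c2 : Commute g (w * f⁻¹ * w⁻¹) := h2
    exact (c1.mul_right c2).eq
  have hwt : w * t = t * w := OddBase.ws_comm h.oddN.toOdd h.ptq h.wW h.tr.t_memd
  have hwq : w * q = q * w := OddBase.ws_comm h.oddN.toOdd h.ptq h.wW hqW
  have htq : t * q = q * t := OddBase.ws_comm h.oddN.toOdd h.ptq h.tr.t_memd hqW
  rcases h.conj_cases hfq hft with e | e | e | e
  · left
    exact (h.mem_D_iff hf).mpr (conj_eq_iff_comm.mp e).symm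
  · right
    refine (h.mem_D_iff (mul_mem hf hw1W)).mpr ?_
    -- `w1 w w1⁻¹ = w t`
    have h1 : w * w1 * w⁻¹ = w1 * t := h.tr.conj_eq h.wW h.col_w1.mem_ws h.w_w1
    have hw1t : w1 * t = t * w1 := h.comm_p hw1W h.tr.t_memr
    have h2 : w1 * w * w1⁻¹ = w * t := by
      have e1 : w * w1 = w1 * t * w := mul_inv_eq_iff_eq_mul.mp h1
      calc w1 * w * w1⁻¹ = w1 * t * (t * w) * w1⁻¹ := by
            rw [← mul_assoc (w1 * t) t w, mul_assoc w1 t t, htt, mul_one]
        _ = (w1 * t) * (w * t) * w1⁻¹ := by rw [hwt]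
        _ = (w1 * t * w) * t * w1⁻¹ := by group
        _ = w * (w1 * t) * w1⁻¹ := by rw [← e1]; group
        _ = w * t := by rw [hw1t]; group
    have h3 : f * w1 * w * (f * w1)⁻¹ = w := by
      calc f * w1 * w * (f * w1)⁻¹ = f * (w1 * w * w1⁻¹) * f⁻¹ := by group
        _ = (f * w * f⁻¹) * (f * t * f⁻¹) := by rw [h2]; group
        _ = w * t * t := by rw [e, conj_eq_iff_comm.mpr hft]
        _ = w := by rw [mul_assoc, htt, mul_one]
    exact (conj_eq_iff_comm.mp h3).symm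
  · exfalso
    apply hgq
    have e1 : f * w * f⁻¹ * w⁻¹ = q := by rw [e, hwq]; group
    rwa [e1] at hc
  · exfalso
    apply hgq
    have e1 : f * w * f⁻¹ * w⁻¹ = t * q := by
      rw [e, mul_assoc w t q]
      have c1 : Commute w (t * q) := (show Commute w t from hwt).mul_right hwq
      rw [c1.eq]; group
    rw [e1] at hc
    have c1 : Commute g (t * q) := hc
    have c2 : Commute g t := hgt
    have c3 := c2.inv_right.mul_right c1
    rw [inv_mul_cancel_left] at c3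
    exact c3.eq

end Cfg

end cfg

end Cfsg.Agent.MinSimple.OddCase
end

-- part: MinSimple/TvPoint
section
prune_inst 0x6004140000000018000020001c4282000002004f0001c140020006808c4120000e20b020131200000a440038006000dc0000001000002000020041180080000260829208a000200000008800000000000000000000000000000000000000000000000
set_option linter.all false
open scoped Cfsg.Agent.FastGrp

-- part: MinSimple/TvMain
section
/-!
# The module theorem for the Thompson group at a point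

Notation of `TvMod`, `TvEq`. `Md J F B D ε`: `B ≤ J` is an offender (`|M| ≤ |B| |C_M(B)|`) with `C_M(B) ≤ D`,
`ε ∈ C_M(B)`, the orbit of `ε` generates `M` and meets `D` only in `ε`, and each `d ∈ D` different from `1`, `ε`
is conjugate to `d ε`. Then `|M| = 4` or `M` is the product of two blocks (`Md.main`).
-/

set_option autoImplicit false

namespace Cfsg.Agent.MinSimple.TvMod

open Subgroup

variable {M : Type*} [CommGroup M]

/-- the four group of `r`, `s` -/
def blk (r s : M) : Subgroup M := zpowers r ⊔ zpowers s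

theorem mem_zpowers_iff' (hsq : ∀ m : M, m * m = 1) {r x : M} : x ∈ zpowers r ↔ x = 1 ∨ x = r := by
  constructor
  · intro h
    obtain ⟨k, rfl⟩ := mem_zpowers_iff.mp h
    rcases Int.even_or_odd' k with ⟨j, rfl | rfl⟩
    · left
      rw [zpow_mul, zpow_ofNat, pow_two, hsq, one_zpow]
    · right
      rw [zpow_add, zpow_mul, zpow_ofNat, pow_two, hsq, one_zpow, one_mul, zpow_one]
  · rintro (rfl | rfl)
    · exact one_mem _
    · exact mem_zpowers _

theorem mem_blk (hsq : ∀ m : M, m * m = 1) {r s x : M} :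
    x ∈ blk r s ↔ x = 1 ∨ x = r ∨ x = s ∨ x = s * r := by
  rw [blk, mem_sup]
  constructor
  · rintro ⟨a, ha, b, hb, rfl⟩
    rw [mem_zpowers_iff' hsq] at ha hb
    rcases ha with rfl | rfl <;> rcases hb with rfl | rfl
    · left; rw [one_mul]
    · right; right; left; rw [one_mul]
    · right; left; rw [mul_one]
    · right; right; right; rw [mul_comm]
  · rintro (rfl | rfl | rfl | rfl)
    · exact ⟨1, one_mem _, 1, one_mem _, one_mul 1⟩
    · exact ⟨_, mem_zpowers _, 1, one_mem _, mul_one _⟩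
    · exact ⟨1, one_mem _, _, mem_zpowers _, one_mul _⟩
    · exact ⟨_, mem_zpowers _, _, mem_zpowers _, mul_comm _ _⟩

/-- `r`, `s` are distinct points of a block -/
def Bl (J F : Subgroup (MulAut M)) (r s : M) : Prop := ∃ b c, Blk J F b c r s

/-- `U` is a block -/
def IsBlk (J F : Subgroup (MulAut M)) (U : Subgroup M) : Prop := ∃ r s, Bl J F r s ∧ U = blk r s

theorem Bl.ne {J F : Subgroup (MulAut M)} {r s : M} (k : Bl J F r s) : s ≠ r := by
  obtain ⟨b, c, k⟩ := k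
  exact k.ne

theorem Bl.ne_one {J F : Subgroup (MulAut M)} {r s : M} (k : Bl J F r s) : r ≠ 1 := by
  obtain ⟨b, c, k⟩ := k
  exact k.tb.1

theorem Bl.ne_one' {J F : Subgroup (MulAut M)} {r s : M} (k : Bl J F r s) : s ≠ 1 := by
  obtain ⟨b, c, k⟩ := k
  exact k.tc.1

namespace Ctx

variable {J F : Subgroup (MulAut M)} {r s r' s' x y : M} {U U' : Subgroup M} {b : MulAut M}

theorem bl_symm (h : Ctx J F) (k : Bl J F r s) : Bl J F s r := by
  obtain ⟨b, c, k⟩ := k
  exact ⟨c, b, k.symm h⟩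

theorem bl_third (h : Ctx J F) (k : Bl J F r s) : Bl J F r (s * r) := by
  obtain ⟨b, c, k⟩ := k
  exact ⟨_, _, k.third h⟩

theorem bl_unique (h : Ctx J F) (k : Bl J F r s) (k' : Bl J F r s') : s' = s ∨ s' = s * r := by
  obtain ⟨b, c, k⟩ := k
  obtain ⟨b', c', k'⟩ := k'
  have e : b' = b := h.uc k'.bJ k.bJ k'.tb k.tb
  subst e
  exact h.blk_mem k k'

theorem at_pt (h : Ctx J F) (hU : IsBlk J F U) (hx : x ∈ U) (hx1 : x ≠ 1) :
    ∃ y, Bl J F x y ∧ U = blk x y := by
  obtain ⟨r, s, k, rfl⟩ := hU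
  rw [mem_blk h.sq] at hx
  rcases hx with e | rfl | rfl | rfl
  · exact absurd e hx1
  · exact ⟨s, k, rfl⟩
  · refine ⟨r, h.bl_symm k, ?_⟩
    rw [blk, blk, sup_comm]
  · refine ⟨r, h.bl_symm (h.bl_third k), ?_⟩
    ext m
    rw [mem_blk h.sq, mem_blk h.sq]
    have e1 : r * (s * r) = s := by rw [mul_comm s r, ← mul_assoc, h.sq, one_mul]
    rw [e1]
    (clear * -; tauto)

theorem bl_of_mem (h : Ctx J F) (hU : IsBlk J F U) (hx : x ∈ U) (hx1 : x ≠ 1) (hy : y ∈ U)
    (hy1 : y ≠ 1) (hxy : y ≠ x) : Bl J F x y := by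
  obtain ⟨y', k, rfl⟩ := h.at_pt hU hx hx1
  rw [mem_blk h.sq] at hy
  rcases hy with e | e | rfl | rfl
  · exact absurd e hy1
  · exact absurd e hxy
  · exact k
  · exact h.bl_third k

/-- blocks with a common point are equal -/
theorem blk_eq (h : Ctx J F) (hU : IsBlk J F U) (hU' : IsBlk J F U') (hx : x ∈ U) (hx' : x ∈ U')
    (hx1 : x ≠ 1) : U = U' := by
  obtain ⟨y, k, rfl⟩ := h.at_pt hU hx hx1
  obtain ⟨y', k', rfl⟩ := h.at_pt hU' hx' hx1
  rcases h.bl_unique k k' with rfl | rfl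
  · rfl
  · ext m
    rw [mem_blk h.sq, mem_blk h.sq, mul_assoc, h.sq, mul_one]
    (clear * -; tauto)

/-- a transvection moving a point of a block lies in the block -/
theorem mem_of_move (h : Ctx J F) (hU : IsBlk J F U) (hx : x ∈ U) (hb : b ∈ J) (hbr : Tv b r)
    (hm : b x ≠ x) : r ∈ U := by
  have hx1 : x ≠ 1 := by rintro rfl; exact hm (map_one b)
  obtain ⟨y, ⟨b', c', k⟩, rfl⟩ := h.at_pt hU hx hx1
  rw [mem_blk h.sq]
  rcases h.blk_hit k hb hbr hm with e | e
  · exact Or.inr (Or.inr (Or.inl e))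
  · exact Or.inr (Or.inr (Or.inr e))

theorem blk_smul (h : Ctx J F) (hU : IsBlk J F U) (hx : x ∈ U) (hb : b ∈ J) (hbx : Tv b x)
    (hy : y ∈ U) (hy1 : y ≠ 1) (hyx : y ≠ x) : b y = y * x := by
  obtain ⟨b', c', k⟩ := h.bl_of_mem hU hx hbx.1 hy hy1 hyx
  have e : b = b' := h.uc hb k.bJ hbx k.tb
  rw [e]
  exact k.bs

theorem exists_of_cen (h : Ctx J F) (hb : b ∈ J) (hbr : Tv b r) : ∃ U, IsBlk J F U ∧ r ∈ U := by
  obtain ⟨c, s, k⟩ := h.exists_blk hb hbr
  exact ⟨blk r s, ⟨r, s, ⟨b, c, k⟩, rfl⟩, (mem_blk h.sq).mpr (Or.inr (Or.inl rfl))⟩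

theorem exists_tv_of_mem (h : Ctx J F) (hU : IsBlk J F U) (hx : x ∈ U) (hx1 : x ≠ 1) :
    ∃ c ∈ J, Tv c x := by
  obtain ⟨y, ⟨b', c', k⟩, rfl⟩ := h.at_pt hU hx hx1
  exact ⟨b', k.bJ, k.tb⟩

theorem exists_other (h : Ctx J F) (hU : IsBlk J F U) (hx : x ∈ U) (hx1 : x ≠ 1) :
    ∃ y ∈ U, y ≠ 1 ∧ y ≠ x := by
  obtain ⟨y, k, rfl⟩ := h.at_pt hU hx hx1
  exact ⟨y, (mem_blk h.sq).mpr (Or.inr (Or.inr (Or.inl rfl))), k.ne_one', k.ne⟩

theorem isBlk_map (h : Ctx J F) (hU : IsBlk J F U) (hb : b ∈ J) :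
    IsBlk J F (U.map (b : M ≃* M).toMonoidHom) := by
  obtain ⟨r, s, ⟨b', c', k⟩, rfl⟩ := hU
  refine ⟨b r, b s, ⟨_, _, k.conj h hb⟩, ?_⟩
  rw [blk, blk, Subgroup.map_sup, MonoidHom.map_zpowers, MonoidHom.map_zpowers]
  rfl

theorem card_blk (h : Ctx J F) (hU : IsBlk J F U) : Nat.card U = 4 := by
  obtain ⟨r, s, k, rfl⟩ := hU
  have h1 : zpowers r ⊓ zpowers s = ⊥ := by
    rw [eq_bot_iff]
    rintro x ⟨hx, hy⟩
    have hx' : x ∈ zpowers r := hx
    have hy' : x ∈ zpowers s := hy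
    rw [mem_zpowers_iff' h.sq] at hx' hy'
    rw [mem_bot]
    rcases hx' with e | e
    · exact e
    · rcases hy' with e' | e'
      · exact e'
      · exact absurd (e'.symm.trans e) k.ne
  have hcard : ∀ x : M, x ≠ 1 → Nat.card (zpowers x) = 2 := fun x hx => by
    rw [Nat.card_zpowers]
    exact orderOf_eq_prime (by rw [pow_two, h.sq]) hx
  have h3 : Nat.card (zpowers r ⊔ zpowers s : Subgroup M) =
      Nat.card (zpowers r) * Nat.card (zpowers s) := by
    rw [← Nat.card_prod]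
    refine (Nat.card_congr (Equiv.ofBijective (fun p : zpowers r × zpowers s =>
      (⟨(p.1 : M) * p.2, mul_mem_sup p.1.2 p.2.2⟩ : (zpowers r ⊔ zpowers s : Subgroup M)))
      ⟨?_, ?_⟩)).symm
    · rintro ⟨⟨a, ha⟩, ⟨b, hb⟩⟩ ⟨⟨a', ha'⟩, ⟨b', hb'⟩⟩ e
      have e1 : a * b = a' * b' := congrArg Subtype.val e
      have e2 : a'⁻¹ * a = b' * b⁻¹ := by
        rw [eq_mul_inv_iff_mul_eq, mul_assoc, e1, inv_mul_cancel_left]
      have e3 : a'⁻¹ * a ∈ zpowers r ⊓ zpowers s := by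
        rw [mem_inf]
        constructor
        · exact mul_mem (inv_mem ha') ha
        · rw [e2]; exact mul_mem hb' (inv_mem hb)
      rw [h1, mem_bot] at e3
      have e4 : a' = a := inv_mul_eq_one.mp e3
      subst e4
      have e5 : b = b' := mul_left_cancel e1
      subst e5
      rfl
    · rintro ⟨x, hx⟩
      obtain ⟨a, ha, b, hb, rfl⟩ := mem_sup.mp hx
      exact ⟨(⟨a, ha⟩, ⟨b, hb⟩), rfl⟩
  rw [blk, h3, hcard r k.ne_one, hcard s k.ne_one']

/-- transitivity of a block on its points by elements centralising the points of the other blocks -/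
theorem exists_move (h : Ctx J F) (hU : IsBlk J F U) (hx : x ∈ U) (hx1 : x ≠ 1) (hy : y ∈ U)
    (hy1 : y ≠ 1) : ∃ g ∈ J, g x = y ∧ ∀ U', IsBlk J F U' → U' ≠ U → ∀ m ∈ U', g m = m := by
  by_cases hxy : y = x
  · exact ⟨1, one_mem _, hxy.symm, fun _ _ _ _ _ => rfl⟩
  · have h1 : x * y ≠ 1 := by
      intro e
      apply hxy
      calc y = (x * x) * y := by rw [h.sq, one_mul]
        _ = x := by rw [mul_assoc, e, mul_one]
    have h2 : x * y ∈ U := mul_mem hx hy
    obtain ⟨c, hc, hct⟩ := h.exists_tv_of_mem hU h2 h1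
    refine ⟨c, hc, ?_, fun U' hU' hne m hm => ?_⟩
    · rw [h.blk_smul hU h2 hc hct hx hx1 (fun e => hy1 (by simpa using e.symm)), ← mul_assoc, h.sq,
        one_mul]
    · by_contra hcm
      exact hne (h.blk_eq hU' hU (h.mem_of_move hU' hm hc hct hcm) h2 h1)

end Ctx

/-- the situation at a point -/
structure Md (J F B : Subgroup (MulAut M)) (D : Subgroup M) (ε : M) : Prop extends Ctx J F where
  BJ : B ≤ J
  B2 : ∀ b ∈ B, b * b = 1
  off : Nat.card M ≤ Nat.card B * Nat.card (fix B)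
  B1 : B ≠ ⊥
  fixD : fix B ≤ D
  εB : ε ∈ fix B
  ε1 : ε ≠ 1
  L : ∀ g ∈ J, g ε ∈ D → g ε = ε
  T : ∀ d ∈ D, d ≠ 1 → d ≠ ε → ∃ g ∈ J, g d = d * ε
  gen : ∀ N : Subgroup M, (∀ g ∈ J, g ε ∈ N) → N = ⊤

/-- two blocks with a centre of `B` -/
structure Two (J F B : Subgroup (MulAut M)) (D : Subgroup M) (ε : M) (v v' : M) (U U' : Subgroup M) :
    Prop extends Md J F B D ε where
  bU : IsBlk J F U
  bU' : IsBlk J F U'
  vU : v ∈ U
  vU' : v' ∈ U'
  bv : ∃ b ∈ B, Tv b v
  bv' : ∃ b ∈ B, Tv b v'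
  eps : ε = v * v'
  ne : U ≠ U'
  only : ∀ b ∈ B, ∀ w, Tv b w → w = v ∨ w = v'

namespace Md

variable {J F B : Subgroup (MulAut M)} {D : Subgroup M} {ε : M}

theorem cen_fix (h : Md J F B D ε) {b : MulAut M} {v : M} (hb : b ∈ B) (hv : Tv b v) : v ∈ fix B := by
  intro a ha
  have h1 := hv.conj a
  have e : a * b * a⁻¹ = b := by rw [Ctx.comm_of_sq h.B2 a ha b hb, mul_inv_cancel_right]
  rw [e] at h1
  exact h1.unique hv

theorem cen_unique (h : Md J F B D ε) {b : MulAut M} {v x : M} {U : Subgroup M} (hU : IsBlk J F U)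
    (hb : b ∈ B) (hv : Tv b v) (hvU : v ∈ U) (hx : x ∈ U) (hx1 : x ≠ 1) (hxf : x ∈ fix B) : x = v := by
  by_contra hne
  have h1 := h.blk_smul hU hvU (h.BJ hb) hv hx hx1 hne
  rw [hxf b hb] at h1
  exact hv.1 (by simpa using h1.symm)

/-- Step 1 -/
theorem no_centre [Finite M] (h : Md J F B D ε) {U : Subgroup M} (hU : IsBlk J F U)
    (hno : ∀ b ∈ B, ∀ v ∈ U, ¬ Tv b v) : U ≤ fix B ∧ ∀ c ∈ J, ∀ u ∈ U, Tv c u → c ε = ε := by
  have h1 : U ≤ fix B := by
    intro u hu
    refine h.mem_fix_of_tv _ B rfl h.BJ h.B2 h.off u fun b hb r hr => ?_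
    by_contra hm
    exact hno b hb r (h.mem_of_move hU hu (h.BJ hb) hr hm) hr
  refine ⟨h1, fun c hc u hu hcu => ?_⟩
  rcases hcu.2.2.1 ε with e | e
  · exact e
  · refine h.L c hc ?_
    rw [e]
    exact h.fixD (mul_mem h.εB (h1 hu))

/-- Step 2 -/
theorem partner [Finite M] (h : Md J F B D ε) {b : MulAut M} {v : M} (hb : b ∈ B) (hv : Tv b v)
    (hne : v ≠ ε) : ∃ b' ∈ B, Tv b' (v * ε) := by
  have hvf := h.cen_fix hb hv
  obtain ⟨g, hg, hgv⟩ := h.T v (h.fixD hvf) hv.1 hne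
  have h1 := hv.conj g
  rw [hgv] at h1
  have h1J : g * b * g⁻¹ ∈ J := mul_mem (mul_mem hg (h.BJ hb)) (inv_mem hg)
  obtain ⟨U, hU, hvU⟩ := h.exists_of_cen h1J h1
  have hvε : v * ε ∈ fix B := mul_mem hvf h.εB
  by_cases hex : ∃ b'' ∈ B, ∃ v'' ∈ U, Tv b'' v''
  · obtain ⟨b'', hb'', v'', hv''U, hv''⟩ := hex
    have e := h.cen_unique hU hb'' hv'' hv''U hvU h1.1 hvε
    rw [e]
    exact ⟨b'', hb'', hv''⟩
  · exfalso
    push Not at hex
    obtain ⟨h2, h3⟩ := h.no_centre hU hex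
    obtain ⟨w, hw, hw1, hwv⟩ := h.exists_other hU hvU h1.1
    obtain ⟨c, hc, hct⟩ := h.exists_tv_of_mem hU hw hw1
    have e1 := h3 c hc w hw hct
    have e2 := h.blk_smul hU hw hc hct hvU h1.1 hwv.symm
    rw [map_mul, e1] at e2
    have e3 : c v = v := h.symm_fix (h.BJ hb) hc hv hct (h2 hw b hb)
    rw [e3] at e2
    exact hw1 (by simpa using e2.symm)

/-- Step 3: all centres of `B` are equal to `ε` -/
theorem card_eq_four [Finite M] (h : Md J F B D ε) (hall : ∀ b ∈ B, ∀ v, Tv b v → v = ε) :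
    Nat.card M = 4 := by
  obtain ⟨b, hb, v, hv⟩ := h.exists_tv _ B rfl h.BJ h.B2 h.B1 h.off
  obtain rfl := hall b hb v hv
  obtain ⟨U, hU, hvU⟩ := h.exists_of_cen (h.BJ hb) hv
  have h1 : U = ⊤ := by
    refine h.gen U fun g hg => ?_
    have hUg := h.isBlk_map hU hg
    have hmem : g v ∈ U.map (g : M ≃* M).toMonoidHom := mem_map_of_mem _ hvU
    by_cases e : U.map (g : M ≃* M).toMonoidHom = U
    · rw [e] at hmem; exact hmem
    · have h2 := (h.no_centre hUg fun a ha w hw haw => by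
        have e2 := hall a ha w haw
        rw [e2] at hw
        exact e (h.blk_eq hUg hU hw hvU hv.1)).1
      rw [h.L g hg (h.fixD (h2 hmem))]
      exact hvU
  have h2 := h.card_blk hU
  rw [h1, card_top] at h2
  exact h2

/-- Step 4 -/
theorem exists_two [Finite M] (h : Md J F B D ε) {b : MulAut M} {v : M} (hb : b ∈ B) (hv : Tv b v)
    (hne : v ≠ ε) : ∃ v' U U', Two J F B D ε v v' U U' := by
  obtain ⟨b', hb', hv'⟩ := h.partner hb hv hne
  obtain ⟨U, hU, hvU⟩ := h.exists_of_cen (h.BJ hb) hv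
  obtain ⟨U', hU', hvU'⟩ := h.exists_of_cen (h.BJ hb') hv'
  have hvf := h.cen_fix hb hv
  have hvf' := h.cen_fix hb' hv'
  have hUU' : U ≠ U' := by
    intro e
    rw [← e] at hvU'
    have e1 := h.cen_unique hU hb hv hvU hvU' hv'.1 hvf'
    exact h.ε1 (by simpa using e1)
  obtain ⟨s, hs, hs1, hsv⟩ := h.exists_other hU hvU hv.1
  obtain ⟨c, hc, hct⟩ := h.exists_tv_of_mem hU hs hs1
  have hcv : c v ≠ v := by
    rw [h.blk_smul hU hs hc hct hvU hv.1 hsv.symm]
    exact fun e => hs1 (by simpa using e)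
  -- `c` fixes the other centres of `B`
  have hcw : ∀ a ∈ B, ∀ w, Tv a w → w ≠ v → c w = w := by
    intro a ha w hw hwv
    obtain ⟨W, hW, hwW⟩ := h.exists_of_cen (h.BJ ha) hw
    by_contra hm
    have h1 := h.mem_of_move hW hwW hc hct hm
    have e := h.blk_eq hU hW hs h1 hs1
    rw [← e] at hwW
    exact hwv (h.cen_unique hU hb hv hvU hwW hw.1 (h.cen_fix ha hw))
  have e1 : v * ε ≠ v := fun e => h.ε1 (by simpa using e)
  have hcε : c ε ≠ ε := by
    intro e
    have h1 := hcw b' hb' _ hv' e1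
    rw [map_mul, e] at h1
    exact hcv (mul_right_cancel h1)
  refine ⟨v * ε, U, U', { toMd := h
                          bU := hU
                          bU' := hU'
                          vU := hvU
                          vU' := hvU'
                          bv := ⟨b, hb, hv⟩
                          bv' := ⟨b', hb', hv'⟩
                          eps := ?_
                          ne := hUU'
                          only := fun a ha w hw => ?_ }⟩
  · rw [← mul_assoc, h.sq, one_mul]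
  · by_contra hcon
    push Not at hcon
    obtain ⟨h1, h2⟩ := hcon
    have h3 := hcw a ha w hw h1
    by_cases hwε : w = ε
    · rw [hwε] at h3
      exact hcε h3
    · obtain ⟨a', ha', hw'⟩ := h.partner ha hw hwε
      have h4 : w * ε ≠ v := by
        intro e
        apply h2
        rw [← e, mul_assoc, h.sq, mul_one]
      have h5 := hcw a' ha' _ hw' h4
      rw [map_mul, h3] at h5
      exact hcε (mul_left_cancel h5)

end Md

namespace Two

variable {J F B : Subgroup (MulAut M)} {D : Subgroup M} {ε v v' : M} {U U' : Subgroup M}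

theorem symm (h : Two J F B D ε v v' U U') : Two J F B D ε v' v U' U :=
  { toMd := h.toMd
    bU := h.bU'
    bU' := h.bU
    vU := h.vU'
    vU' := h.vU
    bv := h.bv'
    bv' := h.bv
    eps := by rw [h.eps, mul_comm]
    ne := h.ne.symm
    only := fun b hb w hw => (h.only b hb w hw).symm }

theorem v1 (h : Two J F B D ε v v' U U') : v ≠ 1 := by
  obtain ⟨b, -, hb⟩ := h.bv
  exact hb.1

theorem v_fix (h : Two J F B D ε v v' U U') : v ∈ fix B := by
  obtain ⟨b, hb, hbv⟩ := h.bv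
  exact h.cen_fix hb hbv

theorem vD (h : Two J F B D ε v v' U U') : v ∈ D := h.fixD h.v_fix

theorem inf (h : Two J F B D ε v v' U U') {x : M} (hx : x ∈ U) (hx' : x ∈ U') : x = 1 := by
  by_contra hx1
  exact h.ne (h.blk_eq h.bU h.bU' hx hx' hx1)

theorem no_centre' [Finite M] (h : Two J F B D ε v v' U U') {X : Subgroup M} (hX : IsBlk J F X)
    (h1 : X ≠ U) (h2 : X ≠ U') : X ≤ fix B ∧ ∀ c ∈ J, ∀ u ∈ X, Tv c u → c ε = ε := by
  refine h.no_centre hX fun b hb w hw hbw => ?_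
  rcases h.only b hb w hbw with rfl | rfl
  · exact h1 (h.blk_eq hX h.bU hw h.vU h.v1)
  · exact h2 (h.blk_eq hX h.bU' hw h.vU' h.symm.v1)

/-- Step 5 -/
theorem map_eq [Finite M] (h : Two J F B D ε v v' U U') {g : MulAut M} (hg : g ∈ J) :
    U.map (g : M ≃* M).toMonoidHom = U ∨ U.map (g : M ≃* M).toMonoidHom = U' := by
  by_contra hcon
  push Not at hcon
  obtain ⟨h1, h2⟩ := hcon
  have hX := h.isBlk_map h.bU hg
  have hX' := h.isBlk_map h.bU' hg
  obtain ⟨h3, h4⟩ := h.no_centre' hX h1 h2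
  have hgv : g v ∈ U.map (g : M ≃* M).toMonoidHom := mem_map_of_mem _ h.vU
  have hgv' : g v' ∈ U'.map (g : M ≃* M).toMonoidHom := mem_map_of_mem _ h.vU'
  have hgv1 : g v ≠ 1 := fun e => h.v1 (by simpa using e)
  have hgv'1 : g v' ≠ 1 := fun e => h.symm.v1 (by simpa using e)
  have hne : U'.map (g : M ≃* M).toMonoidHom ≠ U.map (g : M ≃* M).toMonoidHom := fun e =>
    h.ne (map_injective (f := (g : M ≃* M).toMonoidHom) g.injective e.symm)
  have key : ∀ w ∈ fix B, w ∈ U'.map (g : M ≃* M).toMonoidHom → w ≠ 1 → g v * w = ε := by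
    intro w hwf hw hw1
    obtain ⟨k, hk, hkw, hkf⟩ := h.exists_move hX' hgv' hgv'1 hw hw1
    have e1 := hkf _ hX hne.symm _ hgv
    have e2 : (k * g) ε = g v * w := by
      rw [h.eps, MulAut.mul_apply, map_mul, map_mul, e1, hkw]
    rw [← e2]
    refine h.L _ (mul_mem hk hg) ?_
    rw [e2]
    exact h.fixD (mul_mem (h3 hgv) hwf)
  by_cases h5 : U'.map (g : M ≃* M).toMonoidHom = U
  · have e := key v h.v_fix (h5 ▸ h.vU) h.v1
    rw [h.eps, mul_comm v v'] at e
    have e2 := mul_right_cancel e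
    rw [e2] at hgv
    exact h2 (h.blk_eq hX h.bU' hgv h.vU' h.symm.v1)
  · by_cases h6 : U'.map (g : M ≃* M).toMonoidHom = U'
    · have e := key v' h.symm.v_fix (h6.symm ▸ h.vU') h.symm.v1
      rw [h.eps] at e
      have e2 := mul_right_cancel e
      rw [e2] at hgv
      exact h1 (h.blk_eq hX h.bU hgv h.vU h.v1)
    · obtain ⟨h7, -⟩ := h.no_centre' hX' h5 h6
      have e := key (g v') (h7 hgv') hgv' hgv'1
      obtain ⟨x, hx, hx1, hxv⟩ := h.exists_other hX hgv hgv1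
      obtain ⟨c, hc, hct⟩ := h.exists_tv_of_mem hX hx hx1
      have e3 := h4 c hc x hx hct
      have e4 := h.blk_smul hX hx hc hct hgv hgv1 hxv.symm
      have e5 : c (g v') = g v' := by
        by_contra hm
        exact hne (h.blk_eq hX' hX (h.mem_of_move hX' hgv' hc hct hm) hx hx1)
      rw [← e, map_mul, e4, e5] at e3
      have e6 := mul_right_cancel e3
      exact hx1 (by simpa using e6)

theorem map_eq_of_fix [Finite M] (h : Two J F B D ε v v' U U') {g : MulAut M} (hg : g ∈ J)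
    (hgv : g v = v) : U'.map (g : M ≃* M).toMonoidHom = U' := by
  refine (h.symm.map_eq hg).resolve_right fun e => h.ne ?_
  have h1 : U.map (g : M ≃* M).toMonoidHom = U := by
    refine h.blk_eq (h.isBlk_map h.bU hg) h.bU (x := v) ?_ h.vU h.v1
    exact ⟨v, h.vU, hgv⟩
  exact map_injective (f := (g : M ≃* M).toMonoidHom) g.injective (h1.trans e.symm)

theorem sup_eq [Finite M] (h : Two J F B D ε v v' U U') : U ⊔ U' = ⊤ := by
  refine h.gen _ fun g hg => ?_
  rw [h.eps, map_mul]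
  refine mul_mem ?_ ?_
  · have h1 : g v ∈ U.map (g : M ≃* M).toMonoidHom := mem_map_of_mem _ h.vU
    rcases h.map_eq hg with e | e
    · rw [e] at h1; exact mem_sup_left h1
    · rw [e] at h1; exact mem_sup_right h1
  · have h1 : g v' ∈ U'.map (g : M ≃* M).toMonoidHom := mem_map_of_mem _ h.vU'
    rcases h.symm.map_eq hg with e | e
    · rw [e] at h1; exact mem_sup_right h1
    · rw [e] at h1; exact mem_sup_left h1

theorem orbit (h : Two J F B D ε v v' U U') {x x' : M} (hx : x ∈ U) (hx' : x' ∈ U')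
    (hx1 : x ≠ 1) (hx'1 : x' ≠ 1) : ∃ g ∈ J, g ε = x * x' := by
  obtain ⟨g, hg, hgv, hgf⟩ := h.exists_move h.bU h.vU h.v1 hx hx1
  obtain ⟨g', hg', hgv', hgf'⟩ := h.exists_move h.bU' h.vU' h.symm.v1 hx' hx'1
  refine ⟨g * g', mul_mem hg hg', ?_⟩
  rw [h.eps, MulAut.mul_apply, map_mul, map_mul, hgf' U h.bU h.ne v h.vU, hgv, hgv',
    hgf U' h.bU' h.ne.symm x' hx']

theorem left_of_mem (h : Two J F B D ε v v' U U') {x x' : M} (hx : x ∈ U) (hx' : x' ∈ U')
    (hD : x * x' ∈ D) : x = 1 ∨ x = v := by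
  by_contra hcon
  push Not at hcon
  obtain ⟨h1, h2⟩ := hcon
  -- a second factor different from `1`
  obtain ⟨y, hy, hy1, hyD⟩ : ∃ y ∈ U', y ≠ 1 ∧ x * y ∈ D := by
    by_cases e : x' = 1
    · refine ⟨v', h.vU', h.symm.v1, ?_⟩
      rw [e, mul_one] at hD
      exact mul_mem hD h.symm.vD
    · exact ⟨x', hx', e, hD⟩
  obtain ⟨g, hg, hgε⟩ := h.orbit hx hy h1 hy1
  have h3 := h.L g hg (by rw [hgε]; exact hyD)
  rw [hgε, h.eps] at h3
  have h4 : x * v⁻¹ = v' * y⁻¹ := by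
    rw [eq_mul_inv_iff_mul_eq, mul_right_comm, h3, mul_comm v v', mul_inv_cancel_right]
  have h5 := h.inf (mul_mem hx (inv_mem h.vU)) (h4 ▸ mul_mem h.vU' (inv_mem hy))
  exact h2 (mul_inv_eq_one.mp h5)

/-- Step 6 -/
theorem mem_D [Finite M] (h : Two J F B D ε v v' U U') {d : M} (hd : d ∈ D) (hd1 : d ≠ 1)
    (hdε : d ≠ ε) : d = v ∨ d = v' := by
  have h1 : d ∈ U ⊔ U' := by rw [h.sup_eq]; exact mem_top d
  obtain ⟨x, hx, x', hx', rfl⟩ := mem_sup.mp h1
  rcases h.left_of_mem hx hx' hd with rfl | rfl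
  · rcases h.symm.left_of_mem hx' hx (by rw [mul_comm]; exact hd) with rfl | rfl
    · exact absurd (one_mul _) hd1
    · right; rw [one_mul]
  · rcases h.symm.left_of_mem hx' hx (by rw [mul_comm]; exact hd) with rfl | rfl
    · left; rw [mul_one]
    · exact absurd h.eps.symm hdε

theorem exists_N [Finite M] (h : Two J F B D ε v v' U U') : ∃ N : Subgroup M, N ≠ ⊤ ∧ v ∈ N ∧
    ∀ g ∈ J, g v = v → g ε ∈ N := by
  refine ⟨zpowers v ⊔ U', fun e => ?_, mem_sup_left (mem_zpowers v), fun g hg hgv => ?_⟩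
  · obtain ⟨s, hs, hs1, hsv⟩ := h.exists_other h.bU h.vU h.v1
    have h1 : s ∈ zpowers v ⊔ U' := by rw [e]; exact mem_top s
    obtain ⟨a, ha, x, hx, hax⟩ := mem_sup.mp h1
    have haU : a ∈ U := (zpowers_le.mpr h.vU) ha
    have h2 : x ∈ U := by
      have e3 : x = a⁻¹ * s := by rw [← hax, inv_mul_cancel_left]
      rw [e3]
      exact mul_mem (inv_mem haU) hs
    rw [h.inf h2 hx, mul_one] at hax
    rw [mem_zpowers_iff' h.sq, hax] at ha
    exact ha.elim hs1 hsv
  · rw [h.eps, map_mul, hgv]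
    refine mul_mem_sup (mem_zpowers v) ?_
    rw [← h.map_eq_of_fix hg hgv]
    exact mem_map_of_mem _ h.vU'

theorem le_of_stab (h : Two J F B D ε v v' U U') {N : Subgroup M}
    (hN : ∀ g ∈ J, g v = v → g ε ∈ N) : U' ≤ N := by
  have h1 : ∀ x ∈ U', x ≠ 1 → v * x ∈ N := by
    intro x hx hx1
    obtain ⟨g, hg, hgv, hgf⟩ := h.exists_move h.bU' h.vU' h.symm.v1 hx hx1
    have h2 := hgf U h.bU h.ne v h.vU
    have h3 := hN g hg h2
    rwa [h.eps, map_mul, h2, hgv] at h3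
  intro x hx
  by_cases hx1 : x = 1
  · rw [hx1]; exact one_mem _
  · obtain ⟨y, hy, hy1, hyx⟩ := h.exists_other h.bU' hx hx1
    have h4 : x * y ≠ 1 := by
      intro e
      apply hyx
      calc y = (x * x) * y := by rw [h.sq, one_mul]
        _ = x := by rw [mul_assoc, e, mul_one]
    have h5 := mul_mem (h1 (x * y) (mul_mem hx hy) h4) (h1 y hy hy1)
    have e : v * (x * y) * (v * y) = x := by
      calc v * (x * y) * (v * y) = (v * v) * (x * y * y) := mul_mul_mul_comm _ _ _ _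
        _ = x := by rw [h.sq, one_mul, mul_assoc, h.sq, mul_one]
    rwa [e] at h5

end Two

/-- **the module theorem** -/
theorem Md.main [Finite M] {J F B : Subgroup (MulAut M)} {D : Subgroup M} {ε : M} (h : Md J F B D ε) :
    Nat.card M = 4 ∨
    ((∃ d ∈ D, d ≠ 1 ∧ d ≠ ε) ∧
      (∀ d ∈ D, d ≠ 1 → d ≠ ε → ∃ N : Subgroup M, N ≠ ⊤ ∧ d ∈ N ∧ ∀ g ∈ J, g d = d → g ε ∈ N) ∧
      (∀ d ∈ D, d ≠ 1 → d ≠ ε → ∀ N : Subgroup M, (∀ g ∈ J, g d = d → g ε ∈ N) →
        (∀ g ∈ J, g (d * ε) = d * ε → g ε ∈ N) → N = ⊤)) := by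
  by_cases hall : ∀ b ∈ B, ∀ v, Tv b v → v = ε
  · exact Or.inl (h.card_eq_four hall)
  · right
    push Not at hall
    obtain ⟨b, hb, v, hv, hvε⟩ := hall
    obtain ⟨v', U, U', k⟩ := h.exists_two hb hv hvε
    refine ⟨⟨v, k.vD, k.v1, hvε⟩, fun d hd hd1 hdε => ?_, fun d hd hd1 hdε N h1 h2 => ?_⟩
    · rcases k.mem_D hd hd1 hdε with rfl | rfl
      · exact k.exists_N
      · exact k.symm.exists_N
    · have e1 : v * ε = v' := by rw [k.eps, ← mul_assoc, h.sq, one_mul]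
      have e2 : v' * ε = v := by rw [← e1, mul_assoc, h.sq, mul_one]
      rw [← top_le_iff, ← k.sup_eq]
      rcases k.mem_D hd hd1 hdε with rfl | rfl
      · rw [e1] at h2
        exact sup_le (k.symm.le_of_stab h2) (k.le_of_stab h1)
      · rw [e2] at h2
        exact sup_le (k.symm.le_of_stab h1) (k.le_of_stab h2)

end Cfsg.Agent.MinSimple.TvMod
end

-- part: MinSimple/TvPoint
section
/-!
# (E1)(b), row 4406 (5): the module of a point

`z` a point, `V` a line on `z`, `q ∈ V`, `q ≠ 1`, `q ≠ z`, `A ≤ C(V)` elementary abelian with the inequality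
`|ws V z| |A ⊓ kq V z| ≤ |A| |C_{dd V}(A)|` of the Thompson count. Then `|ws V z| = 8` or the configuration of
`Point.Out` holds.
-/

set_option autoImplicit false
set_option linter.unusedSectionVars false

namespace Cfsg.Agent.MinSimple.TvPoint

open Subgroup Cfsg Cfsg.Agent.ZN Cfsg.Agent.MinSimple.Geo Cfsg.Agent.MinSimple.BTwoA
  Cfsg.Agent.MinSimple.OddLine Cfsg.Agent.MinSimple.OddBase Cfsg.Agent.MinSimple.SecRep
  Cfsg.Agent.MinSimple.OddRep Cfsg.Agent.MinSimple.OddTwoRep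
open Cfsg.Agent.MinSimple.TvMod (Ctx Md fix Tv mem_fix)
open Cfsg.Agent.ZN.Block (conj_mem_of_normalizer conj_mem_of_normalizer' le_normalizer_of_forall
  mem_normalizer_of)

universe u

/-- the odd normal subgroup of a solvable group of automorphisms with `O₂ = 1` -/
theorem exists_ctx {M : Type u} [CommGroup M] [Finite M] (hsq : ∀ m : M, m * m = 1)
    (J : Subgroup (MulAut M)) (hJ : Group.IsSolvable J)
    (hO : ∀ N : Subgroup (MulAut M), N ≤ J → (∀ j ∈ J, ∀ n ∈ N, j * n * j⁻¹ ∈ N) → IsPGroup 2 N → N = ⊥) :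
    ∃ F, _root_.Cfsg.Agent.MinSimple.TvMod.Ctx J F := by
  have hFX := OddOrderLocal.FitAux.fittingOf_le J
  have hFn := OddOrderLocal.FitAux.le_normalizer_fittingOf J
  have htwo : ∀ x ∈ fittingOf J, x * x = 1 → x = 1 := by
    rintro _ ⟨x, hx, rfl⟩ hxx
    have : Fact (Nat.Prime 2) := ⟨Nat.prime_two⟩
    have h1 : x ∈ pCore 2 J := Lib.GenFitting.mem_pCore_of_mem_nilpotent_normal
      Lib.Cores.fittingSubgroup_normal Lib.Cores.fittingSubgroup_isNilpotent (k := 1) hx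
      (by rw [pow_one, pow_two]; exact Subtype.ext hxx)
    have h2 := hO ((pCore 2 J).map J.subtype) (map_subtype_le _)
      (fun j hj n hn => conj_mem_of_normalizer
        (OddOrderLocal.FitAux.le_normalizer_map_subtype (Lib.Cores.pCore_normal 2)) hj hn)
      ((Lib.Cores.pCore_isPGroup 2).map _)
    have h3 : (x : MulAut M) ∈ (pCore 2 J).map J.subtype := ⟨x, h1, rfl⟩
    rw [h2, mem_bot] at h3
    exact h3
  refine ⟨fittingOf J, ⟨hsq, hFX, fun j hj f hf => conj_mem_of_normalizer hFn hj hf, ?_, ?_⟩⟩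
  · rw [← Nat.not_even_iff_odd]
    intro he
    have : Fact (Nat.Prime 2) := ⟨Nat.prime_two⟩
    obtain ⟨x, hx⟩ := exists_prime_orderOf_dvd_card' 2 (even_iff_two_dvd.1 he)
    have h1 : (x : MulAut M) * x = 1 := by
      have := pow_orderOf_eq_one x
      rw [hx, pow_two] at this
      exact congrArg Subtype.val this
    have h2 := htwo x x.2 h1
    rw [Subtype.ext (a1 := x) (a2 := 1) h2, orderOf_one] at hx
    norm_num at hx
  · intro x hxJ hxC
    have := hJ
    have h : (⟨x, hxJ⟩ : J) ∈ centralizer (fittingSubgroup J : Set J) := by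
      rw [mem_centralizer_iff]
      intro y hy
      exact Subtype.ext (hxC y ⟨y, hy, rfl⟩).symm
    exact ⟨⟨x, hxJ⟩, S0044.result h, rfl⟩

variable {G : Type u} [Group G] [Finite G] {T V : Subgroup G} {z q : G}
  {M X : Type u} [AddCommGroup M] [Group X] [DistribMulAction X M]

theorem exists_ctx_rep (h : _root_.Cfsg.Agent.MinSimple.OddLine.Odd T V z) (R : _root_.Cfsg.Agent.MinSimple.OddRep.Rep V z M X) : ∃ F, _root_.Cfsg.Agent.MinSimple.TvMod.Ctx (act M X).range F := by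
  have hx : Pt z z := Pt.refl z
  have : Finite M := R.finite_left
  have : Finite (Multiplicative M) := this
  refine exists_ctx (fun m => ?_) _ ?_ ?_
  · exact Rep.two h hx R m.toAdd
  · have := Rep.isSolvable h hx R
    exact Group.isSolvable_of_surjective (act M X).rangeRestrict_surjective
  · intro N hN hNn hN2
    have hinj : Function.Injective (act M X) := by
      rw [injective_iff_map_eq_one]
      intro g hg
      refine R.faithful g fun m => ?_
      have h1 : act M X g (Multiplicative.ofAdd m) = Multiplicative.ofAdd m := by rw [hg]; rfl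
      rw [act_apply] at h1
      exact Multiplicative.ofAdd.injective h1
    have h1 : (N.comap (act M X)).Normal := ⟨fun n hn g => by
      rw [mem_comap, map_mul, map_mul, map_inv]
      exact hNn _ ⟨g, rfl⟩ _ hn⟩
    have h2 : IsPGroup 2 (N.comap (act M X)) := hN2.comap_of_injective (act M X) hinj
    have h3 := Rep.o2_eq_bot h hx R h1 h2
    rw [eq_bot_iff]
    intro n hn
    obtain ⟨g, rfl⟩ := hN hn
    have h4 : g ∈ N.comap (act M X) := hn
    rw [h3, mem_bot] at h4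
    rw [h4, map_one]; exact one_mem _

/-- the restriction of `ve` to a subgroup of `ws V z` -/
def vr (R : _root_.Cfsg.Agent.MinSimple.OddRep.Rep V z M X) {H : Subgroup G} (hH : H ≤ ws V z) : H →* Multiplicative M where
  toFun a := ve R a
  map_one' := by
    change Multiplicative.ofAdd (R.pi ((1 : H) : G)) = 1
    rw [OneMemClass.coe_one, R.pi_one]; rfl
  map_mul' a b := ve_mul R (hH a.2) (hH b.2)

theorem mem_vr (R : _root_.Cfsg.Agent.MinSimple.OddRep.Rep V z M X) {H : Subgroup G} (hH : H ≤ ws V z) {m : Multiplicative M} :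
    m ∈ (vr R hH).range ↔ ∃ a ∈ H, ve R a = m :=
  ⟨fun ⟨a, ha⟩ => ⟨a, a.2, ha⟩, fun ⟨a, ha, e⟩ => ⟨⟨a, ha⟩, e⟩⟩

theorem ve_one (R : _root_.Cfsg.Agent.MinSimple.OddRep.Rep V z M X) : ve R 1 = 1 := by
  unfold ve; rw [R.pi_one]; rfl

theorem z_mem_ws (h : _root_.Cfsg.Agent.MinSimple.OddLine.Odd T V z) : z ∈ ws V z := self_mem_ws h.toGeo (Pt.refl z)

theorem ve_eq_one (h : _root_.Cfsg.Agent.MinSimple.OddLine.Odd T V z) (R : _root_.Cfsg.Agent.MinSimple.OddRep.Rep V z M X) {a : G} (ha : a ∈ ws V z) :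
    ve R a = 1 ↔ a = 1 ∨ a = z := by
  rw [← ve_one R, ve_eq h (Pt.refl z) R ha (one_mem _), mul_one]

theorem two_mul_card_vr (h : _root_.Cfsg.Agent.MinSimple.OddLine.Odd T V z) (R : _root_.Cfsg.Agent.MinSimple.OddRep.Rep V z M X) {H : Subgroup G} (hH : H ≤ ws V z)
    (hz : z ∈ H) : 2 * Nat.card (vr R hH).range = Nat.card H := by
  have h1 : Nat.card (vr R hH).ker = 2 := by
    have h2 : (vr R hH).ker = zpowers (⟨z, hz⟩ : H) := by
      ext ⟨a, ha⟩
      have e1 : (⟨a, ha⟩ : H) ∈ (vr R hH).ker ↔ a = 1 ∨ a = z := by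
        rw [MonoidHom.mem_ker]
        exact ve_eq_one h R (hH ha)
      rw [e1, mem_zpowers_iff_of_mul_self (Subtype.ext h.zz : (⟨z, hz⟩ : H) * ⟨z, hz⟩ = 1)]
      constructor
      · rintro (e | e)
        · exact Or.inl (Subtype.ext e)
        · exact Or.inr (Subtype.ext e)
      · rintro (e | e)
        · exact Or.inl (congrArg Subtype.val e)
        · exact Or.inr (congrArg Subtype.val e)
    rw [h2, Nat.card_zpowers]
    refine orderOf_eq_prime (by rw [pow_two]; exact Subtype.ext h.zz) fun e => h.z_ne ?_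
    exact congrArg Subtype.val e
  rw [← Subgroup.card_mul_index (vr R hH).ker, Subgroup.index_ker, h1]

theorem vr_top (R : _root_.Cfsg.Agent.MinSimple.OddRep.Rep V z M X) : (vr R (le_refl (ws V z))).range = ⊤ := by
  rw [eq_top_iff]
  rintro m -
  obtain ⟨a, ha, rfl⟩ := ve_surj R m
  exact (mem_vr R _).mpr ⟨a, ha, rfl⟩

theorem two_mul_card (h : _root_.Cfsg.Agent.MinSimple.OddLine.Odd T V z) (R : _root_.Cfsg.Agent.MinSimple.OddRep.Rep V z M X) :
    2 * Nat.card (Multiplicative M) = Nat.card (ws V z) := by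
  rw [← two_mul_card_vr h R (le_refl _) (z_mem_ws h), vr_top R, card_top]

/-- the action of a subgroup of `C(z)` -/
def rh (R : _root_.Cfsg.Agent.MinSimple.OddRep.Rep V z M X) {A : Subgroup G} (hA : A ≤ centralizer ({z} : Set G)) :
    A →* MulAut (Multiplicative M) where
  toFun a := act M X (R.rho a)
  map_one' := by rw [OneMemClass.coe_one, R.rho_one, map_one]
  map_mul' a b := by
    rw [Subgroup.coe_mul, R.rho_mul _ (hA a.2) _ (hA b.2), map_mul]

theorem act_inj (R : _root_.Cfsg.Agent.MinSimple.OddRep.Rep V z M X) : Function.Injective (act M X) := by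
  rw [injective_iff_map_eq_one]
  intro g hg
  refine R.faithful g fun m => ?_
  have h1 : act M X g (Multiplicative.ofAdd m) = Multiplicative.ofAdd m := by rw [hg]; rfl
  rw [act_apply] at h1
  exact Multiplicative.ofAdd.injective h1

theorem card_rh (R : _root_.Cfsg.Agent.MinSimple.OddRep.Rep V z M X) {A : Subgroup G} (hA : A ≤ centralizer ({z} : Set G)) :
    Nat.card (A ⊓ kq V z : Subgroup G) * Nat.card (rh R hA).range = Nat.card A := by
  have h1 : (rh R hA).ker = (kq V z).subgroupOf A := by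
    ext ⟨a, ha⟩
    rw [MonoidHom.mem_ker, mem_subgroupOf]
    change act M X (R.rho a) = 1 ↔ a ∈ kq V z
    rw [← Rep.rho_eq_one R (hA ha)]
    constructor
    · intro e
      exact act_inj R (by rw [e, map_one])
    · intro e
      rw [e, map_one]
  have h2 : Nat.card (rh R hA).ker = Nat.card (A ⊓ kq V z : Subgroup G) := by
    rw [h1, inf_comm, ← inf_subgroupOf_right]
    exact Nat.card_congr (subgroupOfEquivOfLe inf_le_right).toEquiv
  rw [← h2, ← Subgroup.index_ker, Subgroup.card_mul_index]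

/-- `dd V` is not normalized by `C(z)` -/
theorem dd_ne_ws (h : _root_.Cfsg.Agent.MinSimple.OddLine.Odd T V z) : dd V ≠ ws V z := by
  intro e
  have h1 := h.core (ws V z) (h.two.to_le h.ws_le_T) (by rw [← e]; exact normalizer_le_normalizer_dd V)
    (Geo.centralizer_le_normalizer_ws V z)
  have h2 := h.V_le_ws h.z_mem
  rw [h1, mem_bot] at h2
  exact h.z_ne h2

/-- the points of the line -/
theorem line_cases (h : _root_.Cfsg.Agent.MinSimple.OddLine.Odd T V z) (hq : q ∈ V) (hq1 : q ≠ 1) (hqz : q ≠ z) {c : G}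
    (hc : c ∈ centralizer ({z} : Set G)) (hd : c * q * c⁻¹ ∈ dd V) :
    c * q * c⁻¹ = q ∨ c * q * c⁻¹ = z * q := by
  have hcz : c * z * c⁻¹ = z := by rw [mem_centralizer_singleton_iff.mp hc]; group
  have hzd : z ∈ dd V := h.V_le_dd h.z_mem
  have hL : cj c V ∈ lines V z := ⟨⟨c, rfl⟩, mem_cj.mpr (by
    have e : c⁻¹ * z * c = z := by
      calc c⁻¹ * z * c = c⁻¹ * (c * z * c⁻¹) * c := by rw [hcz]
        _ = z := by group
    rw [e]; exact h.z_mem)⟩
  have hLd : cj c V ≤ dd V := by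
    intro v hv
    rw [mem_cj] at hv
    have e : v = c * (c⁻¹ * v * c) * c⁻¹ := by group
    rw [e]
    rcases h.four h.z_mem hq h.z_ne hq1 (Ne.symm hqz) hv with e1 | e1 | e1 | e1
    · rw [e1, mul_one, mul_inv_cancel]; exact one_mem _
    · rw [e1, hcz]; exact hzd
    · rw [e1]; exact hd
    · rw [e1]
      have e2 : c * (z * q) * c⁻¹ = (c * z * c⁻¹) * (c * q * c⁻¹) := by group
      rw [e2, hcz]
      exact mul_mem hzd hd
  have hLV := h.eq_of_mem_lines hL hLd
  have h1 : c * q * c⁻¹ ∈ V := by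
    rw [← hLV]; exact conj_mem_cj hq
  rcases h.four h.z_mem hq h.z_ne hq1 (Ne.symm hqz) h1 with e1 | e1 | e1 | e1
  · exact absurd e1 (conj_ne_one hq1)
  · exact absurd (conj_inj (e1.trans hcz.symm)) hqz
  · exact Or.inl e1
  · exact Or.inr e1

/-- the data of the Thompson count at the point `z` of `V` -/
structure Cnt (T V : Subgroup G) (z : G) (A : Subgroup G) : Prop extends _root_.Cfsg.Agent.MinSimple.OddLine.Odd T V z where
  A_le : A ≤ centralizer (V : Set G)
  A_sq : ∀ a ∈ A, a * a = 1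
  cnt : Nat.card (ws V z) * Nat.card (A ⊓ kq V z : Subgroup G) ≤
    Nat.card A * Nat.card (dd V ⊓ centralizer (A : Set G) : Subgroup G)

namespace Cnt

variable {A : Subgroup G}

theorem le_z (h : Cnt T V z A) : A ≤ centralizer ({z} : Set G) :=
  h.A_le.trans (centralizer_le (Set.singleton_subset_iff.mpr h.z_mem))

theorem dd_le (h : Cnt T V z A) : dd V ≤ ws V z := h.toOdd.dd_le_ws h.z_mem h.z_ne

theorem inf_le (h : Cnt T V z A) : dd V ⊓ centralizer (A : Set G) ≤ ws V z := inf_le_left.trans h.dd_le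

theorem z_mem_inf (h : Cnt T V z A) : z ∈ dd V ⊓ centralizer (A : Set G) :=
  ⟨h.toOdd.V_le_dd h.z_mem, mem_centralizer_iff.mpr fun _ ha =>
    (mem_centralizer_iff.mp (h.A_le ha) z h.z_mem).symm⟩

theorem vr_le_fix (h : Cnt T V z A) (R : _root_.Cfsg.Agent.MinSimple.OddRep.Rep V z M X) :
    (vr R h.inf_le).range ≤ fix (rh R h.le_z).range := by
  intro m hm
  obtain ⟨a, ha, rfl⟩ := (mem_vr R _).mp hm
  rintro _ ⟨⟨c, hc⟩, rfl⟩
  change act M X (R.rho c) (ve R a) = ve R a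
  rw [act_ve R (h.le_z hc) (h.inf_le ha), mem_centralizer_iff.mp ha.2 c hc, mul_inv_cancel_right]

theorem card_le (h : Cnt T V z A) (R : _root_.Cfsg.Agent.MinSimple.OddRep.Rep V z M X) :
    Nat.card (Multiplicative M) ≤ Nat.card (rh R h.le_z).range * Nat.card (vr R h.inf_le).range := by
  have h1 := two_mul_card h.toOdd R
  have h2 := two_mul_card_vr h.toOdd R h.inf_le h.z_mem_inf
  have h3 := card_rh R h.le_z
  have h4 := h.cnt
  have hpos : 0 < Nat.card (A ⊓ kq V z : Subgroup G) := Nat.card_pos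
  rw [← h1, ← h2, ← h3] at h4
  have h5 : (2 * Nat.card (A ⊓ kq V z : Subgroup G)) * Nat.card (Multiplicative M) ≤
      (2 * Nat.card (A ⊓ kq V z : Subgroup G)) *
        (Nat.card (rh R h.le_z).range * Nat.card (vr R h.inf_le).range) := by
    calc _ = 2 * Nat.card (Multiplicative M) * Nat.card (A ⊓ kq V z : Subgroup G) := by ring
      _ ≤ _ := h4
      _ = _ := by ring
  exact Nat.le_of_mul_le_mul_left h5 (by omega)

theorem rh_sq (h : Cnt T V z A) (R : _root_.Cfsg.Agent.MinSimple.OddRep.Rep V z M X) : ∀ b ∈ (rh R h.le_z).range, b * b = 1 := by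
  rintro _ ⟨⟨c, hc⟩, rfl⟩
  rw [← map_mul]
  have e : (⟨c, hc⟩ : A) * ⟨c, hc⟩ = 1 := Subtype.ext (h.A_sq c hc)
  rw [e, map_one]

theorem rh_le (h : Cnt T V z A) (R : _root_.Cfsg.Agent.MinSimple.OddRep.Rep V z M X) : (rh R h.le_z).range ≤ (act M X).range := by
  rintro _ ⟨⟨c, hc⟩, rfl⟩
  exact ⟨R.rho c, rfl⟩

theorem finite' (R : _root_.Cfsg.Agent.MinSimple.OddRep.Rep V z M X) : Finite (Multiplicative M) := R.finite_left

theorem fix_eq (h : Cnt T V z A) (R : _root_.Cfsg.Agent.MinSimple.OddRep.Rep V z M X) :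
    fix (rh R h.le_z).range = (vr R h.inf_le).range := by
  have := finite' R
  obtain ⟨F, hF⟩ := exists_ctx_rep h.toOdd R
  refine (eq_of_le_of_card_ge (h.vr_le_fix R) ?_).symm
  have h1 := hF.card_mul_le _ _ rfl (h.rh_le R) (h.rh_sq R)
  exact Nat.le_of_mul_le_mul_left (h1.trans (h.card_le R)) Nat.card_pos

theorem fix_le (h : Cnt T V z A) (R : _root_.Cfsg.Agent.MinSimple.OddRep.Rep V z M X) :
    fix (rh R h.le_z).range ≤ (vr R h.dd_le).range := by
  rw [h.fix_eq R]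
  intro m hm
  obtain ⟨a, ha, rfl⟩ := (mem_vr R _).mp hm
  exact (mem_vr R _).mpr ⟨a, ha.1, rfl⟩

theorem rh_ne_bot (h : Cnt T V z A) (R : _root_.Cfsg.Agent.MinSimple.OddRep.Rep V z M X) : (rh R h.le_z).range ≠ ⊥ := by
  have := finite' R
  intro e
  apply dd_ne_ws h.toOdd
  refine eq_of_le_of_card_ge h.dd_le ?_
  rw [← two_mul_card h.toOdd R, ← two_mul_card_vr h.toOdd R h.dd_le (h.toOdd.V_le_dd h.z_mem)]
  refine Nat.mul_le_mul_left _ ?_
  have h1 := h.card_le R
  rw [e, card_bot, one_mul] at h1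
  refine h1.trans (card_le_of_le ?_)
  rw [← h.fix_eq R]
  exact h.fix_le R

/-- elements of `dd V` with image different from `1` and `ve R q` -/
theorem not_mem_of (h : Cnt T V z A) (R : _root_.Cfsg.Agent.MinSimple.OddRep.Rep V z M X) (hq : q ∈ V) (hq1 : q ≠ 1) (hqz : q ≠ z) {t : G}
    (h1 : ve R t ≠ 1) (h2 : ve R t ≠ ve R q) : t ∉ V := by
  intro ht
  rcases h.four h.z_mem hq h.z_ne hq1 (Ne.symm hqz) ht with e | e | e | e
  · exact h1 (by rw [e, ve_one])
  · exact h1 (by rw [e]; exact (ve_eq_one h.toOdd R (z_mem_ws h.toOdd)).mpr (Or.inr rfl))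
  · exact h2 (by rw [e])
  · refine h2 ?_
    rw [e, ve_eq h.toOdd (Pt.refl z) R (mul_mem (z_mem_ws h.toOdd) (h.V_le_ws hq)) (h.V_le_ws hq)]
    exact Or.inr rfl

theorem ve_z_mul (h : _root_.Cfsg.Agent.MinSimple.OddLine.Odd T V z) (R : _root_.Cfsg.Agent.MinSimple.OddRep.Rep V z M X) {a : G} (ha : a ∈ ws V z) : ve R (z * a) = ve R a := by
  rw [ve_eq h (Pt.refl z) R (mul_mem (z_mem_ws h) ha) ha]
  exact Or.inr rfl

/-- **the module data at the point** -/
theorem exists_md (h : Cnt T V z A) (R : _root_.Cfsg.Agent.MinSimple.OddRep.Rep V z M X) (hq : q ∈ V) (hq1 : q ≠ 1) (hqz : q ≠ z) :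
    ∃ F, Md (act M X).range F (rh R h.le_z).range (vr R h.dd_le).range (ve R q) := by
  have := finite' R
  obtain ⟨F, hF⟩ := exists_ctx_rep h.toOdd R
  have hqw : q ∈ ws V z := h.V_le_ws hq
  refine ⟨F, { toCtx := hF
               BJ := h.rh_le R
               B2 := h.rh_sq R
               off := by rw [h.fix_eq R]; exact h.card_le R
               B1 := h.rh_ne_bot R
               fixD := h.fix_le R
               εB := ?_
               ε1 := ?_
               L := ?_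
               T := ?_
               gen := ?_ }⟩
  · rw [h.fix_eq R]
    exact (mem_vr R _).mpr ⟨q, ⟨h.toOdd.V_le_dd hq, mem_centralizer_iff.mpr fun _ ha =>
      (mem_centralizer_iff.mp (h.A_le ha) q hq).symm⟩, rfl⟩
  · intro e
    rcases (ve_eq_one h.toOdd R hqw).mp e with e | e
    · exact hq1 e
    · exact hqz e
  · rintro _ ⟨g, rfl⟩ hD
    obtain ⟨c, hc, rfl⟩ := R.rho_surj g
    rw [act_ve R hc hqw] at hD ⊢
    obtain ⟨t, ht, e⟩ := (mem_vr R _).mp hD
    have hcw : c * q * c⁻¹ ∈ ws V z := R.conj_mem hc hqw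
    rw [ve_eq h.toOdd (Pt.refl z) R (h.dd_le ht) hcw] at e
    have hcd : c * q * c⁻¹ ∈ dd V := by
      rcases e with e | e
      · rw [← e]; exact ht
      · have e2 : c * q * c⁻¹ = z⁻¹ * t := by rw [e, inv_mul_cancel_left]
        rw [e2]
        exact mul_mem (inv_mem (h.toOdd.V_le_dd h.z_mem)) ht
    rcases line_cases h.toOdd hq hq1 hqz hc hcd with e1 | e1
    · rw [e1]
    · rw [e1, ve_z_mul h.toOdd R hqw]
  · rintro d hd hd1 hdε
    obtain ⟨t, ht, rfl⟩ := (mem_vr R _).mp hd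
    have htV := h.not_mem_of R hq hq1 hqz hd1 hdε
    obtain ⟨k, hk, hkV, hkt⟩ := h.toOdd.exists_transvection ht htV hq hq1
    have hkz : k ∈ centralizer ({z} : Set G) :=
      centralizer_le (Set.singleton_subset_iff.mpr h.z_mem) hkV
    refine ⟨_, ⟨R.rho k, rfl⟩, ?_⟩
    rw [act_ve R hkz (h.dd_le ht), hkt, ve_mul R hqw (h.dd_le ht), mul_comm]
  · intro N hN
    have hc : Col V z q := ⟨h.z_ne, hq1, Ne.symm hqz, V, ⟨⟨1, (cj_one V).symm⟩, h.z_mem⟩, hq⟩
    have h1 := Rep.eq_top_of_line h.toOdd (Pt.refl z) R hc (Subgroup.toAddSubgroup' N) (fun g => hN _ ⟨g, rfl⟩)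
    rw [eq_top_iff]
    intro m _
    have h2 : m.toAdd ∈ Subgroup.toAddSubgroup' N := by rw [h1]; exact AddSubgroup.mem_top _
    exact h2

/-- `C_{W}(kq V z) ≤ ⟨z⟩` -/
theorem cent (h : Cnt T V z A) (R : _root_.Cfsg.Agent.MinSimple.OddRep.Rep V z M X) (hq : q ∈ V) (hq1 : q ≠ 1) (hqz : q ≠ z) {w : G}
    (hw : w ∈ ws V z) (hk : ∀ k ∈ kq V z, k * w = w * k) : w ∈ zpowers z := by
  have := finite' R
  have hF := h.exists_md R hq hq1 hqz
  obtain ⟨F, hF⟩ := hF
  have hHw : ws V z ⊓ centralizer (kq V z : Set G) ≤ ws V z := inf_le_left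
  by_contra hwz
  have hwz' : ¬ (w = 1 ∨ w = z) := fun e => hwz ((mem_zpowers_iff_of_mul_self h.zz).mpr e)
  -- the image `N` is invariant
  obtain ⟨n, hn, hn1, hnf⟩ := TvMod.exists_fix hF.sq hF.B2 (N := (vr R hHw).range) (by
    rintro _ ⟨⟨c, hc⟩, rfl⟩ n hn
    obtain ⟨a, ha, rfl⟩ := (mem_vr R _).mp hn
    change act M X (R.rho c) (ve R a) ∈ _
    have hcz := h.le_z hc
    rw [act_ve R hcz ha.1]
    refine (mem_vr R _).mpr ⟨_, ⟨R.conj_mem hcz ha.1, mem_centralizer_iff.mpr fun k hk => ?_⟩, rfl⟩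
    have hk' : c⁻¹ * k * c⁻¹⁻¹ ∈ kq V z :=
      conj_mem_of_normalizer (BTwoB.centralizer_le_normalizer_kq V z) (inv_mem hcz) hk
    have h1 := mem_centralizer_iff.mp ha.2 _ hk'
    calc k * (c * a * c⁻¹) = c * ((c⁻¹ * k * c⁻¹⁻¹) * a) * c⁻¹ := by group
      _ = c * (a * (c⁻¹ * k * c⁻¹⁻¹)) * c⁻¹ := by rw [h1]
      _ = c * a * c⁻¹ * k := by group) (by
    intro e
    have h1 : ve R w ∈ (vr R hHw).range := (mem_vr R _).mpr ⟨w, ⟨hw, mem_centralizer_iff.mpr hk⟩, rfl⟩
    rw [e, mem_bot] at h1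
    exact hwz' ((ve_eq_one h.toOdd R hw).mp h1))
  obtain ⟨a, ha, rfl⟩ := (mem_vr R _).mp hn
  obtain ⟨t, ht, e⟩ := (mem_vr R _).mp (h.fix_le R hnf)
  have hzd := h.toOdd.V_le_dd h.z_mem
  have had : a ∈ dd V := by
    rw [ve_eq h.toOdd (Pt.refl z) R (h.dd_le ht) ha.1] at e
    rcases e with e | e
    · rw [← e]; exact ht
    · have e2 : a = z⁻¹ * t := by rw [e, inv_mul_cancel_left]
      rw [e2]
      exact mul_mem (inv_mem hzd) ht
  have haz : ¬ (a = 1 ∨ a = z) := fun e => hn1 ((ve_eq_one h.toOdd R ha.1).mpr e)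
  push Not at haz
  have key : ∀ k ∈ kq V z, k * a * k⁻¹ ≠ z * a := by
    intro k hk e
    have h1 := mem_centralizer_iff.mp ha.2 k hk
    rw [h1, mul_inv_cancel_right] at e
    exact h.z_ne (by simpa using e.symm)
  by_cases haV : a ∈ V
  · obtain ⟨y, hy, hym⟩ := h.toOdd.exists_swap' h.z_mem h.z_ne
    exact key y hy (hym a haV haz.1 haz.2)
  · obtain ⟨k, hk, -, hka⟩ := h.toOdd.exists_transvection had haV h.z_mem h.z_ne
    exact key k hk hka

/-- an element of `C(z)` fixing the image of `u` can be changed by `kq V z` so that it centralizes `u` -/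
theorem exists_fixer (h : Cnt T V z A) (R : _root_.Cfsg.Agent.MinSimple.OddRep.Rep V z M X) {u c : G} (hu : u ∈ dd V) (huV : u ∉ V)
    (hc : c ∈ centralizer ({z} : Set G)) (he : act M X (R.rho c) (ve R u) = ve R u) :
    ∃ j ∈ centralizer ({z} : Set G), j ∈ centralizer ({u} : Set G) ∧ R.rho j = R.rho c := by
  have huw := h.dd_le hu
  rw [act_ve R hc huw, ve_eq h.toOdd (Pt.refl z) R (R.conj_mem hc huw) huw] at he
  rcases he with e | e
  · refine ⟨c, hc, mem_centralizer_singleton_iff.mpr ?_, rfl⟩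
    calc c * u = (c * u * c⁻¹) * c := by group
      _ = u * c := by rw [e]
  · obtain ⟨k, hk, -, hku⟩ := h.toOdd.exists_transvection hu huV h.z_mem h.z_ne
    have hkz := BTwoB.kq_le V z hk
    refine ⟨k * c, mul_mem hkz hc, mem_centralizer_singleton_iff.mpr ?_, ?_⟩
    · have hkc : k * z * k⁻¹ = z := by rw [mem_centralizer_singleton_iff.mp hkz]; group
      calc k * c * u = (k * (c * u * c⁻¹) * k⁻¹) * (k * c) := by group
        _ = (k * (z * u) * k⁻¹) * (k * c) := by rw [e]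
        _ = ((k * z * k⁻¹) * (k * u * k⁻¹)) * (k * c) := by group
        _ = (z * z) * u * (k * c) := by rw [hkc, hku]; group
        _ = u * (k * c) := by rw [h.zz, one_mul]
    · rw [R.rho_mul k hkz c hc, (Rep.rho_eq_one R hkz).mpr hk, one_mul]

/-- **row 4406 (5)** -/
theorem main (h : Cnt T V z A) (hq : q ∈ V) (hq1 : q ≠ 1) (hqz : q ≠ z) : Nat.card (ws V z) = 8 ∨
    ((∀ w ∈ ws V z, (∀ k ∈ kq V z, k * w = w * k) → w ∈ zpowers z) ∧
      (∃ u ∈ dd V, u ∉ V) ∧
      (∀ u ∈ dd V, u ∉ V → ∃ P : Subgroup G, P < ws V z ∧ u ∈ P ∧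
        ∀ j ∈ centralizer ({z} : Set G), j ∈ centralizer ({u} : Set G) → cj j V ≤ P) ∧
      (∀ u ∈ dd V, u ∉ V → ∀ v ∈ V, v ∉ zpowers z → ∀ P : Subgroup G,
        (∀ j ∈ centralizer ({z} : Set G), j ∈ centralizer ({u} : Set G) → cj j V ≤ P) →
        (∀ j ∈ centralizer ({z} : Set G), j ∈ centralizer ({u * v} : Set G) → cj j V ≤ P) →
        ws V z ≤ P)) := by
  obtain ⟨M, X, _, _, _, ⟨R⟩⟩ := exists_rep h.toOdd (Pt.refl z)
  have := finite' R
  obtain ⟨F, hF⟩ := h.exists_md R hq hq1 hqz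
  have hqw : q ∈ ws V z := h.V_le_ws hq
  have hcase : ∀ {v : G}, v ∈ V → v = 1 ∨ v = z ∨ v = q ∨ v = z * q := fun hv =>
    h.four h.z_mem hq h.z_ne hq1 (Ne.symm hqz) hv
  rcases hF.main with h8 | ⟨⟨d, hd, hd1, hdε⟩, h2, h3⟩
  · left
    rw [← two_mul_card h.toOdd R, h8]
  · right
    refine ⟨fun w hw hk => h.cent R hq hq1 hqz hw hk, ?_, fun u hu huV => ?_,
      fun u hu huV v hv hvz P hP1 hP2 => ?_⟩
    · obtain ⟨u, hu, rfl⟩ := (mem_vr R _).mp hd
      exact ⟨u, hu, h.not_mem_of R hq hq1 hqz hd1 hdε⟩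
    · have huw := h.dd_le hu
      have hu1 : ve R u ≠ 1 := fun e => by
        rcases (ve_eq_one h.toOdd R huw).mp e with e | e
        · exact huV (by rw [e]; exact one_mem _)
        · exact huV (by rw [e]; exact h.z_mem)
      have huε : ve R u ≠ ve R q := fun e => by
        rw [ve_eq h.toOdd (Pt.refl z) R huw hqw] at e
        rcases e with e | e
        · exact huV (by rw [e]; exact hq)
        · exact huV (by rw [e]; exact mul_mem h.z_mem hq)
      obtain ⟨N, hN, huN, hNs⟩ := h2 _ ((mem_vr R _).mpr ⟨u, hu, rfl⟩) hu1 huε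
      let P : Subgroup G := (N.comap (vr R (le_refl (ws V z)))).map (ws V z).subtype
      have hP : ∀ a, a ∈ P ↔ a ∈ ws V z ∧ ve R a ∈ N := by
        intro a
        constructor
        · rintro ⟨b, hb, rfl⟩
          exact ⟨b.2, hb⟩
        · rintro ⟨ha, hb⟩
          exact ⟨⟨a, ha⟩, hb, rfl⟩
      refine ⟨P, lt_of_le_of_ne (fun a ha => ((hP a).mp ha).1) fun e => hN ?_, (hP u).mpr ⟨huw, huN⟩,
        fun j hjz hju v hv => ?_⟩
      · rw [eq_top_iff]
        intro m _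
        obtain ⟨a, ha, rfl⟩ := ve_surj R m
        rw [← e] at ha
        exact ((hP a).mp ha).2
      · rw [mem_cj] at hv
        have e : v = j * (j⁻¹ * v * j) * j⁻¹ := by group
        rw [e]
        have hjz' : j * z * j⁻¹ = z := by rw [mem_centralizer_singleton_iff.mp hjz]; group
        have h5 : ∀ x ∈ V, j * x * j⁻¹ ∈ ws V z := fun x hx => R.conj_mem hjz (h.V_le_ws hx)
        have h6 : ve R (j * q * j⁻¹) ∈ N := by
          rw [← act_ve R hjz hqw]
          refine hNs _ ⟨R.rho j, rfl⟩ ?_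
          rw [act_ve R hjz huw, mem_centralizer_singleton_iff.mp hju, mul_inv_cancel_right]
        refine (hP _).mpr ⟨h5 _ hv, ?_⟩
        rcases hcase hv with e1 | e1 | e1 | e1
        · rw [e1, mul_one, mul_inv_cancel, ve_one]; exact one_mem _
        · rw [e1, hjz', (ve_eq_one h.toOdd R (z_mem_ws h.toOdd)).mpr (Or.inr rfl)]; exact one_mem _
        · rw [e1]; exact h6
        · rw [e1]
          have e2 : j * (z * q) * j⁻¹ = (j * z * j⁻¹) * (j * q * j⁻¹) := by group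
          rw [e2, hjz', ve_z_mul h.toOdd R (h5 q hq)]
          exact h6
    · have huw := h.dd_le hu
      have hvd := h.toOdd.V_le_dd hv
      have hvw := h.V_le_ws hv
      have huvd : u * v ∈ dd V := mul_mem hu hvd
      have huvV : u * v ∉ V := fun e => huV (by
        have := mul_mem e (inv_mem hv)
        rwa [mul_inv_cancel_right] at this)
      have hu1 : ve R u ≠ 1 := fun e => by
        rcases (ve_eq_one h.toOdd R huw).mp e with e | e
        · exact huV (by rw [e]; exact one_mem _)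
        · exact huV (by rw [e]; exact h.z_mem)
      have huε : ve R u ≠ ve R q := fun e => by
        rw [ve_eq h.toOdd (Pt.refl z) R huw hqw] at e
        rcases e with e | e
        · exact huV (by rw [e]; exact hq)
        · exact huV (by rw [e]; exact mul_mem h.z_mem hq)
      have hvq : ve R v = ve R q := by
        rcases hcase hv with e1 | e1 | e1 | e1
        · exact absurd (by rw [e1]; exact one_mem _) hvz
        · exact absurd (by rw [e1]; exact mem_zpowers z) hvz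
        · rw [e1]
        · rw [e1, ve_z_mul h.toOdd R hqw]
      have huv : ve R (u * v) = ve R u * ve R q := by rw [ve_mul R huw hvw, hvq]
      -- the image of `P`
      have hPw : P ⊓ ws V z ≤ ws V z := inf_le_right
      have key : ∀ {x : G}, x ∈ dd V → x ∉ V →
          (∀ j ∈ centralizer ({z} : Set G), j ∈ centralizer ({x} : Set G) → cj j V ≤ P) →
          ∀ g ∈ (act M X).range, g (ve R x) = ve R x → g (ve R q) ∈ (vr R hPw).range := by
        rintro x hx hxV hPx _ ⟨g, rfl⟩ hg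
        obtain ⟨c, hc, rfl⟩ := R.rho_surj g
        obtain ⟨j, hjz, hjx, hjc⟩ := h.exists_fixer R hx hxV hc hg
        rw [← hjc, act_ve R hjz hqw]
        exact (mem_vr R _).mpr ⟨_, ⟨hPx j hjz hjx (conj_mem_cj hq), R.conj_mem hjz hqw⟩, rfl⟩
      have htop := h3 _ ((mem_vr R _).mpr ⟨u, hu, rfl⟩) hu1 huε _ (key hu huV hP1) (by
        rw [← huv]
        exact key huvd huvV hP2)
      have hzP : z ∈ P := hP1 1 (one_mem _) (one_mem _) (by rw [cj_one]; exact h.z_mem)
      intro w hw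
      have h5 : ve R w ∈ (vr R hPw).range := by rw [htop]; exact mem_top _
      obtain ⟨a, ha, e⟩ := (mem_vr R _).mp h5
      rw [ve_eq h.toOdd (Pt.refl z) R ha.2 hw] at e
      rcases e with e | e
      · rw [← e]; exact ha.1
      · have e2 : w = z⁻¹ * a := by rw [e, inv_mul_cancel_left]
        rw [e2]
        exact mul_mem (inv_mem hzP) ha.1

end Cnt

end Cfsg.Agent.MinSimple.TvPoint
end

private theorem dce_6cb494c9dfdc : _root_.True := by
  try have : _root_.True := by simp only [_root_.Cfsg.Agent.MinSimple.TvMod.blk.eq_1]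
  exact _root_.True.intro
end

-- part: Classification/TitsFin/TriBlk
section
prune_inst 0xc0002604432200000000000000001c1292000000000f0000a000020006880c0080000e2020200102000080040034006002dc00004010000020000000411801a0000242001240a000200000000000000000000000000000000000000000000000000000000
set_option linter.all false
open scoped Cfsg.Agent.FastGrp

/-!
# The blocks of `V_p / ⟨p⟩`

`X` is a solvable group with `O₂(X) = 1` acting faithfully on the elementary abelian 2-group `M`, `a` an involution of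
`X` with `|[M, a]| = 4`, `e ∈ [M, a]` a vector such that `C_X(e) ≤ C_X(a)`, no other `X`-conjugate of `e` is in `[M, a]`,
`M` is generated by the conjugates of `e` and `a` centralizes `O₃(X)`. Then `[O₅(X), a] = ⟨x⟩` has order 5,
`B = [M, x]` has order 16, its conjugates are equal to `B` or disjoint from `B` and the stabilizer of `B` induces a
group of order 10 or 20 on `B`.
-/

set_option autoImplicit false
set_option linter.unusedSectionVars false

namespace Cfsg.Agent.Classification.TitsFin.TriBlk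

open Subgroup Cfsg
open Cfsg.Agent.MinSimple.BTwoMod (E E_add E_zero smul_E E_smul E_fix pow_fix)
open Cfsg.Agent.Lib.Cores

variable {X : Type*} {M : Type*} [Group X] [AddCommGroup M] [DistribMulAction X M]

/-- `m ↦ a m + m` -/
def dl (M : Type*) [AddCommGroup M] [DistribMulAction X M] (a : X) : M →+ M where
  toFun m := a • m + m
  map_zero' := by simp
  map_add' m n := by rw [smul_add]; abel

@[simp] theorem dl_apply (a : X) (m : M) : dl M a m = a • m + m := rfl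

/-- `[M, a]` -/
def im (M : Type*) [AddCommGroup M] [DistribMulAction X M] (a : X) : AddSubgroup M := (dl M a).range

/-- `C_M(a)` -/
def fx (M : Type*) [AddCommGroup M] [DistribMulAction X M] (a : X) : AddSubgroup M where
  carrier := {m | a • m = m}
  zero_mem' := smul_zero a
  add_mem' := by
    intro m n hm hn
    change a • (m + n) = m + n
    rw [smul_add, show a • m = m from hm, show a • n = n from hn]
  neg_mem' := by
    intro m hm
    change a • (-m) = -m
    rw [smul_neg, show a • m = m from hm]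

theorem mem_fx {a : X} {m : M} : m ∈ fx M a ↔ a • m = m := Iff.rfl

theorem im_mem (a : X) (m : M) : a • m + m ∈ im M a := ⟨m, rfl⟩

section two

variable (two : ∀ m : M, m + m = 0)
include two

theorem neg_eq (m : M) : -m = m := neg_eq_of_add_eq_zero_left (two m)

theorem add_eq_zero {m n : M} : m + n = 0 ↔ m = n := by
  rw [add_eq_zero_iff_eq_neg, neg_eq two]

theorem add_left (m n : M) : m + (m + n) = n := by rw [← add_assoc, two, zero_add]

theorem ker_dl (a : X) : (dl M a).ker = fx M a := by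
  ext m
  rw [AddMonoidHom.mem_ker, dl_apply, mem_fx, add_eq_zero two]

theorem card_eq [Finite M] (a : X) (N : AddSubgroup M) :
    Nat.card N = Nat.card ↥(N ⊓ fx M a) * Nat.card ↥(N.map (dl M a)) := by
  have h1 := AddSubgroup.relIndex_ker N (dl M a)
  rw [ker_dl two] at h1
  have h2 := AddSubgroup.relIndex_mul_relIndex (⊥ : AddSubgroup M) (N ⊓ fx M a) N bot_le inf_le_left
  rw [AddSubgroup.relIndex_bot_left, AddSubgroup.relIndex_bot_left, inf_comm, AddSubgroup.inf_relIndex_right,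
    h1] at h2
  rw [← h2, inf_comm]

/-- `im (x ^ i) ≤ im x` -/
theorem pow_im (x : X) (i : ℕ) (m : M) : x ^ i • m + m ∈ im M x := by
  induction i with
  | zero => rw [pow_zero, one_smul, two]; exact zero_mem _
  | succ i ih =>
    have e : x ^ (i + 1) • m + m = (x • (x ^ i • m) + x ^ i • m) + (x ^ i • m + m) := by
      rw [pow_succ', mul_smul, add_assoc, ← add_assoc (x ^ i • m), two, zero_add]
    rw [e]
    exact add_mem (im_mem x _) ih

theorem im_pow_le (x : X) (i : ℕ) : im M (x ^ i) ≤ im M x := by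
  rintro _ ⟨m, rfl⟩
  exact pow_im two x i m

/-! ### elements of odd order -/

section odd

variable {x : X} {n : ℕ} (hn : n % 2 = 1) (hx : ∀ m : M, x ^ n • m = m)
include hn hx

theorem E_add_self (m : M) : E x n m + m ∈ im M x := by
  have h1 : ∀ k : ℕ, (∑ i ∈ Finset.range k, x ^ i • m) + k • m ∈ im M x := by
    intro k
    induction k with
    | zero => simp
    | succ k ih =>
      rw [Finset.sum_range_succ, succ_nsmul]
      have e : ∑ i ∈ Finset.range k, x ^ i • m + x ^ k • m + (k • m + m) =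
        (∑ i ∈ Finset.range k, x ^ i • m + k • m) + (x ^ k • m + m) := by abel
      rw [e]
      exact add_mem ih (pow_im two x k m)
  have h2 := h1 n
  have h3 : n • m = m := by
    rw [show n = 2 * (n / 2) + 1 by omega, add_smul, one_smul, mul_comm, mul_smul, two_smul, two, smul_zero,
      zero_add]
  rwa [h3] at h2

theorem E_of_mem_im {m : M} (hm : m ∈ im M x) : E x n m = 0 := by
  obtain ⟨k, rfl⟩ := hm
  change E x n (x • k + k) = 0
  rw [E_add, E_smul hx, two]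

theorem inf_eq_bot : fx M x ⊓ im M x = ⊥ := by
  rw [eq_bot_iff]
  rintro m ⟨h1, h2⟩
  rw [AddSubgroup.mem_bot, ← E_fix two hn (mem_fx.mp h1)]
  exact E_of_mem_im two hn hx h2

theorem eq_zero_of_mem {m : M} (h1 : x • m = m) (h2 : m ∈ im M x) : m = 0 := by
  have h3 : m ∈ fx M x ⊓ im M x := ⟨h1, h2⟩
  rwa [inf_eq_bot two hn hx, AddSubgroup.mem_bot] at h3

theorem exists_add (m : M) : ∃ u ∈ fx M x, ∃ v ∈ im M x, m = u + v :=
  ⟨E x n m, smul_E hx m, E x n m + m, E_add_self two hn hx m, (add_left two _ _).symm⟩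

end odd

end two

/-! ### counting -/

theorem card_modEq [Finite M] {p k : ℕ} [Fact p.Prime] {x : X} (hx : ∀ m : M, x ^ p ^ k • m = m)
    (A : AddSubgroup M) (hA : ∀ m ∈ A, x • m ∈ A) : Nat.card A ≡ Nat.card ↥(A ⊓ fx M x) [MOD p] := by
  classical
  let f : Function.End A := fun m => ⟨x • m, hA m m.2⟩
  have hf : ∀ (n : ℕ) (m : A), ((f ^ n) m : M) = x ^ n • (m : M) := by
    intro n
    induction n with
    | zero => intro m; rw [pow_zero, pow_zero, one_smul]; rfl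
    | succ n ih =>
      intro m
      rw [pow_succ, pow_succ, mul_smul]
      change ((f ^ n) (f m) : M) = x ^ n • (x • (m : M))
      rw [ih]
  have h1 : f ^ p ^ k = 1 := by
    funext m
    apply Subtype.ext
    rw [hf, hx]; rfl
  have : Fintype A := Fintype.ofFinite A
  have h2 := Equiv.Perm.card_fixedPoints_modEq h1
  rw [← Nat.card_eq_fintype_card, ← Nat.card_eq_fintype_card] at h2
  refine h2.trans ?_
  refine (congrArg (· % p) (Nat.card_congr ?_) : _)
  exact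
    { toFun := fun m => ⟨m.1.1, m.1.2, congrArg Subtype.val m.2⟩
      invFun := fun m => ⟨⟨m.1, m.2.1⟩, Subtype.ext m.2.2⟩
      left_inv := fun m => rfl
      right_inv := fun m => rfl }

theorem card_mul_le [Finite M] {A B N : AddSubgroup M} (hA : A ≤ N) (hB : B ≤ N) (hAB : A ⊓ B = ⊥) :
    Nat.card A * Nat.card B ≤ Nat.card N := by
  rw [← Nat.card_prod]
  refine Nat.card_le_card_of_injective (fun x : A × B => (⟨x.1 + x.2, add_mem (hA x.1.2) (hB x.2.2)⟩ : N)) ?_
  rintro ⟨u, v⟩ ⟨u', v'⟩ h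
  have h1 : (u : M) + v = u' + v' := congrArg Subtype.val h
  have h2 : (u : M) - u' = v' - v := by
    rw [sub_eq_sub_iff_add_eq_add, h1, add_comm]
  have h3 : (u : M) - u' ∈ A ⊓ B :=
    AddSubgroup.mem_inf.mpr ⟨sub_mem u.2 u'.2, h2 ▸ sub_mem v'.2 v.2⟩
  rw [hAB, AddSubgroup.mem_bot, sub_eq_zero] at h3
  rw [h3, sub_self] at h2
  exact Prod.ext (Subtype.ext h3) (Subtype.ext (sub_eq_zero.mp h2.symm).symm)

theorem eq_of_card_le [Finite M] {A B : AddSubgroup M} (h : A ≤ B) (hc : Nat.card B ≤ Nat.card A) : A = B :=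
  AddSubgroup.eq_of_le_of_card_ge h hc

/-! ### elements inverted by `a` -/

section inv

variable [Finite M] (two : ∀ m : M, m + m = 0) {a x : X} {n : ℕ} (hn : n % 2 = 1) (hx : x ^ n = 1)
  (ha : a * a = 1) (hax : a * x * a⁻¹ = x⁻¹)
include two hax

theorem smul_im {m : M} (hm : m ∈ im M x) : a • m ∈ im M x := by
  obtain ⟨k, rfl⟩ := hm
  refine ⟨x⁻¹ • a • k, ?_⟩
  change x • x⁻¹ • a • k + x⁻¹ • a • k = a • (x • k + k)
  have h1 : a * x = x⁻¹ * a := by rw [← hax, inv_mul_cancel_right]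
  rw [smul_inv_smul, smul_add, ← mul_smul a x, h1, mul_smul, add_comm]

include hn hx ha

theorem key : Nat.card (im M x) = Nat.card ((im M x).map (dl M a)) ^ 2 := by
  set N := im M x with hN
  have hx' : ∀ m : M, x ^ n • m = m := fun m => by rw [hx, one_smul]
  set y := x ^ ((n + 1) / 2) with hy
  have hyy : y * y = x := by
    rw [hy, ← pow_add, show (n + 1) / 2 + (n + 1) / 2 = n + 1 by omega, pow_succ, hx, one_mul]
  have hay : a * y = y⁻¹ * a := by
    have h1 : a * y * a⁻¹ = y⁻¹ := by rw [hy, ← conj_pow, hax, inv_pow]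
    rw [← h1, inv_mul_cancel_right]
  have hyN : ∀ m ∈ N, y • m ∈ N := by
    rintro _ ⟨k, rfl⟩
    refine ⟨y • k, ?_⟩
    change x • y • k + y • k = y • (x • k + k)
    rw [smul_add, ← mul_smul, ← mul_smul, hy, ← pow_succ, ← pow_succ']
  have h1 : Nat.card ↥(N ⊓ fx M a) ≤ Nat.card ↥(N ⊓ fx M (x * a)) := by
    refine Nat.card_le_card_of_injective (fun m => ⟨y • (m : M), hyN _ m.2.1, ?_⟩) ?_
    · change (x * a) • y • (m : M) = y • (m : M)
      have h2 : a • (m : M) = m := m.2.2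
      rw [mul_smul, ← mul_smul a y, hay, mul_smul, h2, ← mul_smul]
      congr 1
      rw [← hyy, mul_inv_cancel_right]
    · intro m m' hm
      have h2 : y • (m : M) = y • (m' : M) := congrArg Subtype.val hm
      exact Subtype.ext (smul_left_cancel y h2)
  have h2 : Nat.card ↥(N ⊓ fx M a) * Nat.card ↥(N ⊓ fx M (x * a)) ≤ Nat.card N := by
    refine card_mul_le inf_le_left inf_le_left ?_
    rw [eq_bot_iff]
    rintro m ⟨⟨h3, h4⟩, -, h5⟩
    rw [AddSubgroup.mem_bot]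
    refine eq_zero_of_mem two hn hx' ?_ h3
    have h4' : a • m = m := h4
    have h5' : (x * a) • m = m := h5
    rwa [mul_smul, h4'] at h5'
  have h3 : Nat.card ↥(N.map (dl M a)) ≤ Nat.card ↥(N ⊓ fx M a) := by
    refine AddSubgroup.card_le_of_le ?_
    rintro _ ⟨m, hm, rfl⟩
    refine ⟨add_mem (smul_im two hax hm) hm, ?_⟩
    change a • (a • m + m) = a • m + m
    rw [smul_add, ← mul_smul, ha, one_smul, add_comm]
  have h4 := card_eq two a N
  have hpos : 0 < Nat.card ↥(N ⊓ fx M a) := Nat.card_pos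
  have h5 : Nat.card ↥(N ⊓ fx M a) ≤ Nat.card ↥(N.map (dl M a)) := by
    refine Nat.le_of_mul_le_mul_left ?_ hpos
    rw [← h4]
    exact (Nat.mul_le_mul_left _ h1).trans h2
  have h6 := le_antisymm h5 h3
  rw [h4, h6, pow_two]

end inv

theorem pow_five [Finite M] {y : X} {k : ℕ} (hy : y ^ 5 ^ k = 1) {S : AddSubgroup M} (hS : ∀ m ∈ S, y • m ∈ S)
    (hc : Nat.card S ≤ 24) {m : M} (hm : m ∈ S) : y ^ 5 • m = m := by
  set f : M → M := fun m => y • m with hf
  have hit : ∀ (i : ℕ) (m : M), f^[i] m = y ^ i • m := by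
    intro i
    induction i with
    | zero => intro m; rw [Function.iterate_zero, id, pow_zero, one_smul]
    | succ i ih => intro m; rw [Function.iterate_succ_apply, ih, pow_succ, mul_smul]
  have h1 : Function.minimalPeriod f m ∣ 5 ^ k := by
    apply Function.IsPeriodicPt.minimalPeriod_dvd
    change f^[5 ^ k] m = m
    rw [hit, hy, one_smul]
  obtain ⟨j, -, hj⟩ := (Nat.dvd_prime_pow Nat.prime_five).mp h1
  have h2 : Function.minimalPeriod f m ≤ Nat.card S := by
    have hiS : ∀ i : ℕ, f^[i] m ∈ S := by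
      intro i
      induction i with
      | zero => exact hm
      | succ i ih => rw [Function.iterate_succ_apply']; exact hS _ ih
    have h3 : Nat.card (Fin (Function.minimalPeriod f m)) ≤ Nat.card S :=
      Nat.card_le_card_of_injective (fun i => ⟨f^[i] m, hiS i⟩) (by
        intro i i' hii
        exact Fin.ext (Function.iterate_injOn_Iio_minimalPeriod i.2 i'.2 (congrArg Subtype.val hii)))
    simpa only [_root_.ge_iff_le, _root_.Nat.card_eq_fintype_card, _root_.Fintype.card_fin] using h3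
  have h4 : j ≤ 1 := by
    by_contra hcon
    have h5 : 5 ^ 2 ≤ 5 ^ j := Nat.pow_le_pow_right (by norm_num) (by omega)
    omega
  have h6 : Function.minimalPeriod f m ∣ 5 := by
    rw [hj]
    exact pow_dvd_pow 5 h4
  have h7 := (Function.isPeriodicPt_iff_minimalPeriod_dvd (f := f) (x := m) (n := 5)).mpr h6
  have h8 : f^[5] m = m := h7
  rwa [hit] at h8

theorem odd_five (k : ℕ) : 5 ^ k % 2 = 1 := by
  rw [Nat.pow_mod]; norm_num

instance : Fact (Nat.Prime 5) := ⟨Nat.prime_five⟩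

theorem irr [Finite M] (two : ∀ m : M, m + m = 0) {x : X} (hx : x ^ 5 = 1) (hc : Nat.card (im M x) = 16)
    {S : AddSubgroup M} (hS : S ≤ im M x) (hinv : ∀ m ∈ S, x • m ∈ S) (hne : S ≠ ⊥) : S = im M x := by
  have h1 := card_modEq (p := 5) (k := 1) (x := x) (fun m => by rw [pow_one, hx, one_smul]) S hinv
  have h2 : S ⊓ fx M x = ⊥ := by
    rw [eq_bot_iff, ← inf_eq_bot two (n := 5) (by norm_num) (fun m => by rw [hx, one_smul]) (x := x), inf_comm]
    exact inf_le_inf_left _ hS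
  rw [h2] at h1
  have h3 : Nat.card ((⊥ : AddSubgroup M)) = 1 := AddSubgroup.card_bot
  rw [h3] at h1
  have h4 : Nat.card S ∣ 16 := by rw [← hc]; exact AddSubgroup.card_dvd_of_le hS
  have h5 : Nat.card S ≠ 1 := fun e => hne (AddSubgroup.card_eq_one.mp e)
  have h6 : Nat.card S = 16 := by
    have h7 : Nat.card S ∈ Nat.divisors 16 := Nat.mem_divisors.mpr ⟨h4, by norm_num⟩
    have h8 : Nat.divisors 16 = {1, 2, 4, 8, 16} := by decide
    rw [h8] at h7
    simp only [Finset.mem_insert, Finset.mem_singleton] at h7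
    rcases h7 with h7 | h7 | h7 | h7 | h7
    · exact absurd h7 h5
    · rw [h7] at h1; exact absurd h1 (by decide)
    · rw [h7] at h1; exact absurd h1 (by decide)
    · rw [h7] at h1; exact absurd h1 (by decide)
    · exact h7
  exact eq_of_card_le hS (by rw [hc, h6])

/-- The hypotheses on `a` and `e`. -/
structure Rk (a : X) (e : M) : Prop where
  two : ∀ m : M, m + m = 0
  faith : ∀ g : X, (∀ m : M, g • m = m) → g = 1
  solv : Group.IsSolvable X
  o2 : pCore 2 X = ⊥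
  sq : a * a = 1
  card : Nat.card (im M a) = 4
  mem : e ∈ im M a
  nz : e ≠ 0
  stab : ∀ c : X, c • e = e → c * a = a * c
  nl : ∀ c : X, c • e ∈ im M a → c • e = e
  gen : AddSubgroup.closure {m : M | ∃ c : X, m = c • e} = ⊤
  r3 : ∀ g ∈ pCore 3 X, a * g = g * a

namespace Rk

variable [Finite M] [Finite X] {a : X} {e : M} (h : Rk a e)
include h

theorem eq_one_of_im {x : X} (hx : im M x = ⊥) : x = 1 := by
  refine h.faith x fun m => ?_
  have h1 : x • m + m ∈ im M x := im_mem x m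
  rw [hx, AddSubgroup.mem_bot] at h1
  exact (add_eq_zero h.two).mp h1

theorem inv_cases {x : X} {n : ℕ} (hn : n % 2 = 1) (hx : x ^ n = 1) (hax : a * x * a⁻¹ = x⁻¹) (hx1 : x ≠ 1) :
    Nat.card (im M x) = 4 ∨ (Nat.card (im M x) = 16 ∧ im M a ≤ im M x) := by
  have h1 := key h.two hn hx h.sq hax
  have h2 : (im M x).map (dl M a) ≤ im M a := by
    rintro _ ⟨m, -, rfl⟩
    exact im_mem a m
  have h3 : Nat.card ((im M x).map (dl M a)) ∣ 4 := by rw [← h.card]; exact AddSubgroup.card_dvd_of_le h2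
  have h4 : Nat.card ((im M x).map (dl M a)) ∈ Nat.divisors 4 := Nat.mem_divisors.mpr ⟨h3, by norm_num⟩
  have h5 : Nat.divisors 4 = {1, 2, 4} := by decide
  rw [h5] at h4
  simp only [Finset.mem_insert, Finset.mem_singleton] at h4
  rcases h4 with h4 | h4 | h4
  · exfalso
    rw [h4] at h1
    exact hx1 (h.eq_one_of_im (AddSubgroup.card_eq_one.mp (by rw [h1]; norm_num)))
  · left; rw [h1, h4]; norm_num
  · right
    refine ⟨by rw [h1, h4]; norm_num, ?_⟩
    rw [← eq_of_card_le h2 (by rw [h.card, h4])]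
    rintro _ ⟨m, hm, rfl⟩
    exact add_mem (smul_im h.two hax hm) hm

theorem card_modEq_one {p k : ℕ} [Fact p.Prime] (hp : p % 2 = 1) {x : X} (hx : x ^ p ^ k = 1) :
    Nat.card (im M x) ≡ 1 [MOD p] := by
  have h1 := card_modEq (p := p) (k := k) (x := x) (fun m => by rw [hx, one_smul]) (im M x) (by
    rintro _ ⟨m, rfl⟩
    refine ⟨x • m, ?_⟩
    change x • x • m + x • m = x • (x • m + m)
    rw [smul_add])
  have h2 : im M x ⊓ fx M x = ⊥ := by
    rw [inf_comm]
    exact inf_eq_bot h.two (n := p ^ k) (by rw [Nat.pow_mod, hp, one_pow]; norm_num) (fun m => by rw [hx, one_smul])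
  rw [h2] at h1
  have h3 : Nat.card ((⊥ : AddSubgroup M)) = 1 := AddSubgroup.card_bot
  rwa [h3] at h1

theorem eq_one_of_seven {p k : ℕ} (hp : p.Prime) (h7 : 7 ≤ p) {x : X} (hx : x ^ p ^ k = 1)
    (hax : a * x * a⁻¹ = x⁻¹) : x = 1 := by
  by_contra hx1
  have : Fact p.Prime := ⟨hp⟩
  have hp2 : p % 2 = 1 := (hp.eq_two_or_odd.resolve_left (by omega))
  have h1 := h.card_modEq_one hp2 hx
  have h2 : ∀ n, n ≡ 1 [MOD p] → 1 ≤ n → p ∣ n - 1 := fun n hn h1 => (Nat.modEq_iff_dvd' h1).mp hn.symm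
  rcases h.inv_cases (by rw [Nat.pow_mod, hp2, one_pow]; norm_num) hx hax hx1 with h3 | ⟨h3, -⟩
  · rw [h3] at h1
    have h4 : p ∣ 3 := h2 4 h1 (by norm_num)
    exact absurd (Nat.le_of_dvd (by norm_num) h4) (by omega)
  · rw [h3] at h1
    have h4 : p ∣ 15 := h2 16 h1 (by norm_num)
    have h5 : p ∣ 3 * 5 := by simpa using h4
    rcases (Nat.Prime.dvd_mul hp).mp h5 with h6 | h6
    · exact absurd (Nat.le_of_dvd (by norm_num) h6) (by omega)
    · exact absurd (Nat.le_of_dvd (by norm_num) h6) (by omega)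

theorem five {k : ℕ} {x : X} (hx : x ^ 5 ^ k = 1) (hax : a * x * a⁻¹ = x⁻¹) (hx1 : x ≠ 1) :
    Nat.card (im M x) = 16 ∧ im M a ≤ im M x := by
  rcases h.inv_cases (odd_five k) hx hax hx1 with h3 | h3
  · exfalso
    have h1 := h.card_modEq_one (p := 5) (by norm_num) hx
    rw [h3] at h1
    exact absurd h1 (by decide)
  · exact h3

theorem five_sq {k : ℕ} {x : X} (hx : x ^ 5 ^ k = 1) (hax : a * x * a⁻¹ = x⁻¹) : x ^ 5 = 1 := by
  by_cases hx1 : x = 1
  · rw [hx1, one_pow]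
  obtain ⟨h1, -⟩ := h.five hx hax hx1
  refine h.faith _ fun m => ?_
  obtain ⟨u, hu, v, hv, rfl⟩ := exists_add h.two (odd_five k) (fun m => by rw [hx, one_smul]) m
  rw [smul_add, pow_fix (mem_fx.mp hu), pow_five hx (S := im M x) ?_ (by rw [h1]; norm_num) hv]
  rintro _ ⟨m, rfl⟩
  refine ⟨x • m, ?_⟩
  change x • x • m + x • m = x • (x • m + m)
  rw [smul_add]

/-- a 5-element commuting with `a` and `x` is trivial on `[M, x]` -/
theorem fix_of_comm {k : ℕ} {x w : X} (hw : w ^ 5 ^ k = 1) (hwa : w * a = a * w) (hwx : w * x = x * w)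
    (hx : x ^ 5 = 1) (hax : a * x * a⁻¹ = x⁻¹) {m : M} (hm : m ∈ im M x) : w • m = m := by
  by_cases hx1 : x = 1
  · obtain ⟨k, rfl⟩ := hm
    change w • (x • k + k) = x • k + k
    rw [hx1, one_smul, h.two, smul_zero]
  obtain ⟨h1, h2⟩ := h.five (k := 1) (by rw [pow_one]; exact hx) hax hx1
  have h3 : im M a ≤ fx M w := by
    have h4 := card_modEq (p := 5) (k := k) (x := w) (fun m => by rw [hw, one_smul]) (im M a) (by
      rintro _ ⟨m, rfl⟩
      refine ⟨w • m, ?_⟩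
      change a • w • m + w • m = w • (a • m + m)
      rw [smul_add, ← mul_smul, ← mul_smul, hwa])
    rw [h.card] at h4
    have h5 : Nat.card ↥(im M a ⊓ fx M w) ≤ 4 := by
      rw [← h.card]
      exact AddSubgroup.card_le_of_le inf_le_left
    have h6 : Nat.card ↥(im M a ⊓ fx M w) = 4 := by
      generalize Nat.card ↥(im M a ⊓ fx M w) = c at h4 h5
      interval_cases c
      · exact absurd h4 (by decide)
      · exact absurd h4 (by decide)
      · exact absurd h4 (by decide)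
      · exact absurd h4 (by decide)
      · rfl
    rw [← eq_of_card_le (inf_le_left : im M a ⊓ fx M w ≤ im M a) (by rw [h.card, h6])]
    exact inf_le_right
  have h7 : im M x ⊓ fx M w = im M x := by
    refine irr h.two hx h1 inf_le_left ?_ ?_
    · rintro m ⟨⟨n, rfl⟩, hm⟩
      refine ⟨⟨x • n, ?_⟩, ?_⟩
      · change x • x • n + x • n = x • (x • n + n)
        rw [smul_add]
      · have hm' : w • (x • n + n) = x • n + n := hm
        change w • x • (x • n + n) = x • (x • n + n)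
        rw [← mul_smul, hwx, mul_smul, hm']
    · intro e0
      have h8 : e ∈ im M x ⊓ fx M w := ⟨h2 h.mem, h3 h.mem⟩
      rw [e0, AddSubgroup.mem_bot] at h8
      exact h.nz h8
  have h8 : m ∈ im M x ⊓ fx M w := by rw [h7]; exact hm
  exact h8.2

/-! ### `[O₅(X), a]` -/

omit h [Finite M] [Finite X] in
theorem conj_comm {g : X} (ha : a * a = 1) :
    a * (g * a * g⁻¹ * a⁻¹) * a⁻¹ = (g * a * g⁻¹ * a⁻¹)⁻¹ := by
  have h1 : a⁻¹ = a := inv_eq_of_mul_eq_one_left ha
  have h2 : a * (g * a * g⁻¹ * a⁻¹) * a⁻¹ = a * g * a * g⁻¹ * (a⁻¹ * a⁻¹) := by group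
  have h3 : (g * a * g⁻¹ * a⁻¹)⁻¹ = a * g * a⁻¹ * g⁻¹ := by group
  rw [h2, h3, h1, ha, mul_one]

theorem a_ne : a ≠ 1 := by
  rintro rfl
  have h1 := h.card
  have h2 : im M (1 : X) = ⊥ := by
    rw [eq_bot_iff]
    rintro _ ⟨m, rfl⟩
    rw [AddSubgroup.mem_bot, dl_apply, one_smul, h.two]
  rw [h2, AddSubgroup.card_bot] at h1
  exact absurd h1 (by norm_num)

theorem exists_not_comm : ∃ g ∈ pCore 5 X, a * g ≠ g * a := by
  by_contra hcon
  push Not at hcon
  have hsolv := h.solv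
  have key : ∀ r : ℕ, r.Prime → a ∈ centralizer (pCore r X : Set X) := by
    intro r hr
    rw [mem_centralizer_iff]
    intro g hg
    by_cases h2 : r = 2
    · subst h2
      rw [h.o2] at hg
      rw [show g = 1 from hg, one_mul, mul_one]
    by_cases h3 : r = 3
    · subst h3; exact (h.r3 g hg).symm
    by_cases h5 : r = 5
    · subst h5; exact (hcon g hg).symm
    have h7 : 7 ≤ r := by
      have h4 := hr.two_le
      by_contra hcon
      have h6 : r = 4 ∨ r = 6 := by omega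
      rcases h6 with rfl | rfl
      · exact absurd hr (by norm_num)
      · exact absurd hr (by norm_num)
    have hn : (pCore r X).Normal := Cfsg.Agent.Lib.Cores.pCore_normal r
    have ht : g * a * g⁻¹ * a⁻¹ ∈ pCore r X := by
      have e : g * a * g⁻¹ * a⁻¹ = g * (a * g⁻¹ * a⁻¹) := by group
      rw [e]
      exact mul_mem hg (hn.conj_mem _ (inv_mem hg) a)
    have : Fact r.Prime := ⟨hr⟩
    obtain ⟨k, hk⟩ := (pCore_isPGroup (G := X) r) ⟨_, ht⟩
    have hk' : (g * a * g⁻¹ * a⁻¹) ^ r ^ k = 1 := by simpa only [_root_.SubmonoidClass.mk_pow, _root_.OneMemClass.coe_one] using congrArg Subtype.val hk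
    have h8 := h.eq_one_of_seven hr h7 hk' (conj_comm h.sq)
    calc g * a = (g * a * g⁻¹ * a⁻¹) * (a * g) := by group
      _ = a * g := by rw [h8, one_mul]
  obtain ⟨h1, h2⟩ := OddOrderLocal.RankTwoFitting.mem_fitting_of_forall_mem_centralizer key
  set F := fittingSubgroup X with hF
  have hFn : F.Normal := fittingSubgroup_normal
  let N : Subgroup X :=
    { carrier := {g | g ∈ F ∧ g ∈ centralizer (F : Set X) ∧ g * g = 1}
      mul_mem' := by
        rintro g k ⟨hg, hg1, hg2⟩ ⟨hk, hk1, hk2⟩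
        refine ⟨mul_mem hg hk, mul_mem hg1 hk1, ?_⟩
        have e := mem_centralizer_iff.mp hk1 g hg
        calc g * k * (g * k) = g * (k * g) * k := by group
          _ = (g * g) * (k * k) := by rw [← e]; group
          _ = 1 := by rw [hg2, hk2, one_mul]
      one_mem' := ⟨one_mem _, one_mem _, one_mul 1⟩
      inv_mem' := by
        rintro g ⟨hg, hg1, hg2⟩
        exact ⟨inv_mem hg, inv_mem hg1, by rw [← mul_inv_rev, hg2, inv_one]⟩ }
  have hNn : N.Normal := by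
    constructor
    rintro n ⟨hn, hn1, hn2⟩ g
    refine ⟨hFn.conj_mem n hn g, ?_, ?_⟩
    · rw [mem_centralizer_iff] at hn1 ⊢
      intro f hf
      have h3 := hn1 (g⁻¹ * f * g) (by
        have := hFn.conj_mem f hf g⁻¹
        rwa [inv_inv] at this)
      calc f * (g * n * g⁻¹) = g * ((g⁻¹ * f * g) * n) * g⁻¹ := by group
        _ = g * (n * (g⁻¹ * f * g)) * g⁻¹ := by rw [h3]
        _ = g * n * g⁻¹ * f := by group
    · calc g * n * g⁻¹ * (g * n * g⁻¹) = g * (n * n) * g⁻¹ := by group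
        _ = 1 := by rw [hn2]; group
  have hN2 : IsPGroup 2 N := by
    rintro ⟨g, -, -, hg⟩
    exact ⟨1, Subtype.ext (by simpa only [pow_two, _root_.pow_one, _root_.Subgroup.coe_mul, _root_.OneMemClass.coe_one] using hg)⟩
  have h3 : N ≤ pCore 2 X := le_pCore hNn hN2
  have h4 : a ∈ pCore 2 X := h3 ⟨h2, h1, h.sq⟩
  rw [h.o2] at h4
  exact h.a_ne h4

end Rk

/-- generators of `[O₅(X), a]` -/
structure IsX (a x : X) : Prop where
  mem : x ∈ pCore 5 X
  ne : x ≠ 1
  inv : a * x * a⁻¹ = x⁻¹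

namespace Rk

variable [Finite M] [Finite X] {a : X} {e : M} (h : Rk a e)
include h

omit h [Finite M] in
theorem _root_.Cfsg.Agent.Classification.TitsFin.TriBlk.exists_pow {x : X} (hx : x ∈ pCore 5 X) :
    ∃ k, x ^ 5 ^ k = 1 := by
  obtain ⟨k, hk⟩ := (pCore_isPGroup (G := X) 5) ⟨_, hx⟩
  exact ⟨k, by simpa only [_root_.SubmonoidClass.mk_pow, _root_.OneMemClass.coe_one] using congrArg Subtype.val hk⟩

theorem pow_eq {x : X} (hx : IsX a x) : x ^ 5 = 1 := by
  obtain ⟨k, hk⟩ := exists_pow hx.mem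
  exact h.five_sq hk hx.inv

theorem card_im {x : X} (hx : IsX a x) : Nat.card (im M x) = 16 :=
  (h.five (k := 1) (by rw [pow_one]; exact h.pow_eq hx) hx.inv hx.ne).1

theorem im_le {x : X} (hx : IsX a x) : im M a ≤ im M x :=
  (h.five (k := 1) (by rw [pow_one]; exact h.pow_eq hx) hx.inv hx.ne).2

theorem e_mem {x : X} (hx : IsX a x) : e ∈ im M x := h.im_le hx h.mem

theorem fix_zero {x : X} (hx : IsX a x) {m : M} (h1 : x • m = m) (h2 : m ∈ im M x) : m = 0 :=
  eq_zero_of_mem h.two (n := 5) (by norm_num) (fun m => by rw [h.pow_eq hx, one_smul]) h1 h2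

theorem exists_central : ∃ x : X, IsX a x ∧ ∀ g ∈ pCore 5 X, g * x = x * g := by
  obtain ⟨g0, hg0, hne⟩ := h.exists_not_comm
  set P := pCore 5 X with hP
  have hn : P.Normal := Cfsg.Agent.Lib.Cores.pCore_normal 5
  have hPg : IsPGroup 5 P := pCore_isPGroup 5
  have hcm : ∀ g ∈ P, g * a * g⁻¹ * a⁻¹ ∈ P := by
    intro g hg
    have e : g * a * g⁻¹ * a⁻¹ = g * (a * g⁻¹ * a⁻¹) := by group
    rw [e]
    exact mul_mem hg (hn.conj_mem _ (inv_mem hg) a)
  set D : Subgroup X := _root_.Subgroup.closure {t | ∃ g ∈ P, t = g * a * g⁻¹ * a⁻¹} with hD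
  have hDP : D ≤ P := by
    rw [hD, closure_le]
    rintro _ ⟨g, hg, rfl⟩
    exact hcm g hg
  have hgen : ∀ g ∈ P, g * a * g⁻¹ * a⁻¹ ∈ D := fun g hg => subset_closure ⟨g, hg, rfl⟩
  have hDn : ∀ k ∈ P, ∀ d ∈ D, k * d * k⁻¹ ∈ D := by
    intro k hk d hd
    refine closure_induction (p := fun d _ => k * d * k⁻¹ ∈ D) ?_ ?_ ?_ ?_ hd
    · rintro _ ⟨g, hg, rfl⟩
      have e : k * (g * a * g⁻¹ * a⁻¹) * k⁻¹ =
        ((k * g) * a * (k * g)⁻¹ * a⁻¹) * (k * a * k⁻¹ * a⁻¹)⁻¹ := by group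
      rw [e]
      exact mul_mem (hgen _ (mul_mem hk hg)) (inv_mem (hgen _ hk))
    · simp
    · intro d d' _ _ h1 h2
      have e : k * (d * d') * k⁻¹ = (k * d * k⁻¹) * (k * d' * k⁻¹) := by group
      rw [e]; exact mul_mem h1 h2
    · intro d _ h1
      have e : k * d⁻¹ * k⁻¹ = (k * d * k⁻¹)⁻¹ := by group
      rw [e]; exact inv_mem h1
  have hnorm : (D.subgroupOf P).Normal := by
    constructor
    rintro ⟨d, hd⟩ hd1 ⟨k, hk⟩
    exact hDn k hk d hd1
  have hDne : D.subgroupOf P ≠ ⊥ := by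
    intro e0
    apply hne
    have h1 : (⟨_, hcm g0 hg0⟩ : P) ∈ D.subgroupOf P := hgen g0 hg0
    rw [e0, mem_bot] at h1
    have h2 : g0 * a * g0⁻¹ * a⁻¹ = 1 := congrArg Subtype.val h1
    calc a * g0 = (g0 * a * g0⁻¹ * a⁻¹) * (a * g0) := by rw [h2, one_mul]
      _ = g0 * a := by group
  obtain ⟨w, hwD, hwc, hw1⟩ := SmallSimple.SylowPrimeCount.exists_mem_center_of_normal hPg _ hDne
  obtain ⟨w, hwP⟩ := w
  have hwD' : w ∈ D := hwD
  have hwne : w ≠ 1 := fun e => hw1 (Subtype.ext e)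
  have hwc' : ∀ g ∈ P, g * w = w * g := fun g hg =>
    congrArg Subtype.val (mem_center_iff.mp hwc ⟨g, hg⟩)
  by_cases hwa : w * a = a * w
  · exfalso
    apply hwne
    obtain ⟨k, hk⟩ := exists_pow hwP
    have h1 : ∀ d ∈ D, ∀ m : M, w • (d • m + m) = d • m + m := by
      intro d hd
      refine closure_induction (p := fun d _ => ∀ m : M, w • (d • m + m) = d • m + m) ?_ ?_ ?_ ?_ hd
      · rintro _ ⟨g, hg, rfl⟩ m
        obtain ⟨j, hj⟩ := exists_pow (hcm g hg)
        exact h.fix_of_comm hk hwa (hwc' _ (hcm g hg)).symm (h.five_sq hj (conj_comm h.sq)) (conj_comm h.sq)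
          (im_mem _ m)
      · intro m
        rw [one_smul, h.two, smul_zero]
      · intro d d' hd hd' h1 h2 m
        have e1 : (d * d') • m + m = d • (d' • m + m) + (d • m + m) := by
          rw [smul_add, mul_smul, add_assoc, ← add_assoc (d • m), h.two, zero_add]
        have e2 : w * d = d * w := (hwc' d (hDP hd)).symm
        rw [e1, smul_add, h1 m, ← mul_smul, e2, mul_smul, h2 m]
      · intro d hd h1 m
        have e1 : d⁻¹ • m + m = d⁻¹ • (d • m + m) := by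
          rw [smul_add, inv_smul_smul, add_comm]
        have e2 : w * d⁻¹ = d⁻¹ * w := (hwc' _ (hDP (inv_mem hd))).symm
        rw [e1, ← mul_smul, e2, mul_smul, h1 m]
    refine h.eq_one_of_im ?_
    rw [eq_bot_iff]
    rintro _ ⟨m, rfl⟩
    rw [AddSubgroup.mem_bot]
    exact eq_zero_of_mem h.two (odd_five k) (fun m => by rw [hk, one_smul]) (h1 w hwD' m) (im_mem w m)
  · refine ⟨w * a * w⁻¹ * a⁻¹, ⟨hcm w hwP, fun e => hwa ?_, conj_comm h.sq⟩, fun g hg => ?_⟩
    · calc w * a = (w * a * w⁻¹ * a⁻¹) * (a * w) := by group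
        _ = a * w := by rw [e, one_mul]
    · have h1 : g * (a * w⁻¹ * a⁻¹) = (a * w⁻¹ * a⁻¹) * g := by
        have h2 : (a⁻¹ * g * a) * w = w * (a⁻¹ * g * a) := hwc' _ (by
          have := hn.conj_mem g hg a⁻¹
          rwa [inv_inv] at this)
        have h3 : (a⁻¹ * g * a) * w⁻¹ = w⁻¹ * (a⁻¹ * g * a) :=
          ((show Commute (a⁻¹ * g * a) w from h2).inv_right).eq
        calc g * (a * w⁻¹ * a⁻¹) = a * ((a⁻¹ * g * a) * w⁻¹) * a⁻¹ := by group
          _ = a * (w⁻¹ * (a⁻¹ * g * a)) * a⁻¹ := by rw [h3]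
          _ = (a * w⁻¹ * a⁻¹) * g := by group
      have e : w * a * w⁻¹ * a⁻¹ = w * (a * w⁻¹ * a⁻¹) := by group
      rw [e, ← mul_assoc, hwc' g hg, mul_assoc, h1, ← mul_assoc]

/-! ### uniqueness -/

omit h [Finite M] [Finite X] in
theorem _root_.Cfsg.Agent.Classification.TitsFin.TriBlk.mem_of_zpow_mem {H : Subgroup X} {y : X} (hy : y ^ 5 = 1)
    {k : ℤ} (hk : k % 5 ≠ 0) (hkH : y ^ k ∈ H) : y ∈ H := by
  obtain ⟨l, hl⟩ : ∃ l : ℤ, (k * l) % 5 = 1 := by
    have h1 : k % 5 = 1 ∨ k % 5 = 2 ∨ k % 5 = 3 ∨ k % 5 = 4 := by omega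
    rcases h1 with e | e | e | e
    · exact ⟨1, by omega⟩
    · exact ⟨3, by omega⟩
    · exact ⟨2, by omega⟩
    · exact ⟨4, by omega⟩
  have hy' : y ^ (5 : ℤ) = 1 := by exact_mod_cast hy
  have h2 : y ^ (k * l) = y := by
    have e : k * l = 5 * (k * l / 5) + 1 := by omega
    rw [e, zpow_add, zpow_mul, hy', one_zpow, one_mul, zpow_one]
  rw [← h2, zpow_mul]
  exact zpow_mem hkH l

omit h [Finite M] [Finite X] in
theorem _root_.Cfsg.Agent.Classification.TitsFin.TriBlk.zpow_mod {y : X} (hy : y ^ 5 = 1) {k : ℤ} (hk : k % 5 = 0) :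
    y ^ k = 1 := by
  have hy' : y ^ (5 : ℤ) = 1 := by exact_mod_cast hy
  rw [show k = 5 * (k / 5) by omega, zpow_mul, hy', one_zpow]

omit h [Finite M] [Finite X] in
theorem _root_.Cfsg.Agent.Classification.TitsFin.TriBlk.smul_mem_im_iff {c x : X} {m : M} :
    c • m ∈ im M (c * x * c⁻¹) ↔ m ∈ im M x := by
  have key : ∀ (c x : X) (m : M), m ∈ im M x → c • m ∈ im M (c * x * c⁻¹) := by
    rintro c x _ ⟨n, rfl⟩
    refine ⟨c • n, ?_⟩
    change (c * x * c⁻¹) • c • n + c • n = c • (x • n + n)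
    rw [smul_add, ← mul_smul, ← mul_smul, inv_mul_cancel_right]
  constructor
  · intro h1
    have h2 := key c⁻¹ _ _ h1
    have e : c⁻¹ * (c * x * c⁻¹) * c⁻¹⁻¹ = x := by group
    rwa [e, inv_smul_smul] at h2
  · exact key c x m

omit h [Finite M] [Finite X] in
theorem _root_.Cfsg.Agent.Classification.TitsFin.TriBlk.smul_mem_im_of_comm {w y : X} (hwy : w * y = y * w) {m : M}
    (hm : m ∈ im M y) : w • m ∈ im M y := by
  have h1 := (smul_mem_im_iff (c := w)).mpr hm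
  rwa [hwy, mul_inv_cancel_right] at h1

omit h [Finite M] [Finite X] in
theorem _root_.Cfsg.Agent.Classification.TitsFin.TriBlk.card_im_conj (c x : X) :
    Nat.card (im M (c * x * c⁻¹)) = Nat.card (im M x) := by
  refine (Nat.card_congr ?_).symm
  exact
    { toFun := fun m => ⟨c • (m : M), smul_mem_im_iff.mpr m.2⟩
      invFun := fun m => ⟨c⁻¹ • (m : M), by
        have h1 := smul_mem_im_iff (c := c) (x := x) (m := c⁻¹ • (m : M))
        rw [smul_inv_smul] at h1
        exact h1.mp m.2⟩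
      left_inv := fun m => Subtype.ext (inv_smul_smul c (m : M))
      right_inv := fun m => Subtype.ext (smul_inv_smul c (m : M)) }

theorem fix_im {x : X} (hx : IsX a x) {t : X} (htx : t * x = x * t) {u : M} (hu : u ∈ im M x) (hu0 : u ≠ 0)
    (htu : t • u = u) {m : M} (hm : m ∈ im M x) : t • m = m := by
  have h1 : im M x ⊓ fx M t = im M x := by
    refine irr h.two (h.pow_eq hx) (h.card_im hx) inf_le_left ?_ ?_
    · rintro m ⟨h1, h2⟩
      refine ⟨smul_mem_im_of_comm rfl h1, ?_⟩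
      change t • x • m = x • m
      rw [← mul_smul, htx, mul_smul, show t • m = m from h2]
    · intro e0
      have h2 : u ∈ im M x ⊓ fx M t := ⟨hu, htu⟩
      rw [e0, AddSubgroup.mem_bot] at h2
      exact hu0 h2
  have h2 : m ∈ im M x ⊓ fx M t := by rw [h1]; exact hm
  exact h2.2

theorem fix_fx {x : X} (hx : IsX a x) {y : X} (hyx : y * x = x * y) (him : im M y ≤ im M x) {u : M}
    (hu : x • u = u) : y • u = u := by
  refine (add_eq_zero h.two).mp (h.fix_zero hx ?_ (him (im_mem y u)))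
  rw [smul_add, ← mul_smul, ← hyx, mul_smul, hu]

theorem eq_one_of {x : X} (hx : IsX a x) {t : X} (h1 : ∀ m ∈ im M x, t • m = m) (h2 : ∀ m : M, x • m = m → t • m = m) :
    t = 1 := by
  refine h.faith t fun m => ?_
  obtain ⟨u, hu, v, hv, rfl⟩ := exists_add h.two (n := 5) (by norm_num) (fun m => by rw [h.pow_eq hx, one_smul])
    (x := x) m
  rw [smul_add, h1 v hv, h2 u hu]

theorem im_eq {x y : X} (hx : IsX a x) (hyx : y * x = x * y) (hy : Nat.card (im M y) = 16) {u : M}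
    (hu : u ∈ im M x) (hu' : u ∈ im M y) (hu0 : u ≠ 0) : im M x = im M y := by
  have h1 : im M x ⊓ im M y = im M x := by
    refine irr h.two (h.pow_eq hx) (h.card_im hx) inf_le_left ?_ ?_
    · rintro m ⟨h1, h2⟩
      exact ⟨smul_mem_im_of_comm rfl h1, smul_mem_im_of_comm hyx.symm h2⟩
    · intro e0
      have h2 : u ∈ im M x ⊓ im M y := ⟨hu, hu'⟩
      rw [e0, AddSubgroup.mem_bot] at h2
      exact hu0 h2
  exact eq_of_card_le (inf_eq_left.mp h1) (by rw [hy, h.card_im hx])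

theorem pow_e_ne {x : X} (hx : IsX a x) {k : ℤ} (hk : k % 5 ≠ 0) {u : M} (hu : u ∈ im M x) (hu0 : u ≠ 0) :
    x ^ k • u ≠ u := by
  intro h1
  have h2 : x ∈ MulAction.stabilizer X u :=
    mem_of_zpow_mem (h.pow_eq hx) hk (MulAction.mem_stabilizer_iff.mpr h1)
  exact hu0 (h.fix_zero hx (MulAction.mem_stabilizer_iff.mp h2) hu)

theorem unique {x y : X} (hx : IsX a x) (hxc : ∀ g ∈ pCore 5 X, g * x = x * g) (hy : IsX a y) : y ∈ zpowers x := by
  have hyx : y * x = x * y := hxc y hy.mem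
  have him : im M x = im M y := h.im_eq hx hyx (h.card_im hy) (h.e_mem hx) (h.e_mem hy) h.nz
  have hpw : ∀ (w : X), w * x = x * w → ∀ n : ℤ, ∀ m ∈ im M x, w ^ n • m ∈ im M x := fun w hw n m hm =>
    smul_mem_im_of_comm ((show Commute w x from hw).zpow_left n).eq hm
  let f : Fin 5 × Fin 5 → im M x := fun ij =>
    ⟨x ^ ((ij.1 : ℕ) : ℤ) • y ^ ((ij.2 : ℕ) : ℤ) • e, hpw x rfl _ _ (hpw y hyx _ _ (h.e_mem hx))⟩
  have hnf : ¬ Function.Injective f := by
    intro hf
    have h1 := Nat.card_le_card_of_injective f hf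
    rw [h.card_im hx] at h1
    simp at h1
  simp only [Function.Injective, not_forall] at hnf
  obtain ⟨⟨i, j⟩, ⟨i', j'⟩, heq, hne⟩ := hnf
  have heq' : x ^ ((i : ℕ) : ℤ) • y ^ ((j : ℕ) : ℤ) • e = x ^ ((i' : ℕ) : ℤ) • y ^ ((j' : ℕ) : ℤ) • e :=
    congrArg Subtype.val heq
  generalize hi : ((i : ℕ) : ℤ) = I at heq'
  generalize hj : ((j : ℕ) : ℤ) = J at heq'
  generalize hi' : ((i' : ℕ) : ℤ) = I' at heq'
  generalize hj' : ((j' : ℕ) : ℤ) = J' at heq'
  have hiB := i.2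
  have hjB := j.2
  have hiB' := i'.2
  have hjB' := j'.2
  have hcxy : Commute x y := hyx.symm
  set t := x ^ (I - I') * y ^ (J - J') with ht
  have htx : t * x = x * t :=
    (((Commute.refl x).zpow_left _).mul_left (hcxy.symm.zpow_left _)).eq
  have hte : t • e = e := by
    have e1 : t = (x ^ I' * y ^ J')⁻¹ * (x ^ I * y ^ J) := by
      have c1 : Commute (y ^ J') (x ^ I) := (hcxy.zpow_zpow I J').symm
      have c2 := c1.inv_left.eq
      rw [ht, zpow_sub, zpow_sub, mul_inv_rev]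
      have c3 : x ^ I * (x ^ I')⁻¹ = (x ^ I')⁻¹ * x ^ I := ((Commute.refl x).zpow_zpow I I').inv_right.eq
      have c4 : y ^ J * (y ^ J')⁻¹ = (y ^ J')⁻¹ * y ^ J := ((Commute.refl y).zpow_zpow J J').inv_right.eq
      have c5 : Commute ((y ^ J')⁻¹) ((x ^ I')⁻¹) := (hcxy.zpow_zpow I' J').symm.inv_inv
      calc x ^ I * (x ^ I')⁻¹ * (y ^ J * (y ^ J')⁻¹) = (x ^ I')⁻¹ * (x ^ I * (y ^ J')⁻¹) * y ^ J := by
            rw [c3, c4]; group
        _ = ((x ^ I')⁻¹ * (y ^ J')⁻¹) * (x ^ I * y ^ J) := by rw [← c2]; group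
        _ = (y ^ J')⁻¹ * (x ^ I')⁻¹ * (x ^ I * y ^ J) := by rw [← c5.eq]
    rw [e1, mul_smul, mul_smul, heq', ← mul_smul (x ^ I'), inv_smul_smul]
  have ht1 : t = 1 := by
    refine h.eq_one_of hx (fun m hm => h.fix_im hx htx (h.e_mem hx) h.nz hte hm) fun u hu => ?_
    have h1 : y • u = u := h.fix_fx hx hyx him.ge hu
    have h2 : ∀ (w : X), w • u = u → ∀ n : ℤ, w ^ n • u = u := fun w hw n =>
      MulAction.mem_stabilizer_iff.mp (zpow_mem (MulAction.mem_stabilizer_iff.mpr hw) n)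
    rw [ht, mul_smul, h2 y h1, h2 x hu]
  have h3 : y ^ (J - J') ∈ zpowers x := by
    have : y ^ (J - J') = (x ^ (I - I'))⁻¹ := (inv_eq_of_mul_eq_one_right ht1).symm
    rw [this]
    exact inv_mem (zpow_mem (mem_zpowers x) _)
  by_cases hJ : (J - J') % 5 = 0
  · exfalso
    have hJJ : j = j' := Fin.ext (by omega)
    have hII : (I - I') % 5 ≠ 0 := by
      intro h0
      exact hne (Prod.ext (Fin.ext (by change (i : ℕ) = i'; omega)) hJJ)
    rw [zpow_mod (h.pow_eq hy) hJ, mul_one] at ht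
    exact h.pow_e_ne hx hII (h.e_mem hx) h.nz (by rw [← ht]; exact hte)
  · exact mem_of_zpow_mem (h.pow_eq hy) hJ h3

/-! ### the conjugates of `x` -/

section central

variable {x : X} (hx : IsX a x) (hxc : ∀ g ∈ pCore 5 X, g * x = x * g)
include hx hxc

theorem conj_cases (c : X) : c * x * c⁻¹ ∈ zpowers x ∨
    ((∀ m ∈ im M x, (c * x * c⁻¹) • m = m) ∧ a * (c * x * c⁻¹) = (c * x * c⁻¹) * a) := by
  have hn : (pCore 5 X).Normal := Cfsg.Agent.Lib.Cores.pCore_normal 5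
  have hx5 := h.pow_eq hx
  set x' := c * x * c⁻¹ with hx'
  have hmem : x' ∈ pCore 5 X := hn.conj_mem _ hx.mem c
  have hx'5 : x' ^ 5 = 1 := by rw [hx', conj_pow, hx5, mul_one, mul_inv_cancel]
  have hcom : x' * x = x * x' := hxc x' hmem
  have hC : Commute x' x := hcom
  by_cases hax : a * x' = x' * a
  · right
    exact ⟨fun m hm => h.fix_of_comm (k := 1) (by rw [pow_one]; exact hx'5) hax.symm hcom hx5 hx.inv hm, hax⟩
  left
  set t := x' * a * x'⁻¹ * a⁻¹ with ht
  have ht1 : t ≠ 1 := fun e1 => hax (by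
    calc a * x' = t * (a * x') := by rw [e1, one_mul]
      _ = x' * a := by rw [ht]; group)
  have htm : t ∈ pCore 5 X := by
    have e1 : t = x' * (a * x'⁻¹ * a⁻¹) := by rw [ht]; group
    rw [e1]
    exact mul_mem hmem (hn.conj_mem _ (inv_mem hmem) a)
  obtain ⟨j, hj⟩ := mem_zpowers_iff.mp (h.unique hx hxc ⟨htm, ht1, conj_comm h.sq⟩)
  have hj0 : j % 5 ≠ 0 := fun e1 => ht1 (by rw [← hj]; exact zpow_mod hx5 e1)
  have h1 : a * x' * a⁻¹ = t⁻¹ * x' := by rw [ht]; group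
  have h2 : a * x ^ (2 * j) * a⁻¹ = x ^ (-(2 * j)) := by
    rw [← conj_zpow, hx.inv, inv_zpow, zpow_neg]
  set w := x' * x ^ (2 * j) with hw
  have hwx : w * x = x * w := (hC.mul_left ((Commute.refl x).zpow_left _)).eq
  have h1' : a * x' * a⁻¹ = x ^ (-j) * x' := by rw [h1, ← hj, zpow_neg]
  have h2' : x ^ (-j) * x ^ (-(2 * j)) = x ^ (2 * j) := by
    have e1 : x ^ (5 * (-j)) = 1 := zpow_mod hx5 (by omega)
    calc x ^ (-j) * x ^ (-(2 * j)) = x ^ (2 * j) * x ^ (5 * (-j)) := by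
          rw [← zpow_add, ← zpow_add]; congr 1; ring
      _ = x ^ (2 * j) := by rw [e1, mul_one]
  have haw : a * w * a⁻¹ = w := by
    have e1 : a * w * a⁻¹ = (a * x' * a⁻¹) * (a * x ^ (2 * j) * a⁻¹) := by
      rw [hw]; simp only [mul_assoc, inv_mul_cancel_left]
    rw [e1, h1', h2, ← (hC.zpow_right (-j)).eq, mul_assoc, h2']
  have hwa : w * a = a * w := by
    calc w * a = (a * w * a⁻¹) * a := by rw [haw]
      _ = a * w := by group
  have hw5 : w ^ 5 = 1 := by
    have h3 : (x ^ (2 * j)) ^ 5 = 1 := by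
      rw [← zpow_natCast, ← zpow_mul]
      exact zpow_mod hx5 (by push_cast; omega)
    rw [hw, (hC.zpow_right (2 * j)).mul_pow, hx'5, one_mul, h3]
  have hfix : ∀ m ∈ im M x, w • m = m := fun m hm =>
    h.fix_of_comm (k := 1) (by rw [pow_one]; exact hw5) hwa hwx hx5 hx.inv hm
  have hx'w : x' = w * x ^ (-(2 * j)) := by rw [hw, zpow_neg, mul_inv_cancel_right]
  by_cases hw1 : w = 1
  · rw [hx'w, hw1, one_mul]
    exact zpow_mem (mem_zpowers x) _
  exfalso
  apply hw1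
  have hpm : ∀ m ∈ im M x, x ^ (-(2 * j)) • m ∈ im M x := fun m hm =>
    smul_mem_im_of_comm ((Commute.refl x).zpow_left _).eq hm
  have h3 : x' • e = x ^ (-(2 * j)) • e := by
    rw [hx'w, mul_smul, hfix _ (hpm e (h.e_mem hx))]
  have h4 : x' • e + e ≠ 0 := by
    rw [Ne, add_eq_zero h.two, h3]
    exact h.pow_e_ne hx (by omega) (h.e_mem hx) h.nz
  have h5 : x' • e + e ∈ im M x := by
    rw [h3]; exact add_mem (hpm e (h.e_mem hx)) (h.e_mem hx)
  have h6 : im M x = im M x' :=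
    h.im_eq hx hcom (by rw [hx', card_im_conj, h.card_im hx]) h5 (im_mem x' e) h4
  refine h.eq_one_of hx hfix fun u hu => ?_
  have h7 : x' • u = u := h.fix_fx hx hcom h6.ge hu
  have h8 : x ^ (2 * j) • u = u :=
    MulAction.mem_stabilizer_iff.mp (zpow_mem (MulAction.mem_stabilizer_iff.mpr hu) _)
  rw [hw, mul_smul, h8, h7]

omit hxc in
theorem im_conj_eq {c : X} (hc : c * x * c⁻¹ ∈ zpowers x) : im M (c * x * c⁻¹) = im M x := by
  refine eq_of_card_le ?_ (by rw [card_im_conj])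
  obtain ⟨k, hk⟩ := (mem_powers_iff_mem_zpowers (x := x)).mpr hc
  have hk' : x ^ k = c * x * c⁻¹ := hk
  rw [← hk']
  exact im_pow_le h.two x k

/-- the stabilizer of `im M x` -/
def _root_.Cfsg.Agent.Classification.TitsFin.TriBlk.stb (M : Type*) [AddCommGroup M] [DistribMulAction X M] (x : X) :
    Subgroup X where
  carrier := {c | ∀ m : M, c • m ∈ im M x ↔ m ∈ im M x}
  mul_mem' := by
    intro c d hc hd m
    rw [mul_smul, hc, hd]
  one_mem' := by intro m; rw [one_smul]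
  inv_mem' := by
    intro c hc m
    rw [← hc (c⁻¹ • m), smul_inv_smul]

/-- the kernel of `stb M x` on `im M x` -/
def _root_.Cfsg.Agent.Classification.TitsFin.TriBlk.kr (M : Type*) [AddCommGroup M] [DistribMulAction X M] (x : X) :
    Subgroup X where
  carrier := {c | ∀ m ∈ im M x, c • m = m}
  mul_mem' := by
    intro c d hc hd m hm
    rw [mul_smul, hd m hm, hc m hm]
  one_mem' := by intro m _; rw [one_smul]
  inv_mem' := by
    intro c hc m hm
    rw [inv_smul_eq_iff, hc m hm]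

theorem disj {c : X} (hc : c * x * c⁻¹ ∉ zpowers x) {m : M} (hm : m ∈ im M x) (hcm : c • m ∈ im M x) : m = 0 := by
  rcases h.conj_cases hx hxc c with h1 | ⟨h1, -⟩
  · exact absurd h1 hc
  · have h2 := h1 _ hcm
    have h3 : c • x • m = c • m := by
      rw [mul_smul, mul_smul, inv_smul_smul] at h2
      exact h2
    exact h.fix_zero hx (smul_left_cancel c h3) hm

theorem mem_stb {c : X} : c ∈ stb M x ↔ c * x * c⁻¹ ∈ zpowers x := by
  constructor
  · intro hc
    by_contra hcon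
    exact h.nz (h.disj hx hxc hcon (h.e_mem hx) ((hc e).mpr (h.e_mem hx)))
  · intro hc m
    rw [← h.im_conj_eq hx hc, smul_mem_im_iff, h.im_conj_eq hx hc]

theorem disj' {c : X} (hc : c ∉ stb M x) {m : M} (hm : m ∈ im M x) (hcm : c • m ∈ im M x) : m = 0 :=
  h.disj hx hxc (fun h1 => hc ((h.mem_stb hx hxc).mpr h1)) hm hcm

/-- (o5) -/
theorem mem_stb_of_fix {c : X} (hc : c • e = e) : c ∈ stb M x := by
  rw [h.mem_stb hx hxc]
  refine h.unique hx hxc ⟨?_, ?_, ?_⟩
  · exact (Cfsg.Agent.Lib.Cores.pCore_normal 5).conj_mem _ hx.mem c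
  · intro e1
    apply hx.ne
    have : x = c⁻¹ * (c * x * c⁻¹) * c := by group
    rw [this, e1]; group
  · have h1 := h.stab c hc
    have h2 : a * c⁻¹ * a⁻¹ = c⁻¹ := by
      have : Commute c a := h1
      have h3 := this.inv_left.symm.eq
      rw [h3, mul_inv_cancel_right]
    have h3 : a * c = c * a := h1.symm
    calc a * (c * x * c⁻¹) * a⁻¹ = (a * c) * x * c⁻¹ * a⁻¹ := by group
      _ = c * (a * x * a⁻¹) * (a * c⁻¹ * a⁻¹) := by rw [h3]; group
      _ = (c * x * c⁻¹)⁻¹ := by rw [hx.inv, h2]; group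

/-- (o4) -/
theorem exists_fix (m : M) : ∃ u ∈ im M x, a • (m + u) = m + u := by
  have hm : m ∈ AddSubgroup.closure {m : M | ∃ c : X, m = c • e} := by
    rw [h.gen]; trivial
  refine AddSubgroup.closure_induction (p := fun m _ => ∃ u ∈ im M x, a • (m + u) = m + u) ?_ ?_ ?_ ?_ hm
  · rintro _ ⟨c, rfl⟩
    by_cases hc : c ∈ stb M x
    · exact ⟨c • e, (hc e).mpr (h.e_mem hx), by rw [h.two, smul_zero]⟩
    · refine ⟨0, zero_mem _, ?_⟩
      rw [add_zero]
      rcases h.conj_cases hx hxc c with h1 | ⟨h1, h2⟩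
      · exact absurd ((h.mem_stb hx hxc).mpr h1) hc
      have h3 : a • c • e + c • e ∈ im M x := h.im_le hx (im_mem a _)
      have h4 : c • e ∈ im M (c * x * c⁻¹) := smul_mem_im_iff.mpr (h.e_mem hx)
      have h5 : a • c • e + c • e ∈ im M (c * x * c⁻¹) := add_mem (smul_mem_im_of_comm h2 h4) h4
      have h6 : (c * x * c⁻¹) ^ 5 = 1 := by rw [conj_pow, h.pow_eq hx, mul_one, mul_inv_cancel]
      refine (add_eq_zero h.two).mp (eq_zero_of_mem h.two (n := 5) (by norm_num) (fun m => by rw [h6, one_smul])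
        (h1 _ h3) h5)
  · exact ⟨0, zero_mem _, by rw [add_zero, smul_zero]⟩
  · rintro m n _ _ ⟨u, hu, hu1⟩ ⟨v, hv, hv1⟩
    refine ⟨u + v, add_mem hu hv, ?_⟩
    have e1 : m + n + (u + v) = (m + u) + (n + v) := by abel
    rw [e1, smul_add, hu1, hv1]
  · rintro m _ ⟨u, hu, hu1⟩
    refine ⟨u, hu, ?_⟩
    rw [neg_eq h.two]
    exact hu1

omit hx hxc in
theorem kr_le_stb (x : X) : kr M x ≤ stb M x := by
  intro c hc m
  constructor
  · intro h1
    have h2 : c • c • m = c • m := hc _ h1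
    rw [smul_left_cancel c h2] at h1
    exact h1
  · intro h1
    rw [hc m h1]; exact h1

theorem cent_le_stb : centralizer ({x} : Set X) ≤ stb M x := by
  intro c hc
  rw [h.mem_stb hx hxc, mem_centralizer_singleton_iff.mp hc, mul_inv_cancel_right]
  exact mem_zpowers x

theorem kr_le_cent : kr M x ≤ centralizer ({x} : Set X) := by
  intro c hc
  have h1 := (h.mem_stb hx hxc).mp (kr_le_stb h x hc)
  obtain ⟨i, hi⟩ := mem_zpowers_iff.mp h1
  have h2 : (x ^ i)⁻¹ * x = x ^ (1 - i) := by rw [zpow_sub, zpow_one]; exact ((Commute.refl x).zpow_left i).inv_left.eq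
  have h3 : x ^ (1 - i) • e = e := by
    rw [← h2, hi, mul_smul, inv_smul_eq_iff]
    have h4 : x • e ∈ im M x := smul_mem_im_of_comm rfl (h.e_mem hx)
    rw [mul_smul, mul_smul, inv_smul_eq_iff.mpr (hc e (h.e_mem hx)).symm, hc _ h4]
  have h5 : (1 - i) % 5 = 0 := by
    by_contra hcon
    exact h.pow_e_ne hx hcon (h.e_mem hx) h.nz h3
  have h6 : x ^ (1 - i) = 1 := zpow_mod (h.pow_eq hx) h5
  have h7 : x ^ i = x := by
    have : x = x ^ i * x ^ (1 - i) := by rw [← zpow_add, add_sub_cancel, zpow_one]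
    rw [h6, mul_one] at this
    exact this.symm
  rw [mem_centralizer_singleton_iff]
  calc c * x = (c * x * c⁻¹) * c := by group
    _ = x * c := by rw [← hi, h7]

omit hxc in
theorem im_a_disj {u : M} (hu : u ∈ im M a) {k : ℤ} (hk : k % 5 ≠ 0) (hku : x ^ k • u ∈ im M a) : u = 0 := by
  have hfx : ∀ u ∈ im M a, a • u = u := by
    rintro _ ⟨n, rfl⟩
    change a • (a • n + n) = a • n + n
    rw [smul_add, ← mul_smul, h.sq, one_smul, add_comm]
  have h1 : a * x ^ k = x ^ (-k) * a := by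
    have : a * x ^ k * a⁻¹ = x ^ (-k) := by rw [← conj_zpow, hx.inv, inv_zpow, zpow_neg]
    rw [← this, inv_mul_cancel_right]
  have h2 : x ^ (-k) • u = x ^ k • u := by
    have h3 := hfx _ hku
    rwa [← mul_smul, h1, mul_smul, hfx u hu] at h3
  by_contra hu0
  refine h.pow_e_ne hx (k := 2 * k) (by omega) (h.im_le hx hu) hu0 ?_
  have h4 : x ^ k • x ^ (-k) • u = x ^ k • x ^ k • u := by rw [h2]
  rw [← mul_smul, ← mul_smul, ← zpow_add, ← zpow_add, add_neg_cancel, zpow_zero, one_smul] at h4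
  rw [two_mul]; exact h4.symm

omit hxc in
/-- `im M x = ⋃ xⁱ (im M a)` -/
theorem exists_pow_smul {m : M} (hm : m ∈ im M x) (hm0 : m ≠ 0) :
    ∃ i : ℕ, ∃ u ∈ im M a, u ≠ 0 ∧ m = x ^ i • u := by
  have hpm : ∀ (i : ℕ), ∀ m ∈ im M x, x ^ i • m ∈ im M x := fun i m hm =>
    smul_mem_im_of_comm ((Commute.refl x).pow_left _).eq hm
  let f : Option (Fin 5 × {u : im M a // u ≠ 0}) → im M x := fun o => match o with
    | none => 0
    | some (i, u) => ⟨x ^ (i : ℕ) • (u.1 : M), hpm i _ (h.im_le hx u.1.2)⟩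
  have hf : Function.Injective f := by
    have h0 : ∀ (i : Fin 5) (u : {u : im M a // u ≠ 0}), (f (some (i, u)) : M) ≠ 0 := by
      intro i u e0
      have e1 : x ^ (i : ℕ) • (u.1 : M) = 0 := e0
      rw [smul_eq_zero_iff_eq] at e1
      exact u.2 (Subtype.ext e1)
    rintro (_ | ⟨i, u⟩) (_ | ⟨i', u'⟩) heq
    · rfl
    · exact absurd (congrArg Subtype.val heq).symm (h0 i' u')
    · exact absurd (congrArg Subtype.val heq) (h0 i u)
    · have heq' : x ^ (i : ℕ) • (u.1 : M) = x ^ (i' : ℕ) • (u'.1 : M) := congrArg Subtype.val heq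
      have h1 : x ^ (((i : ℕ) : ℤ) - ((i' : ℕ) : ℤ)) • (u.1 : M) = u'.1 := by
        rw [sub_eq_neg_add, zpow_add, zpow_neg, mul_smul, zpow_natCast, zpow_natCast, heq', inv_smul_smul]
      have hi : i = i' := by
        by_contra hcon
        have hi1 := i.2
        have hi2 := i'.2
        have hi3 : (i : ℕ) ≠ i' := fun e => hcon (Fin.ext e)
        have h2 := h.im_a_disj hx u.1.2 (k := ((i : ℕ) : ℤ) - ((i' : ℕ) : ℤ)) (by omega) (by rw [h1]; exact u'.1.2)
        exact u.2 (Subtype.ext h2)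
      subst hi
      rw [smul_left_cancel_iff] at heq'
      rw [show u = u' from Subtype.ext (Subtype.ext heq')]
  have hb := hf.bijective_of_nat_card_le (by
    have h3 : Nat.card {u : im M a // u ≠ 0} = 3 := by
      classical
      have h4 := Nat.card_congr (Equiv.optionSubtypeNe (0 : im M a))
      rw [Finite.card_option, h.card] at h4
      omega
    rw [Finite.card_option, Nat.card_prod, h3, h.card_im hx]
    simp)
  obtain ⟨o, ho⟩ := hb.2 ⟨m, hm⟩
  match o, ho with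
  | none, ho => exact absurd (congrArg Subtype.val ho).symm hm0
  | some (i, u), ho =>
    exact ⟨i, u.1, u.1.2, fun e => u.2 (Subtype.ext e), (congrArg Subtype.val ho).symm⟩

omit hxc in
theorem exists_mem_kr {c : X} (hc : c * x = x * c) : ∃ i : ℕ, (x ^ i)⁻¹ * c ∈ kr M x := by
  have h1 : c • e ∈ im M x := smul_mem_im_of_comm hc (h.e_mem hx)
  have h2 : c • e ≠ 0 := by
    rw [Ne, smul_eq_zero_iff_eq]; exact h.nz
  obtain ⟨i, u, hu, hu0, hcu⟩ := h.exists_pow_smul hx h1 h2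
  have h3 : ((x ^ i)⁻¹ * c) • e = u := by rw [mul_smul, hcu, inv_smul_smul]
  have h4 : ((x ^ i)⁻¹ * c) • e = e := h.nl _ (by rw [h3]; exact hu)
  refine ⟨i, fun m hm => h.fix_im hx ?_ (h.e_mem hx) h.nz h4 hm⟩
  exact (((Commute.refl x).pow_left i).inv_left.mul_left (show Commute c x from hc)).eq

theorem relIndex_kr_cent : (kr M x).relIndex (centralizer ({x} : Set X)) = 5 := by
  set S := centralizer ({x} : Set X) with hS
  have hxS : ∀ i : ℕ, x ^ i ∈ S := fun i => pow_mem (mem_centralizer_singleton_iff.mpr rfl) i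
  change Nat.card (S ⧸ (kr M x).subgroupOf S) = 5
  have hb : Function.Bijective (fun i : Fin 5 => (QuotientGroup.mk ⟨x ^ (i : ℕ), hxS i⟩ : S ⧸ (kr M x).subgroupOf S)) := by
    constructor
    · intro i j hij
      have h1 : ((⟨x ^ (i : ℕ), hxS i⟩ : S))⁻¹ * ⟨x ^ (j : ℕ), hxS j⟩ ∈ (kr M x).subgroupOf S :=
        QuotientGroup.eq.mp hij
      have h2 : (x ^ (i : ℕ))⁻¹ * x ^ (j : ℕ) ∈ kr M x := mem_subgroupOf.mp h1
      have h3 := h2 e (h.e_mem hx)
      have h4 : (x ^ (i : ℕ))⁻¹ * x ^ (j : ℕ) = x ^ (-((i : ℕ) : ℤ) + ((j : ℕ) : ℤ)) := by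
        rw [zpow_add, zpow_neg, zpow_natCast, zpow_natCast]
      rw [h4] at h3
      by_contra hcon
      have hi1 := i.2
      have hi2 := j.2
      have hi3 : (i : ℕ) ≠ j := fun e => hcon (Fin.ext e)
      exact h.pow_e_ne hx (k := -((i : ℕ) : ℤ) + ((j : ℕ) : ℤ)) (by omega) (h.e_mem hx) h.nz h3
    · intro q
      obtain ⟨⟨c, hc⟩, rfl⟩ := QuotientGroup.mk_surjective q
      obtain ⟨i, hi⟩ := h.exists_mem_kr hx (mem_centralizer_singleton_iff.mp hc)
      refine ⟨⟨i % 5, Nat.mod_lt _ (by norm_num)⟩, ?_⟩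
      refine QuotientGroup.eq.mpr (mem_subgroupOf.mpr ?_)
      change (x ^ (i % 5))⁻¹ * c ∈ kr M x
      have h5 : x ^ (i % 5) = x ^ i := by
        conv_rhs => rw [← Nat.mod_add_div i 5, pow_add, pow_mul, h.pow_eq hx, one_pow, mul_one]
      rw [h5]; exact hi
  rw [← Nat.card_congr (Equiv.ofBijective _ hb)]
  simp

theorem relIndex_cent : (centralizer ({x} : Set X)).relIndex (stb M x) = 2 ∨
    (centralizer ({x} : Set X)).relIndex (stb M x) = 4 := by
  have hx5 := h.pow_eq hx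
  have hzc : centralizer ({x} : Set X) = centralizer (zpowers x : Set X) := by
    rw [← centralizer_closure, zpowers_eq_closure]
  have hst : stb M x = normalizer (zpowers x : Set X) := by
    ext c
    rw [h.mem_stb hx hxc]
    constructor
    · intro hc
      have h1 : (zpowers x).map (MulAut.conj c).toMonoidHom ≤ zpowers x := by
        rw [MonoidHom.map_zpowers, zpowers_le]; exact hc
      have h2 : (zpowers x).map (MulAut.conj c).toMonoidHom = zpowers x :=
        Subgroup.eq_of_le_of_card_ge h1 (by rw [card_map_of_injective (MulAut.conj c).injective])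
      rw [mem_normalizer_iff]
      intro g
      constructor
      · intro hg
        rw [← h2]; exact ⟨g, hg, rfl⟩
      · intro hg
        rw [← h2] at hg
        obtain ⟨g', hg', he⟩ := hg
        have he' : c * g' * c⁻¹ = c * g * c⁻¹ := he
        rw [mul_left_inj, mul_right_inj] at he'
        rwa [← he']
    · intro hc
      exact (mem_normalizer_iff.mp hc x).mp (mem_zpowers x)
  have h1 : (centralizer ({x} : Set X)).relIndex (stb M x) ∣ 4 := by
    rw [hzc, hst]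
    change ((centralizer (zpowers x : Set X)).subgroupOf (normalizer (zpowers x : Set X))).index ∣ 4
    rw [← normalizerMonoidHom_ker, index_ker]
    have h2 := card_subgroup_dvd_card ((zpowers x).normalizerMonoidHom.range)
    have h3 : Nat.card (MulAut (zpowers x)) = 4 := by
      have hcyc : IsCyclic (zpowers x) := inferInstance
      rw [IsCyclic.card_mulAut, Nat.card_zpowers, orderOf_eq_prime hx5 hx.ne, Nat.totient_prime Nat.prime_five]
    rwa [h3] at h2
  have h2 : (centralizer ({x} : Set X)).relIndex (stb M x) ≠ 1 := by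
    rw [Ne, relIndex_eq_one]
    intro hle
    have ha : a ∈ stb M x := by
      rw [h.mem_stb hx hxc, hx.inv]; exact inv_mem (mem_zpowers x)
    have h3 := mem_centralizer_singleton_iff.mp (hle ha)
    have h4 : x = x⁻¹ := by
      rw [← hx.inv, h3, mul_inv_cancel_right]
    apply hx.ne
    have h5 : x * x = 1 := by
      nth_rewrite 1 [h4]; exact inv_mul_cancel x
    calc x = x * (x * x) * (x * x) := by rw [h5]; simp
      _ = x ^ 5 := by simp only [pow_succ, pow_zero, one_mul, mul_assoc]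
      _ = 1 := hx5
  have h3 : (centralizer ({x} : Set X)).relIndex (stb M x) ∈ Nat.divisors 4 := Nat.mem_divisors.mpr ⟨h1, by norm_num⟩
  have h4 : Nat.divisors 4 = {1, 2, 4} := by decide
  rw [h4] at h3
  simp only [Finset.mem_insert, Finset.mem_singleton] at h3
  rcases h3 with h3 | h3 | h3
  · exact absurd h3 h2
  · exact Or.inl h3
  · exact Or.inr h3

theorem relIndex_kr : (kr M x).relIndex (stb M x) = 10 ∨ (kr M x).relIndex (stb M x) = 20 := by
  have h1 := relIndex_mul_relIndex (kr M x) (centralizer ({x} : Set X)) (stb M x) (h.kr_le_cent hx hxc)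
    (h.cent_le_stb hx hxc)
  rw [h.relIndex_kr_cent hx hxc] at h1
  rcases h.relIndex_cent hx hxc with h2 | h2
  · left; rw [← h1, h2]
  · right; rw [← h1, h2]

end central

end Rk

end Cfsg.Agent.Classification.TitsFin.TriBlk
end

-- part: Classification/TitsFin/TriGlue
section
prune_inst 0x10002304572200000000000020001c52b2000002000f0001e040020006c80c4080040e20b020031200008a04003e806003dc00000018000020008200411801a0040262c29248b00021000040c800000000000000000000000000000000000000000000000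
set_option linter.all false
open scoped Cfsg.Agent.FastGrp

/-!
# From the module `ws V z / ⟨z⟩` to the configuration `Tri`

`In T V z q R a`: `a` is the involution induced by `ws V q` on `M = ws V z / ⟨z⟩`, `|[M, a]| = 4`, the vector of `q` is the
only line vector in `[M, a]` and `a` centralizes `O₃(X)`. Then there are `U`, `C` with `Tri V U C` (`exists_tri`).
-/

set_option autoImplicit false
set_option linter.unusedSectionVars false

namespace Cfsg.Agent.Classification.TitsFin.TriGlue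

open Subgroup Cfsg Cfsg.Agent.ZN Cfsg.Agent.MinSimple.Geo
open Cfsg.Agent.MinSimple.BTwoA (comm_V)
open Cfsg.Agent.MinSimple.BTwoB (kq_le centralizer_le_normalizer_kq)
open Cfsg.Agent.MinSimple.OddLine (Odd)
open Cfsg.Agent.MinSimple.OddBase (Col)
open Cfsg.Agent.MinSimple.SecRep Cfsg.Agent.MinSimple.OddRep
open Cfsg.Agent.ZN.Block (conj_mem_of_normalizer conj_mem_of_normalizer' le_normalizer_of_forall
  mem_normalizer_of card_sup_mul_card_inf card_mul_relIndex' mul_mem_of_relIndex_two)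
open Cfsg.Agent.Classification.TitsFin.Tri (Pt kst cj_kst)
open Cfsg.Agent.Classification.TitsFin.TriBlk

universe u

variable {G : Type u} [Group G]

/-! ### the family of conjugates of a subgroup -/

section fam

variable {T V : Subgroup G} {z : G}

open Classical in
/-- the conjugates of `H` under `N(V)`, indexed by the points of `V` -/
noncomputable def fam (V : Subgroup G) (z : G) (H : Subgroup G) (p : G) : Subgroup G :=
  if h : ∃ k ∈ normalizer (V : Set G), k * z * k⁻¹ = p then cj h.choose H else ⊥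

theorem fam_eq {H : Subgroup G} (hH : ∀ c ∈ normalizer (V : Set G), c * z = z * c → cj c H = H) {k : G}
    (hk : k ∈ normalizer (V : Set G)) : fam V z H (k * z * k⁻¹) = cj k H := by
  have hex : ∃ k' ∈ normalizer (V : Set G), k' * z * k'⁻¹ = k * z * k⁻¹ := ⟨k, hk, rfl⟩
  unfold fam
  rw [dif_pos hex]
  obtain ⟨h1, h2⟩ := hex.choose_spec
  set k' := hex.choose with hk'
  have h3 : (k⁻¹ * k') * z = z * (k⁻¹ * k') := by
    calc k⁻¹ * k' * z = k⁻¹ * (k' * z * k'⁻¹) * k' := by group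
      _ = k⁻¹ * (k * z * k⁻¹) * k' := by rw [h2]
      _ = z * (k⁻¹ * k') := by group
  have h4 := hH _ (mul_mem (inv_mem hk) h1) h3
  rw [← cj_cj] at h4
  have h5 := congrArg (cj k) h4
  rwa [cj_cj_inv] at h5

theorem exists_k (h : Geo T V z) {p : G} (hp : Pt V p) : ∃ k ∈ normalizer (V : Set G), p = k * z * k⁻¹ := by
  obtain ⟨k, hk, rfl⟩ := h.trans p hp.1 hp.2
  exact ⟨k, hk, rfl⟩

theorem cj_fam (h : Geo T V z) {H : Subgroup G}
    (hH : ∀ c ∈ normalizer (V : Set G), c * z = z * c → cj c H = H) {n p : G}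
    (hn : n ∈ normalizer (V : Set G)) (hp : Pt V p) : cj n (fam V z H p) = fam V z H (n * p * n⁻¹) := by
  obtain ⟨k, hk, rfl⟩ := exists_k h hp
  have e : n * (k * z * k⁻¹) * n⁻¹ = (n * k) * z * (n * k)⁻¹ := by group
  rw [e, fam_eq hH hk, fam_eq hH (mul_mem hn hk), cj_cj]

theorem cj_zpowers (g x : G) : cj g (zpowers x) = zpowers (g * x * g⁻¹) := MonoidHom.map_zpowers _ _

theorem cj_centralizer (g : G) (H : Subgroup G) :
    cj g (centralizer (H : Set G)) = centralizer ((cj g H : Subgroup G) : Set G) := by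
  ext y
  rw [mem_cj, mem_centralizer_iff, mem_centralizer_iff]
  constructor
  · rintro h1 _ ⟨x, hx, rfl⟩
    have h2 := h1 x hx
    change g * x * g⁻¹ * y = y * (g * x * g⁻¹)
    calc g * x * g⁻¹ * y = g * (x * (g⁻¹ * y * g)) * g⁻¹ := by group
      _ = g * (g⁻¹ * y * g * x) * g⁻¹ := by rw [h2]
      _ = y * (g * x * g⁻¹) := by group
  · intro h1 x hx
    have h2 := h1 (g * x * g⁻¹) (conj_mem_cj hx)
    calc x * (g⁻¹ * y * g) = g⁻¹ * (g * x * g⁻¹ * y) * g := by group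
      _ = g⁻¹ * (y * (g * x * g⁻¹)) * g := by rw [h2]
      _ = g⁻¹ * y * g * x := by group

/-- `N(V)` is doubly transitive on the points of `V`. -/
theorem sym_of [Finite G] (h : _root_.Cfsg.Agent.MinSimple.OddLine.Odd T V z) (p q p' q' : G) (hp : Pt V p) (hq : Pt V q) (hpq : p ≠ q) (hp' : Pt V p')
    (hq' : Pt V q') (hpq' : p' ≠ q') : ∃ n ∈ normalizer (V : Set G), n * p * n⁻¹ = p' ∧ n * q * n⁻¹ = q' := by
  obtain ⟨k, hk, rfl⟩ := exists_k h.toGeo hp
  obtain ⟨k', hk', rfl⟩ := exists_k h.toGeo hp'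
  set g := k' * k⁻¹ with hg
  have hgn : g ∈ normalizer (V : Set G) := mul_mem hk' (inv_mem hk)
  have h1 : g * (k * z * k⁻¹) * g⁻¹ = k' * z * k'⁻¹ := by rw [hg]; group
  have h2 : g * q * g⁻¹ ∈ V := (mem_normalizer_iff.mp hgn q).mp hq.1
  have h3 : g * q * g⁻¹ ≠ 1 := fun e => hq.2 (by
    have : q = g⁻¹ * (g * q * g⁻¹) * g := by group
    rw [this, e]; group)
  have h4 : g * q * g⁻¹ ≠ k' * z * k'⁻¹ := fun e => hpq (by
    rw [← h1] at e
    exact (MinSimple.OddBase.conj_inj e).symm)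
  rcases h.four hp'.1 hq'.1 hp'.2 hq'.2 hpq' h2 with e | e | e | e
  · exact absurd e h3
  · exact absurd e h4
  · exact ⟨g, hgn, h1, e⟩
  · obtain ⟨y, hy, hym⟩ := h.exists_swap' hp'.1 hp'.2
    obtain ⟨T', h'⟩ := h.point hp'.1 hp'.2
    have hyn : y ∈ normalizer (V : Set G) := MinSimple.OddLine.kq_le_normalizer h'.toGeo hy
    have h5 := hym _ h2 h3 h4
    refine ⟨y * g, mul_mem hyn hgn, ?_, ?_⟩
    · have e1 : y * g * (k * z * k⁻¹) * (y * g)⁻¹ = y * (g * (k * z * k⁻¹) * g⁻¹) * y⁻¹ := by group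
      rw [e1, h1, h.kq_conj hy]
    · have e1 : y * g * q * (y * g)⁻¹ = y * (g * q * g⁻¹) * y⁻¹ := by group
      rw [e1, h5, e, ← mul_assoc, h.sq _ hp'.1, one_mul]

end fam

/-! ### the hypotheses -/

variable [Finite G] {T V : Subgroup G} {z q : G} {M X : Type u} [AddCommGroup M] [Group X] [DistribMulAction X M]

/-- Output of the rank 2 case with `|ws V q : ws V q ∩ kq V z| = 2`. -/
structure In (T V : Subgroup G) (z q : G) (R : _root_.Cfsg.Agent.MinSimple.OddRep.Rep V z M X) (a : X) : Prop where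
  odd : _root_.Cfsg.Agent.MinSimple.OddLine.Odd T V z
  q_mem : q ∈ V
  q_ne : q ≠ 1
  q_ne' : q ≠ z
  ind : ∀ w ∈ ws V q, R.rho w = 1 ∨ R.rho w = a
  exi : ∃ w ∈ ws V q, R.rho w = a
  card : Nat.card (im M a) = 4
  mem : R.pi q ∈ im M a
  nl : ∀ c : X, c • R.pi q ∈ im M a → c • R.pi q = R.pi q
  r3 : ∀ g ∈ pCore 3 X, a * g = g * a

namespace In

variable {R : _root_.Cfsg.Agent.MinSimple.OddRep.Rep V z M X} {a : X} (h : In T V z q R a)
include h

theorem pt_z : MinSimple.OddBase.Pt z z := MinSimple.OddBase.Pt.refl z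

theorem col : Col V z q :=
  MinSimple.OddBase.col_of_mem h.odd.toGeo h.odd.z_mem h.q_mem h.odd.z_ne h.q_ne (Ne.symm h.q_ne')

theorem two (m : M) : m + m = 0 := Rep.two h.odd h.pt_z R m

theorem ws_le_cent {p : G} (hp : p ∈ V) (hp1 : p ≠ 1) : ws V p ≤ centralizer ({z} : Set G) := by
  obtain ⟨T', h'⟩ := h.odd.point hp hp1
  intro w hw
  rw [mem_centralizer_singleton_iff]
  exact h'.ab w hw z (h'.V_le_ws h.odd.z_mem)

theorem a_ne : a ≠ 1 := by
  rintro rfl
  have h1 := h.card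
  have h2 : im M (1 : X) = ⊥ := by
    rw [eq_bot_iff]
    rintro _ ⟨m, rfl⟩
    rw [AddSubgroup.mem_bot, dl_apply, one_smul, h.two]
  rw [h2, AddSubgroup.card_bot] at h1
  exact absurd h1 (by norm_num)

theorem sq : a * a = 1 := by
  obtain ⟨w, hw, hwa⟩ := h.exi
  obtain ⟨T', h'⟩ := h.odd.point h.q_mem h.q_ne
  have h1 := R.rho_mul w (h.ws_le_cent h.q_mem h.q_ne hw) w (h.ws_le_cent h.q_mem h.q_ne hw)
  rw [h'.ws_sq hw, R.rho_one, hwa] at h1
  exact h1.symm

theorem comm_of_fix {c : G} (hc : c ∈ centralizer ({z} : Set G)) (hcq : c * q * c⁻¹ = q) : R.rho c * a = a * R.rho c := by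
  obtain ⟨w, hw, hwa⟩ := h.exi
  have hwz := h.ws_le_cent h.q_mem h.q_ne hw
  have h1 : c * w * c⁻¹ ∈ ws V q := by
    have h2 : c * w * c⁻¹ ∈ cj c (ws V q) := conj_mem_cj hw
    rwa [cj_ws, hcq] at h2
  have h3 : R.rho (c * w * c⁻¹) = R.rho c * a * (R.rho c)⁻¹ := by rw [R.rho_conj hc hwz, hwa]
  rcases h.ind _ h1 with e | e
  · exfalso
    rw [h3] at e
    apply h.a_ne
    have : a = (R.rho c)⁻¹ * (R.rho c * a * (R.rho c)⁻¹) * R.rho c := by group
    rw [this, e]; group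
  · rw [h3] at e
    calc R.rho c * a = (R.rho c * a * (R.rho c)⁻¹) * R.rho c := by group
      _ = a * R.rho c := by rw [e]

theorem q_ws : q ∈ ws V z := h.odd.V_le_ws h.q_mem

theorem rho_kq {k : G} (hk : k ∈ kq V z) : R.rho k = 1 := (Rep.rho_eq_one R (kq_le V z hk)).mpr hk

theorem stab {c : X} (hc : c • R.pi q = R.pi q) : c * a = a * c := by
  obtain ⟨c, hcz, rfl⟩ := R.rho_surj c
  rw [R.smul_pi c hcz q h.q_ws, Rep.pi_eq_pi h.odd h.pt_z R (R.conj_mem hcz h.q_ws) h.q_ws] at hc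
  rcases hc with e | e
  · exact h.comm_of_fix hcz e
  · obtain ⟨y, hy, hym⟩ := h.odd.exists_swap' h.odd.z_mem h.odd.z_ne
    have hyz := kq_le V z hy
    have h1 := hym q h.q_mem h.q_ne h.q_ne'
    have h2 : (y⁻¹ * c) * q * (y⁻¹ * c)⁻¹ = q := by
      calc (y⁻¹ * c) * q * (y⁻¹ * c)⁻¹ = y⁻¹ * (c * q * c⁻¹) * y := by group
        _ = y⁻¹ * (y * q * y⁻¹) * y := by rw [e, h1]
        _ = q := by group
    have h3 := h.comm_of_fix (mul_mem (inv_mem hyz) hcz) h2
    rwa [R.rho_mul _ (inv_mem hyz) _ hcz, R.rho_inv hyz, h.rho_kq hy, inv_one, one_mul] at h3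

theorem finX : Finite X := R.finite_right

theorem finM : Finite M := R.finite_left

theorem rk : Rk a (R.pi q) where
  two := h.two
  faith := R.faithful
  solv := Rep.isSolvable h.odd h.pt_z R
  o2 := Rep.o2_eq_bot h.odd h.pt_z R (Cfsg.Agent.Lib.Cores.pCore_normal 2)
    (Cfsg.Agent.Lib.Cores.pCore_isPGroup 2)
  sq := h.sq
  card := h.card
  mem := h.mem
  nz := Rep.pi_line_ne_zero h.odd h.pt_z R h.col
  stab := fun _ hc => h.stab hc
  nl := h.nl
  gen := Rep.eq_top_of_line h.odd h.pt_z R h.col _ fun g => AddSubgroup.subset_closure ⟨g, rfl⟩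
  r3 := h.r3

/-- all points `q' ≠ z` of `V` induce `a` -/
theorem ind' {q' : G} (hq' : q' ∈ V) (hq1 : q' ≠ 1) (hqz : q' ≠ z) {w : G} (hw : w ∈ ws V q') :
    R.rho w = 1 ∨ R.rho w = a := by
  rcases h.odd.four h.odd.z_mem h.q_mem h.odd.z_ne h.q_ne (Ne.symm h.q_ne') hq' with e | e | e | e
  · exact absurd e hq1
  · exact absurd e hqz
  · rw [e] at hw; exact h.ind w hw
  · obtain ⟨y, hy, hym⟩ := h.odd.exists_swap' h.odd.z_mem h.odd.z_ne
    have hyz := kq_le V z hy
    have h1 : cj y (ws V q) = ws V q' := by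
      rw [cj_ws, hym q h.q_mem h.q_ne h.q_ne', e]
    rw [← h1] at hw
    obtain ⟨w', hw', rfl⟩ := hw
    have h2 : R.rho (y * w' * y⁻¹) = R.rho w' := by
      rw [R.rho_conj hyz (h.ws_le_cent h.q_mem h.q_ne hw'), h.rho_kq hy, one_mul, inv_one, mul_one]
    change R.rho (y * w' * y⁻¹) = 1 ∨ R.rho (y * w' * y⁻¹) = a
    rw [h2]
    exact h.ind w' hw'

end In

/-! ### preimages -/

/-- the preimage of a subgroup of `M` in `ws V z` -/
def pb (R : _root_.Cfsg.Agent.MinSimple.OddRep.Rep V z M X) (N : AddSubgroup M) : Subgroup G where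
  carrier := {w | w ∈ ws V z ∧ R.pi w ∈ N}
  mul_mem' := by
    rintro a b ⟨ha, ha1⟩ ⟨hb, hb1⟩
    refine ⟨mul_mem ha hb, ?_⟩
    rw [R.pi_mul a ha b hb]; exact add_mem ha1 hb1
  one_mem' := ⟨one_mem _, by rw [R.pi_one]; exact zero_mem _⟩
  inv_mem' := by
    rintro a ⟨ha, ha1⟩
    refine ⟨inv_mem ha, ?_⟩
    rw [R.pi_inv ha]; exact neg_mem ha1

theorem card_pb (h : _root_.Cfsg.Agent.MinSimple.OddLine.Odd T V z) (R : _root_.Cfsg.Agent.MinSimple.OddRep.Rep V z M X) (N : AddSubgroup M) : Nat.card (pb R N) = 2 * Nat.card N := by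
  have hz : z ∈ ws V z := h.V_le_ws h.z_mem
  have hpz : R.pi z = 0 := (R.pi_eq_zero z hz).mpr (mem_zpowers z)
  let φ : ws V z →* Multiplicative M :=
    { toFun := fun w => Multiplicative.ofAdd (R.pi w)
      map_one' := by
        change Multiplicative.ofAdd (R.pi 1) = 1
        rw [R.pi_one]; rfl
      map_mul' := fun a b => by
        change Multiplicative.ofAdd (R.pi ((a : G) * b)) = _
        rw [R.pi_mul a a.2 b b.2]; rfl }
  have hker : Nat.card φ.ker = 2 := by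
    have h1 : φ.ker = (zpowers z).subgroupOf (ws V z) := by
      ext w
      rw [MonoidHom.mem_ker, mem_subgroupOf, ← R.pi_eq_zero w w.2]
      exact Iff.rfl
    have h2 : zpowers z ≤ ws V z := by rw [zpowers_le]; exact hz
    rw [h1, Nat.card_congr (subgroupOfEquivOfLe h2).toEquiv, Nat.card_zpowers]
    exact orderOf_eq_prime (by rw [pow_two]; exact h.zz) h.z_ne
  let N' : Subgroup (Multiplicative M) := AddSubgroup.toSubgroup N
  have hN' : Nat.card N' = Nat.card N := rfl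
  have hmap : (pb R N) = (N'.comap φ).map (ws V z).subtype := by
    ext w
    constructor
    · rintro ⟨hw, hw1⟩
      exact ⟨⟨w, hw⟩, hw1, rfl⟩
    · rintro ⟨w', hw', rfl⟩
      exact ⟨w'.2, hw'⟩
  have hsurj : Function.Surjective φ := by
    intro m
    obtain ⟨w, hw, hwm⟩ := R.pi_surj m.toAdd
    exact ⟨⟨w, hw⟩, congrArg Multiplicative.ofAdd hwm⟩
  rw [hmap, card_map_of_injective (ws V z).subtype_injective]
  have h1 : φ.ker ≤ N'.comap φ := by
    intro w hw
    rw [mem_comap, MonoidHom.mem_ker.mp hw]; exact one_mem _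
  have h2 := relIndex_mul_relIndex (⊥ : Subgroup (ws V z)) φ.ker (N'.comap φ) bot_le h1
  rw [relIndex_bot_left, relIndex_bot_left, hker, relIndex_ker, map_comap_eq_self_of_surjective hsurj, hN'] at h2
  exact h2.symm

namespace In

variable {R : _root_.Cfsg.Agent.MinSimple.OddRep.Rep V z M X} {a : X} (h : In T V z q R a) [Finite M] [Finite X] {x : X} (hx : IsX a x)
  (hxc : ∀ g ∈ pCore 5 X, g * x = x * g)
include h hx

theorem card_bl : Nat.card (pb R (im M x)) = 32 := by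
  rw [card_pb h.odd, h.rk.card_im hx]

theorem V_le_bl : V ≤ pb R (im M x) := by
  intro v hv
  refine ⟨h.odd.V_le_ws hv, ?_⟩
  have hq := h.rk.e_mem hx
  have hz : z ∈ ws V z := h.odd.V_le_ws h.odd.z_mem
  have hpz : R.pi z = 0 := Rep.pi_self h.odd h.pt_z R
  rcases h.odd.four h.odd.z_mem h.q_mem h.odd.z_ne h.q_ne (Ne.symm h.q_ne') hv with e | e | e | e
  · rw [e, R.pi_one]; exact zero_mem _
  · rw [e, hpz]; exact zero_mem _
  · rw [e]; exact hq
  · rw [e, Rep.pi_self_mul h.odd h.pt_z R h.q_ws]; exact hq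

omit hx in
/-- elements of `C(z)` in the preimage of `stb` normalize the block -/
theorem pre_stb_le (x : X) : R.pre (stb M x) ≤ normalizer (pb R (im M x) : Set G) := by
  refine le_normalizer_of_forall fun c hc w hw => ?_
  rw [R.mem_pre] at hc
  refine ⟨R.conj_mem hc.1 hw.1, ?_⟩
  rw [← R.smul_pi c hc.1 w hw.1]
  exact (hc.2 _).mpr hw.2

omit hx in
theorem mem_pre_stb (x : X) {c : G} (hc : c ∈ centralizer ({z} : Set G))
    (hcn : c ∈ normalizer (pb R (im M x) : Set G)) : c ∈ R.pre (stb M x) := by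
  rw [R.mem_pre]
  refine ⟨hc, fun m => ?_⟩
  obtain ⟨w, hw, rfl⟩ := R.pi_surj m
  rw [R.smul_pi c hc w hw]
  have h1 := mem_normalizer_iff.mp hcn w
  constructor
  · intro h2
    exact (h1.mpr ⟨R.conj_mem hc hw, h2⟩).2
  · intro h2
    exact (h1.mp ⟨hw, h2⟩).2

omit hx in
theorem pre_stb_eq (x : X) :
    R.pre (stb M x) = centralizer ({z} : Set G) ⊓ normalizer (pb R (im M x) : Set G) :=
  le_antisymm (le_inf (R.pre_le _) (h.pre_stb_le x)) fun _ hc => h.mem_pre_stb x hc.1 hc.2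

omit hx in
theorem kq_le_pre (N : Subgroup X) : kq V z ≤ R.pre N := fun k hk => by
  rw [R.mem_pre, h.rho_kq hk]
  exact ⟨kq_le V z hk, one_mem _⟩

omit hx in
theorem kst_eq (x : X) : kst (R.pre (stb M x)) (pb R (im M x)) z = R.pre (kr M x) := by
  have key : ∀ c : G, c ∈ centralizer ({z} : Set G) → ((∀ w ∈ pb R (im M x), c * w * c⁻¹ * w⁻¹ ∈ zpowers z) ↔
      R.rho c ∈ kr M x) := by
    intro c hc
    constructor
    · intro h1 m hm
      obtain ⟨w, hw, rfl⟩ := R.pi_surj m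
      rw [R.smul_pi c hc w hw, R.pi_eq_iff (R.conj_mem hc hw) hw]
      exact h1 w ⟨hw, hm⟩
    · intro h1 w hw
      rw [← R.pi_eq_iff (R.conj_mem hc hw.1) hw.1, ← R.smul_pi c hc w hw.1]
      exact h1 _ hw.2
  ext c
  constructor
  · rintro ⟨h0, h1, h2, -⟩
    exact R.mem_pre.mpr ⟨R.pre_le _ h0, (key c (R.pre_le _ h0)).mp h2⟩
  · intro hc
    rw [R.mem_pre] at hc
    refine ⟨R.mem_pre.mpr ⟨hc.1, h.rk.kr_le_stb x hc.2⟩, mem_centralizer_singleton_iff.mp hc.1,
      (key c hc.1).mpr hc.2, ?_⟩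
    have h1 := (key c⁻¹ (inv_mem hc.1)).mpr (by rw [R.rho_inv hc.1]; exact inv_mem hc.2)
    intro w hw
    have := h1 w hw
    rwa [inv_inv] at this

theorem relIndex_pre {H K : Subgroup X} (R : _root_.Cfsg.Agent.MinSimple.OddRep.Rep V z M X) : (R.pre H).relIndex (R.pre K) = H.relIndex K := by
  unfold Sec.pre
  rw [relIndex_map_map_of_injective _ _ (subtype_injective _), relIndex_comap,
    map_comap_eq_self_of_surjective R.hom_surj]

include hxc

theorem idx : (kst (R.pre (stb M x)) (pb R (im M x)) z).relIndex (R.pre (stb M x)) = 10 ∨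
    (kst (R.pre (stb M x)) (pb R (im M x)) z).relIndex (R.pre (stb M x)) = 20 := by
  rw [h.kst_eq, h.relIndex_pre hx R]
  exact h.rk.relIndex_kr hx hxc

theorem le_pre : normalizer (V : Set G) ⊓ centralizer ({z} : Set G) ≤ R.pre (stb M x) := by
  rintro c ⟨hc1, hc2⟩
  rw [R.mem_pre]
  refine ⟨hc2, h.rk.mem_stb_of_fix hx hxc ?_⟩
  rw [R.smul_pi c hc2 q h.q_ws]
  rcases h.odd.conj_cases h.odd.z_mem h.q_mem h.odd.z_ne (h.odd.z_comm hc2) hc1 with e | e
  · rw [e]
  · rw [e, Rep.pi_self_mul h.odd h.pt_z R h.q_ws]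

theorem norm_bl (c : G) (hc1 : c ∈ normalizer (V : Set G)) (hc2 : c * z = z * c) :
    cj c (pb R (im M x)) = pb R (im M x) :=
  cj_eq_of_mem_normalizer (h.pre_stb_le x (h.le_pre hx hxc ⟨hc1, mem_centralizer_singleton_iff.mpr hc2⟩))

theorem norm_pre (c : G) (hc1 : c ∈ normalizer (V : Set G)) (hc2 : c * z = z * c) :
    cj c (R.pre (stb M x)) = R.pre (stb M x) :=
  cj_eq_of_mem_normalizer (le_normalizer (h.le_pre hx hxc ⟨hc1, mem_centralizer_singleton_iff.mpr hc2⟩))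

omit hxc in
theorem char2_pre : R.pre (stb M x) ⊓ centralizer (o2 (R.pre (stb M x)) : Set G) ≤ o2 (R.pre (stb M x)) := by
  set C := centralizer ({z} : Set G) with hC
  set C0 := R.pre (stb M x) with hC0
  have hC0C : C0 ≤ C := R.pre_le _
  have h1 : o2 C ≤ kq V z :=
    MinSimple.BTwoB.le_kq h.odd.toGeo (o2_le C) (le_normalizer_o2 C) fun c hc => by
      obtain ⟨k, hk⟩ := isPGroup_o2 C ⟨c, hc⟩
      have hk' : c ^ 2 ^ k = 1 := by simpa only [_root_.SubmonoidClass.mk_pow, _root_.OneMemClass.coe_one] using congrArg Subtype.val hk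
      exact ⟨k, by rw [hk']; exact one_mem _⟩
  have h2 : o2 C ≤ o2 C0 :=
    le_o2 (h1.trans (h.kq_le_pre _)) (isPGroup_o2 C) (hC0C.trans (le_normalizer_o2 C))
  rintro c ⟨hc1, hc2⟩
  exact h2 (inf_centralizer_o2_le h.odd.charTwo (isTwoLocal_centralizer h.odd.zz h.odd.z_ne)
    ⟨hC0C hc1, centralizer_le h2 hc2⟩)

/-- (o4) in the group -/
theorem exists_u {w : G} (hw : w ∈ ws V z) : ∃ u ∈ pb R (im M x), ∀ q' ∈ V, q' ≠ 1 → q' ≠ z → ∀ v ∈ ws V q',
    v * (w * u) * v⁻¹ * (w * u)⁻¹ ∈ zpowers z := by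
  obtain ⟨m, hm, hma⟩ := h.rk.exists_fix hx hxc (R.pi w)
  obtain ⟨u, hu, rfl⟩ := R.pi_surj m
  refine ⟨u, ⟨hu, hm⟩, fun q' hq' hq1 hqz v hv => ?_⟩
  have hvz := h.ws_le_cent hq' hq1 hv
  have hwu : w * u ∈ ws V z := mul_mem hw hu
  rw [← R.pi_eq_iff (R.conj_mem hvz hwu) hwu, ← R.smul_pi v hvz _ hwu]
  rcases h.ind' hq' hq1 hqz hv with e | e
  · rw [e, one_smul]
  · rw [e, R.pi_mul w hw u hu]; exact hma

/-- some element of the block at `z` does not commute with some element of the block at `q` -/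
theorem nc : ∃ b ∈ pb R (im M x), ∃ c ∈ fam V z (pb R (im M x)) q, b * c ≠ c * b := by
  by_contra hcon
  push Not at hcon
  set U0 := pb R (im M x) with hU0
  obtain ⟨n, hn, hnz, hnq⟩ : ∃ n ∈ normalizer (V : Set G), n * z * n⁻¹ = q ∧ n * q * n⁻¹ = z :=
    sym_of h.odd z q q z ⟨h.odd.z_mem, h.odd.z_ne⟩ ⟨h.q_mem, h.q_ne⟩ (Ne.symm h.q_ne') ⟨h.q_mem, h.q_ne⟩
      ⟨h.odd.z_mem, h.odd.z_ne⟩ h.q_ne'
  have hfam : fam V z U0 q = cj n U0 := by
    rw [← hnz]; exact fam_eq (h.norm_bl hx hxc) hn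
  obtain ⟨w, hw, hwa⟩ := h.exi
  have hwz := h.ws_le_cent h.q_mem h.q_ne hw
  have hwq : n⁻¹ * w * n ∈ ws V z := by
    rw [← mem_cj, cj_ws, hnz]; exact hw
  obtain ⟨u, hu, hu1⟩ := h.exists_u hx hxc hwq
  -- conjugate back
  have hu2 : n * u * n⁻¹ ∈ fam V z U0 q := by rw [hfam]; exact conj_mem_cj hu
  have h1 : ∀ v ∈ U0, v * w * v⁻¹ * w⁻¹ ∈ zpowers q := by
    intro v hv
    have hv' : n⁻¹ * v * n ∈ ws V q := by
      rw [← mem_cj, cj_ws, hnq]; exact hv.1
    have h2 := hu1 q h.q_mem h.q_ne h.q_ne' _ hv'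
    have h3 : n * ((n⁻¹ * v * n) * (n⁻¹ * w * n * u) * (n⁻¹ * v * n)⁻¹ * (n⁻¹ * w * n * u)⁻¹) * n⁻¹ ∈
        cj n (zpowers z) := conj_mem_cj h2
    rw [cj_zpowers, hnz] at h3
    have h4 : v * (n * u * n⁻¹) = (n * u * n⁻¹) * v := hcon v hv _ hu2
    have h5 : n * ((n⁻¹ * v * n) * (n⁻¹ * w * n * u) * (n⁻¹ * v * n)⁻¹ * (n⁻¹ * w * n * u)⁻¹) * n⁻¹ =
        v * w * v⁻¹ * w⁻¹ := by
      have e1 : n * ((n⁻¹ * v * n) * (n⁻¹ * w * n * u) * (n⁻¹ * v * n)⁻¹ * (n⁻¹ * w * n * u)⁻¹) * n⁻¹ =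
          v * w * ((n * u * n⁻¹) * v⁻¹ * (n * u * n⁻¹)⁻¹) * w⁻¹ := by group
      have e2 : (n * u * n⁻¹) * v⁻¹ * (n * u * n⁻¹)⁻¹ = v⁻¹ := by
        have e3 : Commute v (n * u * n⁻¹) := h4
        rw [← e3.inv_left.eq, mul_inv_cancel_right]
      rw [e1, e2]
    rwa [h5] at h3
  -- `a` moves `im M x` at most by `pi q`
  have h2 : (im M x).map (dl M a) ≤ AddSubgroup.zmultiples (R.pi q) := by
    rintro _ ⟨m, hm, rfl⟩
    obtain ⟨v, hv, rfl⟩ := R.pi_surj m
    have h3 := h1 v ⟨hv, hm⟩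
    have h4 : R.pi (v * w * v⁻¹ * w⁻¹) = R.pi v + a • R.pi v := by
      have e1 : v * w * v⁻¹ * w⁻¹ = v * (w * v⁻¹ * w⁻¹) := by group
      rw [e1, R.pi_mul v hv _ (R.conj_mem hwz (inv_mem hv)), ← R.smul_pi w hwz _ (inv_mem hv), hwa, R.pi_inv hv,
        neg_eq h.two]
    have h5 : a • R.pi v + R.pi v = R.pi (v * w * v⁻¹ * w⁻¹) := by rw [h4, add_comm]
    rw [dl_apply, h5]
    rcases (mem_zpowers_iff_of_mul_self (h.odd.sq q h.q_mem)).mp h3 with e | e
    · rw [e, R.pi_one]; exact zero_mem _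
    · rw [e]; exact AddSubgroup.mem_zmultiples _
  have h3 := key h.two (n := 5) (by norm_num) (h.rk.pow_eq hx) h.sq hx.inv
  rw [h.rk.card_im hx] at h3
  have h4 : Nat.card ((im M x).map (dl M a)) ≤ 2 := by
    refine (AddSubgroup.card_le_of_le h2).trans ?_
    rw [Nat.card_zmultiples]
    refine Nat.le_of_dvd (by norm_num) (addOrderOf_dvd_of_nsmul_eq_zero ?_)
    rw [two_nsmul, h.two]
  generalize Nat.card ((im M x).map (dl M a)) = c at h3 h4
  interval_cases c <;> norm_num at h3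

omit h hx hxc in
theorem cj_neg {c : G} {x : X} (hc : c ∈ centralizer ({z} : Set G)) {w : G} (hw : w ∈ cj c (pb R (im M x))) :
    w ∈ ws V z ∧ ∃ m ∈ im M x, R.pi w = R.rho c • m := by
  obtain ⟨v, hv, rfl⟩ := hw
  refine ⟨R.conj_mem hc hv.1, R.pi v, hv.2, ?_⟩
  exact (R.smul_pi c hc v hv.1).symm

/-- different conjugates of the block meet in `⟨z⟩` -/
theorem disj {c : G} (hc : c ∈ centralizer ({z} : Set G)) :
    c ∈ R.pre (stb M x) ∨ cj c (pb R (im M x)) ⊓ pb R (im M x) = zpowers z := by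
  by_cases hcs : R.rho c ∈ stb M x
  · exact Or.inl (R.mem_pre.mpr ⟨hc, hcs⟩)
  right
  apply le_antisymm
  · rintro w ⟨hw1, hw2⟩
    obtain ⟨hw3, m, hm, hwm⟩ := cj_neg hc hw1
    have h1 : m = 0 := h.rk.disj' hx hxc hcs hm (by rw [← hwm]; exact hw2.2)
    rw [← R.pi_eq_zero w hw3, hwm, h1, smul_zero]
  · rw [zpowers_le]
    have hz : z ∈ pb R (im M x) := h.V_le_bl hx h.odd.z_mem
    refine mem_inf.mpr ⟨?_, hz⟩
    rw [mem_cj]
    have : c⁻¹ * z * c = z := by
      rw [mul_assoc, ← h.odd.z_comm hc, inv_mul_cancel_left]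
    rw [this]; exact hz

theorem eq_of_card (hK : Nat.card (centralizer (pb R (im M x) : Set G)) ≤ 64) :
    R.pre (stb M x) = centralizer ({z} : Set G) := by
  refine le_antisymm (R.pre_le _) fun c hc => ?_
  rcases h.disj hx hxc hc with h1 | h1
  · exact h1
  exfalso
  set U0 := pb R (im M x) with hU0
  set U1 := cj c U0 with hU1
  have hle0 : U0 ≤ ws V z := fun w hw => hw.1
  have hle1 : U1 ≤ ws V z := fun w hw => (cj_neg hc hw).1
  have hcard0 : Nat.card U0 = 32 := h.card_bl hx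
  have hcard1 : Nat.card U1 = 32 := by rw [hU1, card_cj]; exact hcard0
  have hn : U1 ≤ normalizer (U0 : Set G) := by
    refine le_normalizer_of_forall fun u hu w hw => ?_
    rw [h.odd.ab u (hle1 hu) w (hle0 hw), mul_inv_cancel_right]; exact hw
  have h2 := card_sup_mul_card_inf hn
  rw [h1, hcard0, hcard1, Nat.card_zpowers, orderOf_eq_prime (by rw [pow_two]; exact h.odd.zz) h.odd.z_ne] at h2
  have h3 : U1 ⊔ U0 ≤ centralizer (U0 : Set G) := by
    refine (sup_le hle1 hle0).trans fun w hw => ?_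
    rw [mem_centralizer_iff]
    intro v hv
    exact h.odd.ab v (hle0 hv) w hw
  have h4 := (Subgroup.card_le_of_le h3).trans hK
  omega

end In

/-- **The configuration `Tri`.** -/
theorem exists_tri {R : _root_.Cfsg.Agent.MinSimple.OddRep.Rep V z M X} {a : X} (h : In T V z q R a) : ∃ U C : G → Subgroup G, Tri V U C ∧
    (∀ p, Pt V p → U p ≤ ws V p) ∧
    (∀ p, Pt V p → C p = centralizer ({p} : Set G) ⊓ normalizer (U p : Set G)) ∧
    (∀ p, Pt V p → ∀ c ∈ centralizer ({p} : Set G), c ∈ C p ∨ cj c (U p) ⊓ U p = zpowers p) ∧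
    (∀ p, Pt V p → Nat.card (centralizer (U p : Set G)) ≤ 64 → C p = centralizer ({p} : Set G)) := by
  have : Finite M := h.finM
  have : Finite X := h.finX
  obtain ⟨x, hx, hxc⟩ := h.rk.exists_central
  set U0 := pb R (im M x) with hU0
  set C0 := R.pre (stb M x) with hC0
  have hU := h.norm_bl hx hxc
  have hC := h.norm_pre hx hxc
  have fU : ∀ k ∈ normalizer (V : Set G), fam V z U0 (k * z * k⁻¹) = cj k U0 := fun k hk => fam_eq hU hk
  have fC : ∀ k ∈ normalizer (V : Set G), fam V z C0 (k * z * k⁻¹) = cj k C0 := fun k hk => fam_eq hC hk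
  have hk := fun (p : G) (hp : Pt V p) => exists_k h.odd.toGeo hp
  refine ⟨fam V z U0, fam V z C0, ?_, ?_, ?_, ?_, ?_⟩
  · refine
      { cardV := h.odd.card_V
        sqV := h.odd.sq
        cardU := ?_
        sqU := ?_
        V_le := ?_
        C_le := ?_
        C_norm := ?_
        le_C := ?_
        sym := sym_of h.odd
        conjU := fun n hn p hp => cj_fam h.odd.toGeo hU hn hp
        conjC := fun n hn p hp => cj_fam h.odd.toGeo hC hn hp
        idx := ?_
        nc := ?_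
        solv := ?_
        char2 := ?_ }
    · intro p hp
      obtain ⟨k, hk, rfl⟩ := hk p hp
      rw [fU k hk, card_cj]; exact h.card_bl hx
    · intro p hp u hu
      obtain ⟨k, hk, rfl⟩ := hk p hp
      rw [fU k hk] at hu
      obtain ⟨w, hw, rfl⟩ := hu
      change k * w * k⁻¹ * (k * w * k⁻¹) = 1
      calc k * w * k⁻¹ * (k * w * k⁻¹) = k * (w * w) * k⁻¹ := by group
        _ = 1 := by rw [h.odd.ws_sq hw.1]; group
    · intro p hp
      obtain ⟨k, hk, rfl⟩ := hk p hp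
      rw [fU k hk]
      have h1 := cj_mono (g := k) (h.V_le_bl hx)
      rwa [cj_eq_of_mem_normalizer hk] at h1
    · intro p hp
      obtain ⟨k, hk, rfl⟩ := hk p hp
      rw [fC k hk, ← cj_centralizer_singleton]
      exact cj_mono (R.pre_le _)
    · intro p hp
      obtain ⟨k, hk, rfl⟩ := hk p hp
      rw [fC k hk, fU k hk, ← cj_normalizer]
      exact cj_mono (h.pre_stb_le x)
    · intro p hp
      obtain ⟨k, hk, rfl⟩ := hk p hp
      rw [fC k hk, ← cj_centralizer_singleton]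
      have h1 : normalizer (V : Set G) = cj k (normalizer (V : Set G)) := by
        rw [cj_normalizer, cj_eq_of_mem_normalizer hk]
      rw [h1, ← cj_inf]
      exact cj_mono (h.le_pre hx hxc)
    · intro p hp
      obtain ⟨k, hk, rfl⟩ := hk p hp
      rw [fC k hk, fU k hk, ← cj_kst, relIndex_cj]
      exact h.idx hx hxc
    · intro p p' hp hp' hpp
      obtain ⟨n, hn, hn1, hn2⟩ := sym_of h.odd z q p p' ⟨h.odd.z_mem, h.odd.z_ne⟩ ⟨h.q_mem, h.q_ne⟩ (Ne.symm h.q_ne')
        hp hp' hpp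
      obtain ⟨b, hb, c, hc, hbc⟩ := h.nc hx hxc
      refine ⟨n * b * n⁻¹, ?_, n * c * n⁻¹, ?_, fun e => hbc ?_⟩
      · rw [← hn1, fU n hn]; exact conj_mem_cj hb
      · rw [← hn2, ← cj_fam h.odd.toGeo hU hn ⟨h.q_mem, h.q_ne⟩]; exact conj_mem_cj hc
      · calc b * c = n⁻¹ * (n * b * n⁻¹ * (n * c * n⁻¹)) * n := by group
          _ = n⁻¹ * (n * c * n⁻¹ * (n * b * n⁻¹)) * n := by rw [e]
          _ = c * b := by group
    · intro S hS hS1
      exact h.odd.solv _ ⟨S, hS, hS1, rfl⟩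
    · intro p hp
      obtain ⟨k, hk, rfl⟩ := hk p hp
      rw [fC k hk, ← cj_o2, ← cj_centralizer, ← cj_inf]
      exact cj_mono (h.char2_pre hx)
  · intro p hp
    obtain ⟨k, hk, rfl⟩ := hk p hp
    rw [fU k hk, ← cj_ws]
    exact cj_mono fun w hw => hw.1
  · intro p hp
    obtain ⟨k, hk, rfl⟩ := hk p hp
    rw [fU k hk, fC k hk, ← cj_centralizer_singleton, ← cj_normalizer, ← cj_inf, hC0, h.pre_stb_eq]
  · intro p hp c hc
    obtain ⟨k, hk, rfl⟩ := hk p hp
    rw [fU k hk, fC k hk]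
    rw [← cj_centralizer_singleton, mem_cj] at hc
    rcases h.disj hx hxc hc with h1 | h1
    · left; rw [mem_cj]; exact h1
    · right
      have h2 := congrArg (cj k) h1
      rw [cj_inf, cj_cj, cj_zpowers] at h2
      rw [cj_cj]
      have e : k * (k⁻¹ * c * k) = c * k := by group
      rwa [e] at h2
  · intro p hp hK
    obtain ⟨k, hk, rfl⟩ := hk p hp
    rw [fU k hk, ← cj_centralizer, card_cj] at hK
    rw [fC k hk, ← cj_centralizer_singleton, ← h.eq_of_card hx hxc hK]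

end Cfsg.Agent.Classification.TitsFin.TriGlue
end
end
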