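import Mathlib.GroupTheory.GroupAction.Quotient
import Mathlib.Algebra.Group.Subgroup.Pointwise
import Mathlib.Algebra.Group.Action.Sigma
import Mathlib.GroupTheory.Commutator.Basic
import Mathlib.SetTheory.Cardinal.Finite
import Mathlib.Tactic.Group
set_option linter.all false

/-!
# Rank two coset graphs and critical pairs (generic part of the amalgam method)

* `Wlk A n v w`: there is a walk of length `n` from `v` to `w` for the relation `A`; the whole file works
  with lengths of walks, not with distances (at the minimal length these are the same);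
* `Eqv X`: `X : V → Subgroup G` is a `G`-equivariant family of subgroups;
* `RGraph G V`: a bipartite graph on the `G`-set `V` with `G` transitive on its edges (no connectedness is
  assumed: all statements are about one connected component);
* `RGraph.Faithful`: no non-trivial subgroup of `G_v ∩ G_w` (`v ~ w`) is normal in both `G_v` and `G_w`;
* `RGraph.Crit Γ X Y b`: `b` is the minimal length of a walk from `v` to `w` with `¬ X v ≤ Y w`;
* `coset P`: the coset graph of two subgroups `P false`, `P true` of `G`, with vertices `mk P i g`, stabilizer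
  `mk_stab : stabilizer G (mk P i g) = conj g • P i`, and families `fam P X` with
  `fam_mk : fam P X (mk P i g) = conj g • X i`.
-/

set_option autoImplicit false

namespace Cfsg.Agent.MinSimple.CosetGraph

open Subgroup MulAction Pointwise

/-! ### Walks -/

section Walks

variable {V : Type*}

/-- `Wlk A n v w`: there is a walk of length `n` from `v` to `w` for the relation `A`. -/
inductive Wlk (A : V → V → Prop) : ℕ → V → V → Prop
  | nil (v : V) : Wlk A 0 v v
  | cons {n : ℕ} {u v w : V} : A u v → Wlk A n v w → Wlk A (n + 1) u w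

namespace Wlk

variable {A : V → V → Prop} {m n : ℕ} {u v w : V}

theorem zero_iff : Wlk A 0 v w ↔ v = w := by
  constructor
  · intro h; cases h; rfl
  · rintro rfl; exact nil v

theorem succ_iff : Wlk A (n + 1) u w ↔ ∃ v, A u v ∧ Wlk A n v w := by
  constructor
  · intro h
    cases h with
    | cons h1 h2 => exact ⟨_, h1, h2⟩
  · rintro ⟨v, h1, h2⟩
    exact cons h1 h2

theorem one_iff : Wlk A 1 v w ↔ A v w := by
  constructor
  · intro h
    obtain ⟨x, h1, h2⟩ := succ_iff.1 h
    rwa [← zero_iff.1 h2]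
  · intro h
    exact cons h (nil w)

theorem one (h : A v w) : Wlk A 1 v w := one_iff.2 h

theorem append (h : Wlk A m u v) (h' : Wlk A n v w) : Wlk A (m + n) u w := by
  induction h with
  | nil _ => simpa using h'
  | @cons k a b c h1 _ ih =>
    rw [Nat.add_right_comm]
    exact cons h1 (ih h')

theorem cast (h : Wlk A m v w) (hmn : m = n) : Wlk A n v w := hmn ▸ h

theorem snoc (h : Wlk A n u v) (h' : A v w) : Wlk A (n + 1) u w := h.append (one h')

/-- split a walk -/
theorem split : ∀ {m n : ℕ} {u w : V}, Wlk A (m + n) u w → ∃ v, Wlk A m u v ∧ Wlk A n v w := by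
  intro m
  induction m with
  | zero =>
    intro n u w h
    exact ⟨u, nil u, h.cast (by omega)⟩
  | succ m ih =>
    intro n u w h
    obtain ⟨x, h1, h2⟩ := succ_iff.1 (h.cast (show m + 1 + n = (m + n) + 1 by omega))
    obtain ⟨v, h3, h4⟩ := ih h2
    exact ⟨v, cons h1 h3, h4⟩

theorem split_at {k : ℕ} (hk : k ≤ n) (h : Wlk A n u w) : ∃ v, Wlk A k u v ∧ Wlk A (n - k) v w :=
  split (h.cast (by omega))

/-- the last step -/
theorem succ_iff' : Wlk A (n + 1) u w ↔ ∃ v, Wlk A n u v ∧ A v w := by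
  constructor
  · intro h
    obtain ⟨v, h1, h2⟩ := split h
    exact ⟨v, h1, one_iff.1 h2⟩
  · rintro ⟨v, h1, h2⟩
    exact h1.snoc h2

theorem symm (hA : ∀ {v w : V}, A v w → A w v) (h : Wlk A n v w) : Wlk A n w v := by
  induction h with
  | nil _ => exact nil _
  | cons h1 _ ih => exact ih.snoc (hA h1)

theorem map {V' : Type*} {A' : V' → V' → Prop} (f : V → V') (hf : ∀ {v w : V}, A v w → A' (f v) (f w))
    (h : Wlk A n v w) : Wlk A' n (f v) (f w) := by
  induction h with
  | nil _ => exact nil _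
  | cons h1 _ ih => exact cons (hf h1) ih

/-- go back and forth once more -/
theorem add_two (hA : ∀ {v w : V}, A v w → A w v) (h1 : A v u) (h : Wlk A n v w) : Wlk A (n + 2) v w :=
  cons h1 (cons (hA h1) h)

/-- the walk of a sequence of vertices -/
theorem of_seq {γ : ℕ → V} (hγ : ∀ i < n, A (γ i) (γ (i + 1))) {i j : ℕ} (hij : i ≤ j) (hj : j ≤ n) :
    Wlk A (j - i) (γ i) (γ j) := by
  induction j, hij using Nat.le_induction with
  | base => rw [Nat.sub_self]; exact nil _
  | succ j hij ih => exact ((ih (by omega)).snoc (hγ j (by omega))).cast (by omega)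

/-- a walk as a sequence of vertices -/
theorem exists_seq (h : Wlk A n v w) :
    ∃ γ : ℕ → V, γ 0 = v ∧ γ n = w ∧ ∀ i < n, A (γ i) (γ (i + 1)) := by
  induction h with
  | nil v => exact ⟨fun _ => v, rfl, rfl, fun i hi => absurd hi (by omega)⟩
  | @cons n u v w h1 _ ih =>
    obtain ⟨γ, h0, hn, hs⟩ := ih
    refine ⟨fun i => Nat.casesOn i u γ, rfl, hn, fun i hi => ?_⟩
    cases i with
    | zero =>
      show A u (γ 0)
      rw [h0]; exact h1
    | succ i => exact hs i (by omega)

end Wlk

/-- minimal length of a walk whose ends are not in relation `R` -/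
theorem exists_min_walk {A : V → V → Prop} {R : V → V → Prop} {n : ℕ} {v w : V} (h : Wlk A n v w)
    (hR : ¬ R v w) : ∃ b ≤ n, (∃ v w, Wlk A b v w ∧ ¬ R v w) ∧ ∀ m < b, ∀ v w, Wlk A m v w → R v w := by
  classical
  have hex : ∃ b, ∃ v w, Wlk A b v w ∧ ¬ R v w := ⟨n, v, w, h, hR⟩
  refine ⟨Nat.find hex, Nat.find_min' hex ⟨v, w, h, hR⟩, Nat.find_spec hex, fun m hm v w hw => ?_⟩
  by_contra hcon
  exact Nat.find_min hex hm ⟨v, w, hw, hcon⟩

end Walks

/-! ### Equivariant families -/

section Families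

variable {G V : Type*} [Group G] [MulAction G V]

theorem mem_conj_smul {g x : G} {X : Subgroup G} : x ∈ MulAut.conj g • X ↔ g⁻¹ * x * g ∈ X := by
  rw [mem_pointwise_smul_iff_inv_smul_mem, ← map_inv, MulAut.smul_def, MulAut.conj_apply, inv_inv]

theorem conj_smul_conj_smul (g h : G) (X : Subgroup G) :
    MulAut.conj g • MulAut.conj h • X = MulAut.conj (g * h) • X := by
  rw [map_mul, mul_smul]

theorem conj_one_smul (X : Subgroup G) : MulAut.conj (1 : G) • X = X := by
  rw [map_one, one_smul]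

theorem mem_normalizer_iff_conj_smul {g : G} {X : Subgroup G} :
    g ∈ normalizer (X : Set G) ↔ MulAut.conj g • X = X := by
  rw [mem_normalizer_iff]
  constructor
  · intro h
    ext x
    rw [mem_conj_smul, h]
    simp only [mul_assoc, mul_inv_cancel_left, mul_inv_cancel, mul_one]
  · intro h x
    conv_rhs => rw [← h]
    rw [mem_conj_smul]
    simp only [mul_assoc, inv_mul_cancel_left, inv_mul_cancel, mul_one]

theorem conj_smul_le_iff {g : G} {X Y : Subgroup G} :
    MulAut.conj g • X ≤ Y ↔ ∀ x ∈ X, g * x * g⁻¹ ∈ Y := by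
  constructor
  · intro h x hx
    refine h (mem_conj_smul.2 ?_)
    simpa [mul_assoc] using hx
  · intro h x hx
    have := h _ (mem_conj_smul.1 hx)
    simpa [mul_assoc] using this

/-- A `G`-equivariant family of subgroups of `G`. -/
def Eqv (X : V → Subgroup G) : Prop := ∀ (g : G) (v : V), X (g • v) = MulAut.conj g • X v

namespace Eqv

variable {X Y : V → Subgroup G}

theorem stab_le_normalizer (h : Eqv X) (v : V) : stabilizer G v ≤ normalizer (X v : Set G) := by
  intro g hg
  rw [mem_normalizer_iff_conj_smul, ← h g v, mem_stabilizer_iff.1 hg]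

theorem mem_iff (h : Eqv X) {g x : G} {v : V} : x ∈ X (g • v) ↔ g⁻¹ * x * g ∈ X v := by
  rw [h, mem_conj_smul]

theorem mem_of_mem (h : Eqv X) {x : G} {v : V} (g : G) (hx : x ∈ X v) : g * x * g⁻¹ ∈ X (g • v) := by
  rw [h.mem_iff]
  simpa [mul_assoc] using hx

theorem le_iff (hX : Eqv X) (hY : Eqv Y) {g : G} {v w : V} : X (g • v) ≤ Y (g • w) ↔ X v ≤ Y w := by
  rw [hX, hY, pointwise_smul_le_pointwise_smul_iff]

theorem eq_iff (hX : Eqv X) (hY : Eqv Y) {g : G} {v w : V} : X (g • v) = Y (g • w) ↔ X v = Y w := by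
  rw [hX, hY]
  exact (MulAction.injective (MulAut.conj g)).eq_iff

theorem card_eq (h : Eqv X) (g : G) (v : V) : Nat.card (X (g • v)) = Nat.card (X v) := by
  rw [h]
  exact Nat.card_congr (Subgroup.equivSMul (MulAut.conj g) (X v)).symm.toEquiv

theorem eq_bot_iff (h : Eqv X) {g : G} {v : V} : X (g • v) = ⊥ ↔ X v = ⊥ := by
  rw [h, ← smul_bot (MulAut.conj g)]
  rw [smul_bot]
  constructor
  · intro h1
    have := congrArg (fun Z => (MulAut.conj g)⁻¹ • Z) h1
    simpa using this
  · intro h1
    rw [h1, smul_bot]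

protected theorem stabilizer : Eqv (fun v : V => stabilizer G v) := by
  intro g v
  show stabilizer G (g • v) = _
  rw [stabilizer_smul_eq_stabilizer_map_conj]
  rfl

theorem const_bot : Eqv (fun _ : V => (⊥ : Subgroup G)) := fun _ _ => (smul_bot _).symm

theorem const_normal (N : Subgroup G) [N.Normal] : Eqv (fun _ : V => N) :=
  fun g _ => (Normal.conj_smul_eq_self g N).symm

protected theorem inf (hX : Eqv X) (hY : Eqv Y) : Eqv (fun v => X v ⊓ Y v) := by
  intro g v
  show X (g • v) ⊓ Y (g • v) = _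
  rw [hX, hY, smul_inf]

protected theorem sup (hX : Eqv X) (hY : Eqv Y) : Eqv (fun v => X v ⊔ Y v) := by
  intro g v
  show X (g • v) ⊔ Y (g • v) = _
  rw [hX, hY, smul_sup]

protected theorem commutator (hX : Eqv X) (hY : Eqv Y) : Eqv (fun v => ⁅X v, Y v⁆) := by
  intro g v
  show ⁅X (g • v), Y (g • v)⁆ = _
  rw [hX, hY]
  exact (Subgroup.map_commutator (X v) (Y v) (MulAut.conj g).toMonoidHom).symm

protected theorem centralizer (hX : Eqv X) : Eqv (fun v => centralizer (X v : Set G)) := by
  intro g v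
  ext x
  show x ∈ centralizer (X (g • v) : Set G) ↔ _
  rw [mem_conj_smul, mem_centralizer_iff, mem_centralizer_iff]
  constructor
  · intro h y hy
    have := h _ (hX.mem_of_mem g hy)
    have h2 : g⁻¹ * (g * y * g⁻¹ * x) * g = g⁻¹ * (x * (g * y * g⁻¹)) * g := by rw [this]
    calc y * (g⁻¹ * x * g) = g⁻¹ * (g * y * g⁻¹ * x) * g := by group
      _ = g⁻¹ * (x * (g * y * g⁻¹)) * g := h2
      _ = g⁻¹ * x * g * y := by group
  · intro h y hy
    have := h _ (hX.mem_iff.1 hy)
    have h2 : g * (g⁻¹ * y * g * (g⁻¹ * x * g)) * g⁻¹ = g * (g⁻¹ * x * g * (g⁻¹ * y * g)) * g⁻¹ := by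
      rw [this]
    calc y * x = g * (g⁻¹ * y * g * (g⁻¹ * x * g)) * g⁻¹ := by group
      _ = g * (g⁻¹ * x * g * (g⁻¹ * y * g)) * g⁻¹ := h2
      _ = x * y := by group

protected theorem normalizer (hX : Eqv X) : Eqv (fun v => normalizer (X v : Set G)) := by
  intro g v
  ext x
  show x ∈ normalizer (X (g • v) : Set G) ↔ _
  rw [mem_conj_smul, mem_normalizer_iff_conj_smul, mem_normalizer_iff_conj_smul, hX, conj_smul_conj_smul,
    show g⁻¹ * x * g = g⁻¹ * (x * g) by group, ← conj_smul_conj_smul g⁻¹ (x * g)]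
  constructor
  · intro h
    rw [h, conj_smul_conj_smul, inv_mul_cancel, conj_one_smul]
  · intro h
    have := congrArg (fun Z => MulAut.conj g • Z) h
    simp only [conj_smul_conj_smul] at this
    rwa [show g * (g⁻¹ * (x * g)) = x * g by group] at this

/-- conjugation and suprema -/
theorem conj_smul_iSup {ι : Sort*} (g : G) (F : ι → Subgroup G) :
    MulAut.conj g • (⨆ i, F i) = ⨆ i, MulAut.conj g • F i :=
  Subgroup.map_iSup _ F

theorem conj_smul_iInf {ι : Sort*} (g : G) (F : ι → Subgroup G) :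
    MulAut.conj g • (⨅ i, F i) = ⨅ i, MulAut.conj g • F i := by
  ext x
  simp only [mem_conj_smul, mem_iInf]

/-- the join of an equivariant family over an invariant relation -/
theorem iSup_rel (hX : Eqv X) {A : V → V → Prop} (hA : ∀ (g : G) {v w : V}, A v w → A (g • v) (g • w)) :
    Eqv (fun v => ⨆ w : {w : V // A v w}, X w) := by
  intro g v
  show (⨆ w : {w : V // A (g • v) w}, X w) = _
  rw [conj_smul_iSup]
  apply le_antisymm
  · refine iSup_le fun w => ?_
    have hw : A v (g⁻¹ • (w : V)) := by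
      have := hA g⁻¹ w.2
      rwa [inv_smul_smul] at this
    refine le_trans (le_of_eq ?_) (le_iSup (fun w : {w : V // A v w} => MulAut.conj g • X (w : V)) ⟨_, hw⟩)
    rw [← hX, smul_inv_smul]
  · refine iSup_le fun w => ?_
    refine le_trans (le_of_eq ?_) (le_iSup (fun w : {w : V // A (g • v) w} => X (w : V)) ⟨_, hA g w.2⟩)
    rw [← hX]

/-- the intersection of an equivariant family over an invariant relation -/
theorem iInf_rel (hX : Eqv X) {A : V → V → Prop} (hA : ∀ (g : G) {v w : V}, A v w → A (g • v) (g • w)) :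
    Eqv (fun v => ⨅ w : {w : V // A v w}, X w) := by
  intro g v
  show (⨅ w : {w : V // A (g • v) w}, X w) = _
  rw [conj_smul_iInf]
  apply le_antisymm
  · refine le_iInf fun w => ?_
    refine le_trans (iInf_le (fun w : {w : V // A (g • v) w} => X (w : V)) ⟨_, hA g w.2⟩) (le_of_eq ?_)
    rw [← hX]
  · refine le_iInf fun w => ?_
    have hw : A v (g⁻¹ • (w : V)) := by
      have := hA g⁻¹ w.2
      rwa [inv_smul_smul] at this
    refine le_trans (iInf_le (fun w : {w : V // A v w} => MulAut.conj g • X (w : V)) ⟨_, hw⟩) (le_of_eq ?_)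
    rw [← hX, smul_inv_smul]

/-- Any construction commuting with conjugation gives an equivariant family. -/
theorem comp (hX : Eqv X) (F : Subgroup G → Subgroup G)
    (hF : ∀ (g : G) (K : Subgroup G), F (MulAut.conj g • K) = MulAut.conj g • F K) : Eqv (fun v => F (X v)) := by
  intro g v
  show F (X (g • v)) = _
  rw [hX, hF]

theorem comp₂ (hX : Eqv X) (hY : Eqv Y) (F : Subgroup G → Subgroup G → Subgroup G)
    (hF : ∀ (g : G) (K L : Subgroup G),
      F (MulAut.conj g • K) (MulAut.conj g • L) = MulAut.conj g • F K L) : Eqv (fun v => F (X v) (Y v)) := by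
  intro g v
  show F (X (g • v)) (Y (g • v)) = _
  rw [hX, hY, hF]

end Eqv

end Families

/-! ### Rank two graphs -/

/-- A bipartite graph on a `G`-set, `G` transitive on its edges (from vertices of type `false` to vertices
of type `true`). -/
structure RGraph (G V : Type*) [Group G] [MulAction G V] where
  /-- adjacency -/
  A : V → V → Prop
  /-- the type of a vertex -/
  typ : V → Bool
  symm : ∀ {v w : V}, A v w → A w v
  smul : ∀ (g : G) {v w : V}, A v w → A (g • v) (g • w)
  typ_smul : ∀ (g : G) (v : V), typ (g • v) = typ v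
  typ_adj : ∀ {v w : V}, A v w → typ w = !(typ v)
  trans : ∀ {v w v' w' : V}, A v w → A v' w' → typ v = typ v' → ∃ g : G, g • v = v' ∧ g • w = w'

namespace RGraph

variable {G V : Type*} [Group G] [MulAction G V] (Γ : RGraph G V)

/-- walk of length `n` -/
abbrev W (n : ℕ) (v w : V) : Prop := Wlk Γ.A n v w

variable {Γ} {m n : ℕ} {u v w : V}

theorem smul_iff (g : G) : Γ.A (g • v) (g • w) ↔ Γ.A v w := by
  constructor
  · intro h
    have := Γ.smul g⁻¹ h
    rwa [inv_smul_smul, inv_smul_smul] at this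
  · exact fun h => Γ.smul g h

theorem W.symm (h : Γ.W n v w) : Γ.W n w v := Wlk.symm Γ.symm h

theorem W.smul (g : G) (h : Γ.W n v w) : Γ.W n (g • v) (g • w) := Wlk.map (fun v => g • v) (Γ.smul g) h

theorem W.smul_iff (g : G) : Γ.W n (g • v) (g • w) ↔ Γ.W n v w := by
  constructor
  · intro h
    have := W.smul g⁻¹ h
    rwa [inv_smul_smul, inv_smul_smul] at this
  · exact fun h => W.smul g h

theorem W.typ_eq (h : Γ.W n v w) : (Γ.typ w = Γ.typ v) ↔ Even n := by
  induction h with
  | nil _ => simp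
  | @cons n u v w h1 _ ih =>
    have h2 := Γ.typ_adj h1
    rw [Nat.even_add_one, ← ih, h2]
    cases Γ.typ w <;> cases Γ.typ u <;> simp

theorem ne_of_adj (h : Γ.A v w) : v ≠ w := by
  rintro rfl
  have := Γ.typ_adj h
  cases h' : Γ.typ v <;> simp [h'] at this

theorem typ_ne (h : Γ.A v w) : Γ.typ v ≠ Γ.typ w := by
  rw [Γ.typ_adj h]
  cases Γ.typ v <;> simp

/-- local transitivity -/
theorem loc_trans {w' : V} (h : Γ.A v w) (h' : Γ.A v w') : ∃ g ∈ stabilizer G v, g • w = w' := by
  obtain ⟨g, hg, hg'⟩ := Γ.trans h h' rfl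
  exact ⟨g, hg, hg'⟩

/-- transitivity on the vertices of a given type (with a neighbour) -/
theorem vert_trans {v' w' : V} (h : Γ.A v w) (h' : Γ.A v' w') (ht : Γ.typ v = Γ.typ v') :
    ∃ g : G, g • v = v' := by
  obtain ⟨g, hg, _⟩ := Γ.trans h h' ht
  exact ⟨g, hg⟩

/-- the group generated by the stabilizers of the ends of an edge is constant along walks -/
theorem sup_stab_step {x : V} (h : Γ.A v w) (h' : Γ.A w x) :
    stabilizer G v ⊔ stabilizer G w = stabilizer G w ⊔ stabilizer G x := by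
  obtain ⟨g, hg, hgx⟩ := loc_trans (Γ.symm h) h'
  have key : ∀ {a b : V} {g : G}, g ∈ stabilizer G b → g • a = x →
      stabilizer G x ≤ stabilizer G a ⊔ stabilizer G b := by
    intro a b g hg hax y hy
    have h1 : g⁻¹ * y * g ∈ stabilizer G a := by
      rw [mem_stabilizer_iff, mul_smul, mul_smul, hax, mem_stabilizer_iff.1 hy, ← hax, inv_smul_smul]
    have h2 : y = g * (g⁻¹ * y * g) * g⁻¹ := by group
    rw [h2]
    exact mul_mem (mul_mem (mem_sup_right hg) (mem_sup_left h1)) (mem_sup_right (inv_mem hg))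
  apply le_antisymm
  · refine sup_le ?_ le_sup_left
    intro y hy
    have h1 : g * y * g⁻¹ ∈ stabilizer G x := by
      rw [mem_stabilizer_iff, mul_smul, mul_smul, ← hgx, inv_smul_smul, mem_stabilizer_iff.1 hy]
    have h2 : y = g⁻¹ * (g * y * g⁻¹) * g := by group
    rw [h2]
    exact mul_mem (mul_mem (mem_sup_left (inv_mem hg)) (mem_sup_right h1)) (mem_sup_left hg)
  · refine sup_le le_sup_right ?_
    exact key hg hgx

theorem sup_stab_walk {v' w' : V} (h : Γ.A v w) (h' : Γ.A v' w') (hw : Γ.W n v v') :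
    stabilizer G v ⊔ stabilizer G w = stabilizer G v' ⊔ stabilizer G w' := by
  induction hw generalizing w with
  | nil a =>
    rw [sup_comm (stabilizer G a) (stabilizer G w)]
    exact sup_stab_step (Γ.symm h) h'
  | @cons k a b c h1 _ ih =>
    have e1 : stabilizer G w ⊔ stabilizer G a = stabilizer G a ⊔ stabilizer G b :=
      sup_stab_step (Γ.symm h) h1
    rw [sup_comm, e1, sup_comm]
    exact ih (Γ.symm h1) h'

/-- every vertex in the connected component of an edge is a translate of one of its ends -/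
theorem W.exists_smul (h : Γ.A v w) (hw : Γ.W n v u) :
    ∃ x ∈ stabilizer G v ⊔ stabilizer G w, u = x • v ∨ u = x • w := by
  induction n generalizing u with
  | zero => exact ⟨1, one_mem _, Or.inl (by rw [one_smul]; exact (Wlk.zero_iff.1 hw).symm)⟩
  | succ n ih =>
    obtain ⟨t, h1, h2⟩ := Wlk.succ_iff'.1 hw
    obtain ⟨x, hx, h3⟩ := ih h1
    rcases h3 with rfl | rfl
    · have h4 : Γ.A v (x⁻¹ • u) := by
        have := Γ.smul x⁻¹ h2
        rwa [inv_smul_smul] at this
      obtain ⟨g, hg, h5⟩ := loc_trans h h4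
      refine ⟨x * g, mul_mem hx (mem_sup_left hg), Or.inr ?_⟩
      rw [mul_smul, h5, smul_inv_smul]
    · have h4 : Γ.A w (x⁻¹ • u) := by
        have := Γ.smul x⁻¹ h2
        rwa [inv_smul_smul] at this
      obtain ⟨g, hg, h5⟩ := loc_trans (Γ.symm h) h4
      refine ⟨x * g, mul_mem hx (mem_sup_right hg), Or.inl ?_⟩
      rw [mul_smul, h5, smul_inv_smul]

/-- the translates of an end of an edge by the group generated by the two stabilizers are in its connected
component -/
theorem exists_walk_smul_iff (h : Γ.A v w) {x : G} (hx : x ∈ stabilizer G v ⊔ stabilizer G w) (z : V) :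
    (∃ n, Γ.W n v z) ↔ ∃ n, Γ.W n v (x • z) := by
  have key : ∀ y ∈ (stabilizer G v : Set G) ∪ (stabilizer G w : Set G), ∀ z : V, (∃ n, Γ.W n v z) →
      ∃ n, Γ.W n v (y • z) := by
    rintro y hy z ⟨n, hn⟩
    have h1 : Γ.W n (y • v) (y • z) := W.smul y hn
    rcases hy with hy | hy
    · rw [mem_stabilizer_iff.1 hy] at h1
      exact ⟨n, h1⟩
    · have h2 : Γ.A w (y • v) := by
        have := Γ.smul y (Γ.symm h)
        rwa [mem_stabilizer_iff.1 hy] at this
      exact ⟨n + 1 + 1, Wlk.cons h (Wlk.cons h2 h1)⟩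
  have hx' : x ∈ closure ((stabilizer G v : Set G) ∪ (stabilizer G w : Set G)) := by
    rwa [closure_union, closure_eq, closure_eq]
  induction hx' using closure_induction generalizing z with
  | mem y hy =>
    refine ⟨key y hy z, fun h1 => ?_⟩
    have hy' : y⁻¹ ∈ (stabilizer G v : Set G) ∪ (stabilizer G w : Set G) := by
      rcases hy with hy | hy
      · exact Or.inl (inv_mem hy)
      · exact Or.inr (inv_mem hy)
    have := key y⁻¹ hy' _ h1
    rwa [inv_smul_smul] at this
  | one => rw [one_smul]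
  | mul a b ha hb iha ihb =>
    rw [closure_union, closure_eq, closure_eq] at ha hb
    rw [mul_smul]
    exact (ihb hb z).trans (iha ha (b • z))
  | inv a ha iha =>
    rw [closure_union, closure_eq, closure_eq] at ha
    have := iha ha (a⁻¹ • z)
    rw [smul_inv_smul] at this
    exact this.symm

theorem exists_walk_smul (h : Γ.A v w) {x : G} (hx : x ∈ stabilizer G v ⊔ stabilizer G w) :
    ∃ n, Γ.W n v (x • v) :=
  (exists_walk_smul_iff h hx v).1 ⟨0, Wlk.nil v⟩

/-- if the stabilizers of the ends of an edge generate `G`, the graph is connected -/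
theorem connected_of_sup_eq_top {v' w' : V} (h : Γ.A v w) (h' : Γ.A v' w')
    (ht : stabilizer G v ⊔ stabilizer G w = ⊤) : ∃ n, Γ.W n v v' := by
  by_cases h0 : Γ.typ v = Γ.typ v'
  · obtain ⟨g, rfl⟩ := vert_trans h h' h0
    exact exists_walk_smul h (by rw [ht]; exact mem_top g)
  · have h1 : Γ.typ v = Γ.typ w' := by
      rw [Γ.typ_adj h']
      cases h2 : Γ.typ v <;> cases h3 : Γ.typ v' <;> simp_all
    obtain ⟨g, rfl⟩ := vert_trans h (Γ.symm h') h1
    obtain ⟨n, hn⟩ := exists_walk_smul h (show g ∈ _ by rw [ht]; exact mem_top g)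
    exact ⟨n + 1, hn.snoc (Γ.symm h')⟩

/-! ### The kernel on the neighbours -/

/-- the kernel of `G_v` on the neighbours of `v` -/
def ker (Γ : RGraph G V) (v : V) : Subgroup G :=
  stabilizer G v ⊓ ⨅ w : {w : V // Γ.A v w}, stabilizer G (w : V)

theorem mem_ker {x : G} : x ∈ Γ.ker v ↔ x • v = v ∧ ∀ w, Γ.A v w → x • w = w := by
  simp only [ker, mem_inf, mem_iInf, mem_stabilizer_iff, Subtype.forall]

theorem ker_le_stab : Γ.ker v ≤ stabilizer G v := inf_le_left

theorem ker_le_stab_adj (h : Γ.A v w) : Γ.ker v ≤ stabilizer G w := fun _ hx =>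
  mem_stabilizer_iff.2 ((mem_ker.1 hx).2 w h)

theorem ker_eqv (Γ : RGraph G V) : Eqv Γ.ker :=
  Eqv.inf Eqv.stabilizer (Eqv.iInf_rel Eqv.stabilizer Γ.smul)

/-- an equivariant family fixing one neighbour fixes all of them -/
theorem le_ker {X : V → Subgroup G} (hX : Eqv X) (h : Γ.A v w) (h1 : X v ≤ stabilizer G v)
    (h2 : X v ≤ stabilizer G w) : X v ≤ Γ.ker v := by
  intro x hx
  refine mem_ker.2 ⟨h1 hx, fun w' hw' => ?_⟩
  obtain ⟨g, hg, rfl⟩ := loc_trans h hw'
  have h3 : g⁻¹ * x * g ∈ X v := by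
    rw [← hX.mem_iff, mem_stabilizer_iff.1 hg]; exact hx
  have h4 := mem_stabilizer_iff.1 (h2 h3)
  rw [mul_smul, mul_smul] at h4
  rw [← smul_inv_smul g (x • g • w), h4]

/-! ### Faithfulness -/

/-- No non-trivial subgroup of `G_v ∩ G_w` (`v ~ w`) is normal in both `G_v` and `G_w`. -/
def Faithful (Γ : RGraph G V) : Prop :=
  ∀ v w : V, Γ.A v w → ∀ N : Subgroup G, N ≤ stabilizer G v → N ≤ stabilizer G w →
    stabilizer G v ≤ normalizer (N : Set G) → stabilizer G w ≤ normalizer (N : Set G) → N = ⊥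

/-- faithfulness can be checked at one edge -/
theorem faithful_of_edge {v w : V} (h : Γ.A v w) (hN : ∀ N : Subgroup G, N ≤ stabilizer G v →
    N ≤ stabilizer G w → stabilizer G v ≤ normalizer (N : Set G) →
    stabilizer G w ≤ normalizer (N : Set G) → N = ⊥) : Γ.Faithful := by
  have key : ∀ (g : G) (N : Subgroup G), N ≤ stabilizer G (g • v) → N ≤ stabilizer G (g • w) →
      stabilizer G (g • v) ≤ normalizer (N : Set G) → stabilizer G (g • w) ≤ normalizer (N : Set G) →
      N = ⊥ := by
    intro g N h1 h2 h3 h4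
    have hS : ∀ u : V, stabilizer G (g • u) = MulAut.conj g • stabilizer G u := fun u =>
      Eqv.stabilizer g u
    have hc : ∀ u : V, stabilizer G (g • u) ≤ normalizer (N : Set G) →
        stabilizer G u ≤ normalizer ((MulAut.conj g⁻¹ • N : Subgroup G) : Set G) := by
      intro u hu x hx
      have h5 : g * x * g⁻¹ ∈ stabilizer G (g • u) := by
        rw [hS, mem_conj_smul]
        simpa [mul_assoc] using hx
      have h6 := mem_normalizer_iff_conj_smul.1 (hu h5)
      rw [mem_normalizer_iff_conj_smul, conj_smul_conj_smul]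
      have h7 := congrArg (fun Z => MulAut.conj g⁻¹ • Z) h6
      simp only [conj_smul_conj_smul] at h7
      rwa [show g⁻¹ * (g * x * g⁻¹) = x * g⁻¹ by group] at h7
    have hl : ∀ u : V, N ≤ stabilizer G (g • u) → MulAut.conj g⁻¹ • N ≤ stabilizer G u := by
      intro u hu
      rw [hS, subset_pointwise_smul_iff, ← map_inv] at hu
      exact hu
    have h8 := hN _ (hl v h1) (hl w h2) (hc v h3) (hc w h4)
    have h9 := congrArg (fun Z => MulAut.conj g • Z) h8
    simpa only [conj_smul_conj_smul, mul_inv_cancel, conj_one_smul, smul_bot] using h9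
  intro v' w' h' N h1 h2 h3 h4
  by_cases h0 : Γ.typ v = Γ.typ v'
  · obtain ⟨g, rfl, rfl⟩ := Γ.trans h h' h0
    exact key g N h1 h2 h3 h4
  · have h5 : Γ.typ v = Γ.typ w' := by
      rw [Γ.typ_adj h']
      cases h6 : Γ.typ v <;> cases h7 : Γ.typ v' <;> simp_all
    obtain ⟨g, rfl, rfl⟩ := Γ.trans h (Γ.symm h') h5
    exact key g N h2 h1 h4 h3

/-- An equivariant family which is non-trivial at `v` is not contained in a vertex family everywhere in the
component of `v`. -/
theorem exists_not_le (hf : Γ.Faithful) {X Y : V → Subgroup G} (hX : Eqv X) (hY : Eqv Y)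
    (hYs : ∀ w, Y w ≤ stabilizer G w) (h : Γ.A v w) (hne : X v ≠ ⊥) : ∃ n u, Γ.W n v u ∧ ¬ X v ≤ Y u := by
  by_contra hcon
  push Not at hcon
  apply hne
  set K : Subgroup G := stabilizer G v ⊔ stabilizer G w with hK
  set N : Subgroup G := ⨆ x : K, X ((x : G) • v) with hN
  have hle : ∀ u : V, (∃ n, Γ.W n v u) → N ≤ Y u := by
    rintro u ⟨n, hn⟩
    refine iSup_le fun x => ?_
    have h1 : ∃ n, Γ.W n v ((x : G)⁻¹ • u) := by
      rw [exists_walk_smul_iff h x.2, smul_inv_smul]
      exact ⟨n, hn⟩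
    obtain ⟨k, hk⟩ := h1
    have := hcon k _ hk
    rw [← hX.le_iff hY (g := (x : G)), smul_inv_smul] at this
    exact this
  have hnorm : K ≤ normalizer (N : Set G) := by
    intro y hy
    rw [mem_normalizer_iff_conj_smul]
    have hy1 : ∀ y ∈ K, MulAut.conj y • N ≤ N := by
      intro y hy
      rw [hN, Eqv.conj_smul_iSup]
      refine iSup_le fun x => ?_
      refine le_trans (le_of_eq ?_) (le_iSup (fun x : K => X ((x : G) • v)) ⟨y * x, mul_mem hy x.2⟩)
      show _ = X ((y * (x : G)) • v)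
      rw [mul_smul, hX y]
    refine le_antisymm (hy1 y hy) ?_
    rw [subset_pointwise_smul_iff, ← map_inv]
    exact hy1 _ (inv_mem hy)
  have hbot := hf v w h N ((hle v ⟨0, Wlk.nil v⟩).trans (hYs v))
    ((hle w ⟨1, Wlk.one h⟩).trans (hYs w)) (le_sup_left.trans hnorm) (le_sup_right.trans hnorm)
  rw [eq_bot_iff, ← hbot]
  refine le_trans (le_of_eq ?_) (le_iSup (fun x : K => X ((x : G) • v)) ⟨1, one_mem _⟩)
  show _ = X ((1 : G) • v)
  rw [one_smul]

/-! ### Critical pairs -/

/-- `b` is the minimal length of a walk from `v` to `w` with `¬ X v ≤ Y w`. -/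
structure Crit (Γ : RGraph G V) (X Y : V → Subgroup G) (b : ℕ) : Prop where
  ex : ∃ v w, Γ.W b v w ∧ ¬ X v ≤ Y w
  min : ∀ m < b, ∀ v w, Γ.W m v w → X v ≤ Y w

/-- existence of critical pairs -/
theorem exists_crit (hf : Γ.Faithful) {X Y : V → Subgroup G} (hX : Eqv X) (hY : Eqv Y)
    (hYs : ∀ w, Y w ≤ stabilizer G w) (h : Γ.A v w) (hne : X v ≠ ⊥) : ∃ b, Γ.Crit X Y b := by
  obtain ⟨n, u, h1, h2⟩ := exists_not_le hf hX hY hYs h hne
  obtain ⟨b, _, h3, h4⟩ := exists_min_walk (R := fun v w => X v ≤ Y w) h1 h2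
  exact ⟨b, h3, h4⟩

namespace Crit

variable {X Y : V → Subgroup G} {b : ℕ} (hb : Γ.Crit X Y b)
include hb

theorem pos (h : ∀ v, X v ≤ Y v) : 1 ≤ b := by
  obtain ⟨v, w, h1, h2⟩ := hb.ex
  by_contra hcon
  have h3 : b = 0 := by omega
  subst h3
  rw [Wlk.zero_iff.1 h1] at h2
  exact h2 (h w)

theorem two_le (h : ∀ v, X v ≤ Y v) (h' : ∀ v w, Γ.A v w → X v ≤ Y w) : 2 ≤ b := by
  obtain ⟨v, w, h1, h2⟩ := hb.ex
  by_contra hcon
  have h3 : b = 0 ∨ b = 1 := by omega
  rcases h3 with rfl | rfl
  · rw [Wlk.zero_iff.1 h1] at h2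
    exact h2 (h w)
  · exact h2 (h' v w (Wlk.one_iff.1 h1))

theorem le_of_lt (hm : m < b) (h : Γ.W m v w) : X v ≤ Y w := hb.min m hm v w h

/-- the last vertex before the end -/
theorem le_stab (hYn : ∀ v w, Γ.A v w → Y v ≤ stabilizer G w) (hm : m ≤ b) (hm1 : 1 ≤ m) (h : Γ.W m v w) :
    X v ≤ stabilizer G w := by
  obtain ⟨m, rfl⟩ : ∃ k, m = k + 1 := ⟨m - 1, by omega⟩
  obtain ⟨x, h1, h2⟩ := Wlk.succ_iff'.1 h
  exact (hb.min m (by omega) v x h1).trans (hYn x w h2)

/-- `X v` fixes everything at walking distance at most `b` from `v` -/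
theorem le_stab' (hXs : ∀ v, X v ≤ stabilizer G v) (hYn : ∀ v w, Γ.A v w → Y v ≤ stabilizer G w)
    (hm : m ≤ b) (h : Γ.W m v w) : X v ≤ stabilizer G w := by
  rcases Nat.eq_zero_or_pos m with rfl | hm1
  · rw [← Wlk.zero_iff.1 h]; exact hXs v
  · exact hb.le_stab hYn hm hm1 h

/-- `X v` normalizes every equivariant family at walking distance at most `b` from `v` -/
theorem le_normalizer (hXs : ∀ v, X v ≤ stabilizer G v) (hYn : ∀ v w, Γ.A v w → Y v ≤ stabilizer G w)
    {Z : V → Subgroup G} (hZ : Eqv Z) (hm : m ≤ b) (h : Γ.W m v w) :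
    X v ≤ normalizer (Z w : Set G) :=
  (hb.le_stab' hXs hYn hm h).trans (hZ.stab_le_normalizer w)

/-- A shortest critical walk is a geodesic: there is no shorter walk between its ends. -/
theorem geodesic (h2 : ¬ X v ≤ Y w) (hm : Γ.W m v w) : b ≤ m := by
  by_contra hcon
  exact h2 (hb.min m (by omega) v w hm)

/-- the commutator of two members of the family at walking distance at most `b` -/
theorem commutator_le (hX : Eqv X) (hXs : ∀ v, X v ≤ stabilizer G v)
    (hYn : ∀ v w, Γ.A v w → Y v ≤ stabilizer G w) (hm : m ≤ b) (h : Γ.W m v w) :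
    ⁅X v, X w⁆ ≤ X v ⊓ X w := by
  have h1 : X v ≤ normalizer (X w : Set G) := hb.le_normalizer hXs hYn hX hm h
  have h2 : X w ≤ normalizer (X v : Set G) := hb.le_normalizer hXs hYn hX hm (W.symm h)
  rw [Subgroup.commutator_le]
  intro x hx y hy
  refine ⟨?_, ?_⟩
  · rw [commutatorElement_def, mul_assoc, mul_assoc]
    refine mul_mem hx ?_
    rw [← mul_assoc]
    exact (mem_normalizer_iff.1 (h2 hy) _).1 (inv_mem hx)
  · rw [commutatorElement_def]
    exact (X w).mul_mem ((mem_normalizer_iff.1 (h1 hx) _).1 hy) ((X w).inv_mem hy)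

/-- members of the family at walking distance less than `b` commute if `Y v` centralizes `X v` -/
theorem commute_of_lt (hYc : ∀ v, Y v ≤ centralizer (X v : Set G)) (hm : m < b) (h : Γ.W m v w) :
    ⁅X v, X w⁆ = ⊥ := by
  rw [commutator_eq_bot_iff_le_centralizer]
  exact (hb.min m hm v w h).trans (hYc w)

/-- the members of a critical pair do not commute, if subgroups of `G_w` with property `p` (e.g. `2`-groups)
centralizing `X w` are in `Y w` -/
theorem commutator_ne_bot {p : Subgroup G → Prop} (hp : p (X v)) (hXs : ∀ v, X v ≤ stabilizer G v)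
    (hYn : ∀ v w, Γ.A v w → Y v ≤ stabilizer G w)
    (hc : ∀ w, ∀ T : Subgroup G, p T → T ≤ stabilizer G w → T ≤ centralizer (X w : Set G) → T ≤ Y w)
    (h : Γ.W b v w) (hn : ¬ X v ≤ Y w) : ⁅X v, X w⁆ ≠ ⊥ := by
  intro h1
  rw [commutator_eq_bot_iff_le_centralizer] at h1
  exact hn (hc w _ hp (hb.le_stab' hXs hYn le_rfl h) h1)

omit hb [MulAction G V] in
/-- a non-commuting pair is critical in both directions (if `Y v` centralizes `X v`) -/
theorem not_le_of_commutator (hYc : ∀ v, Y v ≤ centralizer (X v : Set G)) (h : ⁅X v, X w⁆ ≠ ⊥) :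
    ¬ X v ≤ Y w ∧ ¬ X w ≤ Y v := by
  constructor
  · intro h1
    exact h (commutator_eq_bot_iff_le_centralizer.2 (h1.trans (hYc w)))
  · intro h1
    rw [commutator_comm] at h
    exact h (commutator_eq_bot_iff_le_centralizer.2 (h1.trans (hYc v)))

omit hb in
/-- a translate of a critical pair -/
theorem smul (g : G) (hX : Eqv X) (hY : Eqv Y) (h : Γ.W b v w ∧ ¬ X v ≤ Y w) :
    Γ.W b (g • v) (g • w) ∧ ¬ X (g • v) ≤ Y (g • w) :=
  ⟨W.smul g h.1, fun h' => h.2 ((hX.le_iff hY).1 h')⟩

end Crit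

end RGraph

/-! ### The coset graph of two subgroups -/

section Coset

variable {G : Type*} [Group G] (P : Bool → Subgroup G)

/-- The vertices of the coset graph. -/
abbrev CV : Type _ := Σ i : Bool, G ⧸ P i

/-- The vertex `g P_i`. -/
def mk (i : Bool) (g : G) : CV P := ⟨i, (g : G ⧸ P i)⟩

theorem exists_mk (v : CV P) : ∃ g : G, v = mk P v.1 g := by
  obtain ⟨i, x⟩ := v
  obtain ⟨g, rfl⟩ := QuotientGroup.mk_surjective x
  exact ⟨g, rfl⟩

theorem mk_eq_iff {i : Bool} {g h : G} : mk P i g = mk P i h ↔ g⁻¹ * h ∈ P i := by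
  rw [mk, mk, Sigma.mk.injEq]
  simp only [heq_eq_eq, true_and]
  exact QuotientGroup.eq

theorem smul_mk (g h : G) (i : Bool) : g • mk P i h = mk P i (g * h) := rfl

theorem mk_stab (i : Bool) (g : G) : stabilizer G (mk P i g) = MulAut.conj g • P i := by
  ext x
  rw [mem_stabilizer_iff, smul_mk, mem_conj_smul, ← inv_mem_iff, mk_eq_iff]
  simp only [mul_inv_rev, inv_inv, mul_assoc]

theorem mk_one_stab (i : Bool) : stabilizer G (mk P i 1) = P i := by
  rw [mk_stab, conj_one_smul]

theorem smul_mk_one (i : Bool) (g : G) : g • mk P i 1 = mk P i g := by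
  rw [smul_mk, mul_one]

/-- Adjacency: two cosets of different type which meet. -/
def cadj (v w : CV P) : Prop := ∃ (i : Bool) (g : G), v = mk P i g ∧ w = mk P (!i) g

/-- The coset graph of `P false` and `P true`. -/
def coset : RGraph G (CV P) where
  A := cadj P
  typ v := v.1
  symm := by
    rintro v w ⟨i, g, rfl, rfl⟩
    exact ⟨!i, g, rfl, by rw [Bool.not_not]⟩
  smul := by
    rintro g v w ⟨i, h, rfl, rfl⟩
    exact ⟨i, g * h, rfl, rfl⟩
  typ_smul _ _ := rfl
  typ_adj := by
    rintro v w ⟨i, h, rfl, rfl⟩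
    rfl
  trans := by
    rintro v w v' w' ⟨i, g, rfl, rfl⟩ ⟨i', g', rfl, rfl⟩ ht
    have ht' : i = i' := ht
    subst ht'
    refine ⟨g' * g⁻¹, ?_, ?_⟩ <;> rw [smul_mk, inv_mul_cancel_right]

theorem coset_adj (i : Bool) (g : G) : (coset P).A (mk P i g) (mk P (!i) g) := ⟨i, g, rfl, rfl⟩

theorem coset_typ (i : Bool) (g : G) : (coset P).typ (mk P i g) = i := rfl

theorem coset_adj_iff {i : Bool} {g : G} {w : CV P} :
    (coset P).A (mk P i g) w ↔ ∃ p ∈ P i, w = mk P (!i) (g * p) := by
  constructor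
  · rintro ⟨j, h, h1, rfl⟩
    have hij : i = j := congrArg Sigma.fst h1
    subst hij
    rw [mk_eq_iff] at h1
    exact ⟨g⁻¹ * h, h1, by rw [mul_inv_cancel_left]⟩
  · rintro ⟨p, hp, rfl⟩
    refine ⟨i, g * p, ?_, rfl⟩
    rw [mk_eq_iff, inv_mul_cancel_left]
    exact hp

/-- the stabilizer of an edge -/
theorem coset_edge_stab (i : Bool) (g : G) :
    stabilizer G (mk P i g) ⊓ stabilizer G (mk P (!i) g) = MulAut.conj g • (P i ⊓ P !i) := by
  rw [mk_stab, mk_stab, smul_inf]

theorem coset_connected (h : P false ⊔ P true = ⊤) (v w : CV P) : ∃ n, (coset P).W n v w := by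
  obtain ⟨g, hg⟩ := exists_mk P v
  obtain ⟨g', hg'⟩ := exists_mk P w
  have h1 : (coset P).A (mk P false 1) (mk P true 1) := coset_adj P false 1
  have h2 : stabilizer G (mk P false 1) ⊔ stabilizer G (mk P true 1) = ⊤ := by
    rw [mk_one_stab, mk_one_stab, h]
  have key : ∀ v : CV P, ∃ n, (coset P).W n (mk P false 1) v := by
    intro v
    obtain ⟨g, hg⟩ := exists_mk P v
    have h3 : (coset P).A v (mk P (!v.1) g) := by
      rw [hg]; exact coset_adj P _ _
    exact RGraph.connected_of_sup_eq_top h1 h3 h2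
  obtain ⟨m, hm⟩ := key v
  obtain ⟨n, hn⟩ := key w
  exact ⟨m + n, (RGraph.W.symm hm).append hn⟩

theorem coset_faithful (h : ∀ N : Subgroup G, N ≤ P false → N ≤ P true → P false ≤ normalizer (N : Set G) →
    P true ≤ normalizer (N : Set G) → N = ⊥) : (coset P).Faithful := by
  refine RGraph.faithful_of_edge (coset_adj P false 1) ?_
  intro N h1 h2 h3 h4
  rw [mk_one_stab] at h1 h3
  rw [show mk P (!false) 1 = mk P true 1 from rfl, mk_one_stab] at h2 h4
  exact h N h1 h2 h3 h4

/-- The equivariant family with value `X i` at the vertex `P i`. -/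
noncomputable def fam (X : Bool → Subgroup G) (v : CV P) : Subgroup G :=
  MulAut.conj v.2.out • X v.1

theorem fam_mk {X : Bool → Subgroup G} (hX : ∀ i, P i ≤ normalizer (X i : Set G)) (i : Bool) (g : G) :
    fam P X (mk P i g) = MulAut.conj g • X i := by
  show MulAut.conj ((g : G ⧸ P i).out) • X i = _
  obtain ⟨h, hh⟩ := QuotientGroup.mk_out_eq_mul (P i) g
  rw [hh, ← conj_smul_conj_smul, mem_normalizer_iff_conj_smul.1 (hX i h.2)]

theorem fam_mk_one {X : Bool → Subgroup G} (hX : ∀ i, P i ≤ normalizer (X i : Set G)) (i : Bool) :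
    fam P X (mk P i 1) = X i := by
  rw [fam_mk P hX, conj_one_smul]

theorem fam_eqv {X : Bool → Subgroup G} (hX : ∀ i, P i ≤ normalizer (X i : Set G)) : Eqv (fam P X) := by
  intro g v
  obtain ⟨h, hh⟩ := exists_mk P v
  rw [hh, smul_mk, fam_mk P hX, fam_mk P hX, conj_smul_conj_smul]

/-- statements about equivariant data can be checked at the two base vertices -/
theorem forall_vertex {p : CV P → Prop} (hp : ∀ (g : G) (v : CV P), p v → p (g • v))
    (h : ∀ i, p (mk P i 1)) (v : CV P) : p v := by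
  obtain ⟨g, hg⟩ := exists_mk P v
  rw [hg, ← smul_mk_one]
  exact hp _ _ (h _)

/-- statements about equivariant data on edges can be checked at the base edge -/
theorem forall_edge {p : CV P → CV P → Prop} (hp : ∀ (g : G) (v w : CV P), p v w → p (g • v) (g • w))
    (h : ∀ i, p (mk P i 1) (mk P (!i) 1)) {v w : CV P} (hvw : (coset P).A v w) : p v w := by
  obtain ⟨i, g, rfl, rfl⟩ := hvw
  rw [← smul_mk_one, ← smul_mk_one P (!i)]
  exact hp _ _ _ (h _)

end Coset

end Cfsg.Agent.MinSimple.CosetGraph
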